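import Mathlib
import Groth.Prelude.Def_W4bk4goldsch23Ext
import Groth.Agent.Lib.Helper4.FF.Approx

/-! # Restriction of places to a subfield (helper9) -/

namespace Groth.Agent.Helper9.FFExt

open FunFld WithZero
open Groth.Agent.Lib.Helper4.FF

variable {k K K' : Type*} [Field k] [Field K] [Field K'] [Algebra k K] [Algebra K K']
  [Algebra k K'] [IsScalarTower k K K']

/-- `IsOverWith` forces a positive index. -/
lemma ow_pos {Q : Place k K'} {P : Place k K} {e : ℕ} (h : IsOverWith Q P e) : 0 < e := by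
  rcases Nat.eq_zero_or_pos e with h0 | h0
  · subst h0
    have := h 0
    simp at this
  · exact h0

/-- The index in `IsOverWith` is unique. -/
lemma ow_unique {Q : Place k K'} {P : Place k K} {e e' : ℕ} (h : IsOverWith Q P e)
    (h' : IsOverWith Q P e') : e = e' := by
  obtain ⟨t, ht⟩ := Place.exists_uniformizer P
  have h1 := h t
  rw [h' t, ht, ← exp_nsmul, ← exp_nsmul, exp_inj] at h1
  simp only [nsmul_eq_mul] at h1
  omega

lemma ramIdx_eq {Q : Place k K'} {P : Place k K} {e : ℕ} (h : IsOverWith Q P e) :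
    ramIdx Q P = e := by
  classical
  unfold FunFld.ramIdx
  have hex : IsOver Q P := ⟨e, h⟩
  rw [dif_pos hex]
  exact ow_unique (Nat.find_spec hex) h

lemma isOver_isOverWith {Q : Place k K'} {P : Place k K} (h : IsOver Q P) :
    IsOverWith Q P (ramIdx Q P) := by
  obtain ⟨e, he⟩ := h
  rw [ramIdx_eq he]
  exact he

lemma ramIdx_pos {Q : Place k K'} {P : Place k K} (h : IsOver Q P) : 0 < ramIdx Q P :=
  ow_pos (isOver_isOverWith h)

lemma ow_lt_one_iff {Q : Place k K'} {P : Place k K} {e : ℕ} (h : IsOverWith Q P e)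
    (x : K) : Q.1 (algebraMap K K' x) < 1 ↔ P.1 x < 1 := by
  rw [h x]
  exact pow_lt_one_iff_of_nonneg zero_le (ow_pos h).ne'

lemma ow_le_one_iff {Q : Place k K'} {P : Place k K} {e : ℕ} (h : IsOverWith Q P e)
    (x : K) : Q.1 (algebraMap K K' x) ≤ 1 ↔ P.1 x ≤ 1 := by
  rw [h x]
  exact pow_le_one_iff_of_nonneg zero_le (ow_pos h).ne'

lemma ow_one_lt_iff {Q : Place k K'} {P : Place k K} {e : ℕ} (h : IsOverWith Q P e)
    (x : K) : 1 < Q.1 (algebraMap K K' x) ↔ 1 < P.1 x := by
  rw [← not_le, ← not_le, ow_le_one_iff h]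

lemma ow_ord_eq {Q : Place k K'} {P : Place k K} {e : ℕ} (h : IsOverWith Q P e)
    (x : K) : Q.ord (algebraMap K K' x) = e * P.ord x := by
  unfold FunFld.Place.ord
  rw [h x, log_pow]
  simp

/-- A place lies over at most one place. -/
lemma isOver_unique {Q : Place k K'} {P P' : Place k K} (h : IsOver Q P) (h' : IsOver Q P') :
    P = P' := by
  obtain ⟨e, he⟩ := h
  obtain ⟨e', he'⟩ := h'
  apply place_eq_of_forall
  intro z hz
  have := (ow_lt_one_iff he z).mpr hz
  exact ((ow_lt_one_iff he' z).mp this).le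

variable [Algebra.IsAlgebraic K K']

/-- The restriction of a place to `K` is nontrivial. -/
lemma exists_lt_one (Q : Place k K') : ∃ x : K, x ≠ 0 ∧ Q.1 (algebraMap K K' x) < 1 := by
  by_contra hno
  push Not at hno
  -- `Q` is trivial on `K`
  have htriv : ∀ x : K, x ≠ 0 → Q.1 (algebraMap K K' x) = 1 := by
    intro x hx
    apply le_antisymm _ (hno x hx)
    have h1 := hno x⁻¹ (inv_ne_zero hx)
    rw [map_inv₀, map_inv₀] at h1
    have hne : Q.1 (algebraMap K K' x) ≠ 0 :=
      (Valuation.ne_zero_iff _).mpr ((map_ne_zero_iff _ (algebraMap K K').injective).mpr hx)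
    exact (one_le_inv₀ (zero_lt_iff.mpr hne)).mp h1
  obtain ⟨z, hz⟩ := Place.exists_uniformizer Q
  have hz1 : Q.1 z < 1 := by rw [hz, ← exp_zero, exp_lt_exp]; norm_num
  -- `z` is integral over the integers of the restricted (trivial) valuation
  have hint : IsIntegral K z := (Algebra.IsAlgebraic.isAlgebraic z).isIntegral
  have hz0 : z ≠ 0 := by
    rintro rfl
    rw [map_zero] at hz
    exact exp_ne_zero hz.symm
  -- inverse is integral too, so has valuation ≤ 1
  have hinv : IsIntegral K z⁻¹ := (Algebra.IsAlgebraic.isAlgebraic z⁻¹).isIntegral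
  have key : ∀ w : K', IsIntegral K w → Q.1 w ≤ 1 := by
    intro w hw
    obtain ⟨f, hm, hf⟩ := hw
    by_contra hlt
    push Not at hlt
    by_cases hn : f.natDegree = 0
    · rw [Polynomial.natDegree_eq_zero] at hn
      obtain ⟨c, rfl⟩ := hn
      have hc : c = 1 := by
        have := hm.leadingCoeff
        simpa using this
      subst hc
      simp at hf
    simp only [Polynomial.eval₂_eq_sum_range, Finset.sum_range_succ, hm.coeff_natDegree, map_one,
      one_mul, add_eq_zero_iff_eq_neg] at hf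
    apply_fun Q.1 at hf
    simp only [Valuation.map_neg, map_pow] at hf
    revert hf
    apply ne_of_lt
    apply Q.1.map_sum_lt
    · exact pow_ne_zero _ (zero_lt_one.trans hlt).ne'
    · intro i hi
      simp only [Finset.mem_range] at hi
      rw [map_mul, map_pow]
      have hle : Q.1 (algebraMap K K' (f.coeff i)) ≤ 1 := by
        by_cases h0 : f.coeff i = 0
        · rw [h0]; simp
        · exact (htriv _ h0).le
      exact mul_lt_of_le_one_of_lt hle (pow_lt_pow_right₀ hlt hi)
  have h2 := key z⁻¹ hinv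
  rw [map_inv₀] at h2
  have hne : Q.1 z ≠ 0 := (Valuation.ne_zero_iff _).mpr hz0
  have h3 : 1 ≤ Q.1 z := (inv_le_one₀ (zero_lt_iff.mpr hne)).mp h2
  exact absurd hz1 (not_lt.mpr h3)

omit [Algebra.IsAlgebraic K K'] [IsScalarTower k K K'] [Algebra K K'] [Algebra k K'] in
open IsDedekindDomain IsDedekindDomain.HeightOneSpectrum in
/-- A nontrivial `ℤᵐ⁰`-valued valuation which is `≤ 1` on `k` has the valuation ring of a place
(no function field hypothesis needed). -/
theorem exists_place_of_nontrivial (v : Valuation K ℤᵐ⁰) (hk : ∀ c : k, v (algebraMap k K c) ≤ 1)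
    (hv : ∃ x : K, x ≠ 0 ∧ v x < 1) : ∃ P : Place k K, P.O = v.valuationSubring := by
  obtain ⟨x, hx0, hx⟩ := hv
  have : v.IsNontrivial := ⟨x, (Valuation.ne_zero_iff _).mpr hx0, ne_of_lt hx⟩
  have : IsDiscreteValuationRing v.valuationSubring :=
    Valuation.valuationSubring_isDiscreteValuationRing v
  let w : Valuation K ℤᵐ⁰ :=
    (IsDiscreteValuationRing.maximalIdeal v.valuationSubring).valuation K
  have hwk : ∀ c : k, w (algebraMap k K c) ≤ 1 := by
    intro c
    have := valuation_le_one (K := K) (IsDiscreteValuationRing.maximalIdeal v.valuationSubring)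
      ⟨algebraMap k K c, (Valuation.mem_valuationSubring_iff v _).mpr (hk c)⟩
    exact this
  refine ⟨mkPlace w hwk (valuation_surjective K _), ?_⟩
  ext y
  rw [Place.mem_O_iff, mkPlace_val]
  constructor
  · intro h
    obtain ⟨a, rfl⟩ := IsDiscreteValuationRing.exists_lift_of_le_one
      (A := v.valuationSubring) (K := K) h
    exact a.2
  · intro h
    exact valuation_le_one (K := K) (IsDiscreteValuationRing.maximalIdeal v.valuationSubring) ⟨y, h⟩

/-- Every place of `K'` lies over a place of `K` (no function field hypothesis). -/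
theorem exists_below' (Q : Place k K') :
    ∃ (P : Place k K) (e : ℕ), IsOverWith Q P e := by
  set v : Valuation K ℤᵐ⁰ := Q.1.comap (algebraMap K K') with hv
  have hk : ∀ c : k, v (algebraMap k K c) ≤ 1 := by
    intro c
    rw [hv, Valuation.comap_apply, ← IsScalarTower.algebraMap_apply]
    exact Q.2.1 c
  obtain ⟨x, hx0, hx⟩ := exists_lt_one (K := K) Q
  obtain ⟨P, hP⟩ := exists_place_of_nontrivial v hk ⟨x, hx0, hx⟩
  have hle : ∀ y : K, P.1 y ≤ 1 ↔ Q.1 (algebraMap K K' y) ≤ 1 := by
    intro y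
    rw [← Place.mem_O_iff, hP, Valuation.mem_valuationSubring_iff]
    rfl
  have hunit : ∀ u : K, P.1 u = 1 → Q.1 (algebraMap K K' u) = 1 := by
    intro u hu
    have hu0 : u ≠ 0 := by
      rintro rfl
      simp at hu
    apply le_antisymm ((hle u).mp hu.le)
    have h1 : P.1 u⁻¹ ≤ 1 := by rw [map_inv₀, hu, inv_one]
    have h2 := (hle _).mp h1
    rw [map_inv₀, map_inv₀] at h2
    have hne : Q.1 (algebraMap K K' u) ≠ 0 :=
      (Valuation.ne_zero_iff _).mpr ((map_ne_zero_iff _ (algebraMap K K').injective).mpr hu0)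
    exact (inv_le_one₀ (zero_lt_iff.mpr hne)).mp h2
  obtain ⟨t, ht⟩ := Place.exists_uniformizer P
  have ht0 : t ≠ 0 := by
    rintro rfl
    rw [map_zero] at ht
    exact exp_ne_zero ht.symm
  have ht0' : algebraMap K K' t ≠ 0 := (map_ne_zero_iff _ (algebraMap K K').injective).mpr ht0
  -- `Q t < 1`
  have hQt : Q.1 (algebraMap K K' t) < 1 := by
    by_contra hge
    push Not at hge
    have h1 : Q.1 (algebraMap K K' t⁻¹) ≤ 1 := by
      rw [map_inv₀, map_inv₀]
      exact inv_le_one_of_one_le₀ hge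
    have h2 := (hle _).mpr h1
    rw [map_inv₀, ht, ← exp_neg, ← exp_zero, exp_le_exp] at h2
    norm_num at h2
  set a : ℤ := Q.ord (algebraMap K K' t) with ha
  have ha_pos : 0 < a := (Place.ord_pos_iff Q ht0').mpr hQt
  refine ⟨P, a.toNat, ?_⟩
  intro y
  by_cases hy : y = 0
  · subst hy
    have : a.toNat ≠ 0 := by omega
    simp [this]
  have hy' : algebraMap K K' y ≠ 0 := (map_ne_zero_iff _ (algebraMap K K').injective).mpr hy
  set n : ℤ := P.ord y with hn
  set u : K := y * (t ^ n)⁻¹ with hu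
  have htn : t ^ n ≠ 0 := zpow_ne_zero _ ht0
  have hPu : P.1 u = 1 := by
    rw [hu, map_mul, map_inv₀, map_zpow₀, ht, Place.val_eq_exp_neg_ord P hy, ← exp_zsmul,
      ← exp_neg, ← exp_add, ← exp_zero, exp_inj]
    simp only [smul_eq_mul]
    rw [← hn]
    ring
  have hQu := hunit u hPu
  have hyu : y = u * t ^ n := by
    rw [hu, mul_assoc, inv_mul_cancel₀ htn, mul_one]
  have hPy : P.1 y = exp (-n) := Place.val_eq_exp_neg_ord P hy
  rw [hPy]
  conv_lhs => rw [hyu, map_mul, map_mul, hQu, one_mul, map_zpow₀, map_zpow₀,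
    Place.val_eq_exp_neg_ord Q ht0', ← ha]
  rw [← exp_zsmul, ← exp_nsmul, exp_inj]
  simp only [smul_eq_mul, nsmul_eq_mul]
  have : ((a.toNat : ℕ) : ℤ) = a := Int.toNat_of_nonneg ha_pos.le
  rw [this]
  ring

/-- Every place of `K'` lies over a place of `K`. -/
theorem exists_below (_hK : IsFunctionField k K) (Q : Place k K') :
    ∃ (P : Place k K) (e : ℕ), IsOverWith Q P e := exists_below' Q

/-- Criterion for lying over. -/
theorem isOver_of_forall' {Q : Place k K'} {P : Place k K}
    (h : ∀ x : K, P.1 x < 1 → Q.1 (algebraMap K K' x) ≤ 1) : IsOver Q P := by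
  obtain ⟨P₀, e, he⟩ := exists_below' (K := K) Q
  have : P = P₀ := by
    apply place_eq_of_forall
    intro z hz
    exact (ow_le_one_iff he z).mp (h z hz)
  subst this
  exact ⟨e, he⟩

theorem isOver_of_forall (_hK : IsFunctionField k K) {Q : Place k K'} {P : Place k K}
    (h : ∀ x : K, P.1 x < 1 → Q.1 (algebraMap K K' x) ≤ 1) : IsOver Q P := isOver_of_forall' h

end Groth.Agent.Helper9.FFExt
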