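import Mathlib
import Groth.Prelude.Def_W4bk4goldsch23FF
import Groth.Agent.Lib.Helper4.FF.Degree

/-! # Passing to the full constant field; the general degree formula (helper9) -/

namespace Groth.Agent.Helper9.FFExt

open FunFld WithZero Polynomial
open Groth.Agent.Lib.Helper4.FF

variable {k K' : Type*} [Field k] [Field K'] [Algebra k K']

/-- the full constant field -/
abbrev kc (k K' : Type*) [Field k] [Field K'] [Algebra k K'] : IntermediateField k K' :=
  algebraicClosure k K'

lemma towerO (Q : Place k K') : IsScalarTower k Q.O K' := IsScalarTower.of_algebraMap_eq fun _ => rfl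

lemma val_le_one_of_isAlgebraic (Q : Place k K') {c : K'} (hc : IsAlgebraic k c) : Q.1 c ≤ 1 := by
  have := towerO Q
  have h1 : IsIntegral Q.O c := hc.isIntegral.tower_top
  exact (Valuation.valuationSubring.integers Q.1).isIntegral_iff_v_le_one.mp h1

/-- a place over `k` is a place over the full constant field -/
def up (Q : Place k K') : Place (kc k K') K' :=
  ⟨Q.1, fun c => val_le_one_of_isAlgebraic Q (mem_algebraicClosure_iff.mp c.2), Q.2.2⟩

/-- a place over the full constant field is a place over `k` -/
def down (Q' : Place (kc k K') K') : Place k K' :=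
  ⟨Q'.1, fun c => by
    rw [IsScalarTower.algebraMap_apply k (kc k K') K']
    exact Q'.2.1 _, Q'.2.2⟩

@[simp] lemma up_val (Q : Place k K') : (up Q).1 = Q.1 := rfl
@[simp] lemma down_val (Q' : Place (kc k K') K') : (down Q').1 = Q'.1 := rfl
@[simp] lemma up_down (Q' : Place (kc k K') K') : up (down Q') = Q' := Subtype.ext rfl
@[simp] lemma down_up (Q : Place k K') : down (up Q) = Q := Subtype.ext rfl

lemma up_injective : Function.Injective (up : Place k K' → Place (kc k K') K') := fun Q₁ Q₂ h => by
  rw [← down_up Q₁, ← down_up Q₂, h]

lemma up_ord (Q : Place k K') (x : K') : (up Q).ord x = Q.ord x := rfl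

lemma finrank_tower_general (A B C : Type*) [Field A] [Field B] [Field C] [Algebra A B]
    [Algebra B C] [Algebra A C] [IsScalarTower A B C] :
    Module.finrank A C = Module.finrank A B * Module.finrank B C :=
  (Module.finrank_mul_finrank A B C).symm

lemma deg_up (Q : Place k K') :
    Q.deg = Module.finrank k (kc k K') * (up Q).deg :=
  @finrank_tower_general k (kc k K') (IsLocalRing.ResidueField Q.O) _ _ _ _
    (Place.algRes (up Q)) (Place.algRes Q)
    (@IsScalarTower.of_algebraMap_eq k (kc k K') (IsLocalRing.ResidueField Q.O) _ _ _ _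
      (Place.algRes (up Q)) (Place.algRes Q) fun _ => rfl)

section Incl

variable (k) (x : K')

lemma adjoin_le_adjoin_kc (z : IntermediateField.adjoin k ({x} : Set K')) :
    (z : K') ∈ IntermediateField.adjoin (kc k K') ({x} : Set K') := by
  have h : IntermediateField.adjoin k ({x} : Set K') ≤
      (IntermediateField.adjoin (kc k K') ({x} : Set K')).restrictScalars k := by
    rw [IntermediateField.adjoin_le_iff]
    intro y hy
    rw [Set.mem_singleton_iff] at hy
    rw [hy]
    exact IntermediateField.mem_adjoin_simple_self (kc k K') x
  exact h z.2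

/-- the inclusion `k(x) → k'(x)` -/
def inclF : IntermediateField.adjoin k ({x} : Set K') →+*
    IntermediateField.adjoin (kc k K') ({x} : Set K') :=
  { toFun := fun z => ⟨z, adjoin_le_adjoin_kc k x z⟩
    map_one' := rfl
    map_mul' := fun _ _ => rfl
    map_zero' := rfl
    map_add' := fun _ _ => rfl }

end Incl

section FF

variable {x : K'} (hxt : Transcendental k x)
  [hfin : FiniteDimensional (IntermediateField.adjoin k ({x} : Set K')) K']

include hxt hfin

lemma isFunctionField_kc : IsFunctionField (kc k K') K' := by
  refine ⟨⟨x, hxt.algebraicClosure, ?_⟩, ?_⟩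
  · let _ : Algebra (IntermediateField.adjoin k ({x} : Set K'))
        (IntermediateField.adjoin (kc k K') ({x} : Set K')) := (inclF k x).toAlgebra
    have : IsScalarTower (IntermediateField.adjoin k ({x} : Set K'))
        (IntermediateField.adjoin (kc k K') ({x} : Set K')) K' :=
      IsScalarTower.of_algebraMap_eq fun _ => rfl
    exact Module.Finite.of_restrictScalars_finite (IntermediateField.adjoin k ({x} : Set K'))
      (IntermediateField.adjoin (kc k K') ({x} : Set K')) K'
  · intro y hy
    have : IsAlgebraic k y := hy.restrictScalars k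
    exact ⟨⟨y, mem_algebraicClosure_iff.mpr this⟩, rfl⟩

omit hfin in
/-- `k`-linearly independent constants stay independent over `k(x)`. -/
lemma linearIndependent_const {ι : Type*} (b : ι → kc k K') (hb : LinearIndependent k b) :
    LinearIndependent (IntermediateField.adjoin k ({x} : Set K')) (fun i => (b i : K')) := by
  classical
  have hxt' : Transcendental (kc k K') x := hxt.algebraicClosure
  apply linearIndependent_adjoin_of_polynomial
  intro s φ hsum i hi
  set ψ : (kc k K')[X] := ∑ j ∈ s, C (b j) * (φ j).map (algebraMap k (kc k K')) with hψ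
  have hψ0 : aeval x ψ = 0 := by
    rw [hψ, map_sum, ← hsum]
    refine Finset.sum_congr rfl fun j _ => ?_
    rw [map_mul, aeval_C, aeval_map_algebraMap, mul_comm]
    rfl
  have hψz : ψ = 0 := by
    by_contra hne
    exact hxt' ⟨ψ, hne, hψ0⟩
  have hcoef : ∀ n : ℕ, ∑ j ∈ s, (φ j).coeff n • b j = 0 := by
    intro n
    have := congrArg (fun p => p.coeff n) hψz
    simp only [hψ, finsetSum_coeff, coeff_C_mul, coeff_map, coeff_zero] at this
    rw [← this]
    refine Finset.sum_congr rfl fun j _ => ?_
    rw [Algebra.smul_def, mul_comm]
  have hφ : φ i = 0 := by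
    ext n
    have := linearIndependent_iff'.mp hb s (fun j => (φ j).coeff n) (hcoef n) i hi
    simpa using this
  rw [hφ, map_zero]

lemma finite_kc : FiniteDimensional k (kc k K') := by
  classical
  refine (finite_and_finrank_le
    (Module.finrank (IntermediateField.adjoin k ({x} : Set K')) K') ?_).1
  intro s hs
  have := (linearIndependent_const hxt (fun i : s => (i : kc k K')) hs).fintype_card_le_finrank
  simpa using this

/-- `[k' : k] · [K' : k'(x)] = [K' : k(x)]`. -/
lemma finrank_kc_mul :
    Module.finrank k (kc k K') *
        Module.finrank (IntermediateField.adjoin (kc k K') ({x} : Set K')) K' =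
      Module.finrank (IntermediateField.adjoin k ({x} : Set K')) K' := by
  classical
  have hfk := finite_kc hxt
  set F := IntermediateField.adjoin k ({x} : Set K') with hF
  set F' := IntermediateField.adjoin (kc k K') ({x} : Set K') with hF'
  let _ : Algebra F F' := (inclF k x).toAlgebra
  have : IsScalarTower F F' K' := IsScalarTower.of_algebraMap_eq fun _ => rfl
  rw [← Module.finrank_mul_finrank F F' K']
  congr 1
  -- a `k`-basis of `k'` is an `F`-basis of `F'`
  let b := Module.finBasis k (kc k K')
  have hmem : ∀ i, (b i : K') ∈ F' := fun i => F'.algebraMap_mem (b i)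
  let b' : Fin (Module.finrank k (kc k K')) → F' := fun i => ⟨(b i : K'), hmem i⟩
  have hli : LinearIndependent F b' := by
    have h1 := linearIndependent_const hxt b b.linearIndependent
    refine LinearIndependent.of_comp (IsScalarTower.toAlgHom F F' K').toLinearMap ?_
    exact h1
  have hspan : ⊤ ≤ Submodule.span F (Set.range b') := by
    -- the `F`-span in `K'`
    set S : Submodule F K' := Submodule.span F (Set.range fun i => (b i : K')) with hS
    have hconst : ∀ c : kc k K', (c : K') ∈ S := by
      intro c
      have hc : (c : K') = ∑ i, (algebraMap k F (b.repr c i)) • (b i : K') := by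
        conv_lhs => rw [← b.sum_repr c]
        rw [AddSubmonoidClass.coe_finsetSum]
        refine Finset.sum_congr rfl fun i _ => ?_
        rw [Algebra.smul_def, Algebra.smul_def]
        rfl
      rw [hc]
      exact Submodule.sum_mem _ fun i _ => Submodule.smul_mem _ _ (Submodule.subset_span ⟨i, rfl⟩)
    -- the subalgebra generated by the constants
    set T : Subalgebra F K' := Algebra.adjoin F ((kc k K' : IntermediateField k K') : Set K') with hT
    have hTS : ∀ z ∈ T, z ∈ S := by
      intro z hz
      have h2 : z ∈ Subalgebra.toSubmodule T := hz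
      rw [hT, Algebra.adjoin_eq_span] at h2
      have hcl : Submonoid.closure ((kc k K' : IntermediateField k K') : Set K') =
          (kc k K').toSubalgebra.toSubsemiring.toSubmonoid :=
        Submonoid.closure_eq (kc k K').toSubalgebra.toSubsemiring.toSubmonoid
      rw [hcl] at h2
      refine Submodule.span_le.mpr ?_ h2
      intro c hc
      exact hconst ⟨c, hc⟩
    have halg : Algebra.IsAlgebraic F K' := Algebra.IsAlgebraic.of_finite F K'
    have hfield : IsField T := Subalgebra.isField_of_algebraic T
    let T' : IntermediateField F K' := Subalgebra.toIntermediateField' T hfield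
    let T'' : IntermediateField (kc k K') K' := T'.toSubfield.toIntermediateField (fun c =>
      Algebra.subset_adjoin c.2)
    have hxT : x ∈ T'' := by
      have : algebraMap F K' ⟨x, IntermediateField.mem_adjoin_simple_self k x⟩ ∈ T :=
        Subalgebra.algebraMap_mem T _
      exact this
    have hF'T : F' ≤ T'' := by
      rw [hF', IntermediateField.adjoin_le_iff]
      intro y hy
      rw [Set.mem_singleton_iff] at hy
      rw [hy]
      exact hxT
    intro z _
    have hzS : (z : K') ∈ S := hTS _ (hF'T z.2)
    have hmap : Submodule.map (IsScalarTower.toAlgHom F F' K').toLinearMap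
        (Submodule.span F (Set.range b')) = S := by
      rw [Submodule.map_span, hS]
      congr 1
      ext w
      simp only [Set.mem_image, Set.mem_range]
      constructor
      · rintro ⟨_, ⟨i, rfl⟩, rfl⟩
        exact ⟨i, rfl⟩
      · rintro ⟨i, rfl⟩
        exact ⟨b' i, ⟨i, rfl⟩, rfl⟩
    rw [← hmap] at hzS
    obtain ⟨z', hz', hzz'⟩ := hzS
    have : z' = z := Subtype.ext hzz'
    rwa [this] at hz'
  have B : Module.Basis (Fin (Module.finrank k (kc k K'))) F F' := Module.Basis.mk hli hspan
  rw [Module.finrank_eq_card_basis B, Fintype.card_fin]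

/-- **General degree formula**: the poles of a transcendental `x`, weighted by pole order and
degree over `k`, add up to `[K' : k(x)]`, whether or not `k` is algebraically closed in `K'`. -/
theorem poles_deg :
    {Q : Place k K' | 1 < Q.1 x}.Finite ∧
    ∀ S : Finset (Place k K'), (∀ Q, Q ∈ S ↔ 1 < Q.1 x) →
      ∑ Q ∈ S, (-Q.ord x) * (Q.deg : ℤ) =
        Module.finrank (IntermediateField.adjoin k ({x} : Set K')) K' := by
  classical
  have hK' := isFunctionField_kc hxt
  have hx0 : x ≠ 0 := by
    rintro rfl
    exact hxt isAlgebraic_zero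
  have hfp := finite_poles hK' hx0
  have hfin1 : {Q : Place k K' | 1 < Q.1 x}.Finite := by
    refine (hfp.image down).subset ?_
    intro Q hQ
    exact ⟨up Q, hQ, down_up Q⟩
  refine ⟨hfin1, fun S hS => ?_⟩
  have hdeg := deg_poleDiv hK' hxt.algebraicClosure
  have hsupp : (poleDiv x : Divisor (kc k K') K').support ⊆ S.image up := by
    intro Q' hQ'
    rw [Finsupp.mem_support_iff, poleDiv_apply hK'] at hQ'
    rw [Finset.mem_image]
    refine ⟨down Q', (hS _).mpr ?_, up_down Q'⟩
    rw [down_val, ← Place.ord_neg_iff Q' hx0]
    by_contra h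
    push Not at h
    exact hQ' (max_eq_right (by omega))
  rw [Divisor.deg_eq_sum _ _ hsupp, Finset.sum_image (fun a _ b _ h => up_injective h)] at hdeg
  rw [← finrank_kc_mul hxt]
  push_cast
  rw [← hdeg, Finset.mul_sum]
  refine Finset.sum_congr rfl fun Q hQ => ?_
  have hpole : 1 < Q.1 x := (hS Q).mp hQ
  have hneg : Q.ord x < 0 := (Place.ord_neg_iff Q hx0).mpr hpole
  rw [poleDiv_apply hK', up_ord, max_eq_left (by omega), deg_up Q]
  push_cast
  ring

end FF

end Groth.Agent.Helper9.FFExt
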