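import Mathlib
import Groth.Prelude.Def_W4bk4goldsch23Ext
import Groth.Agent.Lib.Helper4.FF.Riemann
import Groth.Agent.Lib.Helper9.FFExt.Below
import Groth.Agent.Lib.Helper9.FFExt.Const

/-! # The fundamental equality `∑ e f = n` for function fields (helper9) -/

namespace Groth.Agent.Helper9.FFExt

open FunFld WithZero
open Groth.Agent.Lib.Helper4.FF

section OnlyPole

variable {k K : Type*} [Field k] [Field K] [Algebra k K]

/-- For every place there is a function with a pole exactly there. -/
theorem exists_only_pole (hK : IsFunctionField k K) (P : Place k K) :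
    ∃ x : K, Transcendental k x ∧ 1 < P.1 x ∧ ∀ P' : Place k K, P' ≠ P → P'.1 x ≤ 1 := by
  classical
  set g := genus k K with hg
  set D : Divisor k K := Finsupp.single P ((g : ℤ) + 1) with hD
  have hdeg : (g : ℤ) + 1 ≤ D.deg := by
    rw [hD, Divisor.deg_single]
    have h1 : (1 : ℤ) ≤ (P.deg : ℤ) := by exact_mod_cast Place.deg_pos hK P
    nlinarith
  have hell : 2 ≤ ell D := by
    have := le_genus hK D
    omega
  have hfin : Module.Finite k (L D) := L_finite hK D
  -- a non-constant element
  have hex : ∃ x ∈ L D, x ∉ Set.range (algebraMap k K) := by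
    by_contra hno
    push Not at hno
    have hle : L D ≤ L (0 : Divisor k K) := by
      intro x hx
      rw [L_zero hK]
      obtain ⟨c, rfl⟩ := hno x hx
      exact Submodule.mem_one.mpr ⟨c, rfl⟩
    have hfin0 : Module.Finite k (L (0 : Divisor k K)) := L_finite hK 0
    have := Submodule.finrank_mono hle
    have h0 : ell (0 : Divisor k K) = 1 := ell_zero hK
    unfold FunFld.ell at hell h0
    omega
  obtain ⟨x, hxL, hxk⟩ := hex
  have hxt := transcendental_of_notMem hK hxk
  have hint : ∀ P' : Place k K, P' ≠ P → P'.1 x ≤ 1 := by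
    intro P' hP'
    have := hxL P'
    rwa [hD, Finsupp.single_eq_of_ne hP', exp_zero] at this
  obtain ⟨P'', hP''⟩ := exists_pole hK hxt
  have : P'' = P := by
    by_contra hne
    exact absurd (hint P'' hne) (not_le.mpr hP'')
  subst this
  exact ⟨x, hxt, hP'', hint⟩

end OnlyPole

section Map

variable {k K K' : Type*} [Field k] [Field K] [Field K'] [Algebra k K] [Algebra K K']
  [Algebra k K'] [IsScalarTower k K K']

/-- `[K' : k(x)] = [K : k(x)] [K' : K]` for `x ∈ K`, computed inside `K'`. -/
lemma finrank_adjoin_algebraMap (x : K) :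
    Module.finrank (IntermediateField.adjoin k ({algebraMap K K' x} : Set K')) K' =
      Module.finrank (IntermediateField.adjoin k ({x} : Set K)) K * Module.finrank K K' := by
  set F := IntermediateField.adjoin k ({x} : Set K) with hF
  set F' := IntermediateField.adjoin k ({algebraMap K K' x} : Set K') with hF'
  let f : K →ₐ[k] K' := IsScalarTower.toAlgHom k K K'
  have hmap : F.map f = F' := by
    rw [hF, IntermediateField.adjoin_map, Set.image_singleton]
    rfl
  rw [Module.finrank_mul_finrank F K K']
  symm
  have hmem : ∀ z : F, f z ∈ F' := by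
    intro z
    rw [← hmap]
    exact ⟨z, z.2, rfl⟩
  let j : F →+* F' :=
    { toFun := fun z => ⟨f z, hmem z⟩
      map_one' := Subtype.ext (map_one f)
      map_mul' := fun a b => Subtype.ext (map_mul f (a : K) (b : K))
      map_zero' := Subtype.ext (map_zero f)
      map_add' := fun a b => Subtype.ext (map_add f (a : K) (b : K)) }
  have hj : Function.Bijective j := by
    constructor
    · intro a b hab
      have : f a = f b := congrArg Subtype.val hab
      exact Subtype.ext (f.injective this)
    · intro z
      have hz : (z : K') ∈ F.map f := by rw [hmap]; exact z.2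
      obtain ⟨w, hw, hwz⟩ := hz
      exact ⟨⟨w, hw⟩, Subtype.ext hwz⟩
  exact Algebra.finrank_eq_of_equiv_equiv (RingEquiv.ofBijective j hj) (RingEquiv.refl K')
    (by ext z; rfl)

end Map

section Fund

variable {k K K' : Type*} [Field k] [Field K] [Field K'] [Algebra k K] [Algebra K K']
  [Algebra k K'] [IsScalarTower k K K'] [FiniteDimensional K K']

/-- **Fundamental equality** `∑_{Q | P} e(Q|P) deg Q = [K' : K] deg P`. -/
theorem sum_ramIdx_mul_deg (hK : IsFunctionField k K) (P : Place k K) :
    {Q : Place k K' | IsOver Q P}.Finite ∧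
    ∀ (Qs : Finset (Place k K')), (∀ Q, Q ∈ Qs ↔ IsOver Q P) →
      (∑ Q ∈ Qs, ramIdx Q P * Q.deg) = Module.finrank K K' * P.deg := by
  classical
  obtain ⟨x, hxt, hxP, hxint⟩ := exists_only_pole hK P
  have hx0 : x ≠ 0 := by
    rintro rfl
    exact hxt isAlgebraic_zero
  have hfinK : FiniteDimensional (IntermediateField.adjoin k ({x} : Set K)) K :=
    finiteDimensional_adjoin hK hxt
  -- degree formula in `K`
  have h1 := (poles_deg hxt).2 {P} (by
    intro Q
    rw [Finset.mem_singleton]
    constructor
    · rintro rfl; exact hxP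
    · intro hQ
      by_contra hne
      exact absurd (hxint Q hne) (not_le.mpr hQ))
  rw [Finset.sum_singleton] at h1
  -- the element upstairs
  set x' : K' := algebraMap K K' x with hx'
  have hxt' : Transcendental k x' := by
    intro halg
    exact hxt ((isAlgebraic_algebraMap_iff (algebraMap K K').injective).mp halg)
  have hfr := finrank_adjoin_algebraMap (k := k) (K' := K') x
  have hpos : 0 < Module.finrank (IntermediateField.adjoin k ({x'} : Set K')) K' := by
    rw [hx', hfr]
    exact Nat.mul_pos Module.finrank_pos Module.finrank_pos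
  have hfinK' : FiniteDimensional (IntermediateField.adjoin k ({x'} : Set K')) K' :=
    Module.finite_of_finrank_pos hpos
  have h2 := poles_deg hxt'
  -- poles upstairs are the places over `P`
  have hiff : ∀ Q : Place k K', IsOver Q P ↔ 1 < Q.1 x' := by
    intro Q
    constructor
    · rintro ⟨e, he⟩
      exact (ow_one_lt_iff he x).mpr hxP
    · intro hQ
      obtain ⟨P₀, e, he⟩ := exists_below hK Q
      have : 1 < P₀.1 x := (ow_one_lt_iff he x).mp hQ
      have hP₀ : P₀ = P := by
        by_contra hne
        exact absurd (hxint P₀ hne) (not_le.mpr this)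
      subst hP₀
      exact ⟨e, he⟩
  have hset : {Q : Place k K' | IsOver Q P} = {Q : Place k K' | 1 < Q.1 x'} := by
    ext Q; exact hiff Q
  refine ⟨hset ▸ h2.1, fun Qs hQs => ?_⟩
  have h3 := h2.2 Qs (fun Q => (hQs Q).trans (hiff Q))
  rw [hx', hfr] at h3
  -- rewrite orders upstairs
  have hm : 0 < -P.ord x := by
    have := (Place.ord_neg_iff P hx0).mpr hxP
    omega
  have h4 : ∑ Q ∈ Qs, (-Q.ord (algebraMap K K' x)) * (Q.deg : ℤ) =
      (-P.ord x) * ∑ Q ∈ Qs, ((ramIdx Q P * Q.deg : ℕ) : ℤ) := by
    rw [Finset.mul_sum]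
    refine Finset.sum_congr rfl fun Q hQ => ?_
    have hov := isOver_isOverWith ((hQs Q).mp hQ)
    rw [ow_ord_eq hov x]
    push_cast
    ring
  rw [h4] at h3
  have h5 : (-P.ord x) * ∑ Q ∈ Qs, ((ramIdx Q P * Q.deg : ℕ) : ℤ) =
      (-P.ord x) * ((Module.finrank K K' * P.deg : ℕ) : ℤ) := by
    rw [h3]
    push_cast
    rw [← h1]
    ring
  have h6 := mul_left_cancel₀ hm.ne' h5
  exact_mod_cast h6

end Fund

end Groth.Agent.Helper9.FFExt
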