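import Mathlib
import Groth.Prelude.Def_W4bk4goldsch23Ext
import Groth.Agent.Lib.Helper9.FFExt.Fund

/-! # The conorm of divisors (helper9) -/

namespace Groth.Agent.Helper9.FFExt

open FunFld WithZero
open Groth.Agent.Lib.Helper4.FF

section General

variable {k K K' : Type*} [Field k] [Field K] [Field K'] [Algebra k K] [Algebra K K']
  [Algebra k K'] [IsScalarTower k K K']

/-- the degree as an additive homomorphism -/
noncomputable def degHom (k K : Type*) [Field k] [Field K] [Algebra k K] : Divisor k K →+ ℤ where
  toFun := Divisor.deg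
  map_zero' := Divisor.deg_zero
  map_add' := Divisor.deg_add

/-- Value of the conorm at a place `Q` above `P`. -/
theorem conorm_apply (E : Divisor k K) {Q : Place k K'} {P : Place k K} {e : ℕ}
    (h : IsOverWith Q P e) (hfin : {Q' : Place k K' | IsOver Q' P}.Finite) :
    conorm K' E Q = e * E P := by
  classical
  unfold FunFld.conorm
  rw [Finsupp.sum_apply, Finsupp.sum]
  have hterm : ∀ P' : Place k K, P' ≠ P →
      ((E P') • (if h : {Q : Place k K' | IsOver Q P'}.Finite then
        h.toFinset.sum (fun Q => (ramIdx Q P' : ℤ) • Finsupp.single Q (1 : ℤ)) else 0) :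
          Divisor k K') Q = 0 := by
    intro P' hP'
    rw [Finsupp.smul_apply]
    split_ifs with hf
    · rw [Finsupp.finsetSum_apply]
      rw [Finset.sum_eq_zero, smul_zero]
      intro Q' hQ'
      rw [Set.Finite.mem_toFinset] at hQ'
      have hne : Q' ≠ Q := by
        rintro rfl
        exact hP' (isOver_unique hQ' ⟨e, h⟩)
      rw [Finsupp.smul_apply, Finsupp.single_eq_of_ne' hne, smul_zero]
    · simp
  have hP : ((E P) • (if h : {Q : Place k K' | IsOver Q P}.Finite then
        h.toFinset.sum (fun Q => (ramIdx Q P : ℤ) • Finsupp.single Q (1 : ℤ)) else 0) :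
          Divisor k K') Q = e * E P := by
    rw [Finsupp.smul_apply, dif_pos hfin, Finsupp.finsetSum_apply,
      Finset.sum_eq_single Q]
    · rw [Finsupp.smul_apply, Finsupp.single_eq_same, ramIdx_eq h]
      simp [mul_comm]
    · intro Q' _ hne
      rw [Finsupp.smul_apply, Finsupp.single_eq_of_ne' hne, smul_zero]
    · intro hQ
      exact absurd ((Set.Finite.mem_toFinset hfin).mpr ⟨e, h⟩) hQ
  by_cases hPs : P ∈ E.support
  · rw [Finset.sum_eq_single P (fun P' _ hP' => hterm P' hP') (fun hn => absurd hPs hn)]
    exact hP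
  · rw [Finset.sum_eq_zero (fun P' hP' => hterm P' (by rintro rfl; exact hPs hP'))]
    rw [Finsupp.notMem_support_iff.mp hPs, mul_zero]

end General

section FF

variable {k K K' : Type*} [Field k] [Field K] [Field K'] [Algebra k K] [Algebra K K']
  [Algebra k K'] [IsScalarTower k K K'] [FiniteDimensional K K']

theorem finite_over (hK : IsFunctionField k K) (P : Place k K) :
    {Q : Place k K' | IsOver Q P}.Finite := (sum_ramIdx_mul_deg hK P).1

/-- finitely many zeros and poles upstairs, without assuming `k` algebraically closed in `K'` -/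
theorem finite_support_ord' (hK : IsFunctionField k K) (z : K') :
    (Function.support fun Q : Place k K' => Q.ord z).Finite := by
  obtain ⟨⟨x, hxt, hfin⟩, -⟩ := hK
  set x' : K' := algebraMap K K' x with hx'
  have hxt' : Transcendental k x' := by
    intro halg
    exact hxt ((isAlgebraic_algebraMap_iff (algebraMap K K').injective).mp halg)
  have hfr := finrank_adjoin_algebraMap (k := k) (K' := K') x
  have hpos : 0 < Module.finrank (IntermediateField.adjoin k ({x'} : Set K')) K' := by
    rw [hx', hfr]
    exact Nat.mul_pos Module.finrank_pos Module.finrank_pos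
  have hfinK' : FiniteDimensional (IntermediateField.adjoin k ({x'} : Set K')) K' :=
    Module.finite_of_finrank_pos hpos
  have hK' := isFunctionField_kc hxt'
  have := finite_support_ord hK' z
  refine (this.image down).subset ?_
  intro Q hQ
  exact ⟨up Q, hQ, down_up Q⟩

theorem div_apply' (hK : IsFunctionField k K) (z : K') (Q : Place k K') :
    div k z Q = Q.ord z := by
  unfold FunFld.div
  rw [dif_pos (finite_support_ord' hK z)]
  rfl

/-- `deg N*(D) = [K' : K] deg D`. -/
theorem deg_conorm (hK : IsFunctionField k K) (D : Divisor k K) :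
    (conorm K' D).deg = Module.finrank K K' * D.deg := by
  classical
  have key : ∀ P : Place k K,
      (if h : {Q : Place k K' | IsOver Q P}.Finite then
        h.toFinset.sum (fun Q => (ramIdx Q P : ℤ) • Finsupp.single Q (1 : ℤ)) else 0 :
          Divisor k K').deg = Module.finrank K K' * (P.deg : ℤ) := by
    intro P
    obtain ⟨hfin, hsum⟩ := sum_ramIdx_mul_deg (K' := K') hK P
    rw [dif_pos hfin]
    change degHom k K' _ = _
    rw [map_sum]
    have h1 := hsum hfin.toFinset (fun Q' => by rw [Set.Finite.mem_toFinset]; rfl)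
    have : (∑ Q ∈ hfin.toFinset, ((ramIdx Q P * Q.deg : ℕ) : ℤ)) =
        ((Module.finrank K K' * P.deg : ℕ) : ℤ) := by
      rw [← h1]; push_cast; rfl
    rw [← Nat.cast_mul, ← this]
    refine Finset.sum_congr rfl fun Q _ => ?_
    rw [map_zsmul]
    change _ • Divisor.deg _ = _
    rw [Divisor.deg_single]
    push_cast
    simp
  unfold FunFld.conorm
  change degHom k K' _ = _
  rw [map_finsuppSum]
  unfold FunFld.Divisor.deg
  rw [Finsupp.mul_sum]
  refine Finsupp.sum_congr fun P _ => ?_
  rw [map_zsmul]
  change _ • Divisor.deg _ = _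
  rw [key P, smul_eq_mul]
  ring

/-- `[x]_{K'} = N*([x]_K)`. -/
theorem div_algebraMap (hK : IsFunctionField k K) (x : K) :
    div k (algebraMap K K' x) = conorm K' (div k x) := by
  ext Q
  obtain ⟨P, e, he⟩ := exists_below' (K := K) Q
  rw [div_apply' hK, conorm_apply _ he (finite_over hK P), div_apply hK, ow_ord_eq he]

end FF

section Tower

variable {k K K' K'' : Type*} [Field k] [Field K] [Field K'] [Field K'']
  [Algebra k K] [Algebra k K'] [Algebra k K''] [Algebra K K'] [Algebra K' K''] [Algebra K K'']
  [IsScalarTower k K K'] [IsScalarTower k K' K''] [IsScalarTower k K K''] [IsScalarTower K K' K'']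

omit [IsScalarTower k K K'] [IsScalarTower k K' K''] [IsScalarTower k K K''] in
lemma isOverWith_trans {Q'' : Place k K''} {Q : Place k K'} {P : Place k K} {e₁ e₂ : ℕ}
    (h₂ : IsOverWith Q'' Q e₂) (h₁ : IsOverWith Q P e₁) : IsOverWith Q'' P (e₁ * e₂) := by
  intro x
  rw [IsScalarTower.algebraMap_apply K K' K'', h₂, h₁, pow_mul]

/-- The conorm is transitive. -/
theorem conorm_conorm [FiniteDimensional K K'] [FiniteDimensional K' K'']
    (hK : IsFunctionField k K) (D : Divisor k K) :
    conorm K'' (conorm K' D) = conorm K'' D := by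
  have : FiniteDimensional K K'' := FiniteDimensional.trans K K' K''
  ext Q''
  obtain ⟨Q, e₂, h₂⟩ := exists_below' (K := K') Q''
  obtain ⟨P, e₁, h₁⟩ := exists_below' (K := K) Q
  have h₃ := isOverWith_trans h₂ h₁
  have hfin₃ : {R : Place k K'' | IsOver R P}.Finite := finite_over hK P
  have hfin₂ : {R : Place k K'' | IsOver R Q}.Finite := by
    refine hfin₃.subset ?_
    rintro R ⟨e, he⟩
    exact ⟨_, isOverWith_trans he h₁⟩
  rw [conorm_apply _ h₂ hfin₂, conorm_apply _ h₁ (finite_over hK P), conorm_apply _ h₃ hfin₃]
  push_cast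
  ring

end Tower

end Groth.Agent.Helper9.FFExt
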