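import Mathlib
import Groth.Prelude.Def_W4bk4goldsch23Ext
import Groth.Agent.Lib.Helper9.FFExt.Conorm

/-! # Residue degrees in extensions (helper9) -/

namespace Groth.Agent.Helper9.FFExt

open FunFld WithZero
open Groth.Agent.Lib.Helper4.FF

variable {k K K' : Type*} [Field k] [Field K] [Field K'] [Algebra k K] [Algebra K K']
  [Algebra k K'] [IsScalarTower k K K']

/-- the map of valuation rings `O_P → O_Q` for `Q` over `P` -/
def resMapO {Q : Place k K'} {P : Place k K} (h : IsOver Q P) : P.O →+* Q.O where
  toFun z := ⟨algebraMap K K' z, by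
    obtain ⟨e, he⟩ := h
    rw [Place.mem_O_iff, ow_le_one_iff he]
    exact (Place.mem_O_iff P).mp z.2⟩
  map_one' := Subtype.ext (map_one _)
  map_mul' a b := Subtype.ext (map_mul _ _ _)
  map_zero' := Subtype.ext (map_zero _)
  map_add' a b := Subtype.ext (map_add _ _ _)

instance resMapO_isLocalHom {Q : Place k K'} {P : Place k K} (h : IsOver Q P) :
    IsLocalHom (resMapO h) := by
  constructor
  intro z hz
  obtain ⟨e, he⟩ := h
  rw [(Valuation.valuationSubring.integers Q.1).isUnit_iff_valuation_eq_one] at hz
  rw [(Valuation.valuationSubring.integers P.1).isUnit_iff_valuation_eq_one]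
  have h1 : Q.1 (algebraMap K K' (z : K)) = 1 := hz
  have hle : P.1 (z : K) ≤ 1 := (Place.mem_O_iff P).mp z.2
  apply le_antisymm hle
  by_contra hlt
  push Not at hlt
  have := (ow_lt_one_iff he (z : K)).mpr hlt
  rw [h1] at this
  exact lt_irrefl _ this

/-- `deg P ∣ deg Q` for `Q` over `P`. -/
theorem deg_dvd_of_isOver {Q : Place k K'} {P : Place k K} (h : IsOver Q P) : P.deg ∣ Q.deg := by
  have := resMapO_isLocalHom h
  let f : IsLocalRing.ResidueField P.O →+* IsLocalRing.ResidueField Q.O :=
    IsLocalRing.ResidueField.map (resMapO h)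
  let _ : Algebra (IsLocalRing.ResidueField P.O) (IsLocalRing.ResidueField Q.O) := f.toAlgebra
  have htower : IsScalarTower k (IsLocalRing.ResidueField P.O) (IsLocalRing.ResidueField Q.O) := by
    refine IsScalarTower.of_algebraMap_eq fun c => ?_
    change IsLocalRing.residue Q.O (algebraMap k Q.O c) =
      IsLocalRing.ResidueField.map (resMapO h) (IsLocalRing.residue P.O (algebraMap k P.O c))
    rw [IsLocalRing.ResidueField.map_residue]
    congr 1
    apply Subtype.ext
    change algebraMap k K' c = algebraMap K K' (algebraMap k K c)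
    rw [← IsScalarTower.algebraMap_apply]
  exact ⟨_, (finrank_tower_general k (IsLocalRing.ResidueField P.O)
    (IsLocalRing.ResidueField Q.O))⟩

section FF

variable [FiniteDimensional K K']

/-- degrees upstairs are positive -/
theorem deg_pos' (hK : IsFunctionField k K) (Q : Place k K') : 0 < Q.deg := by
  obtain ⟨⟨x, hxt, hfin⟩, -⟩ := hK
  set x' : K' := algebraMap K K' x with hx'
  have hxt' : Transcendental k x' := by
    intro halg
    exact hxt ((isAlgebraic_algebraMap_iff (algebraMap K K').injective).mp halg)
  have hfr := finrank_adjoin_algebraMap (k := k) (K' := K') x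
  have hpos : 0 < Module.finrank (IntermediateField.adjoin k ({x'} : Set K')) K' := by
    rw [hx', hfr]
    exact Nat.mul_pos Module.finrank_pos Module.finrank_pos
  have hfinK' : FiniteDimensional (IntermediateField.adjoin k ({x'} : Set K')) K' :=
    Module.finite_of_finrank_pos hpos
  have hK' := isFunctionField_kc hxt'
  have hfk := finite_kc hxt'
  rw [deg_up Q]
  exact Nat.mul_pos Module.finrank_pos (Place.deg_pos hK' (up Q))

/-- each term of the fundamental equality is bounded by the total -/
theorem ramIdx_mul_deg_le (hK : IsFunctionField k K) {Q : Place k K'} {P : Place k K}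
    (h : IsOver Q P) : ramIdx Q P * Q.deg ≤ Module.finrank K K' * P.deg := by
  classical
  obtain ⟨hfin, hsum⟩ := sum_ramIdx_mul_deg (K' := K') hK P
  rw [← hsum hfin.toFinset (fun Q' => by rw [Set.Finite.mem_toFinset]; rfl)]
  exact Finset.single_le_sum (f := fun Q => ramIdx Q P * Q.deg) (fun _ _ => Nat.zero_le _)
    ((Set.Finite.mem_toFinset hfin).mpr h)

/-- two distinct terms of the fundamental equality are bounded by the total -/
theorem ramIdx_mul_deg_add_le (hK : IsFunctionField k K) {Q Q' : Place k K'} {P : Place k K}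
    (h : IsOver Q P) (h' : IsOver Q' P) (hne : Q ≠ Q') :
    ramIdx Q P * Q.deg + ramIdx Q' P * Q'.deg ≤ Module.finrank K K' * P.deg := by
  classical
  obtain ⟨hfin, hsum⟩ := sum_ramIdx_mul_deg (K' := K') hK P
  rw [← hsum hfin.toFinset (fun Q' => by rw [Set.Finite.mem_toFinset]; rfl)]
  have hsub : ({Q, Q'} : Finset (Place k K')) ⊆ hfin.toFinset := by
    intro R hR
    rw [Finset.mem_insert, Finset.mem_singleton] at hR
    rw [Set.Finite.mem_toFinset]
    rcases hR with rfl | rfl
    · exact h
    · exact h'
  have := Finset.sum_le_sum_of_subset (f := fun Q => ramIdx Q P * Q.deg) hsub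
  rwa [Finset.sum_pair hne] at this

/-- there is a place above every place -/
theorem exists_over (hK : IsFunctionField k K) (P : Place k K) :
    ∃ Q : Place k K', IsOver Q P := by
  classical
  obtain ⟨hfin, hsum⟩ := sum_ramIdx_mul_deg (K' := K') hK P
  have h1 := hsum hfin.toFinset (fun Q' => by rw [Set.Finite.mem_toFinset]; rfl)
  by_contra hno
  push Not at hno
  have : hfin.toFinset = ∅ := by
    ext Q
    simp only [Set.Finite.mem_toFinset, Set.mem_setOf_eq, Finset.notMem_empty, iff_false]
    exact hno Q
  rw [this, Finset.sum_empty] at h1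
  have hp : 0 < Module.finrank K K' * P.deg :=
    Nat.mul_pos Module.finrank_pos (Place.deg_pos hK P)
  omega

end FF

end Groth.Agent.Helper9.FFExt
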