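import Mathlib
import Groth.Prelude.Def_W4bk4goldsch23Ext
import Groth.Agent.Lib.Helper9.FFExt.Fund
import Groth.Agent.S11013

/-! # Galois action on places (helper9) -/

namespace Groth.Agent.Helper9.FFExt

open FunFld WithZero
open Groth.Agent.Lib.Helper4.FF
open scoped Pointwise

variable {k K K' : Type*} [Field k] [Field K] [Field K'] [Algebra k K] [Algebra K K']
  [Algebra k K'] [IsScalarTower k K K']

/-- transport of a place along a `K`-automorphism: `(conj σ Q) z = Q (σ z)` -/
noncomputable abbrev conj (σ : K' ≃ₐ[K] K') (Q : Place k K') : Place k K' :=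
  Groth.Agent.S11013.Aux.conj σ Q

lemma conj_apply (σ : K' ≃ₐ[K] K') (Q : Place k K') (z : K') : (conj σ Q).1 z = Q.1 (σ z) := rfl

lemma conj_isOverWith (σ : K' ≃ₐ[K] K') {Q : Place k K'} {P : Place k K} {e : ℕ}
    (h : IsOverWith Q P e) : IsOverWith (conj σ Q) P e := by
  intro x
  rw [conj_apply, σ.commutes]
  exact h x

lemma conj_isOver (σ : K' ≃ₐ[K] K') {Q : Place k K'} {P : Place k K}
    (h : IsOver Q P) : IsOver (conj σ Q) P := by
  obtain ⟨e, he⟩ := h
  exact ⟨e, conj_isOverWith σ he⟩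

/-- `O_{conj σ Q} = σ⁻¹ • O_Q`. -/
lemma conj_O (σ : K' ≃ₐ[K] K') (Q : Place k K') : (conj σ Q).O = σ⁻¹ • Q.O := by
  ext z
  rw [ValuationSubring.mem_pointwise_smul_iff_inv_smul_mem, inv_inv, Place.mem_O_iff,
    Place.mem_O_iff, conj_apply]
  rfl

lemma place_eq_of_O_eq {Q₁ Q₂ : Place k K'} (h : Q₁.O = Q₂.O) : Q₁ = Q₂ := by
  apply place_eq_of_forall
  intro z hz
  rw [← Place.mem_O_iff, ← h, Place.mem_O_iff]
  exact hz.le

lemma mem_decomposition_iff (σ : K' ≃ₐ[K] K') (Q : Place k K') :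
    σ ∈ (Q.O).decompositionSubgroup K ↔ conj σ Q = Q := by
  rw [MulAction.mem_stabilizer_iff]
  constructor
  · intro h
    apply place_eq_of_O_eq
    rw [conj_O, inv_smul_eq_iff]
    exact h.symm
  · intro h
    have := congrArg (fun R : Place k K' => R.O) h
    simp only [conj_O] at this
    rw [inv_smul_eq_iff] at this
    exact this.symm

/-- The residue degree is invariant under conjugation. -/
lemma conj_deg (σ : K' ≃ₐ[K] K') (Q : Place k K') : (conj σ Q).deg = Q.deg := by
  have hmem : ∀ z : (conj σ Q).O, σ (z : K') ∈ Q.O := by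
    intro z
    have := z.2
    rw [Place.mem_O_iff] at this ⊢
    exact this
  have hmem' : ∀ z : Q.O, σ.symm (z : K') ∈ (conj σ Q).O := by
    intro z
    have := z.2
    rw [Place.mem_O_iff] at this ⊢
    rw [conj_apply, AlgEquiv.apply_symm_apply]
    exact this
  let f : (conj σ Q).O ≃+* Q.O :=
    { toFun := fun z => ⟨σ z, hmem z⟩
      invFun := fun z => ⟨σ.symm z, hmem' z⟩
      left_inv := fun z => Subtype.ext (σ.symm_apply_apply _)
      right_inv := fun z => Subtype.ext (σ.apply_symm_apply _)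
      map_mul' := fun a b => Subtype.ext (map_mul σ (a : K') (b : K'))
      map_add' := fun a b => Subtype.ext (map_add σ (a : K') (b : K')) }
  refine Algebra.finrank_eq_of_equiv_equiv (RingEquiv.refl k)
    (IsLocalRing.ResidueField.mapEquiv f) ?_
  ext c
  change IsLocalRing.residue _ (algebraMap k Q.O c) =
    IsLocalRing.ResidueField.map (f : (conj σ Q).O →+* Q.O)
      (IsLocalRing.residue _ (algebraMap k (conj σ Q).O c))
  rw [IsLocalRing.ResidueField.map_residue]
  congr 1
  apply Subtype.ext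
  change algebraMap k K' c = σ (algebraMap k K' c)
  rw [IsScalarTower.algebraMap_apply k K K', σ.commutes]

section Galois

variable [FiniteDimensional K K'] [IsGalois K K']

/-- Any two places over the same place are conjugate. -/
theorem exists_conj_eq {Q₁ Q₂ : Place k K'} {P : Place k K} (h₁ : IsOver Q₁ P) (h₂ : IsOver Q₂ P) :
    ∃ σ : K' ≃ₐ[K] K', conj σ Q₁ = Q₂ := by
  obtain ⟨e₁, he₁⟩ := h₁
  obtain ⟨e₂, he₂⟩ := h₂
  have heq : (Q₁.1.comap (algebraMap K K')).IsEquiv (Q₂.1.comap (algebraMap K K')) := by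
    apply Valuation.isEquiv_of_val_le_one
    intro x
    rw [Valuation.comap_apply, Valuation.comap_apply, ow_le_one_iff he₁, ow_le_one_iff he₂]
  obtain ⟨σ, hσ⟩ := Groth.Agent.S11013.Aux.main Q₁ Q₂ heq
  exact ⟨σ, Subtype.ext hσ⟩

/-- number of places above `P` times the order of the decomposition group is the degree -/
theorem card_over_mul_card_decomposition {Q : Place k K'} {P : Place k K} (hQ : IsOver Q P) :
    Nat.card {Q' : Place k K' // IsOver Q' P} * Nat.card ((Q.O).decompositionSubgroup K) =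
      Module.finrank K K' := by
  classical
  rw [← IsGalois.card_aut_eq_finrank K K',
    ← Subgroup.card_mul_index ((Q.O).decompositionSubgroup K), mul_comm]
  congr 1
  rw [ValuationSubring.decompositionSubgroup, MulAction.index_stabilizer,
    ← Nat.card_coe_set_eq]
  refine Nat.card_congr (Equiv.ofBijective
    (fun Q' : {Q' : Place k K' // IsOver Q' P} =>
      (⟨Q'.1.O, by
        obtain ⟨τ, hτ⟩ := exists_conj_eq hQ Q'.2
        refine ⟨τ⁻¹, ?_⟩
        change τ⁻¹ • Q.O = Q'.1.O
        rw [← hτ, conj_O]⟩ : MulAction.orbit (K' ≃ₐ[K] K') Q.O)) ⟨?_, ?_⟩)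
  · intro Q₁ Q₂ h
    have : Q₁.1.O = Q₂.1.O := congrArg Subtype.val h
    exact Subtype.ext (place_eq_of_O_eq this)
  · rintro ⟨A, σ, rfl⟩
    refine ⟨⟨conj σ⁻¹ Q, conj_isOver _ hQ⟩, ?_⟩
    apply Subtype.ext
    change (conj σ⁻¹ Q).O = σ • Q.O
    rw [conj_O, inv_inv]

/-- all places above `P` share `e` and `deg` -/
theorem isOverWith_and_deg_eq {Q Q' : Place k K'} {P : Place k K} {e : ℕ} (he : IsOverWith Q P e)
    (hQ' : IsOver Q' P) : IsOverWith Q' P e ∧ Q'.deg = Q.deg := by
  obtain ⟨σ, rfl⟩ := exists_conj_eq ⟨e, he⟩ hQ'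
  exact ⟨conj_isOverWith σ he, conj_deg σ Q⟩

/-- `|G₀| deg P = e deg Q` -/
theorem card_decomposition_mul_deg (hK : IsFunctionField k K) {Q : Place k K'} {P : Place k K}
    {e : ℕ} (he : IsOverWith Q P e) :
    Nat.card ((Q.O).decompositionSubgroup K) * P.deg = e * Q.deg := by
  classical
  obtain ⟨hfin, hsum⟩ := sum_ramIdx_mul_deg (K' := K') hK P
  have h1 := hsum hfin.toFinset (fun Q' => by rw [Set.Finite.mem_toFinset]; rfl)
  have h2 : ∀ Q' ∈ hfin.toFinset, ramIdx Q' P * Q'.deg = e * Q.deg := by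
    intro Q' hQ'
    rw [Set.Finite.mem_toFinset] at hQ'
    obtain ⟨h3, h4⟩ := isOverWith_and_deg_eq he hQ'
    rw [ramIdx_eq h3, h4]
  rw [Finset.sum_congr rfl h2, Finset.sum_const, smul_eq_mul] at h1
  have h5 := card_over_mul_card_decomposition (k := k) (⟨e, he⟩ : IsOver Q P)
  have h6 : Nat.card {Q' : Place k K' // IsOver Q' P} = hfin.toFinset.card := by
    rw [← Set.ncard_eq_toFinset_card _ hfin]
    exact Nat.card_coe_set_eq _
  rw [h6] at h5
  have hpos : 0 < hfin.toFinset.card := by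
    apply Finset.card_pos.mpr
    exact ⟨Q, by rw [Set.Finite.mem_toFinset]; exact ⟨e, he⟩⟩
  rw [← h5] at h1
  have : hfin.toFinset.card * (e * Q.deg) =
      hfin.toFinset.card * (Nat.card ((Q.O).decompositionSubgroup K) * P.deg) := by
    rw [h1]; ring
  exact (Nat.eq_of_mul_eq_mul_left hpos this).symm

end Galois

end Groth.Agent.Helper9.FFExt
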