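import Mathlib
import Groth.Prelude.Def_W4bk4goldsch23Ext
import Groth.Agent.Lib.Helper9.FFExt.Fund
import Groth.Agent.Lib.Helper9.FFExt.Deg
import Groth.Agent.Lib.Helper9.FFExt.Gal

/-! # Function fields whose constant field need not be algebraically closed in them (helper9)

The fundamental equality and its consequences over a base `K/k` only assumed to be finite over
some `k(x)`. This is what is needed to work over intermediate fields of an extension `K'/K`. -/

namespace Groth.Agent.Helper9.FFExt

open FunFld WithZero
open Groth.Agent.Lib.Helper4.FF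

/-- `K` is a finite extension of some rational function field `k(x)`. -/
def IsFFw (k K : Type*) [Field k] [Field K] [Algebra k K] : Prop :=
  ∃ x : K, Transcendental k x ∧ FiniteDimensional (IntermediateField.adjoin k ({x} : Set K)) K

section Base

variable {k K : Type*} [Field k] [Field K] [Algebra k K]

lemma isFFw_of_isFunctionField (hK : IsFunctionField k K) : IsFFw k K := hK.1

/-- `K` is algebraic over `k(x)` for every transcendental `x`. -/
theorem isAlgebraic_adjoin_w (hK : IsFFw k K) {x : K} (hx : Transcendental k x) :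
    Algebra.IsAlgebraic (IntermediateField.adjoin k ({x} : Set K)) K := by
  obtain ⟨x₀, hx₀, hfin⟩ := hK
  have halg : Algebra.IsAlgebraic (Algebra.adjoin k (Set.range fun _ : PUnit => x₀)) K := by
    rw [Set.range_const, ← IntermediateField.isAlgebraic_adjoin_iff_top]
    exact Algebra.IsAlgebraic.of_finite _ _
  have hb₀ : IsTranscendenceBasis k (fun _ : PUnit => x₀) :=
    isTranscendenceBasis_iff_algebraicIndependent_isAlgebraic.mpr
      ⟨(algebraicIndependent_unique_type_iff (ι := PUnit)).mpr hx₀, halg⟩
  have htr : Algebra.trdeg k K = 1 := by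
    rw [← hb₀.cardinalMk_eq_trdeg]; simp
  have hb : IsTranscendenceBasis k (fun _ : PUnit => x) := by
    apply AlgebraicIndependent.isTranscendenceBasis_of_trdeg_le
    · exact (algebraicIndependent_unique_type_iff (ι := PUnit)).mpr hx
    · rw [htr]; exact Cardinal.one_lt_aleph0
    · rw [htr]; simp
  have := hb.isAlgebraic_field
  rwa [Set.range_const] at this

/-- `K` is finite over `k(x)` for every transcendental `x`. -/
theorem finiteDimensional_adjoin_w (hK : IsFFw k K) {x : K} (hx : Transcendental k x) :
    FiniteDimensional (IntermediateField.adjoin k ({x} : Set K)) K := by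
  have halg := isAlgebraic_adjoin_w hK hx
  obtain ⟨x₀, hx₀, hfin⟩ := hK
  set F := IntermediateField.adjoin k ({x} : Set K) with hF
  set F₀ := IntermediateField.adjoin k ({x₀} : Set K) with hF₀
  let b := Module.finBasis F₀ K
  let S : Set K := insert x₀ (Set.range b)
  have hSfin : S.Finite := (Set.finite_range b).insert x₀
  have : Finite S := hSfin.to_subtype
  have hE : FiniteDimensional F (IntermediateField.adjoin F S) :=
    IntermediateField.finiteDimensional_adjoin (fun y _ => (halg.isAlgebraic y).isIntegral)
  have htop : IntermediateField.adjoin F S = ⊤ := by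
    rw [eq_top_iff]
    intro y _
    have hF₀E : ∀ c : F₀, (c : K) ∈ IntermediateField.adjoin F S := by
      intro c
      have : F₀ ≤ IntermediateField.restrictScalars k (IntermediateField.adjoin F S) := by
        rw [hF₀, IntermediateField.adjoin_le_iff]
        intro z hz
        rw [Set.mem_singleton_iff] at hz
        subst hz
        exact IntermediateField.subset_adjoin F S (Set.mem_insert _ _)
      exact this c.2
    rw [← b.sum_repr y]
    refine sum_mem fun i _ => ?_
    rw [Algebra.smul_def]
    exact mul_mem (hF₀E _)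
      (IntermediateField.subset_adjoin F S (Set.mem_insert_of_mem _ ⟨i, rfl⟩))
  rw [htop] at hE
  exact Module.Finite.equiv (IntermediateField.topEquiv (F := F) (E := K)).toLinearEquiv

/-- For every place there is a function with a pole exactly there (weak base). -/
theorem exists_only_pole_w (hK : IsFFw k K) (P : Place k K) :
    ∃ x : K, Transcendental k x ∧ 1 < P.1 x ∧ ∀ P' : Place k K, P' ≠ P → P'.1 x ≤ 1 := by
  obtain ⟨x₀, hx₀, hfin⟩ := hK
  have hKc : IsFunctionField (kc k K) K := isFunctionField_kc hx₀
  obtain ⟨x, hxt, hxP, hx⟩ := exists_only_pole hKc (up P)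
  refine ⟨x, fun halg => hxt (halg.extendScalars (algebraMap k (kc k K)).injective), hxP,
    fun P' hP' => ?_⟩
  exact hx (up P') fun h => hP' (up_injective h)

/-- places of a weak function field have positive degree -/
theorem deg_pos_w (hK : IsFFw k K) (P : Place k K) : 0 < P.deg := by
  obtain ⟨x₀, hx₀, hfin⟩ := hK
  have hKc : IsFunctionField (kc k K) K := isFunctionField_kc hx₀
  have hfk := finite_kc hx₀
  rw [deg_up P]
  exact Nat.mul_pos Module.finrank_pos (Place.deg_pos hKc (up P))

end Base

section Ext

variable {k K K' : Type*} [Field k] [Field K] [Field K'] [Algebra k K] [Algebra K K']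
  [Algebra k K'] [IsScalarTower k K K'] [FiniteDimensional K K']

variable (K') in
/-- a finite extension of a weak function field is a weak function field -/
theorem isFFw_of_finite (hK : IsFFw k K) : IsFFw k K' := by
  obtain ⟨x, hxt, hfin⟩ := hK
  refine ⟨algebraMap K K' x, ?_, ?_⟩
  · intro halg
    exact hxt ((isAlgebraic_algebraMap_iff (algebraMap K K').injective).mp halg)
  · have hfr := finrank_adjoin_algebraMap (k := k) (K' := K') x
    have hpos : 0 < Module.finrank (IntermediateField.adjoin k ({algebraMap K K' x} : Set K')) K' := by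
      rw [hfr]
      exact Nat.mul_pos Module.finrank_pos Module.finrank_pos
    exact Module.finite_of_finrank_pos hpos

/-- **Fundamental equality** `∑_{Q | P} e(Q|P) deg Q = [K' : K] deg P` over a weak base. -/
theorem sum_ramIdx_mul_deg_w (hK : IsFFw k K) (P : Place k K) :
    {Q : Place k K' | IsOver Q P}.Finite ∧
    ∀ (Qs : Finset (Place k K')), (∀ Q, Q ∈ Qs ↔ IsOver Q P) →
      (∑ Q ∈ Qs, ramIdx Q P * Q.deg) = Module.finrank K K' * P.deg := by
  classical
  obtain ⟨x, hxt, hxP, hxint⟩ := exists_only_pole_w hK P
  have hx0 : x ≠ 0 := by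
    rintro rfl
    exact hxt isAlgebraic_zero
  have hfinK : FiniteDimensional (IntermediateField.adjoin k ({x} : Set K)) K :=
    finiteDimensional_adjoin_w hK hxt
  -- degree formula in `K`
  have h1 := (poles_deg hxt).2 {P} (by
    intro Q
    rw [Finset.mem_singleton]
    constructor
    · rintro rfl; exact hxP
    · intro hQ
      by_contra hne
      exact absurd (hxint Q hne) (not_le.mpr hQ))
  rw [Finset.sum_singleton] at h1
  -- the element upstairs
  set x' : K' := algebraMap K K' x with hx'
  have hxt' : Transcendental k x' := by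
    intro halg
    exact hxt ((isAlgebraic_algebraMap_iff (algebraMap K K').injective).mp halg)
  have hfr := finrank_adjoin_algebraMap (k := k) (K' := K') x
  have hpos : 0 < Module.finrank (IntermediateField.adjoin k ({x'} : Set K')) K' := by
    rw [hx', hfr]
    exact Nat.mul_pos Module.finrank_pos Module.finrank_pos
  have hfinK' : FiniteDimensional (IntermediateField.adjoin k ({x'} : Set K')) K' :=
    Module.finite_of_finrank_pos hpos
  have h2 := poles_deg hxt'
  -- poles upstairs are the places over `P`
  have hiff : ∀ Q : Place k K', IsOver Q P ↔ 1 < Q.1 x' := by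
    intro Q
    constructor
    · rintro ⟨e, he⟩
      exact (ow_one_lt_iff he x).mpr hxP
    · intro hQ
      obtain ⟨P₀, e, he⟩ := exists_below' (K := K) Q
      have : 1 < P₀.1 x := (ow_one_lt_iff he x).mp hQ
      have hP₀ : P₀ = P := by
        by_contra hne
        exact absurd (hxint P₀ hne) (not_le.mpr this)
      subst hP₀
      exact ⟨e, he⟩
  have hset : {Q : Place k K' | IsOver Q P} = {Q : Place k K' | 1 < Q.1 x'} := by
    ext Q; exact hiff Q
  refine ⟨hset ▸ h2.1, fun Qs hQs => ?_⟩
  have h3 := h2.2 Qs (fun Q => (hQs Q).trans (hiff Q))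
  rw [hx', hfr] at h3
  -- rewrite orders upstairs
  have hm : 0 < -P.ord x := by
    have := (Place.ord_neg_iff P hx0).mpr hxP
    omega
  have h4 : ∑ Q ∈ Qs, (-Q.ord (algebraMap K K' x)) * (Q.deg : ℤ) =
      (-P.ord x) * ∑ Q ∈ Qs, ((ramIdx Q P * Q.deg : ℕ) : ℤ) := by
    rw [Finset.mul_sum]
    refine Finset.sum_congr rfl fun Q hQ => ?_
    have hov := isOver_isOverWith ((hQs Q).mp hQ)
    rw [ow_ord_eq hov x]
    push_cast
    ring
  rw [h4] at h3
  have h5 : (-P.ord x) * ∑ Q ∈ Qs, ((ramIdx Q P * Q.deg : ℕ) : ℤ) =
      (-P.ord x) * ((Module.finrank K K' * P.deg : ℕ) : ℤ) := by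
    rw [h3]
    push_cast
    rw [← h1]
    ring
  have h6 := mul_left_cancel₀ hm.ne' h5
  exact_mod_cast h6

/-- each term of the fundamental equality is bounded by the total -/
theorem ramIdx_mul_deg_le_w (hK : IsFFw k K) {Q : Place k K'} {P : Place k K}
    (h : IsOver Q P) : ramIdx Q P * Q.deg ≤ Module.finrank K K' * P.deg := by
  classical
  obtain ⟨hfin, hsum⟩ := sum_ramIdx_mul_deg_w (K' := K') hK P
  rw [← hsum hfin.toFinset (fun Q' => by rw [Set.Finite.mem_toFinset]; rfl)]
  exact Finset.single_le_sum (f := fun Q => ramIdx Q P * Q.deg) (fun _ _ => Nat.zero_le _)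
    ((Set.Finite.mem_toFinset hfin).mpr h)

/-- if `Q` is the only place above `P` then `e(Q|P) deg Q = [K':K] deg P` -/
theorem ramIdx_mul_deg_of_unique (hK : IsFFw k K) {Q : Place k K'} {P : Place k K}
    (h : IsOver Q P) (huniq : ∀ Q' : Place k K', IsOver Q' P → Q' = Q) :
    ramIdx Q P * Q.deg = Module.finrank K K' * P.deg := by
  classical
  obtain ⟨hfin, hsum⟩ := sum_ramIdx_mul_deg_w (K' := K') hK P
  rw [← hsum {Q} (fun Q' => by
    rw [Finset.mem_singleton]
    exact ⟨fun h' => h' ▸ h, huniq Q'⟩), Finset.sum_singleton]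

/-- there is a place above every place -/
theorem exists_over_w (hK : IsFFw k K) (P : Place k K) :
    ∃ Q : Place k K', IsOver Q P := by
  classical
  obtain ⟨hfin, hsum⟩ := sum_ramIdx_mul_deg_w (K' := K') hK P
  have h1 := hsum hfin.toFinset (fun Q' => by rw [Set.Finite.mem_toFinset]; rfl)
  by_contra hno
  push Not at hno
  have : hfin.toFinset = ∅ := by
    ext Q
    simp only [Set.Finite.mem_toFinset, Set.mem_ofPred_eq, Finset.notMem_empty, iff_false]
    exact hno Q
  rw [this, Finset.sum_empty] at h1
  have hp : 0 < Module.finrank K K' * P.deg :=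
    Nat.mul_pos Module.finrank_pos (deg_pos_w hK P)
  omega

/-- `|G₀| deg P = e deg Q` over a weak base -/
theorem card_decomposition_mul_deg_w [IsGalois K K'] (hK : IsFFw k K) {Q : Place k K'}
    {P : Place k K} {e : ℕ} (he : IsOverWith Q P e) :
    Nat.card ((Q.O).decompositionSubgroup K) * P.deg = e * Q.deg := by
  classical
  obtain ⟨hfin, hsum⟩ := sum_ramIdx_mul_deg_w (K' := K') hK P
  have h1 := hsum hfin.toFinset (fun Q' => by rw [Set.Finite.mem_toFinset]; rfl)
  have h2 : ∀ Q' ∈ hfin.toFinset, ramIdx Q' P * Q'.deg = e * Q.deg := by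
    intro Q' hQ'
    rw [Set.Finite.mem_toFinset] at hQ'
    obtain ⟨h3, h4⟩ := isOverWith_and_deg_eq he hQ'
    rw [ramIdx_eq h3, h4]
  rw [Finset.sum_congr rfl h2, Finset.sum_const, smul_eq_mul] at h1
  have h5 := card_over_mul_card_decomposition (k := k) (⟨e, he⟩ : IsOver Q P)
  have h6 : Nat.card {Q' : Place k K' // IsOver Q' P} = hfin.toFinset.card := by
    rw [← Set.ncard_eq_toFinset_card _ hfin]
    exact Nat.card_coe_set_eq _
  rw [h6] at h5
  have hpos : 0 < hfin.toFinset.card := by
    apply Finset.card_pos.mpr
    exact ⟨Q, by rw [Set.Finite.mem_toFinset]; exact ⟨e, he⟩⟩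
  rw [← h5] at h1
  have : hfin.toFinset.card * (e * Q.deg) =
      hfin.toFinset.card * (Nat.card ((Q.O).decompositionSubgroup K) * P.deg) := by
    rw [h1]; ring
  exact (Nat.eq_of_mul_eq_mul_left hpos this).symm

end Ext

end Groth.Agent.Helper9.FFExt
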