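import Mathlib
import Groth.Prelude.Def_W4bk4goldsch23Ext
import Groth.Agent.Lib.Helper9.FFExt.Weak

namespace Groth.Agent.Helper9.FFExt

open FunFld TensorProduct
open scoped IntermediateField.algebraAdjoinAdjoin

section GeoSep

universe u v

/-- a tensor `∑ m_x ⊗ x` over a linearly independent set vanishes only if all `m_x` vanish -/
theorem tmul_eq_zero_of_linearIndepOn {k L K : Type*} [Field k] [AddCommGroup L] [Module k L]
    [AddCommGroup K] [Module k K] (s : Finset K) (hs : LinearIndepOn k id (s : Set K))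
    (m : K → L) (h : ∑ x ∈ s, m x ⊗ₜ[k] x = 0) : ∀ x ∈ s, m x = 0 := by
  classical
  let b := Module.Basis.extend hs
  have hsub := Module.Basis.subset_extend hs
  let l : ↥(hs.extend (Set.subset_univ _)) →₀ L :=
    ∑ x ∈ s.attach, Finsupp.single ⟨x.1, hsub x.2⟩ (m x.1)
  have hl : (l.sum fun i y => y ⊗ₜ[k] b i) = 0 := by
    rw [← h, ← Finset.sum_attach s]
    change (Finsupp.lsum ℕ (fun i => ((TensorProduct.mk k L K).flip (b i)).toAddMonoidHom.toNatLinearMap)) l = _
    rw [map_sum]
    refine Finset.sum_congr rfl fun x _ => ?_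
    rw [Finsupp.lsum_single]
    change m x.1 ⊗ₜ[k] b ⟨x.1, hsub x.2⟩ = _
    rw [Module.Basis.extend_apply_self]
  have hl0 := TensorProduct.sum_tmul_basis_right_eq_zero b l hl
  intro x hx
  have := DFunLike.congr_fun hl0 ⟨x, hsub hx⟩
  rw [Finsupp.zero_apply] at this
  rw [← this]
  simp only [l, Finsupp.coe_finsetSum, Finset.sum_apply]
  rw [Finset.sum_eq_single ⟨x, hx⟩]
  · simp
  · intro y _ hy
    rw [Finsupp.single_apply, if_neg]
    intro heq
    apply hy
    apply Subtype.ext
    exact congrArg (fun z : ↥(hs.extend (Set.subset_univ _)) => (z : K)) heq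
  · intro hn
    exact absurd (Finset.mem_attach _ _) hn

/-- in a geometric extension `p`-th powers of linearly independent elements are linearly
independent -/
theorem linearIndepOn_pow_of_isGeometric {k : Type u} {K : Type v} [Field k] [Field K]
    [Algebra k K] (hg : IsGeometric k K) (p : ℕ) [hp : Fact p.Prime] [CharP k p]
    (s : Finset K) (hs : LinearIndepOn k id (s : Set K)) :
    LinearIndepOn k (fun x : K => x ^ p) (s : Set K) := by
  classical
  rw [LinearIndepOn, Fintype.linearIndependent_iff]
  intro g hg0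
  -- p-th roots
  have hroot : ∀ c : k, ∃ r : AlgebraicClosure k, r ^ p = algebraMap k (AlgebraicClosure k) c :=
    fun c => IsAlgClosed.exists_pow_nat_eq _ hp.out.pos
  choose r hr using hroot
  let gK : K → k := fun x => if hx : x ∈ s then g ⟨x, hx⟩ else 0
  obtain ⟨L, hL⟩ : ∃ L : IntermediateField k (AlgebraicClosure k),
      L = IntermediateField.adjoin k ((fun x : K => r (gK x)) '' (s : Set K)) := ⟨_, rfl⟩
  have hLfin : FiniteDimensional k L := by
    rw [hL]
    exact IntermediateField.finiteDimensional_adjoin (fun x _ => Algebra.IsIntegral.isIntegral x)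
  have hmem : ∀ x ∈ s, r (gK x) ∈ L := by
    intro x hx
    rw [hL]
    exact IntermediateField.subset_adjoin _ _ ⟨x, hx, rfl⟩
  let r' : K → L := fun x => if hx : x ∈ s then ⟨r (gK x), hmem x hx⟩ else 0
  have hF : IsField (L ⊗[k] K) := hg L hLfin
  let _ : Field (L ⊗[k] K) := hF.toField
  have hchar : CharP (L ⊗[k] K) p :=
    charP_of_injective_algebraMap (algebraMap k (L ⊗[k] K)).injective p
  have hz : (∑ x ∈ s, r' x ⊗ₜ[k] x) ^ p = 0 := by
    rw [sum_pow_char]
    have : ∀ x ∈ s, (r' x ⊗ₜ[k] x) ^ p = (1 : L) ⊗ₜ[k] (gK x • x ^ p) := by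
      intro x hx
      rw [Algebra.TensorProduct.tmul_pow]
      have h1 : r' x ^ p = algebraMap k L (gK x) := by
        apply Subtype.ext
        simp only [r', dif_pos hx]
        exact hr (gK x)
      rw [h1, Algebra.algebraMap_eq_smul_one, TensorProduct.smul_tmul]
    rw [Finset.sum_congr rfl this, ← TensorProduct.tmul_sum]
    have h2 : ∑ x ∈ s, gK x • x ^ p = 0 := by
      rw [← hg0, Finset.sum_subtype s (p := (· ∈ (s : Set K))) (fun x => Finset.mem_coe.symm)]
      refine Finset.sum_congr rfl fun x _ => ?_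
      have hx : x.1 ∈ s := Finset.mem_coe.mp x.2
      simp only [gK, dif_pos hx]
    rw [h2, TensorProduct.tmul_zero]
  have hz0 : ∑ x ∈ s, r' x ⊗ₜ[k] x = 0 := pow_eq_zero_iff hp.out.ne_zero |>.mp hz
  have hr0 := tmul_eq_zero_of_linearIndepOn s hs r' hz0
  intro x
  have hx : x.1 ∈ s := Finset.mem_coe.mp x.2
  have h3 := hr0 x.1 hx
  simp only [r', dif_pos hx] at h3
  have h4 : r (gK x.1) = 0 := congrArg Subtype.val h3
  have h5 := hr (gK x.1)
  rw [h4, zero_pow hp.out.ne_zero] at h5
  have h6 : gK x.1 = 0 :=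
    (algebraMap k (AlgebraicClosure k)).injective (h5.symm.trans (map_zero _).symm)
  simpa only [gK, dif_pos hx] using h6

theorem trdeg_eq_one {k : Type*} {K : Type*} [Field k] [Field K] [Algebra k K]
    (hK : IsFFw k K) : Algebra.trdeg k K = 1 := by
  obtain ⟨x₀, hx₀, hfin⟩ := hK
  have halg : Algebra.IsAlgebraic (Algebra.adjoin k (Set.range fun _ : PUnit => x₀)) K := by
    rw [Set.range_const, ← IntermediateField.isAlgebraic_adjoin_iff_top]
    exact Algebra.IsAlgebraic.of_finite _ _
  have hb₀ : IsTranscendenceBasis k (fun _ : PUnit => x₀) :=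
    isTranscendenceBasis_iff_algebraicIndependent_isAlgebraic.mpr
      ⟨(algebraicIndependent_unique_type_iff (ι := PUnit)).mpr hx₀, halg⟩
  rw [← hb₀.cardinalMk_eq_trdeg]; simp

theorem essFiniteType_of_isFFw {k : Type*} {K : Type*} [Field k] [Field K] [Algebra k K]
    (hK : IsFFw k K) : Algebra.EssFiniteType k K := by
  obtain ⟨x₀, hx₀, hfin⟩ := hK
  have h1 : Algebra.FiniteType k (Algebra.adjoin k ({x₀} : Set K)) :=
    (Subalgebra.fg_iff_finiteType _).mp (by
      have := Subalgebra.fg_adjoin_finset (R := k) ({x₀} : Finset K)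
      rwa [Finset.coe_singleton] at this)
  have h2 : Algebra.EssFiniteType (Algebra.adjoin k ({x₀} : Set K))
      (IntermediateField.adjoin k ({x₀} : Set K)) :=
    Algebra.EssFiniteType.of_isLocalization _ (nonZeroDivisors (Algebra.adjoin k ({x₀} : Set K)))
  have h3 : Algebra.EssFiniteType k (IntermediateField.adjoin k ({x₀} : Set K)) :=
    Algebra.EssFiniteType.comp k (Algebra.adjoin k ({x₀} : Set K)) _
  exact Algebra.EssFiniteType.comp k (IntermediateField.adjoin k ({x₀} : Set K)) K

/-- a geometric function field of one variable has a separating variable -/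
theorem exists_separating_of_isGeometric {k : Type u} {K : Type v} [Field k] [Field K]
    [Algebra k K] (hK : IsFFw k K) (hg : IsGeometric k K) :
    ∃ x : K, Transcendental k x ∧
      Algebra.IsSeparable (IntermediateField.adjoin k ({x} : Set K)) K := by
  have hess := essFiniteType_of_isFFw hK
  have htr := trdeg_eq_one hK
  have key : ∃ s : Finset K, IsTranscendenceBasis k ((↑) : s → K) ∧
      Algebra.IsSeparable (IntermediateField.adjoin k (s : Set K)) K := by
    rcases CharP.exists' k with h0 | ⟨p, hp, hpk⟩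
    · exact exists_isTranscendenceBasis_and_isSeparable_of_perfectField k K
    · have : ExpChar k p := .prime hp.out
      exact exists_isTranscendenceBasis_and_isSeparable_of_linearIndepOn_pow_of_essFiniteType p
        hp.out (fun s hs => linearIndepOn_pow_of_isGeometric hg p s hs)
  obtain ⟨s, hs, hsep⟩ := key
  have hcard : s.card = 1 := by
    have h1 := hs.cardinalMk_eq_trdeg
    rw [htr] at h1
    have h2 : Cardinal.mk s = s.card := by simp
    rw [h2] at h1
    exact_mod_cast h1
  obtain ⟨x, rfl⟩ := Finset.card_eq_one.mp hcard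
  refine ⟨x, ?_, ?_⟩
  · exact hs.1.transcendental ⟨x, Finset.mem_singleton_self x⟩
  · rwa [Finset.coe_singleton] at hsep

end GeoSep

end Groth.Agent.Helper9.FFExt
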