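import Mathlib

namespace Groth.Agent.Helper9.PlaneKer

open Polynomial IsLocalization
open scoped nonZeroDivisors

/-- **Gauss kernel lemma**: a ring hom `R[X] → L` into a domain which is injective on the UFD `R` of
coefficients and not injective has a principal kernel generated by an irreducible primitive
polynomial. -/
theorem ker_eq_span_irreducible {R L : Type*} [CommRing R] [IsDomain R]
    [UniqueFactorizationMonoid R] [CommRing L] [IsDomain L] (φ : R[X] →+* L)
    (hinj : Function.Injective (φ.comp C)) (hker : RingHom.ker φ ≠ ⊥) :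
    ∃ p : R[X], Irreducible p ∧ p.IsPrimitive ∧ RingHom.ker φ = Ideal.span {p} := by
  classical
  let F := FractionRing R
  let L' := FractionRing L
  let ι : R →+* L' := (algebraMap L L').comp (φ.comp C)
  have hι : Function.Injective ι := (IsFractionRing.injective L L').comp hinj
  let lift : F →+* L' := IsFractionRing.lift hι
  let _ : Algebra F L' := lift.toAlgebra
  have hlift : ∀ r : R, algebraMap F L' (algebraMap R F r) = algebraMap L L' (φ (C r)) := by
    intro r
    exact IsFractionRing.lift_algebraMap hι r
  set a : L' := algebraMap L L' (φ X) with ha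
  have hev : ∀ G : R[X], algebraMap L L' (φ G) = aeval a (G.map (algebraMap R F)) := by
    intro G
    induction G using Polynomial.induction_on' with
    | add p q hp hq => rw [map_add, map_add, hp, hq, Polynomial.map_add, map_add]
    | monomial n r =>
      rw [← C_mul_X_pow_eq_monomial, map_mul, map_mul, map_pow, map_pow, Polynomial.map_mul,
        Polynomial.map_pow, map_C, map_X, map_mul, map_pow, aeval_X, aeval_C, hlift]
  have hmem : ∀ G : R[X], G ∈ RingHom.ker φ ↔ aeval a (G.map (algebraMap R F)) = 0 := by
    intro G
    rw [RingHom.mem_ker, ← hev]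
    constructor
    · intro h; rw [h, map_zero]
    · intro h
      exact (IsFractionRing.injective L L') (by rw [h, map_zero])
  obtain ⟨G₀, hG₀, hG₀0⟩ := Submodule.exists_mem_ne_zero_of_ne_bot hker
  have hFinj : Function.Injective (algebraMap R F) := IsFractionRing.injective R F
  have halg : IsAlgebraic F a :=
    ⟨G₀.map (algebraMap R F), (Polynomial.map_ne_zero_iff hFinj).mpr hG₀0, (hmem G₀).mp hG₀⟩
  have hint : IsIntegral F a := halg.isIntegral
  set q := minpoly F a with hq
  have hq0 : q ≠ 0 := minpoly.ne_zero hint
  have hqirr : Irreducible q := minpoly.irreducible hint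
  have := Classical.arbitrary (NormalizedGCDMonoid R)
  set N := integerNormalization R⁰ q with hN
  obtain ⟨b, hb0, hb⟩ := integerNormalization_spec R⁰ q
  have hb0' : b ≠ 0 := nonZeroDivisors.ne_zero hb0
  have hN0 : N ≠ 0 := by
    intro h
    exact hq0 ((IsFractionRing.integerNormalization_eq_zero_iff (A := R) (K := F)).mp h)
  set p := N.primPart with hp
  have hpprim : p.IsPrimitive := N.isPrimitive_primPart
  have hNp : N = C N.content * p := N.eq_C_content_mul_primPart
  have hc0 : N.content ≠ 0 := by
    rw [Ne, content_eq_zero_iff]; exact hN0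
  -- `p.map` is associated to `q`
  have hmapN : N.map (algebraMap R F) = C (algebraMap R F b) * q := by
    rw [hb, Algebra.smul_def, Polynomial.algebraMap_apply]
  have hpq : p.map (algebraMap R F) = C ((algebraMap R F N.content)⁻¹ * algebraMap R F b) * q := by
    have h1 : N.map (algebraMap R F) = C (algebraMap R F N.content) * p.map (algebraMap R F) := by
      conv_lhs => rw [hNp]
      rw [Polynomial.map_mul, map_C]
    have hc0' : algebraMap R F N.content ≠ 0 := by
      intro h; exact hc0 (hFinj (by rw [h, map_zero]))
    rw [map_mul, mul_assoc, ← hmapN, h1, ← mul_assoc, ← map_mul, inv_mul_cancel₀ hc0', map_one,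
      one_mul]
  have hu : IsUnit (C ((algebraMap R F N.content)⁻¹ * algebraMap R F b) : F[X]) := by
    apply Polynomial.isUnit_C.mpr
    apply IsUnit.mk0
    apply mul_ne_zero
    · apply inv_ne_zero
      intro h; exact hc0 (hFinj (by rw [h, map_zero]))
    · intro h; exact hb0' (hFinj (by rw [h, map_zero]))
  have hassoc : Associated q (p.map (algebraMap R F)) := by
    rw [hpq]
    exact (associated_isUnit_mul_left_iff hu).mpr (Associated.refl q) |>.symm
  have hpirr : Irreducible p := by
    rw [hpprim.irreducible_iff_irreducible_map_fraction_map (K := F)]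
    exact hassoc.irreducible hqirr
  refine ⟨p, hpirr, hpprim, ?_⟩
  ext G
  rw [hmem, Ideal.mem_span_singleton]
  constructor
  · intro h
    apply hpprim.dvd_of_fraction_map_dvd_fraction_map (K := F)
    exact hassoc.symm.dvd.trans (minpoly.dvd F a h)
  · rintro ⟨H, rfl⟩
    rw [Polynomial.map_mul, map_mul]
    have : aeval a (p.map (algebraMap R F)) = 0 := by
      obtain ⟨r, hr⟩ := hassoc.dvd
      rw [hr, map_mul, minpoly.aeval, zero_mul]
    rw [this, zero_mul]

/-- kernel of an evaluation of multivariate polynomials, one variable being algebraic over the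
others which are algebraically independent -/
theorem ker_aeval_eq_span {k A σ τ : Type*} [Field k] [CommRing A] [IsDomain A] [Algebra k A]
    (e : τ ≃ Option σ) (g : τ → A)
    (hind : AlgebraicIndependent k (fun s : σ => g (e.symm (some s))))
    (hker : RingHom.ker (MvPolynomial.aeval g : MvPolynomial τ k →ₐ[k] A) ≠ ⊥) :
    ∃ p : MvPolynomial τ k, Irreducible p ∧
      RingHom.ker (MvPolynomial.aeval g : MvPolynomial τ k →ₐ[k] A) = Ideal.span {p} := by
  classical
  let E : MvPolynomial τ k ≃ₐ[k] (MvPolynomial σ k)[X] :=
    (MvPolynomial.renameEquiv k e).trans (MvPolynomial.optionEquivLeft k σ)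
  let φ : (MvPolynomial σ k)[X] →+* A :=
    ((MvPolynomial.aeval g : MvPolynomial τ k →ₐ[k] A).comp E.symm.toAlgHom).toRingHom
  have hφ : ∀ G : MvPolynomial τ k, φ (E G) = MvPolynomial.aeval g G := by
    intro G
    change MvPolynomial.aeval g (E.symm (E G)) = _
    rw [AlgEquiv.symm_apply_apply]
  have hφC : ∀ r : MvPolynomial σ k, φ (C r) =
      MvPolynomial.aeval (fun s : σ => g (e.symm (some s))) r := by
    intro r
    change MvPolynomial.aeval g (E.symm (C r)) = _
    have : E.symm (C r) = MvPolynomial.rename e.symm (MvPolynomial.rename some r) := by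
      change (MvPolynomial.renameEquiv k e).symm ((MvPolynomial.optionEquivLeft k σ).symm (C r)) = _
      rw [MvPolynomial.optionEquivLeft_symm_apply, Polynomial.aevalTower_C]
      rfl
    rw [this, MvPolynomial.rename_rename, MvPolynomial.aeval_rename]
    rfl
  have hinj : Function.Injective (φ.comp C) := by
    intro r s hrs
    apply hind
    change φ (C r) = φ (C s) at hrs
    rw [hφC, hφC] at hrs
    exact hrs
  have hker' : RingHom.ker φ ≠ ⊥ := by
    obtain ⟨G, hG, hG0⟩ := Submodule.exists_mem_ne_zero_of_ne_bot hker
    intro h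
    have h1 : E G ∈ RingHom.ker φ := by
      rw [RingHom.mem_ker, hφ]
      exact hG
    rw [h, Ideal.mem_bot] at h1
    exact hG0 (by simpa using h1)
  obtain ⟨P, hPirr, -, hP⟩ := ker_eq_span_irreducible φ hinj hker'
  refine ⟨E.symm P, ?_, ?_⟩
  · exact (MulEquiv.irreducible_iff E.symm.toMulEquiv).mpr hPirr
  · ext G
    rw [RingHom.mem_ker, ← hφ, ← RingHom.mem_ker, hP, Ideal.mem_span_singleton,
      Ideal.mem_span_singleton]
    constructor
    · rintro ⟨H, hH⟩
      refine ⟨E.symm H, ?_⟩
      rw [← map_mul, ← hH, AlgEquiv.symm_apply_apply]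
    · rintro ⟨H, rfl⟩
      refine ⟨E H, ?_⟩
      rw [map_mul, AlgEquiv.apply_symm_apply]

end Groth.Agent.Helper9.PlaneKer
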