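import Mathlib
import Groth.Prelude.Def_LocRes

namespace Groth.Agent.Helper9.FFExt

open LaurentSeries HahnSeries WithZero

section LR1

variable {F : Type*} [Field F]

theorem val_eq_exp_iff (f : F⸨X⸩) (D : ℤ) :
    Valued.v f = exp (-D) ↔ (∀ n < D, f.coeff n = 0) ∧ f.coeff D ≠ 0 := by
  constructor
  · intro h
    refine ⟨(LaurentSeries.valuation_le_iff_coeff_lt_eq_zero F).mp h.le, ?_⟩
    intro h0
    have h1 : Valued.v f ≤ exp (-(D + 1)) := by
      rw [LaurentSeries.valuation_le_iff_coeff_lt_eq_zero]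
      intro n hn
      rcases (Int.lt_add_one_iff.mp hn).lt_or_eq with h2 | h2
      · exact (LaurentSeries.valuation_le_iff_coeff_lt_eq_zero F).mp h.le n h2
      · rw [h2]; exact h0
    rw [h, exp_le_exp] at h1
    omega
  · rintro ⟨h1, h2⟩
    have hle : Valued.v f ≤ exp (-D) := (LaurentSeries.valuation_le_iff_coeff_lt_eq_zero F).mpr h1
    have hne : Valued.v f ≠ 0 := by
      intro h0
      rw [Valuation.zero_iff] at h0
      rw [h0] at h2
      exact h2 rfl
    obtain ⟨m, hm⟩ : ∃ m : ℤ, Valued.v f = exp m := ⟨_, (exp_log hne).symm⟩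
    rw [hm] at hle ⊢
    rw [exp_le_exp] at hle
    rcases hle.lt_or_eq with h3 | h3
    · exfalso
      apply h2
      have h4 : Valued.v f ≤ exp (-(D + 1)) := by
        rw [hm, exp_le_exp]; omega
      exact (LaurentSeries.valuation_le_iff_coeff_lt_eq_zero F).mp h4 D (by omega)
    · rw [h3]

end LR1

section LR2

variable {k : Type*} {K : Type*} {F : Type*} [Field k] [Field K] [Field F]
  [Algebra k K] [Algebra k F]

/-- a relation `dx' = u dx` is respected by every expansion -/
theorem D_exp_rel (φ : K →ₐ[k] F⸨X⸩) {x x' u : K}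
    (h : KaehlerDifferential.D k K x' = u • KaehlerDifferential.D k K x) :
    LocRes.D F (φ x') = φ u * LocRes.D F (φ x) := by
  let _ := φ.toRingHom.toAlgebra
  have _ : IsScalarTower k K F⸨X⸩ := LocRes.isScalarTower_exp φ
  have h1 := congrArg ((LocRes.dExp φ).liftKaehlerDifferential) h
  rw [map_smul, Derivation.liftKaehlerDifferential_comp_D,
    Derivation.liftKaehlerDifferential_comp_D] at h1
  exact h1

theorem vDiff_one (φ : K →ₐ[k] F⸨X⸩) (x : K) :
    LocRes.vDiff φ 1 x = Valued.v (LocRes.D F (φ x)) := by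
  unfold LocRes.vDiff
  rw [map_one, one_mul]

theorem D_ne_zero_of_vDiff (φ : K →ₐ[k] F⸨X⸩) {x : K} (hx : LocRes.vDiff φ 1 x ≠ 0) :
    KaehlerDifferential.D k K x ≠ 0 := by
  intro h0
  have h1 : KaehlerDifferential.D k K x = (0 : K) • KaehlerDifferential.D k K x := by
    rw [zero_smul]; exact h0
  have h2 := D_exp_rel φ h1
  rw [map_zero, zero_mul] at h2
  rw [vDiff_one, h2, map_zero] at hx
  exact hx rfl

theorem ordDiff_rel (φ : K →ₐ[k] F⸨X⸩) {x x' u : K}
    (h : KaehlerDifferential.D k K x' = u • KaehlerDifferential.D k K x)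
    (hx' : LocRes.vDiff φ 1 x' ≠ 0) :
    LocRes.ordDiff φ 1 x' = -log (Valued.v (φ u)) + LocRes.ordDiff φ 1 x := by
  unfold LocRes.ordDiff
  rw [vDiff_one] at hx' ⊢
  rw [vDiff_one, D_exp_rel φ h, map_mul] at *
  have h1 : Valued.v (φ u) ≠ 0 := left_ne_zero_of_mul hx'
  have h2 : Valued.v (LocRes.D F (φ x)) ≠ 0 := right_ne_zero_of_mul hx'
  rw [log_mul h1 h2]
  ring

end LR2

end Groth.Agent.Helper9.FFExt
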