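import Mathlib
import Groth.Prelude.Def_W4bk4goldsch23Ext
import Groth.Prelude.Def_LocRes
import Groth.Agent.Lib.Helper4.FF.LLS
import Groth.Agent.Lib.Helper9.FFExt.LocRes1

/-! # Laurent expansions at rational places (helper9) -/

namespace Groth.Agent.Helper9.FFExt

open FunFld WithZero
open Groth.Agent.Lib.Helper4.FF

section Exp1

variable {k K : Type*} [Field k] [Field K] [Algebra k K]

/-- data for expanding at a rational place: a uniformizer and the residue constants -/
structure RatData (P : Place k K) where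
  t : K
  ht : P.1 t = exp (-1 : ℤ)
  hres : ∀ z : K, P.1 z ≤ 1 → ∃ c : k, P.1 (z - algebraMap k K c) < 1

variable {P : Place k K} (R : RatData P)

namespace RatData

/-- the residue constant of an integral element -/
noncomputable def rho (z : K) : k := by
  classical
  exact if h : P.1 z ≤ 1 then (R.hres z h).choose else 0

theorem rho_spec {z : K} (h : P.1 z ≤ 1) : P.1 (z - algebraMap k K (R.rho z)) < 1 := by
  unfold rho
  rw [dif_pos h]
  exact (R.hres z h).choose_spec

theorem rho_unique {z : K} {c : k} (hc : P.1 (z - algebraMap k K c) < 1) (h : P.1 z ≤ 1) :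
    R.rho z = c := by
  by_contra hne
  have h1 := R.rho_spec h
  have h3 : P.1 (algebraMap k K (R.rho z - c)) < 1 := by
    have : algebraMap k K (R.rho z - c) = (z - algebraMap k K c) - (z - algebraMap k K (R.rho z)) := by
      rw [map_sub]; ring
    rw [this]
    exact lt_of_le_of_lt (Valuation.map_sub _ _ _) (max_lt hc h1)
  rw [Place.val_k P (sub_ne_zero.mpr hne)] at h3
  exact lt_irrefl _ h3

theorem rho_algebraMap (c : k) : R.rho (algebraMap k K c) = c :=
  R.rho_unique (by rw [sub_self, map_zero]; exact zero_lt_one) (Place.val_k_le P c)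

theorem rho_of_lt {z : K} (h : P.1 z < 1) : R.rho z = 0 :=
  R.rho_unique (by rw [map_zero, sub_zero]; exact h) h.le

theorem rho_add {z w : K} (hz : P.1 z ≤ 1) (hw : P.1 w ≤ 1) :
    R.rho (z + w) = R.rho z + R.rho w := by
  apply R.rho_unique _ ((P.1.map_add z w).trans (max_le hz hw))
  have : z + w - algebraMap k K (R.rho z + R.rho w) =
      (z - algebraMap k K (R.rho z)) + (w - algebraMap k K (R.rho w)) := by
    rw [map_add]; ring
  rw [this]
  exact lt_of_le_of_lt (P.1.map_add _ _) (max_lt (R.rho_spec hz) (R.rho_spec hw))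

theorem rho_mul {z w : K} (hz : P.1 z ≤ 1) (hw : P.1 w ≤ 1) :
    R.rho (z * w) = R.rho z * R.rho w := by
  apply R.rho_unique _ (by rw [map_mul]; exact mul_le_one' hz hw)
  have : z * w - algebraMap k K (R.rho z * R.rho w) =
      (z - algebraMap k K (R.rho z)) * w + algebraMap k K (R.rho z) * (w - algebraMap k K (R.rho w)) := by
    rw [map_mul]; ring
  rw [this]
  refine lt_of_le_of_lt (P.1.map_add _ _) (max_lt ?_ ?_)
  · rw [map_mul]
    calc P.1 (z - algebraMap k K (R.rho z)) * P.1 w ≤ P.1 (z - algebraMap k K (R.rho z)) * 1 := by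
          gcongr
      _ < 1 := by rw [mul_one]; exact R.rho_spec hz
  · rw [map_mul]
    calc P.1 (algebraMap k K (R.rho z)) * P.1 (w - algebraMap k K (R.rho w))
        ≤ 1 * P.1 (w - algebraMap k K (R.rho w)) := by
          gcongr
          exact Place.val_k_le P _
      _ < 1 := by rw [one_mul]; exact R.rho_spec hw

theorem rho_ne_zero {z : K} (h : P.1 z = 1) : R.rho z ≠ 0 := by
  intro h0
  have := R.rho_spec h.le
  rw [h0, map_zero, sub_zero, h] at this
  exact lt_irrefl _ this

/-- the shift `(z - ρ z)/t` -/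
noncomputable def shift (z : K) : K := (z - algebraMap k K (R.rho z)) / R.t

theorem t_ne_zero : R.t ≠ 0 := by
  rw [← Valuation.ne_zero_iff P.1, R.ht]; exact exp_ne_zero

theorem shift_le {z : K} (h : P.1 z ≤ 1) : P.1 (R.shift z) ≤ 1 := by
  unfold shift
  rw [map_div₀, R.ht]
  have := R.rho_spec h
  rw [lt_one_iff_le_exp_neg_one] at this
  exact div_le_one_of_le₀ this zero_le

theorem eq_rho_add_shift (z : K) : z = algebraMap k K (R.rho z) + R.t * R.shift z := by
  unfold shift
  have := R.t_ne_zero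
  field_simp
  ring

/-- the coefficients of the expansion of an integral element -/
noncomputable def coeffs (z : K) (n : ℕ) : k := R.rho (R.shift^[n] z)

theorem iterate_le {z : K} (h : P.1 z ≤ 1) (n : ℕ) : P.1 (R.shift^[n] z) ≤ 1 := by
  induction n generalizing z with
  | zero => exact h
  | succ n ih =>
    rw [Function.iterate_succ_apply]
    exact ih (R.shift_le h)

theorem coeffs_succ (z : K) (n : ℕ) : R.coeffs z (n + 1) = R.coeffs (R.shift z) n := by
  unfold coeffs
  rw [Function.iterate_succ_apply]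

theorem trunc_eq (z : K) (N : ℕ) :
    z = ∑ n ∈ Finset.range N, algebraMap k K (R.coeffs z n) * R.t ^ n + R.t ^ N * R.shift^[N] z := by
  induction N generalizing z with
  | zero => simp
  | succ N ih =>
    rw [Finset.sum_range_succ', Function.iterate_succ_apply]
    conv_lhs => rw [R.eq_rho_add_shift z, ih (R.shift z)]
    simp only [coeffs_succ, pow_succ, pow_zero, mul_one]
    have : R.coeffs z 0 = R.rho z := rfl
    rw [this, mul_add, Finset.mul_sum]
    have h2 : ∀ n ∈ Finset.range N, R.t * (algebraMap k K (R.coeffs (R.shift z) n) * R.t ^ n) =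
        algebraMap k K (R.coeffs (R.shift z) n) * (R.t ^ n * R.t) := fun n _ => by ring
    rw [Finset.sum_congr rfl h2]
    ring

theorem exp_neg_one_pow' (N : ℕ) : (exp (-1 : ℤ) : ℤᵐ⁰) ^ N = exp (-(N : ℤ)) := by
  rw [← exp_nsmul]; simp

theorem trunc_le {z : K} (h : P.1 z ≤ 1) (N : ℕ) :
    P.1 (z - ∑ n ∈ Finset.range N, algebraMap k K (R.coeffs z n) * R.t ^ n) ≤ exp (-(N : ℤ)) := by
  have h1 := R.trunc_eq z N
  have h2 : z - ∑ n ∈ Finset.range N, algebraMap k K (R.coeffs z n) * R.t ^ n =
      R.t ^ N * R.shift^[N] z := sub_eq_of_eq_add' h1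
  rw [h2, map_mul, map_pow, R.ht, exp_neg_one_pow']
  calc exp (-(N : ℤ)) * P.1 (R.shift^[N] z) ≤ exp (-(N : ℤ)) * 1 := by
        gcongr
        exact R.iterate_le h N
    _ = exp (-(N : ℤ)) := mul_one _

/-- the truncated sum attached to a coefficient sequence -/
noncomputable def tsum (f : ℕ → k) (N : ℕ) : K := ∑ n ∈ Finset.range N, algebraMap k K (f n) * R.t ^ n

theorem tsum_le (f : ℕ → k) (N : ℕ) : P.1 (R.tsum f N) ≤ 1 := by
  unfold tsum
  apply Valuation.map_sum_le
  intro n _
  rw [map_mul, map_pow, R.ht]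
  calc P.1 (algebraMap k K (f n)) * exp (-1 : ℤ) ^ n ≤ 1 * 1 := by
        gcongr
        · exact Place.val_k_le P _
        · rw [exp_neg_one_pow', ← exp_zero, exp_le_exp]; omega
    _ = 1 := mul_one _

theorem coeffs_unique {z : K} (f : ℕ → k)
    (hf : ∀ N : ℕ, P.1 (z - R.tsum f N) ≤ exp (-(N : ℤ))) (n : ℕ) : f n = R.coeffs z n := by
  have hz : P.1 z ≤ 1 := by
    have := hf 0
    simpa [tsum] using this
  induction n using Nat.strong_induction_on with
  | _ n ih =>
    by_contra hne
    have h1 := hf (n + 1)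
    have h2 := R.trunc_le hz (n + 1)
    have h3 : R.tsum f (n + 1) - R.tsum (R.coeffs z) (n + 1) =
        algebraMap k K (f n - R.coeffs z n) * R.t ^ n := by
      unfold tsum
      rw [Finset.sum_range_succ, Finset.sum_range_succ,
        Finset.sum_congr rfl (fun m hm => by rw [ih m (Finset.mem_range.mp hm)]), map_sub]
      ring
    have h4 : P.1 (R.tsum f (n + 1) - R.tsum (R.coeffs z) (n + 1)) ≤ exp (-((n + 1 : ℕ) : ℤ)) := by
      have : R.tsum f (n + 1) - R.tsum (R.coeffs z) (n + 1) =
          (z - R.tsum (R.coeffs z) (n + 1)) - (z - R.tsum f (n + 1)) := by ring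
      rw [this]
      exact (Valuation.map_sub _ _ _).trans (max_le h2 h1)
    rw [h3, map_mul, map_pow, R.ht, exp_neg_one_pow', Place.val_k P (sub_ne_zero.mpr hne), one_mul,
      exp_le_exp] at h4
    push_cast at h4
    omega

/-- the power series expansion of an integral element -/
noncomputable def ps (z : K) : PowerSeries k := PowerSeries.mk (R.coeffs z)

theorem aeval_trunc (F : PowerSeries k) (N : ℕ) :
    Polynomial.aeval R.t (PowerSeries.trunc N F) = R.tsum (fun n => PowerSeries.coeff n F) N := by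
  rw [Polynomial.aeval_def, PowerSeries.eval₂_trunc_eq_sum_range]
  rfl

theorem ps_unique {z : K} (F : PowerSeries k)
    (hF : ∀ N : ℕ, P.1 (z - Polynomial.aeval R.t (PowerSeries.trunc N F)) ≤ exp (-(N : ℤ))) :
    R.ps z = F := by
  ext n
  unfold ps
  rw [PowerSeries.coeff_mk]
  symm
  apply R.coeffs_unique (fun n => PowerSeries.coeff n F)
  intro N
  rw [← aeval_trunc]
  exact hF N

theorem ps_spec {z : K} (h : P.1 z ≤ 1) (N : ℕ) :
    P.1 (z - Polynomial.aeval R.t (PowerSeries.trunc N (R.ps z))) ≤ exp (-(N : ℤ)) := by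
  rw [aeval_trunc]
  have : (fun n => PowerSeries.coeff n (R.ps z)) = R.coeffs z := by
    funext n
    unfold ps
    rw [PowerSeries.coeff_mk]
  rw [this]
  exact R.trunc_le h N

theorem aeval_le (p : Polynomial k) : P.1 (Polynomial.aeval R.t p) ≤ 1 :=
  val_aeval_le_one P.1 P.2.1 (by rw [R.ht, ← exp_zero, exp_le_exp]; norm_num) p

/-- dropping the terms of degree `≥ N` changes the value by something in `t^N O` -/
theorem aeval_sub_trunc_le (p : Polynomial k) (N : ℕ) :
    P.1 (Polynomial.aeval R.t p - Polynomial.aeval R.t (PowerSeries.trunc N (p : PowerSeries k)))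
      ≤ exp (-(N : ℤ)) := by
  obtain ⟨M, hM1, hM2⟩ : ∃ M, p.natDegree < M ∧ N ≤ M :=
    ⟨max (p.natDegree + 1) N, by omega, le_max_right _ _⟩
  rw [Polynomial.aeval_eq_sum_range' hM1, aeval_trunc]
  unfold tsum
  simp only [Polynomial.coeff_coe, Algebra.smul_def]
  rw [Finset.range_eq_Ico, ← Finset.sum_Ico_consecutive _ (Nat.zero_le N) hM2, ← Finset.range_eq_Ico,
    add_sub_cancel_left]
  apply Valuation.map_sum_le
  intro n hn
  rw [map_mul, map_pow, R.ht, exp_neg_one_pow']
  have hn' := (Finset.mem_Ico.mp hn).1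
  calc P.1 (algebraMap k K (p.coeff n)) * exp (-(n : ℤ)) ≤ 1 * exp (-(N : ℤ)) :=
        mul_le_mul' (Place.val_k_le P _) (exp_le_exp.mpr (by omega))
    _ = exp (-(N : ℤ)) := one_mul _

theorem ps_add {z w : K} (hz : P.1 z ≤ 1) (hw : P.1 w ≤ 1) : R.ps (z + w) = R.ps z + R.ps w := by
  apply R.ps_unique
  intro N
  rw [map_add, map_add]
  have : z + w - (Polynomial.aeval R.t (PowerSeries.trunc N (R.ps z)) +
      Polynomial.aeval R.t (PowerSeries.trunc N (R.ps w))) =
      (z - Polynomial.aeval R.t (PowerSeries.trunc N (R.ps z))) +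
      (w - Polynomial.aeval R.t (PowerSeries.trunc N (R.ps w))) := by ring
  rw [this]
  exact (P.1.map_add _ _).trans (max_le (R.ps_spec hz N) (R.ps_spec hw N))

theorem ps_mul {z w : K} (hz : P.1 z ≤ 1) (hw : P.1 w ≤ 1) : R.ps (z * w) = R.ps z * R.ps w := by
  apply R.ps_unique
  intro N
  rw [← PowerSeries.trunc_trunc_mul_trunc, ← Polynomial.coe_mul]
  obtain ⟨pz, hpz⟩ : ∃ p, p = PowerSeries.trunc N (R.ps z) := ⟨_, rfl⟩
  obtain ⟨pw, hpw⟩ : ∃ p, p = PowerSeries.trunc N (R.ps w) := ⟨_, rfl⟩
  rw [← hpz, ← hpw]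
  have h1 : z * w - Polynomial.aeval R.t (PowerSeries.trunc N ((pz * pw : Polynomial k) : PowerSeries k)) =
      (z - Polynomial.aeval R.t pz) * w + Polynomial.aeval R.t pz * (w - Polynomial.aeval R.t pw) +
      (Polynomial.aeval R.t (pz * pw) -
        Polynomial.aeval R.t (PowerSeries.trunc N ((pz * pw : Polynomial k) : PowerSeries k))) := by
    rw [map_mul]; ring
  rw [h1]
  refine (P.1.map_add _ _).trans (max_le ((P.1.map_add _ _).trans (max_le ?_ ?_)) ?_)
  · rw [map_mul, hpz]
    calc P.1 (z - Polynomial.aeval R.t (PowerSeries.trunc N (R.ps z))) * P.1 w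
        ≤ exp (-(N : ℤ)) * 1 := by
          gcongr
          exact R.ps_spec hz N
      _ = exp (-(N : ℤ)) := mul_one _
  · rw [map_mul, hpw]
    calc P.1 (Polynomial.aeval R.t pz) * P.1 (w - Polynomial.aeval R.t (PowerSeries.trunc N (R.ps w)))
        ≤ 1 * exp (-(N : ℤ)) := by
          gcongr
          · exact R.aeval_le pz
          · exact R.ps_spec hw N
      _ = exp (-(N : ℤ)) := one_mul _
  · exact R.aeval_sub_trunc_le _ N

theorem ps_algebraMap (c : k) : R.ps (algebraMap k K c) = PowerSeries.C c := by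
  apply R.ps_unique
  intro N
  rcases N with _ | N
  · simp
    exact Place.val_k_le P c
  · rw [PowerSeries.trunc_C, Polynomial.aeval_C, sub_self, map_zero]
    exact zero_le

theorem ps_t : R.ps R.t = PowerSeries.X := by
  apply R.ps_unique
  intro N
  rcases N with _ | _ | N
  · simp
    rw [R.ht, ← exp_zero, exp_le_exp]; norm_num
  · simp
    rw [R.ht, ← exp_neg]
  · rw [PowerSeries.trunc_X, Polynomial.aeval_X, sub_self, map_zero]
    exact zero_le

theorem coeffs_order {z : K} (m : ℕ) (h : P.1 z = exp (-(m : ℤ))) :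
    (∀ n < m, R.coeffs z n = 0) ∧ R.coeffs z m ≠ 0 := by
  induction m generalizing z with
  | zero =>
    refine ⟨fun n hn => absurd hn (Nat.not_lt_zero n), ?_⟩
    exact R.rho_ne_zero (by simpa using h)
  | succ m ih =>
    have hlt : P.1 z < 1 := by
      rw [h, ← exp_zero, exp_lt_exp]; push_cast; omega
    have hrho : R.rho z = 0 := R.rho_of_lt hlt
    have hshift : P.1 (R.shift z) = exp (-(m : ℤ)) := by
      unfold shift
      rw [hrho, map_zero, sub_zero, map_div₀, h, R.ht, ← exp_sub]
      congr 1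
      push_cast
      ring
    obtain ⟨h1, h2⟩ := ih hshift
    refine ⟨fun n hn => ?_, ?_⟩
    · rcases n with _ | n
      · exact hrho
      · rw [coeffs_succ]
        exact h1 n (by omega)
    · rw [coeffs_succ]
      exact h2

theorem exists_nat_of_le {z : K} (hz0 : z ≠ 0) (h : P.1 z ≤ 1) :
    ∃ m : ℕ, P.1 z = exp (-(m : ℤ)) := by
  have hc0 : P.1 z ≠ 0 := (Valuation.ne_zero_iff _).mpr hz0
  obtain ⟨m, hm⟩ : ∃ m : ℤ, P.1 z = exp m := ⟨_, (exp_log hc0).symm⟩
  rw [hm, ← exp_zero, exp_le_exp] at h
  refine ⟨(-m).toNat, ?_⟩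
  rw [hm]; congr 1; omega

theorem val_ps {z : K} (hz0 : z ≠ 0) (h : P.1 z ≤ 1) :
    Valued.v ((R.ps z : PowerSeries k) : LaurentSeries k) = P.1 z := by
  obtain ⟨m, hm⟩ := exists_nat_of_le hz0 h
  obtain ⟨h1, h2⟩ := R.coeffs_order m hm
  rw [hm, val_eq_exp_iff]
  refine ⟨fun n hn => ?_, ?_⟩
  · rw [PowerSeries.coeff_coe]
    split_ifs with hneg
    · rfl
    · unfold ps
      rw [PowerSeries.coeff_mk]
      exact h1 _ (by omega)
  · rw [PowerSeries.coeff_coe]
    have : ¬ ((m : ℤ) < 0) := by omega
    rw [if_neg this]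
    unfold ps
    rw [PowerSeries.coeff_mk, Int.natAbs_natCast]
    exact h2

theorem ps_zero : R.ps (0 : K) = 0 := by
  have := R.ps_algebraMap 0
  rwa [map_zero, map_zero] at this

theorem ps_one : R.ps (1 : K) = 1 := by
  have := R.ps_algebraMap 1
  rwa [map_one, map_one] at this

/-- the expansion of the valuation ring, as a ring homomorphism into Laurent series -/
noncomputable def psHom : P.O →+* LaurentSeries k where
  toFun z := ((R.ps (z : K) : PowerSeries k) : LaurentSeries k)
  map_one' := by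
    change ((R.ps (1 : K) : PowerSeries k) : LaurentSeries k) = 1
    rw [R.ps_one]; simp
  map_mul' z w := by
    change ((R.ps ((z : K) * (w : K)) : PowerSeries k) : LaurentSeries k) = _
    rw [R.ps_mul ((Place.mem_O_iff P).mp z.2) ((Place.mem_O_iff P).mp w.2)]
    simp
  map_zero' := by
    change ((R.ps (0 : K) : PowerSeries k) : LaurentSeries k) = 0
    rw [R.ps_zero]; simp
  map_add' z w := by
    change ((R.ps ((z : K) + (w : K)) : PowerSeries k) : LaurentSeries k) = _
    rw [R.ps_add ((Place.mem_O_iff P).mp z.2) ((Place.mem_O_iff P).mp w.2)]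
    simp

theorem psHom_apply (z : P.O) :
    R.psHom z = ((R.ps (z : K) : PowerSeries k) : LaurentSeries k) := rfl

theorem val_psHom (z : P.O) : Valued.v (R.psHom z) = P.1 (z : K) := by
  by_cases hz : (z : K) = 0
  · rw [psHom_apply, hz, R.ps_zero]; simp
  · exact R.val_ps hz ((Place.mem_O_iff P).mp z.2)

theorem psHom_injective : Function.Injective R.psHom := by
  rw [injective_iff_map_eq_zero]
  intro z hz
  have := R.val_psHom z
  rw [hz, map_zero] at this
  apply Subtype.ext
  exact (Valuation.zero_iff _).mp this.symm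

/-- the expansion at a rational place -/
noncomputable def expand : K →ₐ[k] LaurentSeries k :=
  { (IsFractionRing.lift R.psHom_injective : K →+* LaurentSeries k) with
    commutes' := fun c => by
      change IsFractionRing.lift R.psHom_injective (algebraMap k K c) = _
      have h1 : algebraMap k K c = algebraMap P.O K (algebraMap k P.O c) := rfl
      rw [h1, IsFractionRing.lift_algebraMap, psHom_apply]
      have h2 : ((algebraMap k P.O c : P.O) : K) = algebraMap k K c := rfl
      rw [h2, R.ps_algebraMap, LocRes.algebraMap_eq_C]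
      simp }

theorem expand_coe (z : P.O) : R.expand (z : K) = R.psHom z :=
  IsFractionRing.lift_algebraMap R.psHom_injective z

theorem val_expand (z : K) : Valued.v (R.expand z) = P.1 z := by
  obtain ⟨a, b, hb, rfl⟩ := IsFractionRing.div_surjective (A := P.O) z
  rw [map_div₀, map_div₀, map_div₀]
  change Valued.v (R.expand (a : K)) / Valued.v (R.expand (b : K)) = _
  rw [expand_coe, expand_coe, val_psHom, val_psHom]
  rfl

theorem expand_t : R.expand R.t = HahnSeries.single 1 1 := by
  have ht1 : P.1 R.t ≤ 1 := by rw [R.ht, ← exp_zero, exp_le_exp]; norm_num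
  have := R.expand_coe ⟨R.t, (Place.mem_O_iff P).mpr ht1⟩
  change R.expand R.t = _ at this
  rw [this, psHom_apply]
  change ((R.ps R.t : PowerSeries k) : LaurentSeries k) = _
  rw [R.ps_t]
  simp

theorem isExpansionAt : LocRes.IsExpansionAt P.1 R.expand := by
  refine ⟨R.val_expand, fun a => ⟨algebraMap k K a, Place.val_k_le P a, ?_⟩, R.t, R.ht⟩
  rw [AlgHom.commutes, LocRes.algebraMap_eq_C]
  simp

theorem coeff_zero_expand {z : K} (h : P.1 z ≤ 1) : (R.expand z).coeff 0 = R.rho z := by
  have := R.expand_coe ⟨z, (Place.mem_O_iff P).mpr h⟩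
  change R.expand z = _ at this
  rw [this, psHom_apply, PowerSeries.coeff_coe]
  simp only [lt_self_iff_false, if_false, Int.natAbs_zero]
  unfold ps
  rw [PowerSeries.coeff_mk]
  rfl

end RatData

/-- **expansions exist at rational places** -/
theorem exists_expansion_of_deg_one (P : Place k K) (hdeg : P.deg = 1) (t : K)
    (ht : P.1 t = exp (-1 : ℤ)) :
    ∃ φ : K →ₐ[k] LaurentSeries k, LocRes.IsExpansionAt P.1 φ ∧ φ t = HahnSeries.single 1 1 ∧
      ∀ z : K, P.1 z ≤ 1 → P.1 (z - algebraMap k K ((φ z).coeff 0)) < 1 := by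
  let R : RatData P := ⟨t, ht, fun z hz => Place.exists_const_sub_lt P hdeg hz⟩
  refine ⟨R.expand, R.isExpansionAt, R.expand_t, fun z hz => ?_⟩
  rw [R.coeff_zero_expand hz]
  exact R.rho_spec hz

end Exp1

end Groth.Agent.Helper9.FFExt
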