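import Mathlib
import Groth.Prelude.Def_W4bk4goldsch23Ext
import Groth.Agent.Lib.Helper9.FFExt.Weak

/-! # Decomposition and inertia groups of places (helper9) -/

namespace Groth.Agent.Helper9.FFExt

open FunFld WithZero
open Groth.Agent.Lib.Helper4.FF
open scoped Pointwise

section DecompField

variable {k K K' : Type*} [Field k] [Field K] [Field K'] [Algebra k K] [Algebra K K']
  [Algebra k K'] [IsScalarTower k K K'] [FiniteDimensional K K'] [IsGalois K K']

instance isScalarTower_k_mid (E : IntermediateField K K') : IsScalarTower k E K' :=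
  IsScalarTower.of_algebraMap_eq fun _ => rfl

/-- Over an intermediate field `E`, automorphisms of `K'/E` fixing... if `H ≤ D(Q)` then `Q` is the
only place of `K'` over its restriction to the fixed field of `H`. -/
theorem unique_over_fixedField (Q : Place k K') (H : Subgroup (K' ≃ₐ[K] K'))
    (hH : H ≤ (Q.O).decompositionSubgroup K)
    {PE : Place k (IntermediateField.fixedField H)} (hQ : IsOver Q PE)
    {Q' : Place k K'} (hQ' : IsOver Q' PE) : Q' = Q := by
  obtain ⟨τ, hτ⟩ := exists_conj_eq hQ hQ'
  rw [← hτ]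
  have hσ : τ.restrictScalars K ∈ H := by
    have h1 : τ.restrictScalars K ∈ (IntermediateField.fixedField H).fixingSubgroup := by
      rw [IntermediateField.mem_fixingSubgroup_iff]
      intro z hz
      exact τ.commutes ⟨z, hz⟩
    rwa [IntermediateField.fixingSubgroup_fixedField H] at h1
  have h2 := (mem_decomposition_iff (k := k) (τ.restrictScalars K) Q).mp (hH hσ)
  apply Subtype.ext
  apply Valuation.ext
  intro z
  have h3 := congrArg (fun R : Place k K' => R.1 z) h2
  exact h3

/-- The place under `Q` in the decomposition field has `e = f = 1` over `P`. -/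
theorem decompField_facts (hK : IsFFw k K) {Q : Place k K'} {P : Place k K} {e : ℕ}
    (he : IsOverWith Q P e) :
    ∃ PZ : Place k (IntermediateField.fixedField ((Q.O).decompositionSubgroup K)),
      IsOverWith Q PZ e ∧ IsOverWith PZ P 1 ∧ PZ.deg = P.deg := by
  obtain ⟨PZ, eZ, heZ⟩ := exists_below'
    (K := IntermediateField.fixedField ((Q.O).decompositionSubgroup K)) Q
  obtain ⟨P', e', he'⟩ := exists_below' (K := K) PZ
  have htr := isOverWith_trans heZ he'
  have hP' : P' = P := isOver_unique ⟨_, htr⟩ ⟨e, he⟩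
  subst hP'
  have hee : e = e' * eZ := ow_unique he htr
  have hZ : IsFFw k (IntermediateField.fixedField ((Q.O).decompositionSubgroup K)) :=
    isFFw_of_finite _ hK
  have h1 := ramIdx_mul_deg_of_unique hZ ⟨eZ, heZ⟩
    (fun Q' hQ' => unique_over_fixedField Q _ le_rfl ⟨eZ, heZ⟩ hQ')
  rw [ramIdx_eq heZ, IntermediateField.finrank_fixedField_eq_card] at h1
  have h3 := card_decomposition_mul_deg_w hK he
  obtain ⟨c, hc⟩ := deg_dvd_of_isOver (⟨e', he'⟩ : IsOver PZ P')
  have hpos : 0 < P'.deg := deg_pos_w hK P'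
  have hQpos : 0 < Q.deg := deg_pos_w (isFFw_of_finite K' hK) Q
  have hDpos : 0 < Nat.card ((Q.O).decompositionSubgroup K) := Nat.card_pos
  have h5 : P'.deg = e' * PZ.deg := by
    have : Nat.card ((Q.O).decompositionSubgroup K) * P'.deg =
        Nat.card ((Q.O).decompositionSubgroup K) * (e' * PZ.deg) := by
      rw [h3, hee, mul_assoc, h1]; ring
    exact Nat.eq_of_mul_eq_mul_left hDpos this
  rw [hc] at h5
  have h6 : e' * c = 1 := by
    have : P'.deg * 1 = P'.deg * (e' * c) := by rw [mul_one]; nlinarith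
    exact (Nat.eq_of_mul_eq_mul_left hpos this).symm
  have he1 : e' = 1 := Nat.eq_one_of_mul_eq_one_right h6
  have hc1 : c = 1 := Nat.eq_one_of_mul_eq_one_left h6
  refine ⟨PZ, ?_, he1 ▸ he', ?_⟩
  · rw [hee, he1, one_mul]; exact heZ
  · rw [hc, hc1, mul_one]

end DecompField

section Abstract

attribute [local instance] Ideal.Quotient.field in
/-- Counting form of `D/I ≃ Gal(F_Q/F_P)` when the whole group stabilizes `Q`. -/
theorem card_mul_finrank_abstract {k A B G : Type*} [Field k] [CommRing A] [CommRing B]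
    [Algebra A B] [Group G] [Finite G] [MulSemiringAction G B] [SMulCommClass G A B]
    [Algebra.IsInvariant A B G]
    (P : Ideal A) (Q : Ideal B) [P.IsMaximal] [Q.IsMaximal] [Q.LiesOver P]
    [Algebra k (A ⧸ P)] [Algebra k (B ⧸ Q)] [IsScalarTower k (A ⧸ P) (B ⧸ Q)]
    [Algebra.IsSeparable k (B ⧸ Q)] (hstab : MulAction.stabilizer G Q = ⊤) :
    Nat.card G * Module.finrank k (A ⧸ P) =
      Nat.card (Q.inertia G) * Module.finrank k (B ⧸ Q) := by
  have hsurj := Ideal.Quotient.stabilizerHom_surjective G P Q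
  have hker := Ideal.Quotient.map_ker_stabilizer_subtype Q P G
  have hsep : Algebra.IsSeparable (A ⧸ P) (B ⧸ Q) :=
    Algebra.isSeparable_tower_top_of_isSeparable k _ _
  have hnormal : Normal (A ⧸ P) (B ⧸ Q) := Ideal.Quotient.normal G P Q
  have hgal : IsGalois (A ⧸ P) (B ⧸ Q) := ⟨⟩
  have hfd : FiniteDimensional (A ⧸ P) (B ⧸ Q) := Ideal.Quotient.finite_of_isInvariant G P Q
  have hcard := IsGalois.card_aut_eq_finrank (A ⧸ P) (B ⧸ Q)
  have h1 := Subgroup.card_eq_card_quotient_mul_card_subgroup
    (Ideal.Quotient.stabilizerHom Q P G).ker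
  rw [Nat.card_congr (QuotientGroup.quotientKerEquivOfSurjective _ hsurj).toEquiv, hcard,
    (Subgroup.card_eq_iff_eq_top _).mpr hstab,
    ← Subgroup.card_map_of_injective (Subgroup.subtype_injective _), hker] at h1
  rw [h1, ← Module.finrank_mul_finrank k (A ⧸ P) (B ⧸ Q)]
  ring

end Abstract

section Inertia

variable {k K K' : Type*} [Field k] [Field K] [Field K'] [Algebra k K] [Algebra K K']
  [Algebra k K'] [IsScalarTower k K K'] [FiniteDimensional K K'] [IsGalois K K']

omit [Algebra k K] [IsScalarTower k K K'] [FiniteDimensional K K'] [IsGalois K K'] in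
lemma decomp_smul_coe (Q : Place k K') (σ : (Q.O).decompositionSubgroup K) (b : Q.O) :
    ((σ • b : Q.O) : K') = (σ : K' ≃ₐ[K] K') (b : K') := rfl

theorem card_inertia_mul (Q : Place k K')
    (PZ : Place k (IntermediateField.fixedField ((Q.O).decompositionSubgroup K)))
    (hQ : IsOver Q PZ) [Algebra.IsSeparable k (IsLocalRing.ResidueField Q.O)] :
    Nat.card ((Q.O).inertiaSubgroup K) * Q.deg =
      Nat.card ((Q.O).decompositionSubgroup K) * PZ.deg := by
  let _ : Algebra PZ.O Q.O := (resMapO hQ).toAlgebra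
  have hloc : IsLocalHom (algebraMap PZ.O Q.O) := resMapO_isLocalHom hQ
  have halg : ∀ a : PZ.O, ((algebraMap PZ.O Q.O a : Q.O) : K') =
      algebraMap (IntermediateField.fixedField ((Q.O).decompositionSubgroup K)) K' (a : _) :=
    fun a => rfl
  have hcomm : SMulCommClass ((Q.O).decompositionSubgroup K) PZ.O Q.O := by
    refine ⟨fun σ a b => ?_⟩
    apply Subtype.ext
    rw [Algebra.smul_def, Algebra.smul_def, decomp_smul_coe]
    change (σ : K' ≃ₐ[K] K') (((algebraMap PZ.O Q.O a : Q.O) : K') * (b : K')) =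
      ((algebraMap PZ.O Q.O a : Q.O) : K') * ((σ • b : Q.O) : K')
    rw [map_mul, decomp_smul_coe, halg]
    congr 1
    exact (a : IntermediateField.fixedField ((Q.O).decompositionSubgroup K)).2 σ
  have hinv : Algebra.IsInvariant PZ.O Q.O ((Q.O).decompositionSubgroup K) := by
    refine ⟨fun b hb => ?_⟩
    have hbZ : (b : K') ∈ IntermediateField.fixedField ((Q.O).decompositionSubgroup K) := by
      intro σ
      have := congrArg (fun z : Q.O => (z : K')) (hb σ)
      exact this
    obtain ⟨e, he⟩ := hQ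
    have hle : PZ.1 ⟨(b : K'), hbZ⟩ ≤ 1 := by
      rw [← ow_le_one_iff he]
      exact (Place.mem_O_iff Q).mp b.2
    exact ⟨⟨⟨(b : K'), hbZ⟩, (Place.mem_O_iff PZ).mpr hle⟩, Subtype.ext rfl⟩
  have hcomap : (IsLocalRing.maximalIdeal Q.O).comap (algebraMap PZ.O Q.O) =
      IsLocalRing.maximalIdeal PZ.O :=
    ((IsLocalRing.local_hom_TFAE (algebraMap PZ.O Q.O)).out 0 4).mp hloc
  have hlies : (IsLocalRing.maximalIdeal Q.O).LiesOver (IsLocalRing.maximalIdeal PZ.O) :=
    ⟨hcomap.symm⟩
  have hfinD : Finite ((Q.O).decompositionSubgroup K) := inferInstance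
  have hsurj := Ideal.Quotient.stabilizerHom_surjective ((Q.O).decompositionSubgroup K)
    (IsLocalRing.maximalIdeal PZ.O) (IsLocalRing.maximalIdeal Q.O)
  have hker := Ideal.Quotient.map_ker_stabilizer_subtype (IsLocalRing.maximalIdeal Q.O)
    (IsLocalRing.maximalIdeal PZ.O) ((Q.O).decompositionSubgroup K)
  -- the stabilizer of the maximal ideal is everything
  have hStop : MulAction.stabilizer ((Q.O).decompositionSubgroup K)
      (IsLocalRing.maximalIdeal Q.O) = ⊤ := by
    rw [eq_top_iff]
    intro σ _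
    rw [MulAction.mem_stabilizer_iff]
    ext x
    rw [Ideal.mem_pointwise_smul_iff_inv_smul_mem, IsLocalRing.mem_maximalIdeal,
      IsLocalRing.mem_maximalIdeal, mem_nonunits_iff, mem_nonunits_iff, not_iff_not]
    constructor
    · intro hu
      have := hu.map (MulSemiringAction.toRingHom ((Q.O).decompositionSubgroup K) Q.O σ)
      rwa [MulSemiringAction.toRingHom_apply, smul_inv_smul] at this
    · intro hu
      exact hu.map (MulSemiringAction.toRingHom ((Q.O).decompositionSubgroup K) Q.O σ⁻¹)
  -- the two inertia groups agree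
  have hI : (IsLocalRing.maximalIdeal Q.O).inertia ((Q.O).decompositionSubgroup K) =
      (Q.O).inertiaSubgroup K := by
    ext σ
    rw [ValuationSubring.inertiaSubgroup, MonoidHom.mem_ker]
    constructor
    · intro h
      ext x
      obtain ⟨b, rfl⟩ := IsLocalRing.residue_surjective x
      change σ • IsLocalRing.residue Q.O b = IsLocalRing.residue Q.O b
      rw [← IsLocalRing.ResidueField.residue_smul]
      exact (Ideal.Quotient.eq).mpr (h b)
    · intro h b
      have h1 := congrArg (fun f : RingAut (IsLocalRing.ResidueField Q.O) =>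
        f (IsLocalRing.residue Q.O b)) h
      change σ • IsLocalRing.residue Q.O b = IsLocalRing.residue Q.O b at h1
      rw [← IsLocalRing.ResidueField.residue_smul] at h1
      exact (Ideal.Quotient.eq).mp h1
  -- residue fields
  have htower : @IsScalarTower k (PZ.O ⧸ IsLocalRing.maximalIdeal PZ.O)
      (Q.O ⧸ IsLocalRing.maximalIdeal Q.O) (Place.algRes PZ).toSMul
      (Ideal.Quotient.algebraOfLiesOver (IsLocalRing.maximalIdeal Q.O)
        (IsLocalRing.maximalIdeal PZ.O)).toSMul (Place.algRes Q).toSMul := by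
    refine @IsScalarTower.of_algebraMap_eq k (PZ.O ⧸ IsLocalRing.maximalIdeal PZ.O)
      (Q.O ⧸ IsLocalRing.maximalIdeal Q.O) _ _ _ (Place.algRes PZ)
      (Ideal.Quotient.algebraOfLiesOver (IsLocalRing.maximalIdeal Q.O)
        (IsLocalRing.maximalIdeal PZ.O)) (Place.algRes Q) fun c => ?_
    change Ideal.Quotient.mk _ (algebraMap k Q.O c) =
      algebraMap (PZ.O ⧸ IsLocalRing.maximalIdeal PZ.O) (Q.O ⧸ IsLocalRing.maximalIdeal Q.O)
        (Ideal.Quotient.mk _ (algebraMap k PZ.O c))
    rw [Ideal.Quotient.algebraMap_mk_of_liesOver]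
    congr 1
  have hsepk : @Algebra.IsSeparable k (Q.O ⧸ IsLocalRing.maximalIdeal Q.O) _ _
      (Place.algRes Q) :=
    inferInstanceAs (Algebra.IsSeparable k (IsLocalRing.ResidueField Q.O))
  have key := @card_mul_finrank_abstract k PZ.O Q.O ((Q.O).decompositionSubgroup K) _ _ _ _ _ _ _
    hcomm hinv (IsLocalRing.maximalIdeal PZ.O) (IsLocalRing.maximalIdeal Q.O) _ _ hlies
    (Place.algRes PZ) (Place.algRes Q) htower hsepk hStop
  rw [hI] at key
  exact key.symm

end Inertia

section Final

variable {k K K' : Type*} [Field k] [Field K] [Field K'] [Algebra k K] [Algebra K K']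
  [Algebra k K'] [IsScalarTower k K K'] [FiniteDimensional K K'] [IsGalois K K']

/-- **The inertia group has order `e`** (residue field of `Q` separable over `k`). -/
theorem card_inertia_eq (hK : IsFFw k K) {Q : Place k K'} {P : Place k K} {e : ℕ}
    (he : IsOverWith Q P e) [Algebra.IsSeparable k (IsLocalRing.ResidueField Q.O)] :
    Nat.card ((Q.O).inertiaSubgroup K) = e := by
  obtain ⟨PZ, h1, h2, h3⟩ := decompField_facts hK he
  have h4 := card_inertia_mul Q PZ ⟨e, h1⟩
  have h5 := card_decomposition_mul_deg_w hK he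
  rw [h3, h5] at h4
  exact Nat.eq_of_mul_eq_mul_right (deg_pos_w (isFFw_of_finite K' hK) Q) h4

end Final

end Groth.Agent.Helper9.FFExt
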