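import Mathlib
import Groth.Prelude.Def_W4bk4goldsch23Ext
import Groth.Agent.Lib.Helper9.FFExt.Hilbert

namespace Groth.Agent.Helper9.FFExt

open FunFld WithZero
open Groth.Agent.Lib.Helper4.FF
open scoped Pointwise

section InertiaField

variable {k K K' : Type*} [Field k] [Field K] [Field K'] [Algebra k K] [Algebra K K']
  [Algebra k K'] [IsScalarTower k K K']

omit [Field K] [Algebra k K] [Algebra K K'] [IsScalarTower k K K'] in
lemma mem_maximalIdeal_iff (Q : Place k K') (z : Q.O) :
    z ∈ IsLocalRing.maximalIdeal Q.O ↔ Q.1 (z : K') < 1 := by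
  rw [← Place.resₗ_eq_zero_iff]
  exact (IsLocalRing.residue_eq_zero_iff z).symm

omit [Algebra k K] [IsScalarTower k K K'] in
/-- membership in the inertia group in terms of the valuation -/
lemma mem_inertia_iff (Q : Place k K') (σ : (Q.O).decompositionSubgroup K) :
    σ ∈ (Q.O).inertiaSubgroup K ↔
      ∀ b : K', Q.1 b ≤ 1 → Q.1 ((σ : K' ≃ₐ[K] K') b - b) < 1 := by
  rw [ValuationSubring.inertiaSubgroup, MonoidHom.mem_ker]
  constructor
  · intro h b hb
    have h1 := congrArg (fun f : RingAut (IsLocalRing.ResidueField Q.O) =>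
      f (IsLocalRing.residue Q.O ⟨b, (Place.mem_O_iff Q).mpr hb⟩)) h
    change σ • IsLocalRing.residue Q.O ⟨b, _⟩ = IsLocalRing.residue Q.O ⟨b, _⟩ at h1
    rw [← IsLocalRing.ResidueField.residue_smul] at h1
    have h2 := (Ideal.Quotient.eq).mp h1
    rw [mem_maximalIdeal_iff] at h2
    exact h2
  · intro h
    ext x
    obtain ⟨b, rfl⟩ := IsLocalRing.residue_surjective x
    change σ • IsLocalRing.residue Q.O b = IsLocalRing.residue Q.O b
    rw [← IsLocalRing.ResidueField.residue_smul]
    refine (Ideal.Quotient.eq).mpr ?_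
    rw [mem_maximalIdeal_iff]
    exact h (b : K') ((Place.mem_O_iff Q).mp b.2)

section Transfer

variable [FiniteDimensional K K'] [IsGalois K K']

lemma conj_restrictScalars (Q : Place k K') (E : IntermediateField K K') (τ : K' ≃ₐ[E] K') :
    conj (τ.restrictScalars K) Q = conj τ Q :=
  Subtype.ext (Valuation.ext fun _ => rfl)

lemma restrict_mem_decomposition (Q : Place k K') (E : IntermediateField K K')
    (τ : K' ≃ₐ[E] K') :
    τ.restrictScalars K ∈ (Q.O).decompositionSubgroup K ↔ τ ∈ (Q.O).decompositionSubgroup E := by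
  rw [mem_decomposition_iff (k := k), mem_decomposition_iff (k := k), conj_restrictScalars]

/-- the inertia group of `Q` over an intermediate field `E` is `I ∩ Gal(K'/E)` -/
theorem card_inertia_intermediate (Q : Place k K') (E : IntermediateField K K') :
    Nat.card ((Q.O).inertiaSubgroup E) =
      Nat.card ↥((((Q.O).inertiaSubgroup K).map ((Q.O).decompositionSubgroup K).subtype) ⊓
        E.fixingSubgroup) := by
  refine Nat.card_congr
    { toFun := fun x => ⟨(x.1.1 : K' ≃ₐ[E] K').restrictScalars K, ?_, ?_⟩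
      invFun := fun y => ⟨⟨IntermediateField.fixingSubgroupEquiv E ⟨y.1, y.2.2⟩, ?_⟩, ?_⟩
      left_inv := fun x => Subtype.ext (Subtype.ext (AlgEquiv.ext fun z => rfl))
      right_inv := fun y => Subtype.ext (AlgEquiv.ext fun z => rfl) }
  · have hD : (x.1.1 : K' ≃ₐ[E] K').restrictScalars K ∈ (Q.O).decompositionSubgroup K :=
      (restrict_mem_decomposition Q E _).mpr x.1.2
    refine ⟨⟨_, hD⟩, ?_, rfl⟩
    rw [SetLike.mem_coe, mem_inertia_iff]
    exact (mem_inertia_iff Q x.1).mp x.2
  · change _ ∈ E.fixingSubgroup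
    rw [IntermediateField.mem_fixingSubgroup_iff]
    intro z hz
    exact (x.1.1 : K' ≃ₐ[E] K').commutes ⟨z, hz⟩
  · obtain ⟨i, hi, hiy⟩ := y.2.1
    rw [← restrict_mem_decomposition (k := k)]
    have : (IntermediateField.fixingSubgroupEquiv E ⟨y.1, y.2.2⟩).restrictScalars K = y.1 :=
      AlgEquiv.ext fun z => rfl
    rw [this, ← hiy]
    exact i.2
  · obtain ⟨i, hi, hiy⟩ := y.2.1
    rw [mem_inertia_iff]
    intro b hb
    have h1 := (mem_inertia_iff Q i).mp hi b hb
    have h2 : (i : K' ≃ₐ[K] K') = y.1 := hiy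
    rw [h2] at h1
    exact h1

/-- ramification index over an intermediate field, via the inertia group -/
theorem ramIdx_intermediate (hK : IsFFw k K) (Q : Place k K')
    [Algebra.IsSeparable k (IsLocalRing.ResidueField Q.O)] (E : IntermediateField K K')
    {QE : Place k E} {eE : ℕ} (h : IsOverWith Q QE eE) :
    eE = Nat.card ↥((((Q.O).inertiaSubgroup K).map ((Q.O).decompositionSubgroup K).subtype) ⊓
        E.fixingSubgroup) := by
  rw [← card_inertia_intermediate, card_inertia_eq (isFFw_of_finite E hK) h]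

/-- `K'` is totally ramified at `Q` over the inertia field -/
theorem totallyRamified_inertiaField (hK : IsFFw k K) (Q : Place k K')
    [Algebra.IsSeparable k (IsLocalRing.ResidueField Q.O)] :
    ∃ Q₁ : Place k (IntermediateField.fixedField
        (((Q.O).inertiaSubgroup K).map ((Q.O).decompositionSubgroup K).subtype)),
      IsOverWith Q Q₁ (Module.finrank (IntermediateField.fixedField
        (((Q.O).inertiaSubgroup K).map ((Q.O).decompositionSubgroup K).subtype)) K') := by
  obtain ⟨Q₁, e₁, h₁⟩ := exists_below' (K := IntermediateField.fixedField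
        (((Q.O).inertiaSubgroup K).map ((Q.O).decompositionSubgroup K).subtype)) Q
  have h2 := ramIdx_intermediate hK Q _ h₁
  rw [IntermediateField.fixingSubgroup_fixedField, inf_idem,
    ← IntermediateField.finrank_fixedField_eq_card] at h2
  exact ⟨Q₁, h2 ▸ h₁⟩

omit [FiniteDimensional K K'] [IsGalois K K'] [IsScalarTower k K K'] in
lemma range_comap_eq {Q : Place k K'} {P : Place k K} {e : ℕ} (he : IsOverWith Q P e) :
    Set.range (Q.1.comap (algebraMap K K')) = Set.range (fun x : ℤᵐ⁰ => x ^ e) := by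
  ext y
  constructor
  · rintro ⟨x, rfl⟩
    exact ⟨P.1 x, (he x).symm⟩
  · rintro ⟨x, rfl⟩
    obtain ⟨z, rfl⟩ := P.2.2 x
    exact ⟨z, he z⟩

lemma range_pow_eq_iff {a b : ℕ} (_ha : 0 < a) (hab : a ∣ b) (hb : 0 < b) :
    Set.range (fun x : ℤᵐ⁰ => x ^ a) = Set.range (fun x : ℤᵐ⁰ => x ^ b) ↔ a = b := by
  constructor
  · intro h
    have h1 : (exp (-1 : ℤ)) ^ a ∈ Set.range (fun x : ℤᵐ⁰ => x ^ b) := h ▸ ⟨_, rfl⟩
    obtain ⟨x, hx⟩ := h1
    have hx0 : x ≠ 0 := by
      rintro rfl
      simp only [zero_pow hb.ne'] at hx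
      exact pow_ne_zero _ exp_ne_zero hx.symm
    obtain ⟨m, rfl⟩ : ∃ m : ℤ, x = exp m := ⟨log x, (exp_log hx0).symm⟩
    simp only [← exp_nsmul] at hx
    have h2 := exp_injective hx
    simp only [nsmul_eq_mul] at h2
    have h3 : (b : ℤ) ∣ a := ⟨-m, by linarith⟩
    have h4 : b ∣ a := by exact_mod_cast h3
    exact Nat.dvd_antisymm hab h4
  · rintro rfl; rfl

/-- `e(Q ∩ E | Q ∩ K) = 1` iff `E` lies in the inertia field -/
theorem unramified_iff_le_inertiaField (hK : IsFFw k K) (Q : Place k K')
    [Algebra.IsSeparable k (IsLocalRing.ResidueField Q.O)] (E : IntermediateField K K') :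
    Set.range (Q.1.comap (algebraMap E K')) = Set.range (Q.1.comap (algebraMap K K')) ↔
      E ≤ IntermediateField.fixedField
        (((Q.O).inertiaSubgroup K).map ((Q.O).decompositionSubgroup K).subtype) := by
  obtain ⟨P, e, he⟩ := exists_below' (K := K) Q
  obtain ⟨QE, eE, hE⟩ := exists_below' (K := E) Q
  obtain ⟨P', e', he'⟩ := exists_below' (K := K) QE
  have htr := isOverWith_trans hE he'
  have hP' : P' = P := isOver_unique ⟨_, htr⟩ ⟨e, he⟩
  subst hP'
  have hee : e = e' * eE := ow_unique he htr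
  rw [range_comap_eq he, range_comap_eq hE,
    range_pow_eq_iff (ow_pos hE) ⟨e', by rw [hee, mul_comm]⟩ (ow_pos he),
    IntermediateField.le_iff_le]
  have h1 := ramIdx_intermediate hK Q E hE
  have h2 : e = Nat.card ↥(((Q.O).inertiaSubgroup K).map
      ((Q.O).decompositionSubgroup K).subtype) := by
    rw [Subgroup.card_map_of_injective (Subgroup.subtype_injective _)]
    exact (card_inertia_eq hK he).symm
  rw [h1, h2]
  constructor
  · intro h
    have := Subgroup.eq_of_le_of_card_ge (inf_le_left :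
      (((Q.O).inertiaSubgroup K).map ((Q.O).decompositionSubgroup K).subtype) ⊓
        E.fixingSubgroup ≤ _) h.ge
    rw [← this]
    exact inf_le_right
  · intro h
    rw [inf_eq_left.mpr h]

end Transfer

end InertiaField

end Groth.Agent.Helper9.FFExt
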