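import Mathlib
import Groth.Prelude.Def_W4bk4goldsch23Ext
import Groth.Agent.Lib.Helper9.FFExt.Weak
import Groth.Agent.Lib.Helper9.FFExt.InertiaField
import Groth.Agent.Lib.Helper4.FF.Approx

namespace Groth.Agent.Helper9.FFExt

open FunFld WithZero
open Groth.Agent.Lib.Helper4.FF

section Key

variable {k K K' : Type*} [Field k] [Field K] [Field K'] [Algebra k K] [Algebra K K']
  [Algebra k K'] [IsScalarTower k K K']

lemma exp_neg_one_pow (n : ℕ) : (exp (-1 : ℤ)) ^ n = exp (-(n : ℤ)) := by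
  rw [← exp_nsmul]; simp

/-- the key estimate behind the local integral basis -/
theorem key_estimate [DecidableEq (Place k K')] (P : Place k K) (S : Finset (Place k K'))
    (e f : Place k K' → ℕ) (t : Place k K' → K') (u : Place k K' → ℕ → K')
    (w : Place k K' → ℕ → ℕ → K') (N : ℕ)
    (he : ∀ Q ∈ S, IsOverWith Q P (e Q))
    (hN : ∀ Q ∈ S, e Q ≤ N)
    (ht : ∀ Q ∈ S, Q.1 (t Q) = exp (-1 : ℤ))
    (hu1 : ∀ Q ∈ S, ∀ j, Q.1 (u Q j) ≤ 1)
    (hu2 : ∀ Q ∈ S, ∀ c : ℕ → K, (∀ j < f Q, P.1 (c j) ≤ 1) → (∃ j < f Q, P.1 (c j) = 1) →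
        Q.1 (∑ j ∈ Finset.range (f Q), algebraMap K K' (c j) * u Q j) = 1)
    (hw : ∀ Q ∈ S, ∀ a j, ∀ Q' ∈ S,
      Q'.1 (w Q a j - (if Q' = Q then t Q ^ a * u Q j else 0)) ≤ exp (-(N : ℤ)))
    (c : (Σ _ : Place k K', ℕ × ℕ) → K)
    (hc : ∀ p ∈ S.sigma (fun Q => Finset.range (e Q) ×ˢ Finset.range (f Q)), P.1 (c p) ≤ 1)
    (hc1 : ∃ p ∈ S.sigma (fun Q => Finset.range (e Q) ×ˢ Finset.range (f Q)), P.1 (c p) = 1) :
    ∃ Q ∈ S, exp (-(e Q : ℤ)) <
      Q.1 (∑ p ∈ S.sigma (fun Q => Finset.range (e Q) ×ˢ Finset.range (f Q)),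
        algebraMap K K' (c p) * w p.1 p.2.1 p.2.2) := by
  obtain ⟨T, hT⟩ : ∃ T, T = S.sigma (fun Q => Finset.range (e Q) ×ˢ Finset.range (f Q)) :=
    ⟨_, rfl⟩
  rw [← hT] at hc hc1 ⊢
  have hmemT : ∀ p : (Σ _ : Place k K', ℕ × ℕ),
      p ∈ T ↔ p.1 ∈ S ∧ p.2.1 < e p.1 ∧ p.2.2 < f p.1 := by
    intro p
    rw [hT, Finset.mem_sigma, Finset.mem_product, Finset.mem_range, Finset.mem_range]
  have hU : (T.filter (fun p => P.1 (c p) = 1)).Nonempty := by
    obtain ⟨p, hp, hp1⟩ := hc1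
    exact ⟨p, Finset.mem_filter.mpr ⟨hp, hp1⟩⟩
  obtain ⟨p0, hp0, hmin⟩ := Finset.exists_min_image _ (fun p => p.2.1) hU
  rw [Finset.mem_filter] at hp0
  obtain ⟨hp0T, hp0c⟩ := hp0
  obtain ⟨Q0, a0, j0⟩ := p0
  obtain ⟨hQ0S, ha0, hj0⟩ := (hmemT _).mp hp0T
  simp only at hQ0S ha0 hj0
  have hmin' : ∀ p ∈ T, P.1 (c p) = 1 → a0 ≤ p.2.1 := fun p hp hp1 =>
    hmin p (Finset.mem_filter.mpr ⟨hp, hp1⟩)
  refine ⟨Q0, hQ0S, ?_⟩
  -- main term
  obtain ⟨m, hm⟩ : ∃ m : (Σ _ : Place k K', ℕ × ℕ) → K',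
      m = fun p => if p.1 = Q0 ∧ p.2.1 = a0 then t Q0 ^ a0 * u Q0 p.2.2 else 0 := ⟨_, rfl⟩
  obtain ⟨main, hmain⟩ : ∃ main : K', main = t Q0 ^ a0 *
      ∑ j ∈ Finset.range (f Q0), algebraMap K K' (c ⟨Q0, (a0, j)⟩) * u Q0 j := ⟨_, rfl⟩
  have hmain_sum : ∑ p ∈ T, algebraMap K K' (c p) * m p = main := by
    rw [hT, Finset.sum_sigma, Finset.sum_eq_single_of_mem Q0 hQ0S]
    · rw [Finset.sum_product, Finset.sum_eq_single_of_mem a0 (Finset.mem_range.mpr ha0)]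
      · rw [hmain, Finset.mul_sum]
        refine Finset.sum_congr rfl fun j _ => ?_
        rw [hm]
        simp only [and_self, if_true]
        ring
      · intro a _ hne
        apply Finset.sum_eq_zero
        intro j _
        rw [hm]
        simp only [hne, and_false, if_false, mul_zero]
    · intro Q _ hne
      apply Finset.sum_eq_zero
      intro aj _
      rw [hm]
      simp only [hne, false_and, if_false, mul_zero]
  have hval_main : Q0.1 main = exp (-(a0 : ℤ)) := by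
    rw [hmain, map_mul, map_pow, ht Q0 hQ0S, exp_neg_one_pow,
      hu2 Q0 hQ0S (fun j => c ⟨Q0, (a0, j)⟩) (fun j hj => hc _ ((hmemT _).mpr ⟨hQ0S, ha0, hj⟩))
        ⟨j0, hj0, hp0c⟩, mul_one]
  have hNa : exp (-(N : ℤ)) ≤ exp (-(a0 : ℤ) - 1) := by
    rw [exp_le_exp]
    have := hN Q0 hQ0S
    omega
  have hea : exp (-(e Q0 : ℤ)) ≤ exp (-(a0 : ℤ) - 1) := by
    rw [exp_le_exp]
    omega
  have hrest : ∀ p ∈ T, Q0.1 (algebraMap K K' (c p) * (w p.1 p.2.1 p.2.2 - m p)) ≤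
      exp (-(a0 : ℤ) - 1) := by
    rintro ⟨Q, a, j⟩ hp
    obtain ⟨hQ, ha, hj⟩ := (hmemT _).mp hp
    simp only at hQ ha hj
    have hcp : Q0.1 (algebraMap K K' (c ⟨Q, (a, j)⟩)) ≤ 1 :=
      (ow_le_one_iff (he Q0 hQ0S) _).mpr (hc _ hp)
    have hwp := hw Q hQ a j Q0 hQ0S
    rw [map_mul]
    by_cases hQQ : Q = Q0
    · subst hQQ
      rw [if_pos rfl] at hwp
      by_cases haa : a = a0
      · subst haa
        have : m ⟨Q, (a, j)⟩ = t Q ^ a * u Q j := by rw [hm]; simp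
        rw [this]
        calc Q.1 (algebraMap K K' (c ⟨Q, (a, j)⟩)) * Q.1 (w Q a j - t Q ^ a * u Q j)
            ≤ 1 * exp (-(N : ℤ)) := mul_le_mul' hcp hwp
          _ ≤ _ := by rw [one_mul]; exact hNa
      · have hm0 : m ⟨Q, (a, j)⟩ = 0 := by rw [hm]; simp [haa]
        rw [hm0, sub_zero]
        have htu : Q.1 (t Q ^ a * u Q j) ≤ exp (-(a : ℤ)) := by
          rw [map_mul, map_pow, ht Q hQ, exp_neg_one_pow]
          exact mul_le_of_le_one_right' (hu1 Q hQ j)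
        have hwdec : w Q a j = (w Q a j - t Q ^ a * u Q j) + t Q ^ a * u Q j := by ring
        have hwle : Q.1 (w Q a j) ≤ max (exp (-(N : ℤ))) (exp (-(a : ℤ))) := by
          rw [hwdec]
          exact (Q.1.map_add _ _).trans (max_le_max hwp htu)
        rcases lt_or_gt_of_ne haa with hlt | hgt
        · -- a < a0 : coefficient is small
          have hne1 : P.1 (c ⟨Q, (a, j)⟩) ≠ 1 := by
            intro h1
            have := hmin' _ hp h1
            simp only at this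
            omega
          have hlt1 : P.1 (c ⟨Q, (a, j)⟩) < 1 := lt_of_le_of_ne (hc _ hp) hne1
          have hsmall : Q.1 (algebraMap K K' (c ⟨Q, (a, j)⟩)) ≤ exp (-(e Q : ℤ)) := by
            rw [he Q hQ, ← exp_neg_one_pow]
            exact pow_le_pow_left₀ zero_le (lt_one_iff_le_exp_neg_one.mp hlt1) _
          have hw1 : Q.1 (w Q a j) ≤ 1 := by
            refine hwle.trans (max_le ?_ ?_)
            · rw [← exp_zero, exp_le_exp]; omega
            · rw [← exp_zero, exp_le_exp]; omega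
          calc Q.1 (algebraMap K K' (c ⟨Q, (a, j)⟩)) * Q.1 (w Q a j)
              ≤ exp (-(e Q : ℤ)) * 1 := mul_le_mul' hsmall hw1
            _ ≤ _ := by rw [mul_one]; exact hea
        · -- a0 < a
          have : Q.1 (w Q a j) ≤ exp (-(a0 : ℤ) - 1) := by
            refine hwle.trans (max_le hNa ?_)
            rw [exp_le_exp]; omega
          calc Q.1 (algebraMap K K' (c ⟨Q, (a, j)⟩)) * Q.1 (w Q a j)
              ≤ 1 * exp (-(a0 : ℤ) - 1) := mul_le_mul' hcp this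
            _ = _ := one_mul _
    · have hm0 : m ⟨Q, (a, j)⟩ = 0 := by rw [hm]; simp [hQQ]
      rw [if_neg (Ne.symm hQQ), sub_zero] at hwp
      rw [hm0, sub_zero]
      calc Q0.1 (algebraMap K K' (c ⟨Q, (a, j)⟩)) * Q0.1 (w Q a j)
          ≤ 1 * exp (-(N : ℤ)) := mul_le_mul' hcp hwp
        _ ≤ _ := by rw [one_mul]; exact hNa
  have hsplit : ∑ p ∈ T, algebraMap K K' (c p) * w p.1 p.2.1 p.2.2 =
      main + ∑ p ∈ T, algebraMap K K' (c p) * (w p.1 p.2.1 p.2.2 - m p) := by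
    rw [← hmain_sum, ← Finset.sum_add_distrib]
    refine Finset.sum_congr rfl fun p _ => ?_
    ring
  have hrest_sum : Q0.1 (∑ p ∈ T, algebraMap K K' (c p) * (w p.1 p.2.1 p.2.2 - m p)) ≤
      exp (-(a0 : ℤ) - 1) := Valuation.map_sum_le _ hrest
  have hlt : exp (-(a0 : ℤ) - 1) < exp (-(a0 : ℤ)) := by rw [exp_lt_exp]; omega
  rw [hsplit, Valuation.map_add_eq_of_lt_left _ (by rw [hval_main]; exact lt_of_le_of_lt hrest_sum hlt),
    hval_main, exp_lt_exp]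
  omega

end Key

end Groth.Agent.Helper9.FFExt
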