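import Mathlib
import Groth.Prelude.Def_W4bk4goldsch23Ext
import Groth.Agent.Lib.Helper9.FFExt.Weak

namespace Groth.Agent.Helper9.FFExt

open FunFld
open scoped IntermediateField.algebraAdjoinAdjoin TensorProduct
open Polynomial

section KD

variable (k K : Type*) [Field k] [Field K] [Algebra k K]

/-- the derivation `d/dt` on `k[t]` with values in `K` -/
noncomputable def ddt {t : K} (ht : Transcendental k t) :
    Derivation k (Algebra.adjoin k ({t} : Set K)) K :=
  Derivation.mk'
    ((Algebra.adjoin k ({t} : Set K)).val.toLinearMap ∘ₗ
      (Polynomial.algEquivOfTranscendental k t ht).toLinearMap ∘ₗ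
      (Polynomial.derivative : k[X] →ₗ[k] k[X]) ∘ₗ
      (Polynomial.algEquivOfTranscendental k t ht).symm.toLinearMap)
    (by
      intro a b
      simp only [LinearMap.coe_comp, Function.comp_apply, AlgEquiv.toLinearMap_apply,
        AlgHom.toLinearMap_apply, map_mul, Polynomial.derivative_mul, map_add,
        AlgEquiv.apply_symm_apply, Subalgebra.coe_val]
      rw [Algebra.smul_def, Algebra.smul_def]
      change _ = (a : K) * _ + (b : K) * _
      ring)

lemma ddt_apply {t : K} (ht : Transcendental k t) :
    ddt k K ht ⟨t, Algebra.subset_adjoin (Set.mem_singleton t)⟩ = 1 := by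
  have h1 : (Polynomial.algEquivOfTranscendental k t ht).symm
      ⟨t, Algebra.subset_adjoin (Set.mem_singleton t)⟩ = X := by
    rw [AlgEquiv.symm_apply_eq]
    apply Subtype.ext
    simp [Polynomial.algEquivOfTranscendental]
  simp [ddt, h1]

/-- if `K/k(t)` is separable then `dt ≠ 0` -/
theorem D_ne_zero_of_isSeparable {t : K} (ht : Transcendental k t)
    [Algebra.IsSeparable (IntermediateField.adjoin k ({t} : Set K)) K] :
    KaehlerDifferential.D k K t ≠ 0 := by
  intro h0
  have e1 : Algebra.FormallyEtale (Algebra.adjoin k ({t} : Set K))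
      (IntermediateField.adjoin k ({t} : Set K)) :=
    Algebra.FormallyEtale.of_isLocalization (nonZeroDivisors (Algebra.adjoin k ({t} : Set K)))
  have e2 : Algebra.FormallyEtale (IntermediateField.adjoin k ({t} : Set K)) K :=
    Algebra.FormallyEtale.of_isSeparable _ _
  have e3 : Algebra.FormallyEtale (Algebra.adjoin k ({t} : Set K)) K :=
    Algebra.FormallyEtale.comp _ (IntermediateField.adjoin k ({t} : Set K)) _
  have h1 := KaehlerDifferential.tensorKaehlerEquivOfFormallyEtale_symm_D_algebraMap k
    (Algebra.adjoin k ({t} : Set K)) K ⟨t, Algebra.subset_adjoin (Set.mem_singleton t)⟩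
  have h2 : algebraMap (Algebra.adjoin k ({t} : Set K)) K
      ⟨t, Algebra.subset_adjoin (Set.mem_singleton t)⟩ = t := rfl
  rw [h2, h0, map_zero] at h1
  have h3 := congrArg (((ddt k K ht).liftKaehlerDifferential).liftBaseChange K) h1
  rw [map_zero, LinearMap.liftBaseChange_tmul, one_smul,
    Derivation.liftKaehlerDifferential_comp_D, ddt_apply] at h3
  exact zero_ne_one h3


variable {k K}

/-- `k(t)` is a (weak) function field -/
theorem isFFw_adjoin {t : K} (ht : Transcendental k t) :
    IsFFw k (IntermediateField.adjoin k ({t} : Set K)) := by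
  refine ⟨IntermediateField.AdjoinSimple.gen k t, ?_, ?_⟩
  · intro halg
    apply ht
    have := halg.algebraMap (A := K)
    rwa [IntermediateField.AdjoinSimple.algebraMap_gen] at this
  · have htop : IntermediateField.adjoin k
        ({IntermediateField.AdjoinSimple.gen k t} : Set (IntermediateField.adjoin k ({t} : Set K)))
        = ⊤ := by
      apply IntermediateField.map_injective (IntermediateField.adjoin k ({t} : Set K)).val
      rw [IntermediateField.adjoin_map, Set.image_singleton]
      change IntermediateField.adjoin k {t} = _
      rw [← AlgHom.fieldRange_eq_map, IntermediateField.fieldRange_val]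
    rw [htop]
    apply Module.finite_of_finrank_pos
    rw [IntermediateField.finrank_top]
    exact one_pos

end KD

end Groth.Agent.Helper9.FFExt
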