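import Mathlib
import Groth.Agent.Lib.Helper9.FFExt.KaehlerSep

namespace Groth.Agent.Helper9.FFExt

open scoped IntermediateField.algebraAdjoinAdjoin TensorProduct
open Polynomial

section KD2

variable (k K : Type*) [Field k] [Field K] [Algebra k K]

theorem D_mem_span_of_mem_adjoin (x : K) {b : K} (hb : b ∈ Algebra.adjoin k ({x} : Set K)) :
    KaehlerDifferential.D k K b ∈ Submodule.span K {KaehlerDifferential.D k K x} := by
  induction hb using Algebra.adjoin_induction with
  | mem y hy =>
    rw [Set.mem_singleton_iff.mp hy]
    exact Submodule.subset_span rfl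
  | algebraMap c =>
    rw [Derivation.map_algebraMap]
    exact Submodule.zero_mem _
  | add y z _ _ hy hz =>
    rw [map_add]
    exact Submodule.add_mem _ hy hz
  | mul y z _ _ hy hz =>
    rw [Derivation.leibniz]
    exact Submodule.add_mem _ (Submodule.smul_mem _ _ hz) (Submodule.smul_mem _ _ hy)

/-- if `K/k(x)` is separable then `Ω[K/k]` is spanned by `dx` -/
theorem span_D_eq_top {x : K}
    [Algebra.IsSeparable (IntermediateField.adjoin k ({x} : Set K)) K] :
    Submodule.span K {KaehlerDifferential.D k K x} = ⊤ := by
  have e1 : Algebra.FormallyEtale (Algebra.adjoin k ({x} : Set K))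
      (IntermediateField.adjoin k ({x} : Set K)) :=
    Algebra.FormallyEtale.of_isLocalization (nonZeroDivisors (Algebra.adjoin k ({x} : Set K)))
  have e2 : Algebra.FormallyEtale (IntermediateField.adjoin k ({x} : Set K)) K :=
    Algebra.FormallyEtale.of_isSeparable _ _
  have e3 : Algebra.FormallyEtale (Algebra.adjoin k ({x} : Set K)) K :=
    Algebra.FormallyEtale.comp _ (IntermediateField.adjoin k ({x} : Set K)) _
  have hbc := KaehlerDifferential.isBaseChange_of_formallyEtale k (Algebra.adjoin k ({x} : Set K)) K
  have step2 : ∀ m : Ω[(Algebra.adjoin k ({x} : Set K))⁄k],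
      KaehlerDifferential.map k k (Algebra.adjoin k ({x} : Set K)) K m ∈
        Submodule.span K {KaehlerDifferential.D k K x} := by
    intro m
    have hm : m ∈ Submodule.span (Algebra.adjoin k ({x} : Set K))
        (Set.range (KaehlerDifferential.D k (Algebra.adjoin k ({x} : Set K)))) := by
      rw [KaehlerDifferential.span_range_derivation]; trivial
    induction hm using Submodule.span_induction with
    | mem y hy =>
      obtain ⟨b, rfl⟩ := hy
      rw [KaehlerDifferential.map_D]
      exact D_mem_span_of_mem_adjoin k K x b.2
    | zero => rw [map_zero]; exact Submodule.zero_mem _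
    | add y z _ _ hy hz => rw [map_add]; exact Submodule.add_mem _ hy hz
    | smul a y _ hy =>
      rw [map_smul, ← algebraMap_smul K a]
      exact Submodule.smul_mem _ _ hy
  rw [eq_top_iff]
  intro ω _
  refine hbc.inductionOn ω (fun ω => ω ∈ Submodule.span K {KaehlerDifferential.D k K x})
    (Submodule.zero_mem _) step2 (fun s n hn => Submodule.smul_mem _ _ hn)
    (fun n₁ n₂ h₁ h₂ => Submodule.add_mem _ h₁ h₂)

/-- every differential is a multiple of `dx` for a separating variable `x` -/
theorem exists_eq_smul_D {x : K}
    [Algebra.IsSeparable (IntermediateField.adjoin k ({x} : Set K)) K] (ω : Ω[K⁄k]) :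
    ∃ u : K, ω = u • KaehlerDifferential.D k K x := by
  have : ω ∈ Submodule.span K {KaehlerDifferential.D k K x} := by
    rw [span_D_eq_top k K]; trivial
  obtain ⟨u, hu⟩ := Submodule.mem_span_singleton.mp this
  exact ⟨u, hu.symm⟩

end KD2

end Groth.Agent.Helper9.FFExt
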