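import Mathlib
import Groth.Prelude.Def_W4bk4goldsch23Ext
import Groth.Agent.Lib.Helper9.FFExt.GeoSep
import Groth.Agent.Lib.Helper9.FFExt.KaehlerSep2

namespace Groth.Agent.Helper9.FFExt

open FunFld

universe u v

/-- in a geometric function field of one variable, every differential is a multiple of any
nonzero `dx` -/
theorem exists_eq_smul_D_of_ne_zero {k : Type u} {K : Type v} [Field k] [Field K] [Algebra k K]
    (hK : IsFFw k K) (hg : IsGeometric k K) {x : K} (hx : KaehlerDifferential.D k K x ≠ 0)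
    (ω : Ω[K⁄k]) : ∃ u : K, ω = u • KaehlerDifferential.D k K x := by
  obtain ⟨t, htr, hsep⟩ := exists_separating_of_isGeometric hK hg
  obtain ⟨a, ha⟩ := exists_eq_smul_D k K (x := t) (KaehlerDifferential.D k K x)
  obtain ⟨b, hb⟩ := exists_eq_smul_D k K (x := t) ω
  have ha0 : a ≠ 0 := by
    rintro rfl
    rw [zero_smul] at ha
    exact hx ha
  refine ⟨b * a⁻¹, ?_⟩
  rw [hb, ha, smul_smul, mul_assoc, inv_mul_cancel₀ ha0, mul_one]

end Groth.Agent.Helper9.FFExt
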