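import Mathlib
import Groth.Prelude.Def_W4bk4goldsch23Ext
import Groth.Prelude.Def_LocRes
import Groth.Agent.Lib.Helper9.FFExt.GeoKaehler
import Groth.Agent.Lib.Helper9.FFExt.LocRes1

namespace Groth.Agent.Helper9.FFExt

universe u v w
open FunFld WithZero
open Groth.Agent.Lib.Helper4.FF

/-- the different exponent computed on `dx'` and on `dx` agree when `dx' = u dx` -/
theorem diffExp_rel {k : Type u} {K K' : Type v} [Field k] [Field K] [Field K'] [Algebra k K]
    [Algebra K K'] [Algebra k K'] [IsScalarTower k K K']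
    {F F' : Type w} [Field F] [Algebra k F] [Field F'] [Algebra k F']
    (P : FunFld.Place k K) (Q : FunFld.Place k K') (e : ℕ) (he : FunFld.IsOverWith Q P e)
    (φ : K →ₐ[k] LaurentSeries F) (hφ : ∀ f : K, Valued.v (φ f) = P.1 f)
    (ψ : K' →ₐ[k] LaurentSeries F') (hψ : ∀ f : K', Valued.v (ψ f) = Q.1 f)
    {x x' u : K} (h : KaehlerDifferential.D k K x' = u • KaehlerDifferential.D k K x)
    (hx2 : LocRes.vDiff φ 1 x' ≠ 0) (hx2' : LocRes.vDiff ψ 1 (algebraMap K K' x') ≠ 0) :
    LocRes.diffExp φ ψ e x' = LocRes.diffExp φ ψ e x := by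
  unfold LocRes.diffExp
  rw [ordDiff_rel φ h hx2]
  have h' : KaehlerDifferential.D k K x' = u • KaehlerDifferential.D k K x := h
  have hrel : LocRes.D F' (ψ (algebraMap K K' x')) =
      ψ (algebraMap K K' u) * LocRes.D F' (ψ (algebraMap K K' x)) :=
    D_exp_rel (ψ.comp (IsScalarTower.toAlgHom k K K')) h
  have h1 : LocRes.ordDiff ψ 1 (algebraMap K K' x') =
      -log (Valued.v (ψ (algebraMap K K' u))) + LocRes.ordDiff ψ 1 (algebraMap K K' x) := by
    unfold LocRes.ordDiff
    rw [vDiff_one, hrel, map_mul] at hx2'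
    rw [vDiff_one, vDiff_one, hrel, map_mul]
    have h1 : Valued.v (ψ (algebraMap K K' u)) ≠ 0 := left_ne_zero_of_mul hx2'
    have h2 : Valued.v (LocRes.D F' (ψ (algebraMap K K' x))) ≠ 0 := right_ne_zero_of_mul hx2'
    rw [log_mul h1 h2]
    ring
  rw [h1, hφ, hψ, he u, log_pow]
  simp only [nsmul_eq_mul]
  ring

end Groth.Agent.Helper9.FFExt
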