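import Mathlib
import Groth.Prelude.Def_W4bk4goldsch23Ext
import Groth.Prelude.Def_LocRes
import Groth.Agent.Lib.Helper9.FFExt.LocRes2
import Groth.Agent.Lib.Helper9.FFExt.IntCl2
import Groth.Agent.Lib.Helper9.FFExt.KaehlerSep

/-! Universe-generalised versions of `diffExp_rel` and of the tame different exponent (S12570);
`dx ≠ 0` for the generator of a rational function field (helper9). -/

namespace Groth.Agent.Helper9.FFExt

universe u v v' w w'
open FunFld WithZero IntermediateField
open Groth.Agent.Lib.Helper4.FF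

/-- the different exponent computed on `dx'` and on `dx` agree when `dx' = u dx` -/
theorem diffExp_rel' {k : Type u} {K : Type v} {K' : Type v'} [Field k] [Field K] [Field K'] [Algebra k K]
    [Algebra K K'] [Algebra k K'] [IsScalarTower k K K']
    {F : Type w} {F' : Type w'} [Field F] [Algebra k F] [Field F'] [Algebra k F']
    (P : FunFld.Place k K) (Q : FunFld.Place k K') (e : ℕ) (he : FunFld.IsOverWith Q P e)
    (φ : K →ₐ[k] LaurentSeries F) (hφ : ∀ f : K, Valued.v (φ f) = P.1 f)
    (ψ : K' →ₐ[k] LaurentSeries F') (hψ : ∀ f : K', Valued.v (ψ f) = Q.1 f)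
    {x x' u : K} (h : KaehlerDifferential.D k K x' = u • KaehlerDifferential.D k K x)
    (hx2 : LocRes.vDiff φ 1 x' ≠ 0) (hx2' : LocRes.vDiff ψ 1 (algebraMap K K' x') ≠ 0) :
    LocRes.diffExp φ ψ e x' = LocRes.diffExp φ ψ e x := by
  unfold LocRes.diffExp
  rw [ordDiff_rel φ h hx2]
  have h' : KaehlerDifferential.D k K x' = u • KaehlerDifferential.D k K x := h
  have hrel : LocRes.D F' (ψ (algebraMap K K' x')) =
      ψ (algebraMap K K' u) * LocRes.D F' (ψ (algebraMap K K' x)) :=
    D_exp_rel (ψ.comp (IsScalarTower.toAlgHom k K K')) h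
  have h1 : LocRes.ordDiff ψ 1 (algebraMap K K' x') =
      -log (Valued.v (ψ (algebraMap K K' u))) + LocRes.ordDiff ψ 1 (algebraMap K K' x) := by
    unfold LocRes.ordDiff
    rw [vDiff_one, hrel, map_mul] at hx2'
    rw [vDiff_one, vDiff_one, hrel, map_mul]
    have h1 : Valued.v (ψ (algebraMap K K' u)) ≠ 0 := left_ne_zero_of_mul hx2'
    have h2 : Valued.v (LocRes.D F' (ψ (algebraMap K K' x))) ≠ 0 := right_ne_zero_of_mul hx2'
    rw [log_mul h1 h2]
    ring
  rw [h1, hφ, hψ, he u, log_pow]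
  simp only [nsmul_eq_mul]
  ring



/-- the derivative of a series of order one has order zero -/
theorem val_D_of_val_exp_neg_one {F : Type*} [Field F] (f : LaurentSeries F)
    (hf : Valued.v f = exp (-1)) : Valued.v (LocRes.D F f) = 1 := by
  have h1 := (val_eq_exp_iff f 1).mp hf
  have : Valued.v (LocRes.D F f) = exp (-(0 : ℤ)) := by
    rw [val_eq_exp_iff]
    constructor
    · intro n hn
      rw [LocRes.D_coeff, h1.1 (n + 1) (by omega), smul_zero]
    · rw [LocRes.D_coeff]
      simpa using h1.2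
  simpa using this

theorem diffExp_tame (k : Type u) (K : Type v) (K' : Type v') [Field k] [Field K] [Field K'] [Algebra k K] [Algebra K K'] [Algebra k K']
    [IsScalarTower k K K']
    (hK : FunFld.IsFunctionField k K) (hg : FunFld.IsGeometric k K)
    (F : Type w) (F' : Type w') [Field F] [Algebra k F] [Field F'] [Algebra k F']
    (P : FunFld.Place k K) (Q : FunFld.Place k K') (e : ℕ) (he : FunFld.IsOverWith Q P e)
    (φ : K →ₐ[k] LaurentSeries F) (hφ : LocRes.IsExpansionAt P.1 φ)
    (ψ : K' →ₐ[k] LaurentSeries F') (hψ : LocRes.IsExpansionAt Q.1 ψ)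
    (x : K) (hx : LocRes.vDiff φ 1 x ≠ 0) (hx' : LocRes.vDiff ψ 1 (algebraMap K K' x) ≠ 0) :
    (¬ (ringChar K ∣ e) → LocRes.diffExp φ ψ e x = (e : ℤ) - 1) ∧
    (ringChar K ∣ e → (e : ℤ) ≤ LocRes.diffExp φ ψ e x) := by
  obtain ⟨t, ht⟩ := hφ.2.2
  have hvt : Valued.v (φ t) = exp (-1) := by rw [hφ.1, ht]
  have hDt : Valued.v (LocRes.D F (φ t)) = 1 := val_D_of_val_exp_neg_one _ hvt
  have hvd : LocRes.vDiff φ 1 t = 1 := by rw [vDiff_one, hDt]
  have hvd0 : LocRes.vDiff φ 1 t ≠ 0 := by rw [hvd]; exact one_ne_zero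
  have hDt0 : KaehlerDifferential.D k K t ≠ 0 := D_ne_zero_of_vDiff φ hvd0
  obtain ⟨u, hu⟩ := exists_eq_smul_D_of_ne_zero hK.1 hg hDt0 (KaehlerDifferential.D k K x)
  have hrel : LocRes.D F' (ψ (algebraMap K K' x)) =
      ψ (algebraMap K K' u) * LocRes.D F' (ψ (algebraMap K K' t)) :=
    D_exp_rel (ψ.comp (IsScalarTower.toAlgHom k K K')) hu
  have hψt0 : Valued.v (LocRes.D F' (ψ (algebraMap K K' t))) ≠ 0 := by
    rw [vDiff_one, hrel, map_mul] at hx'
    exact right_ne_zero_of_mul hx'
  have heq : LocRes.diffExp φ ψ e x = LocRes.diffExp φ ψ e t :=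
    diffExp_rel' P Q e he φ hφ.1 ψ hψ.1 hu hx hx'
  have hord0 : LocRes.ordDiff φ 1 t = 0 := by
    unfold LocRes.ordDiff; rw [hvd]; simp
  have hdt : LocRes.diffExp φ ψ e t = -log (Valued.v (LocRes.D F' (ψ (algebraMap K K' t)))) := by
    unfold LocRes.diffExp
    rw [hord0, mul_zero, sub_zero]
    unfold LocRes.ordDiff
    rw [vDiff_one]
  rw [heq, hdt]
  -- the expansion of `t` above
  have hg1 : Valued.v (ψ (algebraMap K K' t)) = exp (-(e : ℤ)) := by
    rw [hψ.1, he t, ht, exp_neg_one_pow]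
  have hg2 := (val_eq_exp_iff _ _).mp hg1
  have hcoeff : ∀ n : ℤ, n < (e : ℤ) - 1 →
      (LocRes.D F' (ψ (algebraMap K K' t))).coeff n = 0 := by
    intro n hn
    rw [LocRes.D_coeff, hg2.1 (n + 1) (by omega), smul_zero]
  have hcoeff1 : (LocRes.D F' (ψ (algebraMap K K' t))).coeff ((e : ℤ) - 1) =
      (e : F') * (ψ (algebraMap K K' t)).coeff e := by
    rw [LocRes.D_coeff, sub_add_cancel, zsmul_eq_mul]
    simp
  have hchar : ringChar K = ringChar F' := by
    rw [← Algebra.ringChar_eq k K, ← Algebra.ringChar_eq k F']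
  constructor
  · intro hnd
    have hne : (e : F') ≠ 0 := by
      intro h0
      apply hnd
      rw [hchar]
      exact (ringChar.spec F' e).mp h0
    have : Valued.v (LocRes.D F' (ψ (algebraMap K K' t))) = exp (-((e : ℤ) - 1)) := by
      rw [val_eq_exp_iff]
      exact ⟨hcoeff, by rw [hcoeff1]; exact mul_ne_zero hne hg2.2⟩
    rw [this, log_exp]
    ring
  · intro hd
    have h0 : (e : F') = 0 := by
      rw [hchar] at hd
      exact (ringChar.spec F' e).mpr hd
    have hle : Valued.v (LocRes.D F' (ψ (algebraMap K K' t))) ≤ exp (-(e : ℤ)) := by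
      rw [LaurentSeries.valuation_le_iff_coeff_lt_eq_zero]
      intro n hn
      rcases (show n ≤ (e : ℤ) - 1 by omega).lt_or_eq with h1 | h1
      · exact hcoeff n h1
      · rw [h1, hcoeff1, h0, zero_mul]
    obtain ⟨m, hm⟩ : ∃ m : ℤ, Valued.v (LocRes.D F' (ψ (algebraMap K K' t))) = exp m :=
      ⟨_, (exp_log hψt0).symm⟩
    rw [hm, exp_le_exp] at hle
    rw [hm, log_exp]
    omega



theorem transcendental_algebraMap_X {k K : Type*} [Field k] [Field K] [Algebra k K]
    [Algebra (RatFunc k) K] [IsScalarTower k (RatFunc k) K] :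
    Transcendental k (algebraMap (RatFunc k) K RatFunc.X) := by
  rw [transcendental_algebraMap_iff (algebraMap (RatFunc k) K).injective]
  exact RatFunc.transcendental_X

/-- `K/k(x)` separable, then `K` is separable over `k(t)`, `t` the image of `x` -/
theorem isSeparable_adjoin_algebraMap_X {k K : Type*} [Field k] [Field K] [Algebra k K]
    [Algebra (RatFunc k) K] [IsScalarTower k (RatFunc k) K] [Algebra.IsSeparable (RatFunc k) K] :
    Algebra.IsSeparable (IntermediateField.adjoin k ({algebraMap (RatFunc k) K RatFunc.X} : Set K)) K := by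
  let f : RatFunc k →ₐ[k] K := IsScalarTower.toAlgHom k (RatFunc k) K
  have hrange : f.fieldRange = IntermediateField.adjoin k ({algebraMap (RatFunc k) K RatFunc.X} : Set K) := by
    rw [AlgHom.fieldRange_eq_map, ← RatFunc.adjoin_X, IntermediateField.adjoin_map, Set.image_singleton]
    rfl
  let e₁ : RatFunc k ≃ₐ[k] IntermediateField.adjoin k ({algebraMap (RatFunc k) K RatFunc.X} : Set K) :=
    (AlgEquiv.ofInjectiveField f).trans (IntermediateField.equivOfEq hrange)
  refine Algebra.IsSeparable.of_equiv_equiv e₁.toRingEquiv (RingEquiv.refl K) ?_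
  ext x
  rfl

theorem D_algebraMap_X_ne_zero {k K : Type*} [Field k] [Field K] [Algebra k K]
    [Algebra (RatFunc k) K] [IsScalarTower k (RatFunc k) K] [Algebra.IsSeparable (RatFunc k) K] :
    KaehlerDifferential.D k K (algebraMap (RatFunc k) K RatFunc.X) ≠ 0 := by
  have := isSeparable_adjoin_algebraMap_X (k := k) (K := K)
  exact D_ne_zero_of_isSeparable k K transcendental_algebraMap_X

theorem D_X_ne_zero {k : Type*} [Field k] :
    KaehlerDifferential.D k (RatFunc k) RatFunc.X ≠ 0 :=
  D_algebraMap_X_ne_zero (k := k) (K := RatFunc k)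

end Groth.Agent.Helper9.FFExt
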