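import Mathlib
import Groth.Prelude.Def_W4bk4goldsch23Ext
import Groth.Agent.Lib.Helper9.FFExt.Weak
import Groth.Agent.Lib.Helper9.FFExt.InertiaField
import Groth.Agent.Lib.Helper4.FF.Approx

namespace Groth.Agent.Helper9.FFExt

open FunFld WithZero
open Groth.Agent.Lib.Helper4.FF

section ResBasis

variable {k K K' : Type*} [Field k] [Field K] [Field K'] [Algebra k K] [Algebra K K']
  [Algebra k K'] [IsScalarTower k K K']

/-- the residue field extension `F_P → F_Q` -/
@[reducible] noncomputable def resAlg {Q : Place k K'} {P : Place k K} (h : IsOver Q P) :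
    Algebra (IsLocalRing.ResidueField P.O) (IsLocalRing.ResidueField Q.O) :=
  have := resMapO_isLocalHom h
  (IsLocalRing.ResidueField.map (resMapO h)).toAlgebra

lemma resAlg_tower {Q : Place k K'} {P : Place k K} (h : IsOver Q P) :
    @IsScalarTower k (IsLocalRing.ResidueField P.O) (IsLocalRing.ResidueField Q.O) _
      (resAlg h).toSMul _ := by
  have := resMapO_isLocalHom h
  let _ : Algebra (IsLocalRing.ResidueField P.O) (IsLocalRing.ResidueField Q.O) := resAlg h
  refine IsScalarTower.of_algebraMap_eq fun c => ?_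
  change IsLocalRing.residue Q.O (algebraMap k Q.O c) =
    IsLocalRing.ResidueField.map (resMapO h) (IsLocalRing.residue P.O (algebraMap k P.O c))
  rw [IsLocalRing.ResidueField.map_residue]
  congr 1
  apply Subtype.ext
  change algebraMap k K' c = algebraMap K K' (algebraMap k K c)
  rw [← IsScalarTower.algebraMap_apply]

lemma resAlg_algebraMap_residue {Q : Place k K'} {P : Place k K} (h : IsOver Q P) (z : P.O) :
    @algebraMap _ _ _ _ (resAlg h) (IsLocalRing.residue P.O z) =
      IsLocalRing.residue Q.O (resMapO h z) := by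
  have := resMapO_isLocalHom h
  change IsLocalRing.ResidueField.map (resMapO h) (IsLocalRing.residue P.O z) = _
  rw [IsLocalRing.ResidueField.map_residue]

/-- A residue basis: `f = f(Q|P)` elements of `O_Q` such that every `O_P`-combination with a unit
coefficient is a unit of `O_Q`. -/
theorem exists_resBasis {Q : Place k K'} {P : Place k K} (hdeg : 0 < Q.deg) (h : IsOver Q P) :
    ∃ (f : ℕ) (u : ℕ → K'), f * P.deg = Q.deg ∧ (∀ j, Q.1 (u j) ≤ 1) ∧
      ∀ c : ℕ → K, (∀ j < f, P.1 (c j) ≤ 1) → (∃ j < f, P.1 (c j) = 1) →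
        Q.1 (∑ j ∈ Finset.range f, algebraMap K K' (c j) * u j) = 1 := by
  classical
  have hloc := resMapO_isLocalHom h
  let _ : Algebra (IsLocalRing.ResidueField P.O) (IsLocalRing.ResidueField Q.O) := resAlg h
  have htower : IsScalarTower k (IsLocalRing.ResidueField P.O) (IsLocalRing.ResidueField Q.O) :=
    resAlg_tower h
  have hfinQ : Module.Finite k (IsLocalRing.ResidueField Q.O) := Module.finite_of_finrank_pos hdeg
  have hfin : Module.Finite (IsLocalRing.ResidueField P.O) (IsLocalRing.ResidueField Q.O) :=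
    @Module.Finite.of_restrictScalars_finite k (IsLocalRing.ResidueField P.O)
      (IsLocalRing.ResidueField Q.O) _ _ _ _ _ _ htower hfinQ
  let b := Module.finBasis (IsLocalRing.ResidueField P.O) (IsLocalRing.ResidueField Q.O)
  set f := Module.finrank (IsLocalRing.ResidueField P.O) (IsLocalRing.ResidueField Q.O) with hf
  have hlift : ∀ j : Fin f, ∃ z : Q.O, IsLocalRing.residue Q.O z = b j := fun j =>
    IsLocalRing.residue_surjective _
  choose ũ hũ using hlift
  obtain ⟨u, hu⟩ : ∃ u : ℕ → K', u = fun j => if hj : j < f then (ũ ⟨j, hj⟩ : K') else 0 :=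
    ⟨_, rfl⟩
  have hu1 : ∀ j (hj : j < f), u j = (ũ ⟨j, hj⟩ : K') := fun j hj => by rw [hu]; exact dif_pos hj
  have hu2 : ∀ j, ¬ j < f → u j = 0 := fun j hj => by rw [hu]; exact dif_neg hj
  refine ⟨f, u, ?_, ?_, ?_⟩
  · have h1 : Q.deg = P.deg * f :=
      finrank_tower_general k (IsLocalRing.ResidueField P.O) (IsLocalRing.ResidueField Q.O)
    rw [h1, mul_comm]
  · intro j
    by_cases hj : j < f
    · rw [hu1 j hj]; exact (Place.mem_O_iff Q).mp (ũ ⟨j, hj⟩).2
    · rw [hu2 j hj, map_zero]; exact zero_le_one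
  · intro c hc ⟨j₀, hj₀, hcj₀⟩
    -- the element of `O_Q`
    let c' : Fin f → P.O := fun j => ⟨c j, (Place.mem_O_iff P).mpr (hc j j.2)⟩
    let z : Q.O := ∑ j : Fin f, resMapO h (c' j) * ũ j
    have hz : (z : K') = ∑ j ∈ Finset.range f, algebraMap K K' (c j) * u j := by
      rw [Finset.sum_range]
      change ((∑ j : Fin f, resMapO h (c' j) * ũ j : Q.O) : K') = _
      rw [AddSubmonoidClass.coe_finsetSum]
      refine Finset.sum_congr rfl fun j _ => ?_
      rw [hu1 j j.2]
      rfl
    rw [← hz]
    have hres : IsLocalRing.residue Q.O z =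
        ∑ j : Fin f, IsLocalRing.residue P.O (c' j) • b j := by
      change IsLocalRing.residue Q.O (∑ j : Fin f, resMapO h (c' j) * ũ j) = _
      rw [map_sum]
      refine Finset.sum_congr rfl fun j _ => ?_
      rw [map_mul, hũ, Algebra.smul_def, resAlg_algebraMap_residue]
    have hne : IsLocalRing.residue Q.O z ≠ 0 := by
      rw [hres]
      intro h0
      have := Fintype.linearIndependent_iff.mp b.linearIndependent _ h0 ⟨j₀, hj₀⟩
      rw [IsLocalRing.residue_eq_zero_iff, mem_maximalIdeal_iff (k := k) P] at this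
      change P.1 (c j₀) < 1 at this
      rw [hcj₀] at this
      exact lt_irrefl _ this
    have hle : Q.1 (z : K') ≤ 1 := (Place.mem_O_iff Q).mp z.2
    apply le_antisymm hle
    by_contra hlt
    push Not at hlt
    apply hne
    rw [IsLocalRing.residue_eq_zero_iff, mem_maximalIdeal_iff (k := k) Q]
    exact hlt

end ResBasis

end Groth.Agent.Helper9.FFExt
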