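import Mathlib
import Groth.Prelude.Def_W4bk4goldsch23Ext
import Groth.Agent.Lib.Helper9.FFExt.Weak
import Groth.Agent.Lib.Helper9.FFExt.InertiaField
import Groth.Agent.Lib.Helper4.FF.Approx
import Groth.Agent.Lib.Helper9.FFExt.IntCl1
import Groth.Agent.Lib.Helper9.FFExt.IntCl2

namespace Groth.Agent.Helper9.FFExt

open FunFld WithZero
open Groth.Agent.Lib.Helper4.FF

section Basis

universe u v w

variable {k : Type u} {K : Type v} {K' : Type w} [Field k] [Field K] [Field K'] [Algebra k K]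
  [Algebra K K'] [Algebra k K'] [IsScalarTower k K K'] [FiniteDimensional K K']

/-- A family of `[K':K]` elements, integral at all places above `P`, such that no `O_P`-combination
with a unit coefficient lies in `π R`. -/
theorem exists_integral_family (hK : IsFFw k K) (P : Place k K) :
    ∃ (ι : Type w) (_ : Fintype ι) (w : ι → K'),
      Fintype.card ι = Module.finrank K K' ∧
      (∀ i Q, IsOver Q P → Q.1 (w i) ≤ 1) ∧
      ∀ c : ι → K, (∀ i, P.1 (c i) ≤ 1) → (∃ i, P.1 (c i) = 1) →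
        ∃ Q : Place k K', ∃ e : ℕ, IsOverWith Q P e ∧
          exp (-(e : ℤ)) < Q.1 (∑ i, algebraMap K K' (c i) * w i) := by
  classical
  obtain ⟨hfinS, hsum⟩ := sum_ramIdx_mul_deg_w (K' := K') hK P
  obtain ⟨S, hSdef⟩ : ∃ S : Finset (Place k K'), S = hfinS.toFinset := ⟨_, rfl⟩
  have hS : ∀ Q, Q ∈ S ↔ IsOver Q P := fun Q => by rw [hSdef, Set.Finite.mem_toFinset]; rfl
  have hK' := isFFw_of_finite K' hK
  have hrb : ∀ Q : Place k K', ∃ (f : ℕ) (u : ℕ → K'), IsOver Q P →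
      (f * P.deg = Q.deg ∧ (∀ j, Q.1 (u j) ≤ 1) ∧
      ∀ c : ℕ → K, (∀ j < f, P.1 (c j) ≤ 1) → (∃ j < f, P.1 (c j) = 1) →
        Q.1 (∑ j ∈ Finset.range f, algebraMap K K' (c j) * u j) = 1) := by
    intro Q
    by_cases h : IsOver Q P
    · obtain ⟨f, u, h1, h2, h3⟩ := exists_resBasis (deg_pos_w hK' Q) h
      exact ⟨f, u, fun _ => ⟨h1, h2, h3⟩⟩
    · exact ⟨0, fun _ => 0, fun h' => absurd h' h⟩
  choose f u hfu using hrb
  choose t ht using fun Q : Place k K' => Place.exists_uniformizer Q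
  obtain ⟨e, hedef⟩ : ∃ e : Place k K' → ℕ, e = fun Q => ramIdx Q P := ⟨_, rfl⟩
  have he : ∀ Q ∈ S, IsOverWith Q P (e Q) := fun Q hQ => by
    rw [hedef]; exact isOver_isOverWith ((hS Q).mp hQ)
  obtain ⟨N, hNdef⟩ : ∃ N : ℕ, N = ∑ Q ∈ S, e Q := ⟨_, rfl⟩
  have hN : ∀ Q ∈ S, e Q ≤ N := fun Q hQ => by
    rw [hNdef]; exact Finset.single_le_sum (f := e) (fun _ _ => Nat.zero_le _) hQ
  have hwex : ∀ (Q : Place k K') (a j : ℕ), ∃ z : K', ∀ Q' ∈ S,
      Q'.1 (z - (if Q' = Q then t Q ^ a * u Q j else 0)) ≤ exp (-(N : ℤ)) := fun Q a j =>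
    exists_approx_le S (fun Q' => if Q' = Q then t Q ^ a * u Q j else 0) N
  choose w hw using hwex
  obtain ⟨T, hT⟩ : ∃ T, T = S.sigma (fun Q => Finset.range (e Q) ×ˢ Finset.range (f Q)) :=
    ⟨_, rfl⟩
  have hmemT : ∀ p : (Σ _ : Place k K', ℕ × ℕ),
      p ∈ T ↔ p.1 ∈ S ∧ p.2.1 < e p.1 ∧ p.2.2 < f p.1 := by
    intro p
    rw [hT, Finset.mem_sigma, Finset.mem_product, Finset.mem_range, Finset.mem_range]
  refine ⟨↥T, inferInstance, fun p => w p.1.1 p.1.2.1 p.1.2.2, ?_, ?_, ?_⟩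
  · -- cardinality
    rw [Fintype.card_coe, hT, Finset.card_sigma]
    have h1 := hsum S hS
    have h2 : ∑ Q ∈ S, ramIdx Q P * Q.deg = (∑ Q ∈ S, e Q * f Q) * P.deg := by
      rw [Finset.sum_mul]
      refine Finset.sum_congr rfl fun Q hQ => ?_
      rw [← (hfu Q ((hS Q).mp hQ)).1, hedef]
      ring
    rw [h2] at h1
    have h3 := Nat.eq_of_mul_eq_mul_right (deg_pos_w hK P) h1
    rw [← h3]
    refine Finset.sum_congr rfl fun Q _ => ?_
    rw [Finset.card_product, Finset.card_range, Finset.card_range]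
  · -- integrality
    rintro ⟨⟨Q, a, j⟩, hp⟩ Q' hQ'
    obtain ⟨hQ, ha, hj⟩ := (hmemT _).mp hp
    simp only at hQ ha hj
    have hQ'S := (hS Q').mpr hQ'
    have h1 := hw Q a j Q' hQ'S
    change Q'.1 (w Q a j) ≤ 1
    have h2 : Q'.1 (if Q' = Q then t Q ^ a * u Q j else 0) ≤ 1 := by
      split_ifs with hQQ
      · subst hQQ
        rw [map_mul, map_pow, ht]
        refine mul_le_one' (pow_le_one' ?_ _) ((hfu Q' hQ').2.1 j)
        rw [← exp_zero, exp_le_exp]; omega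
      · rw [map_zero]; exact zero_le_one
    have h3 : w Q a j = (w Q a j - (if Q' = Q then t Q ^ a * u Q j else 0)) +
        (if Q' = Q then t Q ^ a * u Q j else 0) := by ring
    rw [h3]
    refine (Q'.1.map_add _ _).trans (max_le (h1.trans ?_) h2)
    rw [← exp_zero, exp_le_exp]; omega
  · -- the key estimate
    intro c hc ⟨i₀, hi₀⟩
    obtain ⟨c', hc'⟩ : ∃ c' : (Σ _ : Place k K', ℕ × ℕ) → K,
        c' = fun p => if hp : p ∈ T then c ⟨p, hp⟩ else 0 := ⟨_, rfl⟩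
    have hc'1 : ∀ i : ↥T, c' i.1 = c i := fun i => by rw [hc']; simp
    have key := key_estimate P S e f t u w N he hN (fun Q _ => ht Q)
      (fun Q hQ => (hfu Q ((hS Q).mp hQ)).2.1) (fun Q hQ => (hfu Q ((hS Q).mp hQ)).2.2)
      (fun Q _ a j Q' hQ' => hw Q a j Q' hQ') c'
      (by rw [← hT]; intro p hp; rw [show c' p = c ⟨p, hp⟩ from hc'1 ⟨p, hp⟩]; exact hc _)
      (by rw [← hT]; exact ⟨i₀.1, i₀.2, by rw [hc'1]; exact hi₀⟩)
    obtain ⟨Q, hQ, hlt⟩ := key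
    refine ⟨Q, e Q, he Q hQ, ?_⟩
    rw [← hT] at hlt
    have hsum_eq : ∑ i : ↥T, algebraMap K K' (c i) * w i.1.1 i.1.2.1 i.1.2.2 =
        ∑ p ∈ T, algebraMap K K' (c' p) * w p.1 p.2.1 p.2.2 := by
      rw [← Finset.sum_coe_sort T]
      refine Finset.sum_congr rfl fun i _ => ?_
      rw [hc'1]
    rw [hsum_eq]
    exact hlt

omit [FiniteDimensional K K'] [Algebra k K'] [IsScalarTower k K K'] [Algebra K K'] [Field K'] in
lemma exists_max_coeff {ι : Type*} [Fintype ι] (P : Place k K) (g : ι → K) (i₁ : ι)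
    (hi₁ : g i₁ ≠ 0) : ∃ i₀, g i₀ ≠ 0 ∧ ∀ i, P.1 (g i) ≤ P.1 (g i₀) := by
  classical
  obtain ⟨i₀, -, hmax⟩ := Finset.exists_max_image Finset.univ (fun i => P.1 (g i)) ⟨i₁, Finset.mem_univ _⟩
  refine ⟨i₀, ?_, fun i => hmax i (Finset.mem_univ _)⟩
  intro h0
  have := hmax i₁ (Finset.mem_univ _)
  rw [h0, map_zero] at this
  exact hi₁ ((map_eq_zero _).mp (le_antisymm this zero_le))

/-- **Local integral basis.** A `K`-basis of `K'` which is an `O_P`-basis of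
`⋂_{Q | P} O_Q`. -/
theorem exists_integral_basis (hK : IsFFw k K) (P : Place k K) :
    ∃ B : Module.Basis (Fin (Module.finrank K K')) K K',
      (∀ i Q, IsOver Q P → Q.1 (B i) ≤ 1) ∧
      ∀ x : K', (∀ Q, IsOver Q P → Q.1 x ≤ 1) → ∀ i, P.1 (B.repr x i) ≤ 1 := by
  classical
  obtain ⟨ι, _, w, hcard, hint, hkey⟩ := exists_integral_family (K' := K') hK P
  have hcomb : ∀ (g : ι → K) (i₀ : ι), g i₀ ≠ 0 →
      ∑ i, algebraMap K K' (g i / g i₀) * w i = algebraMap K K' (g i₀)⁻¹ * ∑ i, g i • w i := by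
    intro g i₀ _
    rw [Finset.mul_sum]
    refine Finset.sum_congr rfl fun i _ => ?_
    rw [Algebra.smul_def, div_eq_mul_inv, map_mul]
    ring
  have hli : LinearIndependent K w := by
    rw [Fintype.linearIndependent_iff]
    intro g hg
    by_contra hne
    push Not at hne
    obtain ⟨i₁, hi₁⟩ := hne
    obtain ⟨i₀, hi₀, hmax⟩ := exists_max_coeff P g i₁ hi₁
    have hv0 : P.1 (g i₀) ≠ 0 := (Valuation.ne_zero_iff _).mpr hi₀
    obtain ⟨Q, e, -, hlt⟩ := hkey (fun i => g i / g i₀)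
      (fun i => by rw [map_div₀]; exact div_le_one_of_le₀ (hmax i) zero_le)
      ⟨i₀, by rw [div_self hi₀, map_one]⟩
    rw [hcomb g i₀ hi₀, hg, mul_zero, map_zero] at hlt
    exact not_lt_zero hlt
  have hne : Nonempty ι := Fintype.card_pos_iff.mp (by rw [hcard]; exact Module.finrank_pos)
  let B0 := basisOfLinearIndependentOfCardEqFinrank hli hcard
  have hB0 : ∀ i, B0 i = w i := fun i => by
    rw [coe_basisOfLinearIndependentOfCardEqFinrank]
  refine ⟨B0.reindex (Fintype.equivFinOfCardEq hcard), ?_, ?_⟩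
  · intro i Q hQ
    rw [Module.Basis.reindex_apply, hB0]
    exact hint _ Q hQ
  · intro x hx i
    rw [Module.Basis.repr_reindex_apply]
    by_contra hgt
    push Not at hgt
    obtain ⟨g, hgdef⟩ : ∃ g : ι → K, g = fun i => B0.repr x i := ⟨_, rfl⟩
    have hxsum : ∑ i, g i • w i = x := by
      rw [hgdef]
      conv_rhs => rw [← B0.sum_repr x]
      refine Finset.sum_congr rfl fun i _ => ?_
      rw [hB0]
    set i₁ := (Fintype.equivFinOfCardEq hcard).symm i with hi₁def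
    have hgi₁ : 1 < P.1 (g i₁) := by rw [hgdef]; exact hgt
    have hi₁ : g i₁ ≠ 0 := by
      intro h0
      rw [h0, map_zero] at hgi₁
      exact not_lt_zero hgi₁
    obtain ⟨i₀, hi₀, hmax⟩ := exists_max_coeff P g i₁ hi₁
    have hbig : 1 < P.1 (g i₀) := lt_of_lt_of_le hgi₁ (hmax i₁)
    obtain ⟨Q, e, he, hlt⟩ := hkey (fun i => g i / g i₀)
      (fun i => by rw [map_div₀]; exact div_le_one_of_le₀ (hmax i) zero_le)
      ⟨i₀, by rw [div_self hi₀, map_one]⟩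
    rw [hcomb g i₀ hi₀, hxsum, map_mul, he, map_inv₀, inv_pow] at hlt
    have h1 : Q.1 x ≤ 1 := hx Q ⟨e, he⟩
    have h2 : exp (1 : ℤ) ≤ P.1 (g i₀) := one_lt_iff_exp_one_le.mp hbig
    have h3 : exp (e : ℤ) ≤ P.1 (g i₀) ^ e := by
      calc exp (e : ℤ) = exp (1 : ℤ) ^ e := by rw [← exp_nsmul]; simp
        _ ≤ _ := pow_le_pow_left₀ zero_le h2 e
    have h4 : (P.1 (g i₀) ^ e)⁻¹ ≤ exp (-(e : ℤ)) := by
      rw [exp_neg]
      exact inv_anti₀ exp_pos h3
    have h5 : (P.1 (g i₀) ^ e)⁻¹ * Q.1 x ≤ exp (-(e : ℤ)) :=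
      (mul_le_mul' h4 h1).trans_eq (mul_one _)
    exact absurd hlt (not_lt.mpr h5)

end Basis

end Groth.Agent.Helper9.FFExt
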