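import Mathlib
import Groth.Prelude.Def_W4bk4goldsch23Ext
import Groth.Agent.Lib.Helper9.FFExt.IntCl3

namespace Groth.Agent.Helper9.FFExt

open FunFld WithZero
open Groth.Agent.Lib.Helper4.FF

section IntegralClosure

variable {k K K' : Type*} [Field k] [Field K] [Field K'] [Algebra k K] [Algebra K K']
  [Algebra k K'] [IsScalarTower k K K']

omit [Algebra k K'] [IsScalarTower k K K'] in
lemma algebraMap_O_apply (P : Place k K) [Algebra P.O K'] [IsScalarTower P.O K K'] (z : P.O) :
    algebraMap P.O K' z = algebraMap K K' (z : K) :=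
  IsScalarTower.algebraMap_apply P.O K K' z

/-- elements integral over `O_P` are integral at every place above `P` -/
theorem val_le_one_of_isIntegral {Q : Place k K'} {P : Place k K} (h : IsOver Q P)
    [Algebra P.O K'] [IsScalarTower P.O K K'] {x : K'} (hx : IsIntegral P.O x) : Q.1 x ≤ 1 := by
  let _ : Algebra P.O Q.O := (resMapO h).toAlgebra
  have htower : IsScalarTower P.O Q.O K' := IsScalarTower.of_algebraMap_eq fun z => by
    rw [algebraMap_O_apply]
    rfl
  have h1 : IsIntegral Q.O x := hx.tower_top
  exact (Valuation.valuationSubring.integers Q.1).isIntegral_iff_v_le_one.mp h1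

variable [FiniteDimensional K K']

/-- the ring `⋂_{Q | P} O_Q` as an `O_P`-subalgebra of `K'` -/
def semilocal (P : Place k K) [Algebra P.O K'] [IsScalarTower P.O K K'] : Subalgebra P.O K' where
  carrier := {x | ∀ Q : Place k K', IsOver Q P → Q.1 x ≤ 1}
  mul_mem' {a b} ha hb Q hQ := by
    rw [map_mul]; exact mul_le_one' (ha Q hQ) (hb Q hQ)
  one_mem' Q _ := by rw [map_one]
  add_mem' {a b} ha hb Q hQ := (Q.1.map_add a b).trans (max_le (ha Q hQ) (hb Q hQ))
  zero_mem' Q _ := by rw [map_zero]; exact zero_le_one
  algebraMap_mem' z Q hQ := by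
    obtain ⟨e, he⟩ := hQ
    rw [algebraMap_O_apply, ow_le_one_iff he]
    exact (Place.mem_O_iff P).mp z.2

omit [FiniteDimensional K K'] in
lemma mem_semilocal (P : Place k K) [Algebra P.O K'] [IsScalarTower P.O K K'] (x : K') :
    x ∈ semilocal (K' := K') P ↔ ∀ Q : Place k K', IsOver Q P → Q.1 x ≤ 1 := Iff.rfl

/-- `⋂_{Q | P} O_Q` is a free `O_P`-module on a `K`-basis of `K'` -/
theorem semilocal_eq_span (hK : IsFFw k K) (P : Place k K) [Algebra P.O K']
    [IsScalarTower P.O K K'] :
    ∃ B : Module.Basis (Fin (Module.finrank K K')) K K',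
      Subalgebra.toSubmodule (semilocal (K' := K') P) = Submodule.span P.O (Set.range B) := by
  obtain ⟨B, hB1, hB2⟩ := exists_integral_basis (K' := K') hK P
  refine ⟨B, le_antisymm ?_ ?_⟩
  · intro x hx
    have hx' : ∀ Q : Place k K', IsOver Q P → Q.1 x ≤ 1 := hx
    have hrepr := hB2 x hx'
    have hxsum : x = ∑ i, (⟨B.repr x i, (Place.mem_O_iff P).mpr (hrepr i)⟩ : P.O) • B i := by
      conv_lhs => rw [← B.sum_repr x]
      refine Finset.sum_congr rfl fun i _ => ?_
      rw [Algebra.smul_def, Algebra.smul_def, algebraMap_O_apply]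
    rw [hxsum]
    exact Submodule.sum_mem _ fun i _ =>
      Submodule.smul_mem _ _ (Submodule.subset_span ⟨i, rfl⟩)
  · rw [Submodule.span_le]
    rintro _ ⟨i, rfl⟩
    exact fun Q hQ => hB1 i Q hQ

/-- **The integral closure of `O_P` in a finite extension is `⋂_{Q | P} O_Q`.** -/
theorem isIntegral_iff (hK : IsFFw k K) (P : Place k K) [Algebra P.O K']
    [IsScalarTower P.O K K'] (x : K') :
    IsIntegral P.O x ↔ ∀ Q : Place k K', IsOver Q P → Q.1 x ≤ 1 := by
  constructor
  · intro hx Q hQ
    exact val_le_one_of_isIntegral hQ hx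
  · intro hx
    obtain ⟨B, hB⟩ := semilocal_eq_span (K' := K') hK P
    refine IsIntegral.of_mem_of_fg (semilocal (K' := K') P) ?_ x hx
    rw [hB]
    exact Submodule.fg_span (Set.finite_range _)

theorem integralClosure_eq_semilocal (hK : IsFFw k K) (P : Place k K) [Algebra P.O K']
    [IsScalarTower P.O K K'] : integralClosure P.O K' = semilocal (K' := K') P := by
  ext x
  exact isIntegral_iff hK P x

/-- the integral closure of `O_P` in a finite extension (separable or not) is module-finite -/
theorem finite_integralClosure (hK : IsFFw k K) (P : Place k K) [Algebra P.O K']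
    [IsScalarTower P.O K K'] : Module.Finite P.O (integralClosure P.O K') := by
  rw [integralClosure_eq_semilocal hK P]
  obtain ⟨B, hB⟩ := semilocal_eq_span (K' := K') hK P
  have : (Subalgebra.toSubmodule (semilocal (K' := K') P)).FG := by
    rw [hB]
    exact Submodule.fg_span (Set.finite_range _)
  exact Module.Finite.of_fg this

end IntegralClosure

end Groth.Agent.Helper9.FFExt
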