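import Mathlib
import Groth.Prelude.Def_W4bk4goldsch23Ext
import Groth.Agent.Lib.Helper9.FFExt.IntCl4

namespace Groth.Agent.Helper9.FFExt

open FunFld WithZero TensorProduct
open Groth.Agent.Lib.Helper4.FF

section ConstBasis

variable {k k' K K' : Type*} [Field k] [Field k'] [Field K] [Field K']
  [Algebra k k'] [Algebra k K] [Algebra K K'] [Algebra k' K'] [Algebra k K']
  [IsScalarTower k k' K'] [IsScalarTower k K K']

variable (k k' K K') in
/-- the canonical map `k' ⊗_k K → K'` -/
noncomputable abbrev pm : k' ⊗[k] K →ₐ[k] K' :=
  Algebra.TensorProduct.productMap (IsScalarTower.toAlgHom k k' K') (IsScalarTower.toAlgHom k K K')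

lemma pm_sum {ι : Type*} (b : Module.Basis ι k k') (l : ι →₀ K) :
    pm k k' K K' (l.sum fun i z => b i ⊗ₜ[k] z) = l.sum fun i z => z • algebraMap k' K' (b i) := by
  rw [map_finsuppSum]
  refine Finsupp.sum_congr fun i _ => ?_
  rw [Algebra.TensorProduct.productMap_apply_tmul, Algebra.smul_def, mul_comm]
  rfl

theorem linearIndependent_constExt (h : Function.Injective (pm k k' K K')) {ι : Type*}
    (b : Module.Basis ι k k') : LinearIndependent K (fun i => algebraMap k' K' (b i)) := by
  rw [linearIndependent_iff]
  intro l hl
  rw [Finsupp.linearCombination_apply, ← pm_sum b l] at hl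
  have := h (hl.trans (map_zero _).symm)
  exact TensorProduct.sum_tmul_basis_left_eq_zero b l this

theorem span_constExt (h : Function.Surjective (pm k k' K K')) {ι : Type*}
    (b : Module.Basis ι k k') :
    ⊤ ≤ Submodule.span K (Set.range fun i => algebraMap k' K' (b i)) := by
  intro x _
  obtain ⟨t, rfl⟩ := h x
  obtain ⟨l, rfl⟩ := TensorProduct.eq_repr_basis_left b t
  rw [pm_sum]
  exact Submodule.sum_mem _ fun i _ =>
    Submodule.smul_mem _ _ (Submodule.subset_span ⟨i, rfl⟩)

/-- a `k`-basis of `k'` is a `K`-basis of `K' = k' ⊗_k K` -/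
noncomputable def constBasis (h : Function.Bijective (pm k k' K K')) {ι : Type*}
    (b : Module.Basis ι k k') : Module.Basis ι K K' :=
  Module.Basis.mk (linearIndependent_constExt h.1 b) (span_constExt h.2 b)

@[simp]
lemma constBasis_apply (h : Function.Bijective (pm k k' K K')) {ι : Type*}
    (b : Module.Basis ι k k') (i : ι) : constBasis h b i = algebraMap k' K' (b i) := by
  rw [constBasis, Module.Basis.mk_apply]

lemma constBasis_repr_algebraMap (h : Function.Bijective (pm k k' K K')) {ι : Type*}
    (b : Module.Basis ι k k') (c : k') (i : ι) :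
    (constBasis h b).repr (algebraMap k' K' c) i = algebraMap k K (b.repr c i) := by
  classical
  have h1 : algebraMap k' K' c =
      Finsupp.linearCombination K (constBasis h b) ((b.repr c).mapRange (algebraMap k K) (map_zero _)) := by
    conv_lhs => rw [← b.linearCombination_repr c]
    rw [Finsupp.linearCombination_apply, Finsupp.linearCombination_apply, map_finsuppSum,
      Finsupp.sum_mapRange_index (by intro i; rw [zero_smul])]
    refine Finsupp.sum_congr fun j _ => ?_
    rw [constBasis_apply, Algebra.smul_def, Algebra.smul_def, map_mul,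
      ← IsScalarTower.algebraMap_apply, ← IsScalarTower.algebraMap_apply]
  rw [h1, Module.Basis.repr_linearCombination, Finsupp.mapRange_apply]

theorem finite_of_bij [FiniteDimensional k k'] (h : Function.Bijective (pm k k' K K')) :
    FiniteDimensional K K' :=
  Module.Finite.of_basis (constBasis h (Module.finBasis k k'))

theorem finrank_of_bij [FiniteDimensional k k'] (h : Function.Bijective (pm k k' K K')) :
    Module.finrank K K' = Module.finrank k k' := by
  rw [Module.finrank_eq_card_basis (constBasis h (Module.finBasis k k')), Fintype.card_fin]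

/-- compatibility of traces -/
theorem trace_const [FiniteDimensional k k'] (h : Function.Bijective (pm k k' K K')) (c : k') :
    Algebra.trace K K' (algebraMap k' K' c) = algebraMap k K (Algebra.trace k k' c) := by
  classical
  let b := Module.finBasis k k'
  rw [Algebra.trace_eq_matrix_trace (constBasis h b), Algebra.trace_eq_matrix_trace b,
    Matrix.trace, Matrix.trace, map_sum]
  refine Finset.sum_congr rfl fun i _ => ?_
  rw [Matrix.diag_apply, Matrix.diag_apply, Algebra.leftMulMatrix_eq_repr_mul,
    Algebra.leftMulMatrix_eq_repr_mul, constBasis_apply, ← map_mul, constBasis_repr_algebraMap]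

end ConstBasis

end Groth.Agent.Helper9.FFExt
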