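import Mathlib
import Groth.Prelude.Def_W4bk4goldsch23Ext
import Groth.Agent.Lib.Helper9.FFExt.ConstExt1

namespace Groth.Agent.Helper9.FFExt

open FunFld WithZero TensorProduct
open Groth.Agent.Lib.Helper4.FF

section NS

variable {k₀ k k' K K' : Type*} [Field k₀] [Field k] [Field k'] [Field K] [Field K']
  [Algebra k k'] [Algebra k K] [Algebra K K'] [Algebra k' K'] [Algebra k K']
  [IsScalarTower k k' K'] [IsScalarTower k K K']
  [Algebra k₀ K] [Algebra k₀ K'] [IsScalarTower k₀ K K']

variable (k' K') in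
/-- the ring `O_P[k']` inside `K'` -/
def OPk (P : Place k₀ K) : Subring K' :=
  Subring.closure ((algebraMap K K') '' {z | P.1 z ≤ 1} ∪ Set.range (algebraMap k' K'))

variable (k' K') in
/-- `P` is nonsingular with respect to `k'`: the integral closure `⋂_{Q|P} O_Q` of `O_P` in `K'`
is `O_P[k']`. -/
def NS (P : Place k₀ K) : Prop :=
  ∀ x : K', (∀ Q : Place k₀ K', IsOver Q P → Q.1 x ≤ 1) → x ∈ OPk k' K' P

omit [Algebra k k'] [Algebra k K] [Algebra k K'] [IsScalarTower k k' K'] [IsScalarTower k K K']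
  [Algebra k₀ K'] [IsScalarTower k₀ K K'] in
lemma algebraMap_mem_OPk (P : Place k₀ K) {z : K} (hz : P.1 z ≤ 1) :
    algebraMap K K' z ∈ OPk k' K' P :=
  Subring.subset_closure (Or.inl ⟨z, hz, rfl⟩)

omit [Algebra k k'] [Algebra k K] [Algebra k K'] [IsScalarTower k k' K'] [IsScalarTower k K K']
  [Algebra k₀ K'] [IsScalarTower k₀ K K'] in
lemma const_mem_OPk (P : Place k₀ K) (c : k') : algebraMap k' K' c ∈ OPk k' K' P :=
  Subring.subset_closure (Or.inr ⟨c, rfl⟩)

omit [Algebra k k'] [Algebra k K] [Algebra k K'] [IsScalarTower k k' K'] [IsScalarTower k K K'] in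
/-- `O_P[k'] ⊆ ⋂ O_Q` -/
lemma OPk_le (P : Place k₀ K) (hkQ : ∀ (Q : Place k₀ K') (c : k'), Q.1 (algebraMap k' K' c) ≤ 1)
    {x : K'} (hx : x ∈ OPk k' K' P) {Q : Place k₀ K'} (hQ : IsOver Q P) : Q.1 x ≤ 1 := by
  obtain ⟨e, he⟩ := hQ
  have : OPk k' K' P ≤ Q.O.toSubring := by
    rw [OPk, Subring.closure_le]
    rintro _ (⟨z, hz, rfl⟩ | ⟨c, rfl⟩)
    · exact (ow_le_one_iff he z).mpr hz
    · exact hkQ Q c
  exact this hx

section Coord

variable (h : Function.Bijective (pm k k' K K')) {ι : Type*} [Fintype ι] (b : Module.Basis ι k k')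
  (P : Place k₀ K) (hkP : ∀ c : k, P.1 (algebraMap k K c) ≤ 1)

include hkP in
omit [Algebra k₀ K'] [IsScalarTower k₀ K K'] in
/-- membership in `O_P[k']` in coordinates -/
theorem mem_OPk_iff (x : K') :
    x ∈ OPk k' K' P ↔ ∀ i, P.1 ((constBasis h b).repr x i) ≤ 1 := by
  classical
  set B := constBasis h b with hB
  -- closure properties of the coordinate condition
  have hadd : ∀ x y : K', (∀ i, P.1 (B.repr x i) ≤ 1) → (∀ i, P.1 (B.repr y i) ≤ 1) →
      ∀ i, P.1 (B.repr (x + y) i) ≤ 1 := by
    intro x y hx hy i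
    rw [map_add, Finsupp.add_apply]
    exact (P.1.map_add _ _).trans (max_le (hx i) (hy i))
  have hsmul : ∀ (z : K) (x : K'), P.1 z ≤ 1 → (∀ i, P.1 (B.repr x i) ≤ 1) →
      ∀ i, P.1 (B.repr (z • x) i) ≤ 1 := by
    intro z x hz hx i
    rw [map_smul, Finsupp.smul_apply, smul_eq_mul, map_mul]
    exact mul_le_one' hz (hx i)
  have hsum : ∀ (s : Finset ι) (g : ι → K'), (∀ j ∈ s, ∀ i, P.1 (B.repr (g j) i) ≤ 1) →
      ∀ i, P.1 (B.repr (∑ j ∈ s, g j) i) ≤ 1 := by
    intro s g hg i
    rw [map_sum, Finset.sum_apply']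
    exact Valuation.map_sum_le _ fun j hj => hg j hj i
  have hconst : ∀ (c : k') (i : ι), P.1 (B.repr (algebraMap k' K' c) i) ≤ 1 := by
    intro c i
    rw [hB, constBasis_repr_algebraMap]
    exact hkP _
  have hmulB : ∀ (j : ι) (y : K'), (∀ i, P.1 (B.repr y i) ≤ 1) →
      ∀ i, P.1 (B.repr (B j * y) i) ≤ 1 := by
    intro j y hy
    have : B j * y = ∑ l, B.repr y l • (B j * B l) := by
      conv_lhs => rw [← B.sum_repr y, Finset.mul_sum]
      refine Finset.sum_congr rfl fun l _ => ?_
      rw [mul_smul_comm]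
    rw [this]
    refine hsum _ _ fun l _ => hsmul _ _ (hy l) ?_
    rw [hB, constBasis_apply, constBasis_apply, ← map_mul]
    exact hconst _
  have hmul : ∀ x y : K', (∀ i, P.1 (B.repr x i) ≤ 1) → (∀ i, P.1 (B.repr y i) ≤ 1) →
      ∀ i, P.1 (B.repr (x * y) i) ≤ 1 := by
    intro x y hx hy
    have : x * y = ∑ j, B.repr x j • (B j * y) := by
      conv_lhs => rw [← B.sum_repr x, Finset.sum_mul]
      refine Finset.sum_congr rfl fun l _ => ?_
      rw [smul_mul_assoc]
    rw [this]
    exact hsum _ _ fun j _ => hsmul _ _ (hx j) (hmulB j y hy)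
  constructor
  · intro hx
    induction hx using Subring.closure_induction with
    | mem x hx =>
      rcases hx with ⟨z, hz, rfl⟩ | ⟨c, rfl⟩
      · have : algebraMap K K' z = z • algebraMap k' K' 1 := by
          rw [map_one, Algebra.smul_def, mul_one]
        rw [this]
        exact hsmul z _ hz (hconst 1)
      · exact hconst c
    | zero => intro i; rw [map_zero, Finsupp.zero_apply, map_zero]; exact zero_le_one
    | one => rw [← map_one (algebraMap k' K')]; exact hconst 1
    | add x y _ _ hx hy => exact hadd x y hx hy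
    | neg x _ hx => intro i; rw [map_neg, Finsupp.neg_apply, Valuation.map_neg]; exact hx i
    | mul x y _ _ hx hy => exact hmul x y hx hy
  · intro hx
    rw [← B.sum_repr x]
    refine Subring.sum_mem _ fun i _ => ?_
    rw [Algebra.smul_def, hB, constBasis_apply]
    exact Subring.mul_mem _ (algebraMap_mem_OPk P (hx i)) (const_mem_OPk P _)

end Coord

section Interface

variable [FiniteDimensional K K']

omit [Algebra k k'] [Algebra k K] [Algebra k K'] [IsScalarTower k k' K'] [IsScalarTower k K K']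
  [Algebra k₀ K'] [IsScalarTower k₀ K K'] [FiniteDimensional K K'] in
lemma adjoin_toSubring_eq (P : Place k₀ K) [Algebra P.O K'] [IsScalarTower P.O K K'] :
    (Algebra.adjoin P.O (Set.range (algebraMap k' K'))).toSubring = OPk k' K' P := by
  rw [Algebra.adjoin_eq_ring_closure, OPk]
  congr 2
  ext x
  constructor
  · rintro ⟨z, rfl⟩
    exact ⟨z, (Place.mem_O_iff P).mp z.2, (algebraMap_O_apply P z).symm⟩
  · rintro ⟨z, hz, rfl⟩
    exact ⟨⟨z, (Place.mem_O_iff P).mpr hz⟩, algebraMap_O_apply P _⟩

omit [Algebra k k'] [Algebra k K] [Algebra k K'] [IsScalarTower k k' K'] [IsScalarTower k K K'] in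
/-- nonsingularity in the form used by the statements (algebra-instance version) -/
theorem ns_iff_algebra (hK : IsFFw k₀ K) (P : Place k₀ K)
    (hkQ : ∀ (Q : Place k₀ K') (c : k'), Q.1 (algebraMap k' K' c) ≤ 1)
    [Algebra P.O K'] [IsScalarTower P.O K K'] :
    (integralClosure P.O K').toSubring =
      (Algebra.adjoin P.O (Set.range (algebraMap k' K'))).toSubring ↔ NS k' K' P := by
  rw [adjoin_toSubring_eq (k' := k') P, integralClosure_eq_semilocal (K' := K') hK P]
  constructor
  · intro heq x hx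
    rw [← heq]
    exact hx
  · intro hns
    ext x
    constructor
    · intro hx
      exact hns x hx
    · intro hx Q hQ
      exact OPk_le P hkQ hx hQ

omit [Algebra k k'] [Algebra k K] [Algebra k K'] [IsScalarTower k k' K'] [IsScalarTower k K K']
  [Algebra k₀ K'] [IsScalarTower k₀ K K'] [FiniteDimensional K K'] in
lemma isIntegral_image_iff (P : Place k₀ K) [Algebra P.O K'] [IsScalarTower P.O K K'] (x : K') :
    IsIntegral (P.O.toSubring.map (algebraMap K K')) x ↔ IsIntegral P.O x := by
  let φ : P.O →+* (P.O.toSubring.map (algebraMap K K')) :=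
    { toFun := fun z => ⟨algebraMap K K' (z : K), ⟨z, z.2, rfl⟩⟩
      map_one' := Subtype.ext (map_one _)
      map_mul' := fun a b => Subtype.ext (map_mul _ _ _)
      map_zero' := Subtype.ext (map_zero _)
      map_add' := fun a b => Subtype.ext (map_add _ _ _) }
  let _ : Algebra P.O (P.O.toSubring.map (algebraMap K K')) := φ.toAlgebra
  have htower : IsScalarTower P.O (P.O.toSubring.map (algebraMap K K')) K' :=
    IsScalarTower.of_algebraMap_eq fun z => algebraMap_O_apply P z
  have hsurj : Function.Surjective (algebraMap P.O (P.O.toSubring.map (algebraMap K K'))) := by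
    rintro ⟨_, z, hz, rfl⟩
    exact ⟨⟨z, hz⟩, rfl⟩
  have hint : Algebra.IsIntegral P.O (P.O.toSubring.map (algebraMap K K')) :=
    Algebra.isIntegral_of_surjective hsurj
  constructor
  · intro hx
    exact isIntegral_trans x hx
  · intro hx
    exact hx.tower_top

omit [Algebra k k'] [Algebra k K] [Algebra k K'] [IsScalarTower k k' K'] [IsScalarTower k K K'] in
/-- nonsingularity in the form used by the statements (subring version) -/
theorem ns_iff_subring (hK : IsFFw k₀ K) (P : Place k₀ K)
    (hkQ : ∀ (Q : Place k₀ K') (c : k'), Q.1 (algebraMap k' K' c) ≤ 1) :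
    integralClosure (P.O.toSubring.map (algebraMap K K')) K' =
      Algebra.adjoin (P.O.toSubring.map (algebraMap K K')) (Set.range (algebraMap k' K')) ↔
      NS k' K' P := by
  let _ : Algebra P.O K' := ((algebraMap K K').comp P.O.subtype).toAlgebra
  have htower : IsScalarTower P.O K K' := IsScalarTower.of_algebraMap_eq fun z => rfl
  rw [← ns_iff_algebra (k' := k') hK P hkQ, ← Subalgebra.toSubring_inj]
  have h1 : (integralClosure (P.O.toSubring.map (algebraMap K K')) K').toSubring =
      (integralClosure P.O K').toSubring := by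
    ext x
    exact isIntegral_image_iff P x
  have h2 : (Algebra.adjoin (P.O.toSubring.map (algebraMap K K'))
      (Set.range (algebraMap k' K'))).toSubring =
      (Algebra.adjoin P.O (Set.range (algebraMap k' K'))).toSubring := by
    rw [Algebra.adjoin_eq_ring_closure, Algebra.adjoin_eq_ring_closure]
    congr 2
    ext x
    constructor
    · rintro ⟨⟨_, z, hz, rfl⟩, rfl⟩
      exact ⟨⟨z, hz⟩, rfl⟩
    · rintro ⟨z, rfl⟩
      exact ⟨⟨algebraMap K K' (z : K), ⟨z, z.2, rfl⟩⟩, rfl⟩
  rw [h1, h2]

end Interface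

end NS

end Groth.Agent.Helper9.FFExt
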