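import Mathlib
import Groth.Prelude.Def_W4bk4goldsch23Ext
import Groth.Agent.Lib.Helper9.FFExt.ConstExt2

namespace Groth.Agent.Helper9.FFExt

open FunFld WithZero TensorProduct
open Groth.Agent.Lib.Helper4.FF

section Sep

variable {k₀ k k' K K' : Type*} [Field k₀] [Field k] [Field k'] [Field K] [Field K']
  [Algebra k k'] [Algebra k K] [Algebra K K'] [Algebra k' K'] [Algebra k K']
  [IsScalarTower k k' K'] [IsScalarTower k K K']
  [Algebra k₀ K] [Algebra k₀ K'] [IsScalarTower k₀ K K']
  [FiniteDimensional k k'] [Algebra.IsSeparable k k']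

omit [Algebra k₀ K] [Algebra k₀ K'] [IsScalarTower k₀ K K'] in
/-- coordinates as traces against the dual basis -/
theorem repr_eq_trace (h : Function.Bijective (pm k k' K K')) {ι : Type*} [Fintype ι]
    [DecidableEq ι] (b : Module.Basis ι k k') (x : K') (i : ι) :
    (constBasis h b).repr x i = Algebra.trace K K' (x * algebraMap k' K'
      ((Algebra.traceForm k k').dualBasis (traceForm_nondegenerate k k') b i)) := by
  have hfin := finite_of_bij h
  set B := constBasis h b with hB
  set bd := (Algebra.traceForm k k').dualBasis (traceForm_nondegenerate k k') b with hbd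
  have hx : x = ∑ l, B.repr x l • B l := (B.sum_repr x).symm
  conv_rhs => rw [hx, Finset.sum_mul, map_sum]
  have hterm : ∀ l, Algebra.trace K K' (B.repr x l • B l * algebraMap k' K' (bd i)) =
      if l = i then B.repr x l else 0 := by
    intro l
    rw [smul_mul_assoc, map_smul, smul_eq_mul, hB, constBasis_apply, ← map_mul, trace_const h,
      ← Algebra.traceForm_apply, hbd,
      LinearMap.BilinForm.apply_dualBasis_right _ (Algebra.traceForm_isSymm k) b l i]
    split_ifs with hli
    · rw [map_one, mul_one]
    · rw [map_zero, mul_zero]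
  rw [Finset.sum_congr rfl fun l _ => hterm l, Finset.sum_ite_eq' Finset.univ i]
  simp

/-- a separable constant field extension is nonsingular at every place -/
theorem ns_of_separable (h : Function.Bijective (pm k k' K K')) (hK : IsFFw k₀ K)
    (P : Place k₀ K) (hkP : ∀ c : k, P.1 (algebraMap k K c) ≤ 1)
    (hkQ : ∀ (Q : Place k₀ K') (c : k'), Q.1 (algebraMap k' K' c) ≤ 1) : NS k' K' P := by
  classical
  intro x hx
  have hfin := finite_of_bij h
  let b := Module.finBasis k k'
  rw [mem_OPk_iff h b P hkP]
  intro i
  rw [repr_eq_trace h b x i]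
  let _ : Algebra P.O K' := ((algebraMap K K').comp P.O.subtype).toAlgebra
  have htower : IsScalarTower P.O K K' := IsScalarTower.of_algebraMap_eq fun z => rfl
  set c := (Algebra.traceForm k k').dualBasis (traceForm_nondegenerate k k') b i
  have h1 : IsIntegral P.O (x * algebraMap k' K' c) := by
    rw [isIntegral_iff hK P]
    intro Q hQ
    rw [map_mul]
    exact mul_le_one' (hx Q hQ) (hkQ Q c)
  have h2 : IsIntegral P.O (Algebra.trace K K' (x * algebraMap k' K' c)) :=
    Algebra.isIntegral_trace h1
  exact (Valuation.valuationSubring.integers P.1).isIntegral_iff_v_le_one.mp h2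

end Sep

end Groth.Agent.Helper9.FFExt
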