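import Mathlib
import Groth.Prelude.Def_W4bk4goldsch23Ext
import Groth.Agent.Lib.Helper9.FFExt.ConstExt3

namespace Groth.Agent.Helper9.FFExt

open FunFld WithZero TensorProduct
open Groth.Agent.Lib.Helper4.FF

section Unram

variable {k₀ k k' K K' : Type*} [Field k₀] [Field k] [Field k'] [Field K] [Field K']
  [Algebra k k'] [Algebra k K] [Algebra K K'] [Algebra k' K'] [Algebra k K']
  [IsScalarTower k k' K'] [IsScalarTower k K K']
  [Algebra k₀ K] [Algebra k₀ K'] [IsScalarTower k₀ K K']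
  [FiniteDimensional k k']

omit [IsScalarTower k₀ K K'] in
/-- if `P` is nonsingular for `k'`, an integral element whose square lies in `π R` has trace in
the maximal ideal -/
theorem trace_lt_one_of_sq (h : Function.Bijective (pm k k' K K'))
    (P : Place k₀ K) (hkP : ∀ c : k, P.1 (algebraMap k K c) ≤ 1)
    (hkQ : ∀ (Q : Place k₀ K') (c : k'), Q.1 (algebraMap k' K' c) ≤ 1)
    (hns : NS k' K' P) (s : K')
    (hs : ∀ Q : Place k₀ K', IsOver Q P → Q.1 s ≤ 1)
    (hs2 : ∀ (Q : Place k₀ K') (e : ℕ), IsOverWith Q P e → Q.1 (s * s) ≤ exp (-(e : ℤ))) :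
    P.1 (Algebra.trace K K' s) < 1 := by
  classical
  have hfin := finite_of_bij h
  let b := Module.finBasis k k'
  obtain ⟨B, hBdef⟩ : ∃ B, B = constBasis h b := ⟨_, rfl⟩
  obtain ⟨π, hπ⟩ := Place.exists_uniformizer P
  have hπ0 : π ≠ 0 := by
    rintro rfl
    rw [map_zero] at hπ
    exact absurd hπ.symm exp_ne_zero
  have hcoord : ∀ y : K', (∀ Q : Place k₀ K', IsOver Q P → Q.1 y ≤ 1) →
      ∀ i, P.1 (B.repr y i) ≤ 1 := fun y hy => by
    rw [hBdef]; exact (mem_OPk_iff h b P hkP y).mp (hns y hy)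
  have hB : ∀ j (Q : Place k₀ K'), Q.1 (B j) ≤ 1 := fun j Q => by
    rw [hBdef, constBasis_apply]; exact hkQ Q _
  obtain ⟨A, hAdef⟩ : ∃ A, A = Algebra.leftMulMatrix B s := ⟨_, rfl⟩
  have hA : ∀ i j, P.1 (A i j) ≤ 1 := by
    intro i j
    rw [hAdef, Algebra.leftMulMatrix_eq_repr_mul]
    exact hcoord _ (fun Q hQ => by rw [map_mul]; exact mul_le_one' (hs Q hQ) (hB j Q)) i
  have hAA : ∀ i j, P.1 ((A * A) i j) < 1 := by
    intro i j
    have h1 : A * A = Algebra.leftMulMatrix B (s * s) := by rw [hAdef, map_mul]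
    rw [h1, Algebra.leftMulMatrix_eq_repr_mul]
    obtain ⟨r, hrdef⟩ : ∃ r : K', r = π⁻¹ • (s * s * B j) := ⟨_, rfl⟩
    have hr : ∀ Q : Place k₀ K', IsOver Q P → Q.1 r ≤ 1 := by
      rintro Q ⟨e, he⟩
      rw [hrdef, Algebra.smul_def, map_mul, he, map_inv₀, hπ, map_mul, inv_pow, exp_neg_one_pow]
      have h2 : Q.1 (s * s) * Q.1 (B j) ≤ exp (-(e : ℤ)) * 1 :=
        mul_le_mul' (hs2 Q e he) (hB j Q)
      rw [mul_one] at h2
      calc (exp (-(e : ℤ)))⁻¹ * (Q.1 (s * s) * Q.1 (B j))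
          ≤ (exp (-(e : ℤ)))⁻¹ * exp (-(e : ℤ)) := mul_le_mul' le_rfl h2
        _ = 1 := by rw [inv_mul_cancel₀ exp_ne_zero]
    have h3 : s * s * B j = π • r := by
      rw [hrdef, smul_smul, mul_inv_cancel₀ hπ0, one_smul]
    rw [h3, map_smul, Finsupp.smul_apply, smul_eq_mul, map_mul, hπ]
    calc exp (-1 : ℤ) * P.1 (B.repr r i) ≤ exp (-1 : ℤ) * 1 := mul_le_mul' le_rfl (hcoord r hr i)
      _ < 1 := by rw [mul_one, ← exp_zero, exp_lt_exp]; omega
  let AO : Matrix (Fin (Module.finrank k k')) (Fin (Module.finrank k k')) P.O :=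
    fun i j => ⟨A i j, (Place.mem_O_iff P).mpr (hA i j)⟩
  have hAb : AO.map (IsLocalRing.residue P.O) * AO.map (IsLocalRing.residue P.O) = 0 := by
    rw [← Matrix.map_mul]
    ext i j
    rw [Matrix.map_apply, Matrix.zero_apply, IsLocalRing.residue_eq_zero_iff,
      mem_maximalIdeal_iff (k := k₀) P]
    have : ((AO * AO) i j : K) = (A * A) i j := by
      rw [Matrix.mul_apply, Matrix.mul_apply, AddSubmonoidClass.coe_finsetSum]
      rfl
    rw [this]
    exact hAA i j
  have hnil : IsNilpotent (AO.map (IsLocalRing.residue P.O)) := ⟨2, by rw [pow_two, hAb]⟩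
  have htr : Matrix.trace (AO.map (IsLocalRing.residue P.O)) = 0 :=
    (Matrix.isNilpotent_trace_of_isNilpotent hnil).eq_zero
  rw [Algebra.trace_eq_matrix_trace B, ← hAdef]
  have h4 : Matrix.trace A = ((Matrix.trace AO : P.O) : K) := by
    rw [Matrix.trace, Matrix.trace, AddSubmonoidClass.coe_finsetSum]
    rfl
  rw [h4, ← mem_maximalIdeal_iff (k := k₀) P, ← IsLocalRing.residue_eq_zero_iff]
  have h5 : IsLocalRing.residue P.O (Matrix.trace AO) =
      Matrix.trace (AO.map (IsLocalRing.residue P.O)) := by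
    rw [Matrix.trace, Matrix.trace, map_sum]
    rfl
  rw [h5, htr]

end Unram

end Groth.Agent.Helper9.FFExt

namespace Groth.Agent.Helper9.FFExt

open FunFld WithZero TensorProduct
open Groth.Agent.Lib.Helper4.FF

section Unram2

variable {k₀ k k' K K' : Type*} [Field k₀] [Field k] [Field k'] [Field K] [Field K']
  [Algebra k k'] [Algebra k K] [Algebra K K'] [Algebra k' K'] [Algebra k K']
  [IsScalarTower k k' K'] [IsScalarTower k K K']
  [Algebra k₀ K] [Algebra k₀ K'] [IsScalarTower k₀ K K']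
  [FiniteDimensional k k'] [Algebra.IsSeparable k k']

/-- places are unramified in a separable constant field extension -/
theorem unramified_of_separable (h : Function.Bijective (pm k k' K K')) (hK : IsFFw k₀ K)
    {P : Place k₀ K} {Q : Place k₀ K'} {e : ℕ} (he : IsOverWith Q P e)
    (hkP : ∀ c : k, P.1 (algebraMap k K c) ≤ 1)
    (hkQ : ∀ (Q : Place k₀ K') (c : k'), Q.1 (algebraMap k' K' c) ≤ 1) : e = 1 := by
  classical
  have hfin := finite_of_bij h
  have hns : NS k' K' P := ns_of_separable h hK P hkP hkQ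
  by_contra hne
  have he2 : 2 ≤ e := by have := ow_pos he; omega
  obtain ⟨hfinS, -⟩ := sum_ramIdx_mul_deg_w (K' := K') hK P
  obtain ⟨S, hSdef⟩ : ∃ S : Finset (Place k₀ K'), S = hfinS.toFinset := ⟨_, rfl⟩
  have hS : ∀ Q', Q' ∈ S ↔ IsOver Q' P := fun Q' => by rw [hSdef, Set.Finite.mem_toFinset]; rfl
  obtain ⟨y, hy⟩ := weak_approximation S (fun _ => (0 : K'))
    (fun Q' => if Q' = Q then (e : ℤ) - 1 else (ramIdx Q' P : ℤ))
  simp only [sub_zero] at hy
  have hyQ : Q.1 y = exp (-((e : ℤ) - 1)) := by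
    have := hy Q ((hS Q).mpr ⟨e, he⟩)
    rwa [if_pos rfl] at this
  -- bound on `y` at all places above `P`
  have hyle : ∀ (Q' : Place k₀ K') (e' : ℕ), IsOverWith Q' P e' →
      Q'.1 y ≤ 1 ∧ Q'.1 (y * y) ≤ exp (-(e' : ℤ)) := by
    intro Q' e' he'
    have h1 := hy Q' ((hS Q').mpr ⟨e', he'⟩)
    by_cases hQQ : Q' = Q
    · subst hQQ
      have hee : e' = e := ow_unique he' he
      subst hee
      rw [if_pos rfl] at h1
      rw [map_mul, h1, ← exp_add, ← exp_zero, exp_le_exp, exp_le_exp]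
      constructor <;> omega
    · rw [if_neg hQQ, ramIdx_eq he'] at h1
      rw [map_mul, h1, ← exp_add, ← exp_zero, exp_le_exp, exp_le_exp]
      have := ow_pos he'
      constructor <;> omega
  let b := Module.finBasis k k'
  obtain ⟨B, hBdef⟩ : ∃ B, B = constBasis h b := ⟨_, rfl⟩
  -- all coordinates of `y` lie in the maximal ideal
  have hcoord : ∀ j, P.1 (B.repr y j) < 1 := by
    intro j
    rw [hBdef, repr_eq_trace h b y j]
    set c := (Algebra.traceForm k k').dualBasis (traceForm_nondegenerate k k') b j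
    apply trace_lt_one_of_sq h P hkP hkQ hns
    · rintro Q' ⟨e', he'⟩
      rw [map_mul]
      exact mul_le_one' (hyle Q' e' he').1 (hkQ Q' c)
    · intro Q' e' he'
      have h1 : y * algebraMap k' K' c * (y * algebraMap k' K' c) =
          (y * y) * (algebraMap k' K' c * algebraMap k' K' c) := by ring
      have hcc : Q'.1 (algebraMap k' K' c * algebraMap k' K' c) ≤ 1 := by
        rw [map_mul]; exact mul_le_one' (hkQ Q' c) (hkQ Q' c)
      rw [h1, map_mul]
      calc Q'.1 (y * y) * Q'.1 (algebraMap k' K' c * algebraMap k' K' c)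
          ≤ exp (-(e' : ℤ)) * 1 := mul_le_mul' (hyle Q' e' he').2 hcc
        _ = _ := mul_one _
  -- hence `y ∈ π R`, contradiction
  have hysum : y = ∑ j, B.repr y j • B j := (B.sum_repr y).symm
  have hle : Q.1 y ≤ exp (-(e : ℤ)) := by
    rw [hysum]
    apply Valuation.map_sum_le
    intro j _
    rw [Algebra.smul_def, map_mul, he, hBdef, constBasis_apply]
    have h1 : P.1 ((constBasis h b).repr y j) ^ e ≤ exp (-(e : ℤ)) := by
      rw [← exp_neg_one_pow]
      exact pow_le_pow_left₀ zero_le (lt_one_iff_le_exp_neg_one.mp (hBdef ▸ hcoord j)) e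
    calc _ ≤ exp (-(e : ℤ)) * 1 := mul_le_mul' h1 (hkQ Q _)
      _ = _ := mul_one _
  rw [hyQ, exp_le_exp] at hle
  omega

end Unram2

end Groth.Agent.Helper9.FFExt
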