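import Mathlib
import Groth.Prelude.Def_W4bk4goldsch23Ext
import Groth.Agent.Lib.Helper9.FFExt.ConstExt4

namespace Groth.Agent.Helper9.FFExt

open FunFld WithZero TensorProduct
open Groth.Agent.Lib.Helper4.FF

section ResIndep

variable {k₀ K K' : Type*} [Field k₀] [Field K] [Field K'] [Algebra K K']
  [Algebra k₀ K] [Algebra k₀ K'] [IsScalarTower k₀ K K']

/-- residual independence of a family over `O_P`: every `O_P`-combination with a unit coefficient
is a unit at `Q`. -/
def ResIndep (Q : Place k₀ K') (P : Place k₀ K) {ι : Type*} (v : ι → K') : Prop :=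
  ∀ (s : Finset ι) (c : ι → K), (∀ i ∈ s, P.1 (c i) ≤ 1) → (∃ i ∈ s, P.1 (c i) = 1) →
    Q.1 (∑ i ∈ s, algebraMap K K' (c i) * v i) = 1

/-- the valuation of a combination of a residually independent family -/
theorem ResIndep.val_eq {Q : Place k₀ K'} {P : Place k₀ K} {e : ℕ} (he : IsOverWith Q P e)
    {ι : Type*} {v : ι → K'} (hv : ResIndep Q P v) (s : Finset ι) (c : ι → K) (i₀ : ι)
    (hi₀ : i₀ ∈ s) (hmax : ∀ i ∈ s, P.1 (c i) ≤ P.1 (c i₀)) :
    Q.1 (∑ i ∈ s, algebraMap K K' (c i) * v i) = P.1 (c i₀) ^ e := by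
  by_cases h0 : c i₀ = 0
  · have hz : ∀ i ∈ s, c i = 0 := by
      intro i hi
      have := hmax i hi
      rw [h0, map_zero] at this
      exact (map_eq_zero _).mp (le_antisymm this zero_le)
    rw [Finset.sum_eq_zero (fun i hi => by rw [hz i hi, map_zero, zero_mul]), map_zero, h0,
      map_zero, zero_pow (ow_pos he).ne']
  · have hv0 : P.1 (c i₀) ≠ 0 := (Valuation.ne_zero_iff _).mpr h0
    have h1 := hv s (fun i => c i / c i₀)
      (fun i hi => by rw [map_div₀]; exact div_le_one_of_le₀ (hmax i hi) zero_le)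
      ⟨i₀, hi₀, by rw [div_self h0, map_one]⟩
    have h2 : ∑ i ∈ s, algebraMap K K' (c i) * v i =
        algebraMap K K' (c i₀) * ∑ i ∈ s, algebraMap K K' (c i / c i₀) * v i := by
      rw [Finset.mul_sum]
      refine Finset.sum_congr rfl fun i _ => ?_
      rw [← mul_assoc, ← map_mul, mul_div_cancel₀ _ h0]
    rw [h2, map_mul, h1, mul_one, he]

theorem ResIndep.val_le_one_iff {Q : Place k₀ K'} {P : Place k₀ K} {e : ℕ}
    (he : IsOverWith Q P e) {ι : Type*} {v : ι → K'} (hv : ResIndep Q P v) (s : Finset ι)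
    (c : ι → K) :
    Q.1 (∑ i ∈ s, algebraMap K K' (c i) * v i) ≤ 1 ↔ ∀ i ∈ s, P.1 (c i) ≤ 1 := by
  classical
  rcases s.eq_empty_or_nonempty with rfl | hne
  · simp
  obtain ⟨i₀, hi₀, hmax⟩ := Finset.exists_max_image s (fun i => P.1 (c i)) hne
  rw [hv.val_eq he s c i₀ hi₀ hmax, pow_le_one_iff_of_nonneg zero_le (ow_pos he).ne']
  exact ⟨fun h i hi => (hmax i hi).trans h, fun h => h i₀ hi₀⟩

/-- residual independence from linear independence of the residues -/
theorem resIndep_of_linearIndependent {Q : Place k₀ K'} {P : Place k₀ K} (h : IsOver Q P)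
    {ι : Type*} (v : ι → K') (hv : ∀ i, Q.1 (v i) ≤ 1)
    (hli : @LinearIndependent ι (IsLocalRing.ResidueField P.O) (IsLocalRing.ResidueField Q.O)
      (fun i => IsLocalRing.residue Q.O ⟨v i, (Place.mem_O_iff Q).mpr (hv i)⟩) _ _
      (resAlg h).toModule) :
    ResIndep Q P v := by
  classical
  intro s c hc ⟨j₀, hj₀, hcj₀⟩
  have hloc := resMapO_isLocalHom h
  let _ : Algebra (IsLocalRing.ResidueField P.O) (IsLocalRing.ResidueField Q.O) := resAlg h
  let c' : ι → P.O := fun j => if hj : j ∈ s then ⟨c j, (Place.mem_O_iff P).mpr (hc j hj)⟩ else 0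
  have hc' : ∀ j ∈ s, ((c' j : P.O) : K) = c j := fun j hj => by
    simp only [c', dif_pos hj]
  let z : Q.O := ∑ j ∈ s, resMapO h (c' j) * ⟨v j, (Place.mem_O_iff Q).mpr (hv j)⟩
  have hz : (z : K') = ∑ j ∈ s, algebraMap K K' (c j) * v j := by
    change ((∑ j ∈ s, resMapO h (c' j) * ⟨v j, (Place.mem_O_iff Q).mpr (hv j)⟩ : Q.O) : K') = _
    rw [AddSubmonoidClass.coe_finsetSum]
    refine Finset.sum_congr rfl fun j hj => ?_
    rw [← hc' j hj]
    rfl
  rw [← hz]
  have hres : IsLocalRing.residue Q.O z =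
      ∑ j ∈ s, IsLocalRing.residue P.O (c' j) •
        IsLocalRing.residue Q.O ⟨v j, (Place.mem_O_iff Q).mpr (hv j)⟩ := by
    change IsLocalRing.residue Q.O (∑ j ∈ s, resMapO h (c' j) * _) = _
    rw [map_sum]
    refine Finset.sum_congr rfl fun j _ => ?_
    rw [map_mul, Algebra.smul_def, resAlg_algebraMap_residue]
  have hne : IsLocalRing.residue Q.O z ≠ 0 := by
    rw [hres]
    intro h0
    have := linearIndependent_iff'.mp hli s (fun j => IsLocalRing.residue P.O (c' j)) h0 j₀ hj₀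
    rw [IsLocalRing.residue_eq_zero_iff, mem_maximalIdeal_iff (k := k₀) P, hc' j₀ hj₀, hcj₀] at this
    exact lt_irrefl _ this
  have hle : Q.1 (z : K') ≤ 1 := (Place.mem_O_iff Q).mp z.2
  apply le_antisymm hle
  by_contra hlt
  push Not at hlt
  apply hne
  rw [IsLocalRing.residue_eq_zero_iff, mem_maximalIdeal_iff (k := k₀) Q]
  exact hlt

end ResIndep

end Groth.Agent.Helper9.FFExt
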