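import Mathlib
import Groth.Prelude.Def_W4bk4goldsch23Ext
import Groth.Agent.Lib.Helper9.FFExt.ConstExt5

namespace Groth.Agent.Helper9.FFExt

open FunFld WithZero TensorProduct
open Groth.Agent.Lib.Helper4.FF

section ResConst

variable {k₀ k K : Type*} [Field k₀] [Field k] [Field K] [Algebra k₀ K] [Algebra k K]

/-- the map `k → O_P` for a field `k` of constants -/
def constToO (P : Place k₀ K) (hkP : ∀ c : k, P.1 (algebraMap k K c) ≤ 1) : k →+* P.O :=
  (algebraMap k K).codRestrict P.O fun c => (Place.mem_O_iff P).mpr (hkP c)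

/-- the residue field as an algebra over a field of constants -/
@[reducible] noncomputable def resConstAlg (P : Place k₀ K)
    (hkP : ∀ c : k, P.1 (algebraMap k K c) ≤ 1) : Algebra k (IsLocalRing.ResidueField P.O) :=
  ((IsLocalRing.residue P.O).comp (constToO P hkP)).toAlgebra

lemma resConstAlg_algebraMap (P : Place k₀ K) (hkP : ∀ c : k, P.1 (algebraMap k K c) ≤ 1)
    (c : k) : @algebraMap k (IsLocalRing.ResidueField P.O) _ _ (resConstAlg P hkP) c =
      IsLocalRing.residue P.O ⟨algebraMap k K c, (Place.mem_O_iff P).mpr (hkP c)⟩ := rfl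

end ResConst

section Towers

variable {k₀ k k' K K' : Type*} [Field k₀] [Field k] [Field k'] [Field K] [Field K']
  [Algebra k k'] [Algebra k K] [Algebra K K'] [Algebra k' K'] [Algebra k K']
  [IsScalarTower k k' K'] [IsScalarTower k K K']
  [Algebra k₀ K] [Algebra k₀ K'] [IsScalarTower k₀ K K']

omit [Algebra k k'] [Algebra k' K'] [IsScalarTower k k' K'] in
lemma resTower_P {Q : Place k₀ K'} {P : Place k₀ K} (h : IsOver Q P)
    (hkP : ∀ c : k, P.1 (algebraMap k K c) ≤ 1) (hkQ : ∀ c : k, Q.1 (algebraMap k K' c) ≤ 1) :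
    @IsScalarTower k (IsLocalRing.ResidueField P.O) (IsLocalRing.ResidueField Q.O)
      (resConstAlg P hkP).toSMul (resAlg h).toSMul (resConstAlg Q hkQ).toSMul := by
  let _ := resConstAlg P hkP
  let _ := resConstAlg Q hkQ
  let _ := resAlg h
  refine IsScalarTower.of_algebraMap_eq fun c => ?_
  rw [resConstAlg_algebraMap, resConstAlg_algebraMap, resAlg_algebraMap_residue]
  congr 1
  apply Subtype.ext
  exact IsScalarTower.algebraMap_apply k K K' c

omit [Algebra k K] [Algebra K K'] [IsScalarTower k K K'] [Algebra k₀ K] [IsScalarTower k₀ K K'] in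
lemma resTower_k' (Q : Place k₀ K')
    (hkQ : ∀ c : k, Q.1 (algebraMap k K' c) ≤ 1) (hk'Q : ∀ c : k', Q.1 (algebraMap k' K' c) ≤ 1) :
    @IsScalarTower k k' (IsLocalRing.ResidueField Q.O)
      _ (resConstAlg Q hk'Q).toSMul (resConstAlg Q hkQ).toSMul := by
  let _ := resConstAlg Q hk'Q
  let _ := resConstAlg Q hkQ
  refine IsScalarTower.of_algebraMap_eq fun c => ?_
  rw [resConstAlg_algebraMap, resConstAlg_algebraMap]
  congr 1
  apply Subtype.ext
  exact IsScalarTower.algebraMap_apply k k' K' c

end Towers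

end Groth.Agent.Helper9.FFExt
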