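import Mathlib
import Groth.Prelude.Def_W4bk4goldsch23Ext
import Groth.Agent.Lib.Helper9.FFExt.ConstExt6

namespace Groth.Agent.Helper9.FFExt

open FunFld WithZero TensorProduct
open Groth.Agent.Lib.Helper4.FF

section Indep

variable {k₀ k k' K K' : Type*} [Field k₀] [Field k] [Field k'] [Field K] [Field K']
  [Algebra k k'] [Algebra k K] [Algebra K K'] [Algebra k' K'] [Algebra k K']
  [IsScalarTower k k' K'] [IsScalarTower k K K']
  [Algebra k₀ K] [Algebra k₀ K'] [IsScalarTower k₀ K K']

/-- if `F_P / k` is purely inseparable, a `k`-independent family of separable constants is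
residually independent -/
theorem resIndep_of_pi_sep {Q : Place k₀ K'} {P : Place k₀ K} (h : IsOver Q P)
    (hkP : ∀ c : k, P.1 (algebraMap k K c) ≤ 1) (hkQ : ∀ c : k', Q.1 (algebraMap k' K' c) ≤ 1)
    (hpi : @IsPurelyInseparable k (IsLocalRing.ResidueField P.O) _ _ (resConstAlg P hkP))
    {ι : Type*} (b : ι → k') (hb : LinearIndependent k b) (hsep : ∀ i, IsSeparable k (b i)) :
    ResIndep Q P (fun i => algebraMap k' K' (b i)) := by
  have hkQ0 : ∀ c : k, Q.1 (algebraMap k K' c) ≤ 1 := fun c => by
    rw [IsScalarTower.algebraMap_apply k k' K']; exact hkQ _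
  let iP := resConstAlg P hkP
  let iQ := resConstAlg Q hkQ0
  let iQ' := resConstAlg Q hkQ
  let iPQ := resAlg h
  have t1 : IsScalarTower k (IsLocalRing.ResidueField P.O) (IsLocalRing.ResidueField Q.O) :=
    resTower_P h hkP hkQ0
  have t2 : IsScalarTower k k' (IsLocalRing.ResidueField Q.O) := resTower_k' Q hkQ0 hkQ
  apply resIndep_of_linearIndependent h _ (fun i => hkQ (b i))
  have hinj : Function.Injective (IsScalarTower.toAlgHom k k' (IsLocalRing.ResidueField Q.O)) :=
    RingHom.injective _
  have hli_k : LinearIndependent k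
      (fun i => algebraMap k' (IsLocalRing.ResidueField Q.O) (b i)) :=
    hb.map' (IsScalarTower.toAlgHom k k' (IsLocalRing.ResidueField Q.O)).toLinearMap
      (LinearMap.ker_eq_bot.mpr hinj)
  have hsep' : ∀ i, IsSeparable k (algebraMap k' (IsLocalRing.ResidueField Q.O) (b i)) :=
    fun i => (hsep i).map (IsScalarTower.toAlgHom k k' (IsLocalRing.ResidueField Q.O)) hinj
  exact LinearIndependent.map_of_isPurelyInseparable_of_isSeparable
    (IsLocalRing.ResidueField P.O) hsep' hli_k

/-- if `F_P / k` is separable and `k' / k` purely inseparable, every `k`-independent family of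
constants is residually independent -/
theorem resIndep_of_sep_pi [IsPurelyInseparable k k'] {Q : Place k₀ K'} {P : Place k₀ K}
    (h : IsOver Q P)
    (hkP : ∀ c : k, P.1 (algebraMap k K c) ≤ 1) (hkQ : ∀ c : k', Q.1 (algebraMap k' K' c) ≤ 1)
    (hsep : @Algebra.IsSeparable k (IsLocalRing.ResidueField P.O) _ _ (resConstAlg P hkP))
    {ι : Type*} (b : ι → k') (hb : LinearIndependent k b) :
    ResIndep Q P (fun i => algebraMap k' K' (b i)) := by
  have hkQ0 : ∀ c : k, Q.1 (algebraMap k K' c) ≤ 1 := fun c => by
    rw [IsScalarTower.algebraMap_apply k k' K']; exact hkQ _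
  let iP := resConstAlg P hkP
  let iQ := resConstAlg Q hkQ0
  let iQ' := resConstAlg Q hkQ
  let iPQ := resAlg h
  have t1 : IsScalarTower k (IsLocalRing.ResidueField P.O) (IsLocalRing.ResidueField Q.O) :=
    resTower_P h hkP hkQ0
  have t2 : IsScalarTower k k' (IsLocalRing.ResidueField Q.O) := resTower_k' Q hkQ0 hkQ
  apply resIndep_of_linearIndependent h _ (fun i => hkQ (b i))
  let f : IsLocalRing.ResidueField P.O →ₐ[k] IsLocalRing.ResidueField Q.O :=
    IsScalarTower.toAlgHom k _ _
  have hS : Algebra.IsSeparable k f.fieldRange :=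
    AlgEquiv.Algebra.isSeparable (AlgEquiv.ofInjectiveField f)
  have hld : f.fieldRange.LinearDisjoint k' :=
    IntermediateField.linearDisjoint_of_isPurelyInseparable_of_isSeparable k' f.fieldRange
  have hSli := hld.linearIndependent_right' hb
  rw [linearIndependent_iff'] at hSli ⊢
  intro s g hg i hi
  have key := hSli s (fun j => (⟨f (g j), ⟨g j, rfl⟩⟩ : f.fieldRange)) (by
    rw [← hg]
    refine Finset.sum_congr rfl fun j _ => ?_
    rw [Algebra.smul_def]
    rfl) i hi
  have : f (g i) = 0 := congrArg Subtype.val key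
  exact (map_eq_zero f).mp this

end Indep

end Groth.Agent.Helper9.FFExt
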