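import Mathlib
import Groth.Prelude.Def_W4bk4goldsch23Ext
import Groth.Agent.Lib.Helper9.FFExt.ConstExt7

namespace Groth.Agent.Helper9.FFExt

open FunFld WithZero TensorProduct
open Groth.Agent.Lib.Helper4.FF

section PW

variable {k k' K K' : Type*} [Field k] [Field k'] [Field K] [Field K']
  [Algebra k k'] [Algebra k K] [Algebra K K'] [Algebra k' K'] [Algebra k K']
  [IsScalarTower k k' K'] [IsScalarTower k K K'] [FiniteDimensional k k']

/-- if `k'/E` is purely inseparable, some `q`-power of every element of `K' = k'K` lies in `EK` -/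
theorem exists_pow_mem_span (h : Function.Bijective (pm k k' K K')) (E : IntermediateField k k')
    [IsPurelyInseparable E k'] (q : ℕ) [ExpChar k q] (x : K') :
    ∃ n : ℕ, x ^ q ^ n ∈ Submodule.span K ((algebraMap k' K') '' (E : Set k')) := by
  classical
  have hqE : ExpChar E q := expChar_of_injective_algebraMap (algebraMap k E).injective q
  have hqK' : ExpChar K' q := expChar_of_injective_algebraMap (algebraMap k K').injective q
  let b := Module.finBasis k k'
  have hpow : ∀ i, ∃ n : ℕ, b i ^ q ^ n ∈ E := by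
    intro i
    obtain ⟨n, y, hy⟩ := IsPurelyInseparable.pow_mem E q (b i)
    exact ⟨n, hy ▸ y.2⟩
  choose n hn using hpow
  obtain ⟨N, hN⟩ : ∃ N, ∀ i, n i ≤ N := ⟨Finset.univ.sup n, fun i => Finset.le_sup (Finset.mem_univ i)⟩
  have hpowN : ∀ i, b i ^ q ^ N ∈ E := by
    intro i
    have : b i ^ q ^ N = (b i ^ q ^ n i) ^ q ^ (N - n i) := by
      rw [← pow_mul, ← pow_add, Nat.add_sub_cancel' (hN i)]
    rw [this]
    exact pow_mem (hn i) _
  refine ⟨N, ?_⟩
  set B := constBasis h b with hB
  rw [← B.sum_repr x, sum_pow_char_pow]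
  refine Submodule.sum_mem _ fun i _ => ?_
  rw [smul_pow, hB, constBasis_apply, ← map_pow (algebraMap k' K')]
  exact Submodule.smul_mem _ _ (Submodule.subset_span ⟨_, hpowN i, rfl⟩)

omit [FiniteDimensional k k'] in
/-- the `K`-span of the image of `E` is spanned by the image of a `k`-basis of `E` -/
theorem span_image_eq (E : IntermediateField k k') {ι : Type*} (bE : Module.Basis ι k E) :
    Submodule.span K ((algebraMap k' K') '' (E : Set k')) =
      Submodule.span K (Set.range fun i => algebraMap k' K' (bE i : k')) := by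
  apply le_antisymm
  · rw [Submodule.span_le]
    rintro _ ⟨c, hc, rfl⟩
    have h1 : (⟨c, hc⟩ : E) = Finsupp.linearCombination k bE (bE.repr ⟨c, hc⟩) :=
      (bE.linearCombination_repr _).symm
    have h2 : c = ((bE.repr ⟨c, hc⟩).sum fun i a => a • (bE i : k')) := by
      have := congrArg (Subtype.val) h1
      rw [Finsupp.linearCombination_apply] at this
      simpa [Finsupp.sum] using this
    rw [h2, map_finsuppSum]
    refine Submodule.sum_mem _ fun i _ => ?_
    beta_reduce
    rw [Algebra.smul_def, map_mul, ← IsScalarTower.algebraMap_apply,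
      IsScalarTower.algebraMap_apply k K K', ← Algebra.smul_def]
    exact Submodule.smul_mem _ _ (Submodule.subset_span ⟨i, rfl⟩)
  · apply Submodule.span_mono
    rintro _ ⟨i, rfl⟩
    exact ⟨_, (bE i).2, rfl⟩

end PW

end Groth.Agent.Helper9.FFExt

namespace Groth.Agent.Helper9.FFExt

open FunFld WithZero TensorProduct
open Groth.Agent.Lib.Helper4.FF

section Unique

variable {k₀ k k' K K' : Type*} [Field k₀] [Field k] [Field k'] [Field K] [Field K']
  [Algebra k k'] [Algebra k K] [Algebra K K'] [Algebra k' K'] [Algebra k K']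
  [IsScalarTower k k' K'] [IsScalarTower k K K']
  [Algebra k₀ K] [Algebra k₀ K'] [IsScalarTower k₀ K K'] [FiniteDimensional k k']

/-- uniqueness of the place above `P` from residual independence of a basis of a subfield `E`
with `k'/E` purely inseparable -/
theorem unique_over_of_resIndep (h : Function.Bijective (pm k k' K K'))
    (E : IntermediateField k k') [IsPurelyInseparable E k'] {P : Place k₀ K}
    (hRI : ∀ Q : Place k₀ K', IsOver Q P →
      ResIndep Q P (fun i => algebraMap k' K' ((Module.finBasis k E i : E) : k')))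
    {Q₁ Q₂ : Place k₀ K'} (h₁ : IsOver Q₁ P) (h₂ : IsOver Q₂ P) : Q₁ = Q₂ := by
  obtain ⟨q, hq⟩ := ExpChar.exists k
  apply place_eq_of_forall
  intro z hz
  obtain ⟨n, hn⟩ := exists_pow_mem_span h E q z
  rw [span_image_eq E (Module.finBasis k E), Submodule.mem_span_range_iff_exists_fun] at hn
  obtain ⟨c, hc⟩ := hn
  have hsum : ∑ i, algebraMap K K' (c i) * algebraMap k' K' ((Module.finBasis k E i : E) : k') =
      z ^ q ^ n := by
    rw [← hc]
    refine Finset.sum_congr rfl fun i _ => ?_
    rw [Algebra.smul_def]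
  obtain ⟨e₁, he₁⟩ := h₁
  obtain ⟨e₂, he₂⟩ := h₂
  have hqn : q ^ n ≠ 0 := (expChar_pow_pos k q n).ne'
  have h3 : Q₁.1 (z ^ q ^ n) ≤ 1 := by
    rw [map_pow]; exact pow_le_one' hz.le _
  rw [← hsum, (hRI Q₁ ⟨e₁, he₁⟩).val_le_one_iff he₁] at h3
  have h4 : Q₂.1 (z ^ q ^ n) ≤ 1 := by
    rw [← hsum, (hRI Q₂ ⟨e₂, he₂⟩).val_le_one_iff he₂]
    exact h3
  rw [map_pow] at h4
  exact (pow_le_one_iff_of_nonneg zero_le hqn).mp h4

/-- uniqueness of the place above `P` in a purely inseparable constant field extension -/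
theorem unique_over_of_pi (h : Function.Bijective (pm k k' K K')) [IsPurelyInseparable k k']
    {P : Place k₀ K} {Q₁ Q₂ : Place k₀ K'} (h₁ : IsOver Q₁ P) (h₂ : IsOver Q₂ P) : Q₁ = Q₂ := by
  obtain ⟨q, hq⟩ := ExpChar.exists k
  have : IsPurelyInseparable (⊥ : IntermediateField k k') k' :=
    IsPurelyInseparable.tower_top k _ k'
  apply place_eq_of_forall
  intro z hz
  obtain ⟨n, hn⟩ := exists_pow_mem_span h (⊥ : IntermediateField k k') q z
  have hle : Submodule.span K ((algebraMap k' K') '' ((⊥ : IntermediateField k k') : Set k')) ≤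
      LinearMap.range (Algebra.linearMap K K') := by
    rw [Submodule.span_le]
    rintro _ ⟨c, hc, rfl⟩
    obtain ⟨a, rfl⟩ := IntermediateField.mem_bot.mp hc
    refine ⟨algebraMap k K a, ?_⟩
    rw [Algebra.linearMap_apply, ← IsScalarTower.algebraMap_apply, ← IsScalarTower.algebraMap_apply]
  obtain ⟨w, hw⟩ := hle hn
  rw [Algebra.linearMap_apply] at hw
  obtain ⟨e₁, he₁⟩ := h₁
  obtain ⟨e₂, he₂⟩ := h₂
  have hqn : q ^ n ≠ 0 := (expChar_pow_pos k q n).ne'
  have h3 : Q₁.1 (z ^ q ^ n) ≤ 1 := by
    rw [map_pow]; exact pow_le_one' hz.le _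
  rw [← hw, ow_le_one_iff he₁] at h3
  have h4 : Q₂.1 (z ^ q ^ n) ≤ 1 := by
    rw [← hw, ow_le_one_iff he₂]
    exact h3
  rw [map_pow] at h4
  exact (pow_le_one_iff_of_nonneg zero_le hqn).mp h4

end Unique

end Groth.Agent.Helper9.FFExt
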