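import Mathlib
import Groth.Prelude.Def_W4bk4goldsch23Ext
import Groth.Agent.Lib.Helper9.FFExt.ConstExt8

namespace Groth.Agent.Helper9.FFExt

open FunFld WithZero TensorProduct
open Groth.Agent.Lib.Helper4.FF

section Approx

variable {k₀ K K' : Type*} [Field k₀] [Field K] [Field K'] [Algebra K K']
  [Algebra k₀ K] [Algebra k₀ K'] [IsScalarTower k₀ K K'] [FiniteDimensional K K']

/-- every residue class at `Q` is represented by an element of `⋂_{Q'|P} O_{Q'}` -/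
theorem exists_semilocal_approx (hK : IsFFw k₀ K) {Q : Place k₀ K'} {P : Place k₀ K}
    (hQ : IsOver Q P) (y : K') (hy : Q.1 y ≤ 1) :
    ∃ r : K', (∀ Q' : Place k₀ K', IsOver Q' P → Q'.1 r ≤ 1) ∧ Q.1 (r - y) < 1 := by
  classical
  obtain ⟨hfinS, -⟩ := sum_ramIdx_mul_deg_w (K' := K') hK P
  obtain ⟨S, hSdef⟩ : ∃ S : Finset (Place k₀ K'), S = hfinS.toFinset := ⟨_, rfl⟩
  have hS : ∀ Q', Q' ∈ S ↔ IsOver Q' P := fun Q' => by rw [hSdef, Set.Finite.mem_toFinset]; rfl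
  obtain ⟨r, hr⟩ := exists_approx_le S (fun Q' => if Q' = Q then y else 0) 1
  have hlt : exp (-((1 : ℕ) : ℤ)) < 1 := by rw [← exp_zero, exp_lt_exp]; simp
  have hrQ := hr Q ((hS Q).mpr hQ)
  rw [if_pos rfl] at hrQ
  refine ⟨r, fun Q' hQ' => ?_, lt_of_le_of_lt hrQ hlt⟩
  have h1 := hr Q' ((hS Q').mpr hQ')
  by_cases hQQ : Q' = Q
  · subst hQQ
    rw [if_pos rfl] at h1
    have : r = (r - y) + y := by ring
    rw [this]
    exact (Q'.1.map_add _ _).trans (max_le (h1.trans hlt.le) hy)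
  · rw [if_neg hQQ, sub_zero] at h1
    exact h1.trans hlt.le

end Approx

end Groth.Agent.Helper9.FFExt
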