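import Mathlib
import Groth.Prelude.Def_W4bk4goldsch23Ext
import Groth.Agent.Lib.Helper9.FFExt.Weak
import Groth.Agent.Lib.Helper9.FFExt.IntCl2

namespace Groth.Agent.Helper9.FFExt

open FunFld WithZero
open Groth.Agent.Lib.Helper4.FF

section DVRDim

variable {k K : Type*} [Field k] [Field K] [Algebra k K]

/-- `span {t} = 𝔪` for a uniformizer -/
theorem span_uniformizer_eq (P : Place k K) (t : P.O) (ht : P.1 (t : K) = exp (-1)) :
    Ideal.span {t} = IsLocalRing.maximalIdeal P.O := by
  ext x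
  rw [Ideal.mem_span_singleton, mem_maximalIdeal_iff (k := k) P x]
  constructor
  · rintro ⟨y, rfl⟩
    rw [Subring.coe_mul, map_mul, ht]
    have hy : P.1 (y : K) ≤ 1 := (Place.mem_O_iff P).mp y.2
    calc exp (-1 : ℤ) * P.1 (y : K) ≤ exp (-1 : ℤ) * 1 := by gcongr
      _ < 1 := by rw [mul_one, ← exp_zero, exp_lt_exp]; norm_num
  · intro hx
    have ht0 : (t : K) ≠ 0 := by
      rw [← Valuation.ne_zero_iff P.1, ht]; exact exp_ne_zero
    have hmem : (x : K) / t ∈ P.O := by
      rw [Place.mem_O_iff, map_div₀, ht]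
      rw [lt_one_iff_le_exp_neg_one] at hx
      exact div_le_one_of_le₀ hx zero_le
    refine ⟨⟨(x : K) / t, hmem⟩, ?_⟩
    apply Subtype.ext
    change (x : K) = t * ((x : K) / t)
    field_simp

/-- `dim_k O_P/(t) = deg P` -/
theorem rank_quot_uniformizer (P : Place k K) (t : P.O) (ht : P.1 (t : K) = exp (-1)) :
    Module.rank k (P.O ⧸ Ideal.span {t}) = Module.rank k (IsLocalRing.ResidueField P.O) := by
  have h := span_uniformizer_eq P t ht
  let e : (P.O ⧸ Ideal.span {t}) ≃ₗ[k] IsLocalRing.ResidueField P.O :=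
    { (Ideal.quotEquivOfEq h) with
      map_smul' := fun c x => by
        obtain ⟨y, rfl⟩ := Ideal.Quotient.mk_surjective x
        rfl }
  exact e.rank_eq

/-- the exact sequence `0 → O/(c') → O/(t c') → O/(t) → 0` on the level of `k`-ranks -/
theorem rank_quot_mul (P : Place k K) (t c' : P.O) (ht0 : t ≠ 0) :
    Module.rank k (P.O ⧸ Ideal.span {t * c'}) =
      Module.rank k (P.O ⧸ Ideal.span {t}) + Module.rank k (P.O ⧸ Ideal.span {c'}) := by
  have hIJ : Ideal.span {t * c'} ≤ Ideal.span {t} := by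
    rw [Ideal.span_singleton_le_span_singleton]
    exact Dvd.intro _ rfl
  let g : (P.O ⧸ Ideal.span {t * c'}) →ₗ[k] (P.O ⧸ Ideal.span {t}) :=
    (Ideal.Quotient.factorₐ k hIJ).toLinearMap
  have hg : ∀ y : P.O, g (Ideal.Quotient.mk _ y) = Ideal.Quotient.mk _ y := fun y => rfl
  have hgsurj : Function.Surjective g := by
    intro x
    obtain ⟨y, rfl⟩ := Ideal.Quotient.mk_surjective x
    exact ⟨Ideal.Quotient.mk _ y, hg y⟩
  have hle : Ideal.span {c'} ≤ Submodule.comap (LinearMap.mulLeft P.O t) (Ideal.span {t * c'}) := by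
    intro x hx
    rw [Ideal.mem_span_singleton] at hx
    obtain ⟨y, rfl⟩ := hx
    rw [Submodule.mem_comap, LinearMap.mulLeft_apply, Ideal.mem_span_singleton]
    exact ⟨y, by ring⟩
  let h0 : (P.O ⧸ Ideal.span {c'}) →ₗ[P.O] (P.O ⧸ Ideal.span {t * c'}) :=
    Submodule.mapQ (Ideal.span {c'}) (Ideal.span {t * c'}) (LinearMap.mulLeft P.O t) hle
  let h' : (P.O ⧸ Ideal.span {c'}) →ₗ[k] (P.O ⧸ Ideal.span {t * c'}) := h0.restrictScalars k
  have hh : ∀ y : P.O, h' (Ideal.Quotient.mk _ y) = Ideal.Quotient.mk _ (t * y) := fun y => rfl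
  have hinj : Function.Injective h' := by
    rw [injective_iff_map_eq_zero]
    intro x hx
    obtain ⟨y, rfl⟩ := Ideal.Quotient.mk_surjective x
    rw [hh, Ideal.Quotient.eq_zero_iff_mem, Ideal.mem_span_singleton] at hx
    obtain ⟨z, hz⟩ := hx
    rw [Ideal.Quotient.eq_zero_iff_mem, Ideal.mem_span_singleton]
    refine ⟨z, ?_⟩
    have : t * y = t * (c' * z) := by rw [hz]; ring
    exact mul_left_cancel₀ ht0 this
  have hker : LinearMap.ker g = LinearMap.range h' := by
    ext x
    obtain ⟨y, rfl⟩ := Ideal.Quotient.mk_surjective x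
    rw [LinearMap.mem_ker, hg, Ideal.Quotient.eq_zero_iff_mem, Ideal.mem_span_singleton,
      LinearMap.mem_range]
    constructor
    · rintro ⟨z, rfl⟩
      exact ⟨Ideal.Quotient.mk _ z, hh z⟩
    · rintro ⟨w, hw⟩
      obtain ⟨z, rfl⟩ := Ideal.Quotient.mk_surjective w
      rw [hh, Ideal.Quotient.eq, Ideal.mem_span_singleton] at hw
      obtain ⟨u, hu⟩ := hw
      exact ⟨z - c' * u, by linear_combination (-1 : P.O) * hu⟩
  have h1 := LinearMap.rank_range_add_rank_ker g
  rw [LinearMap.range_eq_top.mpr hgsurj, rank_top, hker, rank_range_of_injective h' hinj]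
    at h1
  exact h1.symm

/-- `dim_k O_P/(c) = ord_P(c) · deg P` (as cardinals) -/
theorem rank_quot_span (P : Place k K) (n : ℕ) : ∀ c : P.O, P.1 (c : K) = exp (-(n : ℤ)) →
    Module.rank k (P.O ⧸ Ideal.span {c}) = n * Module.rank k (IsLocalRing.ResidueField P.O) := by
  obtain ⟨t, ht⟩ := Place.exists_uniformizer P
  have htO : t ∈ P.O := by
    rw [Place.mem_O_iff, ht, ← exp_zero, exp_le_exp]; norm_num
  have ht0 : t ≠ 0 := by
    rw [← Valuation.ne_zero_iff P.1, ht]; exact exp_ne_zero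
  have ht0' : (⟨t, htO⟩ : P.O) ≠ 0 := fun h => ht0 (congrArg Subtype.val h)
  induction n with
  | zero =>
    intro c hc
    have hu : IsUnit c := by
      rw [(Valuation.valuationSubring.integers P.1).isUnit_iff_valuation_eq_one]
      simpa using hc
    rw [Ideal.span_singleton_eq_top.mpr hu]
    simp
  | succ n ih =>
    intro c hc
    have hmem : (c : K) / t ∈ P.O := by
      rw [Place.mem_O_iff, map_div₀, hc, ht, ← exp_sub, ← exp_zero, exp_le_exp]
      push_cast; omega
    have hc' : P.1 (((⟨(c : K) / t, hmem⟩ : P.O) : K)) = exp (-(n : ℤ)) := by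
      change P.1 ((c : K) / t) = _
      rw [map_div₀, hc, ht, ← exp_sub]
      congr 1
      push_cast; ring
    have hceq : c = ⟨t, htO⟩ * ⟨(c : K) / t, hmem⟩ := by
      apply Subtype.ext
      change (c : K) = t * ((c : K) / t)
      field_simp
    rw [hceq, rank_quot_mul P _ _ ht0', rank_quot_uniformizer P ⟨t, htO⟩ ht, ih _ hc']
    push_cast
    ring

/-- `O_P/(c)` is finite dimensional of dimension `ord_P(c) · deg P` -/
theorem finrank_quot_span (P : Place k K) (hdeg : 0 < P.deg) (n : ℕ) (c : P.O)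
    (hc : P.1 (c : K) = exp (-(n : ℤ))) :
    Module.Finite k (P.O ⧸ Ideal.span {c}) ∧
      Module.finrank k (P.O ⧸ Ideal.span {c}) = n * P.deg := by
  have hfin : Module.Finite k (IsLocalRing.ResidueField P.O) := Module.finite_of_finrank_pos hdeg
  have h1 := rank_quot_span P n c hc
  have h2 : Module.rank k (IsLocalRing.ResidueField P.O) = (P.deg : Cardinal) :=
    (Module.finrank_eq_rank k _).symm
  rw [h2] at h1
  have h3 : Module.rank k (P.O ⧸ Ideal.span {c}) = ((n * P.deg : ℕ) : Cardinal) := by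
    rw [h1]; push_cast; rfl
  refine ⟨?_, ?_⟩
  · rw [← Module.rank_lt_aleph0_iff, h3]
    exact Cardinal.natCast_lt_aleph0
  · exact Module.finrank_eq_of_rank_eq h3

end DVRDim

end Groth.Agent.Helper9.FFExt
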