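import Mathlib
import Groth.Prelude.Def_W4bk4goldsch23Ext
import Groth.Agent.Lib.Helper9.FFExt.IntCl4
import Groth.Agent.Lib.Helper9.FFExt.DVRDim
import Groth.Agent.Lib.Helper9.FFExt.ConstExt9

/-!
# Norms and the semilocal ring above a place

`dim_k S/sS = deg P · ord_P (N s)` for `s` in the semilocal ring `S = ⋂_{Q|P} O_Q`,
and `S/πS ≅ F_Q` for a "semilocal uniformizer" `π` at `Q`.
-/

namespace Groth.Agent.Helper9.FFExt

open FunFld WithZero
open Groth.Agent.Lib.Helper4.FF

section NormOrd

variable {k K K' : Type*} [Field k] [Field K] [Field K'] [Algebra k K] [Algebra K K']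
  [Algebra k K'] [IsScalarTower k K K'] [FiniteDimensional K K']

/-- a `K`-basis of `K'` which is at the same time an `O_P`-basis of `⋂_{Q|P} O_Q` -/
theorem exists_semilocal_basis (hK : IsFFw k K) (P : Place k K) [Algebra P.O K']
    [IsScalarTower P.O K K'] :
    ∃ (B : Module.Basis (Fin (Module.finrank K K')) K K')
      (b : Module.Basis (Fin (Module.finrank K K')) P.O (semilocal (K' := K') P)),
      ∀ i, ((b i : semilocal (K' := K') P) : K') = B i := by
  obtain ⟨B, hB⟩ := semilocal_eq_span (K' := K') hK P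
  have hinj : Function.Injective (algebraMap P.O K) := Subtype.val_injective
  have hli : LinearIndependent P.O (B : Fin (Module.finrank K K') → K') :=
    B.linearIndependent.restrict_scalars (R := P.O) (by
      intro x y hxy
      simp only [Algebra.smul_def, mul_one] at hxy
      exact hinj hxy)
  let b₀ := Module.Basis.span hli
  let e₁ : Submodule.span P.O (Set.range B) ≃ₗ[P.O]
      Subalgebra.toSubmodule (semilocal (K' := K') P) := LinearEquiv.ofEq _ _ hB.symm
  let e₂ := Subalgebra.toSubmoduleEquiv (semilocal (K' := K') P)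
  refine ⟨B, b₀.map (e₁.trans e₂), fun i => ?_⟩
  rw [Module.Basis.map_apply]
  change ((b₀ i : Submodule.span P.O (Set.range B)) : K') = B i
  exact congrArg Subtype.val (Module.Basis.span_apply hli i)

theorem repr_semilocal (P : Place k K) [Algebra P.O K'] [IsScalarTower P.O K K']
    {ι : Type*} [Fintype ι] (B : Module.Basis ι K K')
    (b : Module.Basis ι P.O (semilocal (K' := K') P))
    (hb : ∀ i, ((b i : semilocal (K' := K') P) : K') = B i) (z : semilocal (K' := K') P) (i : ι) :
    B.repr (z : K') i = algebraMap P.O K (b.repr z i) := by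
  have h1 : (z : K') = ∑ j, (algebraMap P.O K (b.repr z j)) • B j := by
    conv_lhs => rw [← b.sum_repr z]
    rw [AddSubmonoidClass.coe_finsetSum]
    refine Finset.sum_congr rfl fun j _ => ?_
    rw [← hb j, algebraMap_smul]
    rfl
  conv_lhs => rw [h1]
  rw [Module.Basis.repr_sum_self]

/-- the norm of an element of `⋂ O_Q` computed over `O_P` and over `K` agree -/
theorem norm_semilocal (hK : IsFFw k K) (P : Place k K) [Algebra P.O K']
    [IsScalarTower P.O K K'] (s : semilocal (K' := K') P) :
    algebraMap P.O K (Algebra.norm P.O s) = Algebra.norm K (s : K') := by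
  classical
  obtain ⟨B, b, hb⟩ := exists_semilocal_basis (K' := K') hK P
  rw [Algebra.norm_eq_matrix_det b, Algebra.norm_eq_matrix_det B, RingHom.map_det]
  congr 1
  ext i j
  rw [RingHom.mapMatrix_apply, Matrix.map_apply, Algebra.leftMulMatrix_eq_repr_mul,
    Algebra.leftMulMatrix_eq_repr_mul, ← repr_semilocal P B b hb, ← hb j]
  rfl

theorem isDVR_O (P : Place k K) : IsDiscreteValuationRing P.O := by
  obtain ⟨t, ht⟩ := Place.exists_uniformizer P
  have : P.1.IsNontrivial := ⟨t, by rw [ht]; exact exp_ne_zero, by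
    rw [ht, ← exp_zero]; intro h; have := exp_inj.mp h; omega⟩
  exact Valuation.valuationSubring_isDiscreteValuationRing P.1

theorem tower_k_O (P : Place k K) [Algebra P.O K'] [IsScalarTower P.O K K'] :
    IsScalarTower k P.O K' := IsScalarTower.of_algebraMap_eq fun c => by
  rw [IsScalarTower.algebraMap_apply k K K', IsScalarTower.algebraMap_apply P.O K K']
  rfl

theorem prod_exp {ι : Type*} (s : Finset ι) (f : ι → ℤ) :
    ∏ i ∈ s, (exp (f i) : ℤᵐ⁰) = exp (∑ i ∈ s, f i) := by
  classical
  induction s using Finset.induction_on with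
  | empty => simp
  | insert a s ha ih => rw [Finset.prod_insert ha, Finset.sum_insert ha, ih, exp_add]

/-- for a nonzero element `c` of `O_P` there is `n` with `v_P(c) = exp(-n)` -/
theorem exists_val_eq_exp (P : Place k K) (c : P.O) (hc : c ≠ 0) :
    ∃ n : ℕ, P.1 (c : K) = exp (-(n : ℤ)) := by
  have hc0 : P.1 (c : K) ≠ 0 := by
    rw [Valuation.ne_zero_iff]; exact fun h => hc (Subtype.ext h)
  obtain ⟨m, hm⟩ : ∃ m : ℤ, P.1 (c : K) = exp m := ⟨_, (exp_log hc0).symm⟩
  have hle : P.1 (c : K) ≤ 1 := (Place.mem_O_iff P).mp c.2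
  rw [hm, ← exp_zero, exp_le_exp] at hle
  refine ⟨(-m).toNat, ?_⟩
  rw [hm]; congr 1; omega

/-- `dim_k (S/sS) = deg P · ord_P (N s)` for `s` in the semilocal ring `S` above `P` -/
theorem finrank_quot_semilocal (hK : IsFFw k K) (P : Place k K) [Algebra P.O K']
    [IsScalarTower P.O K K'] (s : semilocal (K' := K') P) (hs : s ≠ 0) :
    have := tower_k_O (K' := K') P
    (Module.finrank k (semilocal (K' := K') P ⧸ Ideal.span {s}) : ℤ) =
      P.deg * P.ord (Algebra.norm K (s : K')) := by
  intro htow
  classical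
  have _ := isDVR_O P
  obtain ⟨B, b, hb⟩ := exists_semilocal_basis (K' := K') hK P
  have hI : Ideal.span {s} ≠ ⊥ := Ideal.span_singleton_eq_bot.not.2 hs
  have hdeg := deg_pos_w hK P
  choose n hn using fun i => exists_val_eq_exp P _ (Ideal.smithCoeffs_ne_zero b _ hI i)
  have hfin : ∀ i, Module.Finite k (P.O ⧸ Ideal.span {Ideal.smithCoeffs b _ hI i}) :=
    fun i => (finrank_quot_span P hdeg (n i) _ (hn i)).1
  have h1 := Ideal.finrank_quotient_eq_sum k hI b
  have h2 : ∀ i, Module.finrank k (P.O ⧸ Ideal.span {Ideal.smithCoeffs b _ hI i}) =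
      n i * P.deg := fun i => (finrank_quot_span P hdeg (n i) _ (hn i)).2
  rw [Finset.sum_congr rfl fun i _ => h2 i, ← Finset.sum_mul] at h1
  have hassoc := associated_norm_prod_smith b hs
  obtain ⟨u, hu⟩ := hassoc
  have hval : P.1 (Algebra.norm K (s : K')) = exp (-((∑ i, n i : ℕ) : ℤ)) := by
    rw [← norm_semilocal hK P s]
    have h3 : (algebraMap P.O K (Algebra.norm P.O s)) * ((u : P.O) : K) =
        ((∏ i, Ideal.smithCoeffs b _ hI i : P.O) : K) := by
      rw [← hu]; rfl
    have hu1 : P.1 ((u : P.O) : K) = 1 :=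
      (Valuation.valuationSubring.integers P.1).isUnit_iff_valuation_eq_one.mp u.isUnit
    have h4 := congrArg P.1 h3
    rw [map_mul, hu1, mul_one] at h4
    rw [h4, SubmonoidClass.coe_finsetProd, map_prod, Finset.prod_congr rfl fun i _ => hn i]
    rw [prod_exp]
    congr 1
    push_cast
    rw [Finset.sum_neg_distrib]
  unfold FunFld.Place.ord
  rw [hval, log_exp, h1]
  push_cast
  ring

/-- the residue map `S → F_Q` from the semilocal ring above `P` to the residue field at `Q | P` -/
noncomputable def semilocalRes (P : Place k K) [Algebra P.O K'] [IsScalarTower P.O K K']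
    {Q : Place k K'} (hQ : IsOver Q P) :
    have := tower_k_O (K' := K') P
    semilocal (K' := K') P →ₐ[k] IsLocalRing.ResidueField Q.O :=
  have := tower_k_O (K' := K') P
  { toRingHom := (IsLocalRing.residue Q.O).comp
      { toFun := fun s => ⟨(s : K'), (Place.mem_O_iff Q).mpr (s.2 Q hQ)⟩
        map_one' := rfl
        map_mul' := fun _ _ => rfl
        map_zero' := rfl
        map_add' := fun _ _ => rfl }
    commutes' := fun c => rfl }

theorem semilocalRes_apply (P : Place k K) [Algebra P.O K'] [IsScalarTower P.O K K']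
    {Q : Place k K'} (hQ : IsOver Q P) (s : semilocal (K' := K') P) :
    semilocalRes P hQ s = IsLocalRing.residue Q.O ⟨(s : K'), (Place.mem_O_iff Q).mpr (s.2 Q hQ)⟩ :=
  rfl

theorem semilocalRes_surjective (hK : IsFFw k K) (P : Place k K) [Algebra P.O K']
    [IsScalarTower P.O K K'] {Q : Place k K'} (hQ : IsOver Q P) :
    Function.Surjective (semilocalRes P hQ) := by
  intro ζ
  obtain ⟨y, rfl⟩ := IsLocalRing.residue_surjective ζ
  obtain ⟨r, hr1, hr2⟩ := exists_semilocal_approx hK hQ (y : K') ((Place.mem_O_iff Q).mp y.2)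
  refine ⟨⟨r, hr1⟩, ?_⟩
  rw [semilocalRes_apply, ← sub_eq_zero, ← map_sub, IsLocalRing.residue_eq_zero_iff,
    mem_maximalIdeal_iff (k := k)]
  exact hr2

theorem semilocalRes_eq_zero_iff (P : Place k K) [Algebra P.O K'] [IsScalarTower P.O K K']
    {Q : Place k K'} (hQ : IsOver Q P) (s : semilocal (K' := K') P) :
    semilocalRes P hQ s = 0 ↔ Q.1 (s : K') < 1 := by
  rw [semilocalRes_apply, IsLocalRing.residue_eq_zero_iff, mem_maximalIdeal_iff (k := k)]

/-- `S/πS ≅ F_{Q₀}` when `π` is a local parameter at `Q₀` and a unit at the other places above `P` -/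
theorem finrank_quot_semilocal_prime (hK : IsFFw k K) (P : Place k K) [Algebra P.O K']
    [IsScalarTower P.O K K'] {Q₀ : Place k K'} (hQ₀ : IsOver Q₀ P)
    (π : semilocal (K' := K') P) (hπ : Q₀.1 (π : K') = exp (-1))
    (hπ' : ∀ Q : Place k K', IsOver Q P → Q ≠ Q₀ → Q.1 (π : K') = 1) :
    have := tower_k_O (K' := K') P
    Module.finrank k (semilocal (K' := K') P ⧸ Ideal.span {π}) = Q₀.deg := by
  intro htow
  have hπ0 : (π : K') ≠ 0 := by
    rw [← Valuation.ne_zero_iff Q₀.1, hπ]; exact exp_ne_zero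
  have hker : ∀ s : semilocal (K' := K') P, s ∈ Ideal.span {π} ↔ semilocalRes P hQ₀ s = 0 := by
    intro s
    rw [semilocalRes_eq_zero_iff, Ideal.mem_span_singleton]
    constructor
    · rintro ⟨s', rfl⟩
      rw [Subalgebra.coe_mul, map_mul, hπ]
      have h1 : Q₀.1 (s' : K') ≤ 1 := s'.2 Q₀ hQ₀
      calc exp (-1 : ℤ) * Q₀.1 (s' : K') ≤ exp (-1 : ℤ) * 1 := by gcongr
        _ < 1 := by rw [mul_one, ← exp_zero, exp_lt_exp]; norm_num
    · intro hs
      have hmem : (s : K') / π ∈ semilocal (K' := K') P := by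
        intro Q hQ
        rw [map_div₀]
        by_cases hQQ : Q = Q₀
        · subst hQQ
          rw [hπ]
          rw [lt_one_iff_le_exp_neg_one] at hs
          exact div_le_one_of_le₀ hs zero_le
        · rw [hπ' Q hQ hQQ, div_one]
          exact s.2 Q hQ
      refine ⟨⟨(s : K') / π, hmem⟩, ?_⟩
      apply Subtype.ext
      change (s : K') = π * ((s : K') / π)
      field_simp
  let f : (semilocal (K' := K') P ⧸ Ideal.span {π}) →ₐ[k] IsLocalRing.ResidueField Q₀.O :=
    Ideal.Quotient.liftₐ (Ideal.span {π}) (semilocalRes P hQ₀) (fun s hs => (hker s).mp hs)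
  have hf : ∀ s, f (Ideal.Quotient.mk _ s) = semilocalRes P hQ₀ s := fun s => rfl
  have hfbij : Function.Bijective f := by
    constructor
    · rw [injective_iff_map_eq_zero]
      intro x hx
      obtain ⟨s, rfl⟩ := Ideal.Quotient.mk_surjective x
      rw [hf] at hx
      exact Ideal.Quotient.eq_zero_iff_mem.mpr ((hker s).mpr hx)
    · intro ζ
      obtain ⟨s, rfl⟩ := semilocalRes_surjective hK P hQ₀ ζ
      exact ⟨Ideal.Quotient.mk _ s, hf s⟩
  exact (LinearEquiv.ofBijective f.toLinearMap hfbij).finrank_eq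

end NormOrd

end Groth.Agent.Helper9.FFExt
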