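import Mathlib
import Groth.Prelude.Def_W4bk4goldsch23Ext
import Groth.Agent.Lib.Helper9.FFExt.NormOrd1
import Groth.Agent.Lib.Helper4.FF.Approx

namespace Groth.Agent.Helper9.FFExt

open FunFld WithZero
open Groth.Agent.Lib.Helper4.FF

section NormOrd2

variable {k K K' : Type*} [Field k] [Field K] [Field K'] [Algebra k K] [Algebra K K']
  [Algebra k K'] [IsScalarTower k K K'] [FiniteDimensional K K']

omit [Algebra K K'] [Algebra k K'] [IsScalarTower k K K'] [FiniteDimensional K K'] [Field K'] in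
theorem ord_zpow (P : Place k K) (x : K) (n : ℤ) : P.ord (x ^ n) = n * P.ord x := by
  obtain ⟨m, rfl | rfl⟩ := n.eq_nat_or_neg
  · rw [zpow_natCast, Place.ord_pow]
  · rw [zpow_neg, zpow_natCast, Place.ord_inv, Place.ord_pow]; ring

omit [Algebra K K'] [Algebra k K'] [IsScalarTower k K K'] [FiniteDimensional K K'] [Field K'] in
theorem ord_prod (P : Place k K) {ι : Type*} (s : Finset ι) (f : ι → K) (hf : ∀ i ∈ s, f i ≠ 0) :
    P.ord (∏ i ∈ s, f i) = ∑ i ∈ s, P.ord (f i) := by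
  classical
  induction s using Finset.induction_on with
  | empty => simp [Place.ord_one]
  | insert a s ha ih =>
    rw [Finset.prod_insert ha, Finset.sum_insert ha,
      Place.ord_mul P (hf a (Finset.mem_insert_self a s))
        (Finset.prod_ne_zero_iff.mpr fun i hi => hf i (Finset.mem_insert_of_mem hi)),
      ih fun i hi => hf i (Finset.mem_insert_of_mem hi)]

/-- a unit at all places above `P` has norm a `P`-unit -/
theorem ord_norm_unit (hK : IsFFw k K) (P : Place k K) (u : K')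
    (hu : ∀ Q : Place k K', IsOver Q P → Q.1 u = 1) : P.ord (Algebra.norm K u) = 0 := by
  let _ : Algebra P.O K' := ((algebraMap K K').comp P.O.subtype).toAlgebra
  have : IsScalarTower P.O K K' := IsScalarTower.of_algebraMap_eq fun _ => rfl
  have hu0 : u ≠ 0 := by
    obtain ⟨Q, hQ⟩ := exists_over_w (K' := K') hK P
    rw [← Valuation.ne_zero_iff Q.1, hu Q hQ]; exact one_ne_zero
  have h1 : u ∈ semilocal (K' := K') P := fun Q hQ => (hu Q hQ).le
  have h2 : u⁻¹ ∈ semilocal (K' := K') P := fun Q hQ => by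
    rw [map_inv₀, hu Q hQ, inv_one]
  have e1 := norm_semilocal hK P ⟨u, h1⟩
  have e2 := norm_semilocal hK P ⟨u⁻¹, h2⟩
  have l1 : P.1 (Algebra.norm K u) ≤ 1 := by
    rw [← Place.mem_O_iff]; change Algebra.norm K u ∈ P.O
    rw [show Algebra.norm K u = _ from e1.symm]; exact Subtype.property _
  have l2 : P.1 (Algebra.norm K u⁻¹) ≤ 1 := by
    rw [← Place.mem_O_iff]; change Algebra.norm K u⁻¹ ∈ P.O
    rw [show Algebra.norm K u⁻¹ = _ from e2.symm]; exact Subtype.property _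
  have hN0 : Algebra.norm K u ≠ 0 := Algebra.norm_ne_zero_iff.mpr hu0
  rw [Algebra.norm_inv, map_inv₀, inv_le_one₀ (by rw [pos_iff_ne_zero, Valuation.ne_zero_iff]; exact hN0)]
    at l2
  have h3 : P.1 (Algebra.norm K u) = 1 := le_antisymm l1 l2
  unfold FunFld.Place.ord
  rw [h3, log_one, neg_zero]

theorem ord_eq_of_val (P : Place k K) (x : K) (n : ℤ) (h : P.1 x = exp (-n)) : P.ord x = n := by
  unfold FunFld.Place.ord
  rw [h, log_exp, neg_neg]

/-- semilocal uniformizers -/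
theorem exists_semilocal_uniformizer (Qs : Finset (Place k K')) (Q₀ : Place k K') (hQ₀ : Q₀ ∈ Qs) :
    ∃ π : K', Q₀.1 π = exp (-1) ∧ ∀ Q ∈ Qs, Q ≠ Q₀ → Q.1 π = 1 := by
  classical
  obtain ⟨y, hy⟩ := weak_approximation Qs (fun _ => (0 : K')) (fun Q => if Q = Q₀ then 1 else 0)
  refine ⟨y, ?_, fun Q hQ hne => ?_⟩
  · have := hy Q₀ hQ₀
    simpa using this
  · have := hy Q hQ
    simpa [hne] using this

theorem deg_mul_ord_norm_uniformizer (hK : IsFFw k K) (P : Place k K) {Q₀ : Place k K'}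
    (hQ₀ : IsOver Q₀ P) (π : K') (hπ : Q₀.1 π = exp (-1))
    (hπ' : ∀ Q : Place k K', IsOver Q P → Q ≠ Q₀ → Q.1 π = 1) :
    (P.deg : ℤ) * P.ord (Algebra.norm K π) = Q₀.deg := by
  let _ : Algebra P.O K' := ((algebraMap K K').comp P.O.subtype).toAlgebra
  have : IsScalarTower P.O K K' := IsScalarTower.of_algebraMap_eq fun _ => rfl
  have hmem : π ∈ semilocal (K' := K') P := by
    intro Q hQ
    by_cases h : Q = Q₀
    · subst h; rw [hπ, ← exp_zero, exp_le_exp]; norm_num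
    · rw [hπ' Q hQ h]
  have hπ0 : π ≠ 0 := by
    rw [← Valuation.ne_zero_iff Q₀.1, hπ]; exact exp_ne_zero
  have h1 := finrank_quot_semilocal hK P (⟨π, hmem⟩ : semilocal (K' := K') P)
    (fun h => hπ0 (congrArg Subtype.val h))
  have h2 := finrank_quot_semilocal_prime hK P hQ₀ (⟨π, hmem⟩ : semilocal (K' := K') P) hπ hπ'
  rw [← h1, h2]

/-- **Norm formula**: `deg P · v_P(N x) = ∑_{Q|P} deg Q · v_Q(x)`. -/
theorem ord_norm (hK : IsFFw k K) (P : Place k K) (x : K') (Qs : Finset (Place k K'))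
    (hQs : ∀ Q, Q ∈ Qs ↔ IsOver Q P) :
    (P.deg : ℤ) * P.ord (Algebra.norm K x) = ∑ Q ∈ Qs, (Q.deg : ℤ) * Q.ord x := by
  classical
  by_cases hx : x = 0
  · subst hx
    simp [FunFld.Place.ord]
  choose! π hπ hπ' using fun Q (hQ : Q ∈ Qs) => exists_semilocal_uniformizer Qs Q hQ
  have hπ0 : ∀ Q ∈ Qs, π Q ≠ 0 := fun Q hQ => by
    rw [← Valuation.ne_zero_iff Q.1, hπ Q hQ]; exact exp_ne_zero
  have hordπ : ∀ Q ∈ Qs, ∀ Q' ∈ Qs, Q.ord (π Q') = if Q' = Q then 1 else 0 := by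
    intro Q hQ Q' hQ'
    split_ifs with h
    · subst h; exact ord_eq_of_val _ _ 1 (hπ _ hQ')
    · apply ord_eq_of_val Q _ 0
      rw [hπ' Q' hQ' Q hQ (fun h' => h h'.symm)]; simp
  obtain ⟨u, hu⟩ : ∃ u, u = x * ∏ Q ∈ Qs, π Q ^ (-(Q.ord x)) := ⟨_, rfl⟩
  have hprod0 : ∀ (e : Place k K' → ℤ), ∀ Q ∈ Qs, π Q ^ (e Q) ≠ 0 :=
    fun e Q hQ => zpow_ne_zero _ (hπ0 Q hQ)
  have hu0 : u ≠ 0 := by
    rw [hu]
    exact mul_ne_zero hx (Finset.prod_ne_zero_iff.mpr (hprod0 _))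
  have hordu : ∀ Q ∈ Qs, Q.ord u = 0 := by
    intro Q hQ
    rw [hu, Place.ord_mul Q hx (Finset.prod_ne_zero_iff.mpr (hprod0 _)), ord_prod Q Qs _ (hprod0 _)]
    rw [Finset.sum_congr rfl fun Q' hQ' => by rw [ord_zpow, hordπ Q hQ Q' hQ']]
    simp [hQ]
  have hu1 : ∀ Q : Place k K', IsOver Q P → Q.1 u = 1 := by
    intro Q hQ
    rw [Place.val_eq_exp_neg_ord Q hu0, hordu Q ((hQs Q).mpr hQ)]; simp
  have hx' : x = u * ∏ Q ∈ Qs, π Q ^ (Q.ord x) := by
    rw [hu, mul_assoc, ← Finset.prod_mul_distrib]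
    rw [Finset.prod_congr rfl fun Q hQ => by
      rw [← zpow_add₀ (hπ0 Q hQ), neg_add_cancel, zpow_zero]]
    simp
  have hN : Algebra.norm K x = Algebra.norm K u * ∏ Q ∈ Qs, Algebra.norm K (π Q) ^ (Q.ord x) := by
    conv_lhs => rw [hx']
    rw [map_mul, map_prod]
    congr 1
    exact Finset.prod_congr rfl fun Q _ => Algebra.norm_zpow _ _
  have hNπ0 : ∀ Q ∈ Qs, Algebra.norm K (π Q) ≠ 0 := fun Q hQ =>
    Algebra.norm_ne_zero_iff.mpr (hπ0 Q hQ)
  rw [hN, Place.ord_mul P (Algebra.norm_ne_zero_iff.mpr hu0)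
    (Finset.prod_ne_zero_iff.mpr fun Q hQ => zpow_ne_zero _ (hNπ0 Q hQ)),
    ord_norm_unit hK P u hu1, zero_add,
    ord_prod P Qs _ (fun Q hQ => zpow_ne_zero _ (hNπ0 Q hQ)), Finset.mul_sum]
  refine Finset.sum_congr rfl fun Q hQ => ?_
  rw [ord_zpow, mul_left_comm,
    deg_mul_ord_norm_uniformizer hK P ((hQs Q).mp hQ) (π Q) (hπ Q hQ)
      (fun Q' hQ' hne => hπ' Q hQ Q' ((hQs Q').mpr hQ') hne)]
  ring

end NormOrd2

end Groth.Agent.Helper9.FFExt
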