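import Mathlib
import Groth.Prelude.Def_W4bk4goldsch23Ext
import Groth.Agent.Lib.Helper9.FFExt.NormOrd2

/-!
# Norms of semilocal uniformizers and Eisenstein-type minimal polynomials (helper9)
-/

namespace Groth.Agent.Helper9.FFExt

open WithZero Polynomial FunFld IntermediateField
open Groth.Agent.Lib.Helper4.FF

section DE4

variable {k K K' : Type*} [Field k] [Field K] [Field K'] [Algebra k K] [Algebra K K']
  [Algebra k K'] [IsScalarTower k K K'] [FiniteDimensional K K']

/-- norm in terms of the constant coefficient of the minimal polynomial -/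
theorem norm_eq_coeff_zero_pow (s : K') :
    Algebra.norm K s = ((-1) ^ (minpoly K s).natDegree * (minpoly K s).coeff 0) ^
      Module.finrank K⟮s⟯ K' := by
  have hint : IsIntegral K s := IsIntegral.of_finite K s
  rw [Algebra.norm_eq_norm_adjoin K s]
  congr 1
  have h1 := Algebra.PowerBasis.norm_gen_eq_coeff_zero_minpoly (adjoin.powerBasis hint)
  rw [adjoin.powerBasis_gen, adjoin.powerBasis_dim, minpoly_gen] at h1
  exact h1

/-- an element with `deg P · v_P(N s) = deg P` generates, and its minimal polynomial is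
Eisenstein-like at `P`. -/
theorem minpoly_of_ord_norm_eq_one (hK : IsFFw k K) (P : Place k K) (s : K')
    (hs : ∀ Q : Place k K', IsOver Q P → Q.1 s ≤ 1)
    (hN : P.ord (Algebra.norm K s) = 1) :
    K⟮s⟯ = ⊤ ∧ (∀ i, P.1 ((minpoly K s).coeff i) ≤ 1) ∧
      P.1 ((minpoly K s).coeff 0) = exp (-1 : ℤ) := by
  let _ : Algebra P.O K' := ((algebraMap K K').comp P.O.subtype).toAlgebra
  have : IsScalarTower P.O K K' := IsScalarTower.of_algebraMap_eq fun _ => rfl
  have hint : IsIntegral P.O s := (isIntegral_iff hK P s).mpr hs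
  have hmin : minpoly K s = (minpoly P.O s).map (algebraMap P.O K) :=
    minpoly.isIntegrallyClosed_eq_field_fractions K K' hint
  have hcoef : ∀ i, P.1 ((minpoly K s).coeff i) ≤ 1 := by
    intro i
    rw [hmin, coeff_map, ← Place.mem_O_iff]
    exact Subtype.property _
  have h1 := norm_eq_coeff_zero_pow (K := K) s
  obtain ⟨r, hr⟩ : ∃ r, r = Module.finrank K⟮s⟯ K' := ⟨_, rfl⟩
  obtain ⟨a₀, ha₀⟩ : ∃ a, a = (minpoly K s).coeff 0 := ⟨_, rfl⟩
  rw [← hr, ← ha₀] at h1
  have hN0 : Algebra.norm K s ≠ 0 := by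
    intro h0
    rw [h0] at hN
    unfold FunFld.Place.ord at hN
    simp at hN
  have hv : P.1 (Algebra.norm K s) = exp (-1 : ℤ) := by
    rw [Place.val_eq_exp_neg_ord P hN0, hN]
  rw [h1, map_pow, map_mul, map_pow, Valuation.map_neg, map_one, one_pow, one_mul] at hv
  have ha₀ne : P.1 a₀ ≠ 0 := by
    intro h0
    rw [h0] at hv
    rcases Nat.eq_zero_or_pos r with hr0 | hr0
    · rw [hr0, pow_zero, ← exp_zero] at hv
      have := exp_injective hv
      omega
    · rw [zero_pow hr0.ne'] at hv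
      exact exp_ne_zero hv.symm
  obtain ⟨j, hj⟩ : ∃ j : ℤ, P.1 a₀ = exp j := ⟨_, (exp_log ha₀ne).symm⟩
  have hjle : j ≤ 0 := by
    have := hcoef 0
    rw [← ha₀, hj, ← exp_zero, exp_le_exp] at this
    exact this
  rw [hj, ← exp_nsmul] at hv
  have hjr : (r : ℤ) * j = -1 := by
    have := exp_injective hv
    simpa using this
  have hr1 : r = 1 := by
    have h2 : (r : ℤ) ∣ 1 := ⟨-j, by linarith⟩
    have h3 := Int.eq_one_of_dvd_one (Int.natCast_nonneg r) h2
    exact_mod_cast h3
  have hj1 : j = -1 := by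
    rw [hr1] at hjr
    simpa using hjr
  refine ⟨?_, hcoef, ?_⟩
  · exact IntermediateField.finrank_eq_one_iff_eq_top.mp (hr ▸ hr1)
  · rw [← ha₀, hj, hj1]

theorem ord_norm_eq_one (hK : IsFFw k K) {P : Place k K} {Q : Place k K'} (hQ : IsOver Q P)
    (hdeg : Q.deg = P.deg) (s : K') (hs : Q.1 s = exp (-1 : ℤ))
    (hs' : ∀ Q' : Place k K', IsOver Q' P → Q' ≠ Q → Q'.1 s = 1) :
    P.ord (Algebra.norm K s) = 1 := by
  classical
  have hfin := (sum_ramIdx_mul_deg_w (K' := K') hK P).1
  have hQs : ∀ Q', Q' ∈ hfin.toFinset ↔ IsOver Q' P := fun Q' => by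
    rw [Set.Finite.mem_toFinset]; rfl
  have h1 := ord_norm hK P s hfin.toFinset hQs
  rw [Finset.sum_eq_single Q] at h1
  · rw [ord_eq_of_val Q s 1 hs, mul_one, hdeg] at h1
    have hpos := deg_pos_w hK P
    have h2 : (P.deg : ℤ) * (P.ord (Algebra.norm K s) - 1) = 0 := by linarith
    rcases mul_eq_zero.mp h2 with h | h
    · omega
    · omega
  · intro Q' hQ' hne
    rw [ord_eq_of_val Q' s 0 (by rw [hs' Q' ((hQs Q').mp hQ') hne]; simp), mul_zero]
  · intro hno
    exact absurd ((hQs Q).mpr hQ) hno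

/-- a totally ramified place is the only place above, with the same degree -/
theorem unique_of_totally_ramified (hK : IsFFw k K) {P : Place k K} {Q : Place k K'} {e : ℕ}
    (he : IsOverWith Q P e) (hn : e = Module.finrank K K') :
    (∀ Q' : Place k K', IsOver Q' P → Q' = Q) ∧ Q.deg = P.deg := by
  classical
  obtain ⟨hfin, hsum⟩ := sum_ramIdx_mul_deg_w (K' := K') hK P
  have hQs : ∀ Q', Q' ∈ hfin.toFinset ↔ IsOver Q' P := fun Q' => by
    rw [Set.Finite.mem_toFinset]; rfl
  have h1 := hsum hfin.toFinset hQs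
  have hK' : IsFFw k K' := isFFw_of_finite K' hK
  have hQpos := deg_pos_w hK' Q
  have hPpos := deg_pos_w hK P
  obtain ⟨f, -, hf, -⟩ := exists_resBasis hQpos (⟨e, he⟩ : IsOver Q P)
  have hQmem : Q ∈ hfin.toFinset := (hQs Q).mpr ⟨e, he⟩
  rw [← Finset.add_sum_erase _ _ hQmem, ramIdx_eq he, hn] at h1
  have hnpos : 0 < Module.finrank K K' := Module.finrank_pos
  have hfpos : 0 < f := by
    rcases Nat.eq_zero_or_pos f with h0 | h0
    · rw [h0, zero_mul] at hf; omega
    · exact h0
  have h2 : Module.finrank K K' * Q.deg ≤ Module.finrank K K' * P.deg := by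
    rw [← h1]; exact Nat.le_add_right _ _
  have h3 : Q.deg ≤ P.deg := Nat.le_of_mul_le_mul_left h2 hnpos
  have h4 : P.deg ≤ Q.deg := by rw [← hf]; exact Nat.le_mul_of_pos_left _ hfpos
  have hdeg : Q.deg = P.deg := le_antisymm h3 h4
  refine ⟨fun Q' hQ' => ?_, hdeg⟩
  by_contra hne
  rw [hdeg] at h1
  have h5 : ∑ Q' ∈ hfin.toFinset.erase Q, ramIdx Q' P * Q'.deg = 0 := by omega
  have h6 := (Finset.sum_eq_zero_iff.mp h5) Q' (Finset.mem_erase.mpr ⟨hne, (hQs Q').mpr hQ'⟩)
  have h7 := ramIdx_pos hQ'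
  have h8 := deg_pos_w hK' Q'
  rcases Nat.mul_eq_zero.mp h6 with h | h <;> omega

omit [FiniteDimensional K K'] in
theorem deg_eq_of_residue_surjective {P : Place k K} {Q : Place k K'} (hQ : IsOver Q P)
    [P.1.HasExtension Q.1]
    (hf : Function.Surjective (algebraMap (IsLocalRing.ResidueField P.O)
      (IsLocalRing.ResidueField Q.O))) : Q.deg = P.deg := by
  have hsurj : Function.Surjective (@algebraMap (IsLocalRing.ResidueField P.O)
      (IsLocalRing.ResidueField Q.O) _ _ (resAlg hQ)) := by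
    intro ζ
    obtain ⟨ξ, hξ⟩ := hf ζ
    refine ⟨ξ, ?_⟩
    rw [← hξ]
    obtain ⟨z, rfl⟩ := IsLocalRing.residue_surjective ξ
    rw [resAlg_algebraMap_residue, Valuation.HasExtension.algebraMap_residue_eq_residue_algebraMap]
    rfl
  have h1 : @Module.finrank (IsLocalRing.ResidueField P.O) (IsLocalRing.ResidueField Q.O) _ _
      (resAlg hQ).toModule = 1 := by
    let _ := resAlg hQ
    have : (⊥ : Subalgebra (IsLocalRing.ResidueField P.O) (IsLocalRing.ResidueField Q.O)) = ⊤ := by
      rw [eq_top_iff]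
      intro ζ _
      obtain ⟨ξ, rfl⟩ := hsurj ζ
      exact Subalgebra.algebraMap_mem _ ξ
    exact Subalgebra.bot_eq_top_iff_finrank_eq_one.mp this
  have h2 := @finrank_tower_general k (IsLocalRing.ResidueField P.O) (IsLocalRing.ResidueField Q.O)
    _ _ _ (Place.algRes P) (resAlg hQ) (Place.algRes Q) (resAlg_tower hQ)
  rw [h1, mul_one] at h2
  exact h2

end DE4

end Groth.Agent.Helper9.FFExt
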