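import Mathlib
import Groth.Prelude.Def_W4bk4goldsch23Ext
import Groth.Agent.Lib.Helper9.FFExt.ConstExt9

namespace Groth.Agent.Helper9.FFExt

open FunFld WithZero TensorProduct
open Groth.Agent.Lib.Helper4.FF

section Closure

variable {k k' K K' : Type*} [Field k] [Field k'] [Field K] [Field K']
  [Algebra k k'] [Algebra k K] [Algebra K K'] [Algebra k' K'] [Algebra k K']
  [IsScalarTower k k' K'] [IsScalarTower k K K']

/-- For a subring `A` of `K` containing the constants, `A[k']` is the set of elements of `K'`
all of whose coordinates in a constant basis lie in `A`. -/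
theorem mem_closure_const_iff (h : Function.Bijective (pm k k' K K')) {ι : Type*} [Fintype ι]
    (b : Module.Basis ι k k') (A : Subring K) (hA : ∀ c : k, algebraMap k K c ∈ A) (x : K') :
    x ∈ Subring.closure ((algebraMap K K') '' (A : Set K) ∪ Set.range (algebraMap k' K')) ↔
      ∀ i, (constBasis h b).repr x i ∈ A := by
  classical
  set B := constBasis h b with hB
  have hadd : ∀ x y : K', (∀ i, B.repr x i ∈ A) → (∀ i, B.repr y i ∈ A) →
      ∀ i, B.repr (x + y) i ∈ A := by
    intro x y hx hy i
    rw [map_add, Finsupp.add_apply]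
    exact A.add_mem (hx i) (hy i)
  have hsmul : ∀ (z : K) (x : K'), z ∈ A → (∀ i, B.repr x i ∈ A) →
      ∀ i, B.repr (z • x) i ∈ A := by
    intro z x hz hx i
    rw [map_smul, Finsupp.smul_apply, smul_eq_mul]
    exact A.mul_mem hz (hx i)
  have hsum : ∀ (s : Finset ι) (g : ι → K'), (∀ j ∈ s, ∀ i, B.repr (g j) i ∈ A) →
      ∀ i, B.repr (∑ j ∈ s, g j) i ∈ A := by
    intro s g hg i
    rw [map_sum, Finset.sum_apply']
    exact A.sum_mem fun j hj => hg j hj i
  have hconst : ∀ (c : k') (i : ι), B.repr (algebraMap k' K' c) i ∈ A := by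
    intro c i
    rw [hB, constBasis_repr_algebraMap]
    exact hA _
  have hmulB : ∀ (j : ι) (y : K'), (∀ i, B.repr y i ∈ A) → ∀ i, B.repr (B j * y) i ∈ A := by
    intro j y hy
    have : B j * y = ∑ l, B.repr y l • (B j * B l) := by
      conv_lhs => rw [← B.sum_repr y, Finset.mul_sum]
      refine Finset.sum_congr rfl fun l _ => ?_
      rw [mul_smul_comm]
    rw [this]
    refine hsum _ _ fun l _ => hsmul _ _ (hy l) ?_
    rw [hB, constBasis_apply, constBasis_apply, ← map_mul]
    exact hconst _
  have hmul : ∀ x y : K', (∀ i, B.repr x i ∈ A) → (∀ i, B.repr y i ∈ A) →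
      ∀ i, B.repr (x * y) i ∈ A := by
    intro x y hx hy
    have : x * y = ∑ j, B.repr x j • (B j * y) := by
      conv_lhs => rw [← B.sum_repr x, Finset.sum_mul]
      refine Finset.sum_congr rfl fun l _ => ?_
      rw [smul_mul_assoc]
    rw [this]
    exact hsum _ _ fun j _ => hsmul _ _ (hx j) (hmulB j y hy)
  constructor
  · intro hx
    induction hx using Subring.closure_induction with
    | mem x hx =>
      rcases hx with ⟨z, hz, rfl⟩ | ⟨c, rfl⟩
      · have : algebraMap K K' z = z • algebraMap k' K' 1 := by
          rw [map_one, Algebra.smul_def, mul_one]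
        rw [this]
        exact hsmul z _ hz (hconst 1)
      · exact hconst c
    | zero => intro i; rw [map_zero, Finsupp.zero_apply]; exact A.zero_mem
    | one => rw [← map_one (algebraMap k' K')]; exact hconst 1
    | add x y _ _ hx hy => exact hadd x y hx hy
    | neg x _ hx => intro i; rw [map_neg, Finsupp.neg_apply]; exact A.neg_mem (hx i)
    | mul x y _ _ hx hy => exact hmul x y hx hy
  · intro hx
    rw [← B.sum_repr x]
    refine Subring.sum_mem _ fun i _ => ?_
    rw [Algebra.smul_def, hB, constBasis_apply]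
    exact Subring.mul_mem _ (Subring.subset_closure (Or.inl ⟨_, hx i, rfl⟩))
      (Subring.subset_closure (Or.inr ⟨_, rfl⟩))

end Closure

end Groth.Agent.Helper9.FFExt
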