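import Mathlib
import Groth.Prelude.Def_W4bk4goldsch23Ext
import Groth.Agent.Lib.Helper9.FFExt.ConstExt10

namespace Groth.Agent.Helper9.FFExt

open FunFld WithZero TensorProduct
open Groth.Agent.Lib.Helper4.FF

section Tower

variable {k₀ k' k'' K K' K'' : Type*} [Field k₀] [Field k'] [Field k''] [Field K] [Field K']
  [Field K''] [Algebra k' k''] [Algebra K K'] [Algebra k' K']
  [Algebra K' K''] [Algebra k'' K''] [Algebra k' K''] [IsScalarTower k' k'' K'']
  [IsScalarTower k' K' K''] [Algebra K K''] [IsScalarTower K K' K'']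
  [Algebra k₀ K] [Algebra k₀ K'] [Algebra k₀ K''] [IsScalarTower k₀ K K']
  [IsScalarTower k₀ K' K''] [IsScalarTower k₀ K K'']

omit [IsScalarTower k₀ K K'] [IsScalarTower k₀ K' K''] [IsScalarTower k₀ K K''] [Algebra k₀ K'']
  [Algebra k₀ K'] in
/-- `O_P[k']` maps into `O_P[k'']` -/
lemma OPk_map_le (P : Place k₀ K) {x : K'} (hx : x ∈ OPk k' K' P) :
    algebraMap K' K'' x ∈ OPk k'' K'' P := by
  have : OPk k' K' P ≤ (OPk k'' K'' P).comap (algebraMap K' K'') := by
    rw [OPk, Subring.closure_le]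
    rintro _ (⟨z, hz, rfl⟩ | ⟨c, rfl⟩)
    · change algebraMap K' K'' (algebraMap K K' z) ∈ OPk k'' K'' P
      rw [← IsScalarTower.algebraMap_apply]
      exact algebraMap_mem_OPk P hz
    · change algebraMap K' K'' (algebraMap k' K' c) ∈ OPk k'' K'' P
      rw [← IsScalarTower.algebraMap_apply, IsScalarTower.algebraMap_apply k' k'' K'']
      exact const_mem_OPk P _
  exact this hx

omit [IsScalarTower k₀ K K'] [IsScalarTower k₀ K' K''] [IsScalarTower k₀ K K''] [Algebra k₀ K'']
  [Algebra k₀ K'] in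
/-- the coordinates over `K'` of an element of `O_P[k'']` lie in `O_P[k']` -/
lemma repr_mem_OPk (h2 : Function.Bijective (pm k' k'' K' K'')) {ι : Type*} [Fintype ι]
    (d : Module.Basis ι k' k'') (P : Place k₀ K) {y : K''} (hy : y ∈ OPk k'' K'' P) (l : ι) :
    (constBasis h2 d).repr y l ∈ OPk k' K' P := by
  have hle : OPk k'' K'' P ≤ Subring.closure ((algebraMap K' K'') '' (OPk k' K' P : Set K') ∪
      Set.range (algebraMap k'' K'')) := by
    rw [OPk, Subring.closure_le]
    rintro _ (⟨z, hz, rfl⟩ | ⟨c, rfl⟩)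
    · refine Subring.subset_closure (Or.inl ⟨algebraMap K K' z, algebraMap_mem_OPk P hz, ?_⟩)
      rw [← IsScalarTower.algebraMap_apply]
    · exact Subring.subset_closure (Or.inr ⟨c, rfl⟩)
  exact (mem_closure_const_iff h2 d (OPk k' K' P) (fun c => const_mem_OPk P c) y).mp (hle hy) l

omit [Algebra k' k''] [Algebra k' K'] [Algebra k'' K''] [Algebra k' K''] [IsScalarTower k' k'' K'']
  [IsScalarTower k' K' K''] in
/-- if `Q''` lies over `P` and over `Q` then `Q` lies over `P` -/
lemma isOver_of_tower [Algebra.IsAlgebraic K K'] {Q'' : Place k₀ K''} {Q : Place k₀ K'}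
    {P : Place k₀ K} (h1 : IsOver Q'' P) (h2 : IsOver Q'' Q) : IsOver Q P := by
  obtain ⟨e1, he1⟩ := h1
  obtain ⟨e2, he2⟩ := h2
  apply isOver_of_forall'
  intro z hz
  have h3 := (ow_lt_one_iff he1 z).mpr hz
  rw [IsScalarTower.algebraMap_apply K K' K'', ow_lt_one_iff he2] at h3
  exact h3.le

end Tower

end Groth.Agent.Helper9.FFExt
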