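import Mathlib
import Groth.Prelude.Def_W4bk4goldsch23Ext
import Groth.Agent.Lib.Helper9.FFExt.ConstExt11

namespace Groth.Agent.Helper9.FFExt

open FunFld WithZero TensorProduct
open Groth.Agent.Lib.Helper4.FF

section TowerMain

variable {k₀ k' k'' K K' K'' : Type*} [Field k₀] [Field k'] [Field k''] [Field K] [Field K']
  [Field K''] [Algebra k' k''] [Algebra K K'] [Algebra k' K']
  [Algebra K' K''] [Algebra k'' K''] [Algebra k' K''] [IsScalarTower k' k'' K'']
  [IsScalarTower k' K' K''] [Algebra K K''] [IsScalarTower K K' K'']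
  [Algebra k₀ K] [Algebra k₀ K'] [Algebra k₀ K''] [IsScalarTower k₀ K K']
  [IsScalarTower k₀ K' K''] [IsScalarTower k₀ K K''] [FiniteDimensional k' k'']

omit [IsScalarTower k₀ K K'] [IsScalarTower k₀ K' K''] [IsScalarTower k₀ K K''] in
/-- tower: nonsingular for `k'` and at all places above for `k''/k'` implies nonsingular for `k''` -/
theorem ns_tower_of (h2 : Function.Bijective (pm k' k'' K' K'')) (P : Place k₀ K)
    (hk'Q : ∀ (Q : Place k₀ K') (c : k'), Q.1 (algebraMap k' K' c) ≤ 1)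
    (hnsP : NS k' K' P) (hnsQ : ∀ Q : Place k₀ K', IsOver Q P → NS k'' K'' Q) :
    NS k'' K'' P := by
  classical
  intro x hx
  let d := Module.finBasis k' k''
  obtain ⟨D, hD⟩ : ∃ D, D = constBasis h2 d := ⟨_, rfl⟩
  have hy : ∀ l, D.repr x l ∈ OPk k' K' P := by
    intro l
    apply hnsP
    intro Q hQ
    have hxQ : x ∈ OPk k'' K'' Q := hnsQ Q hQ x (fun Q'' hQ'' => by
      obtain ⟨e2, he2⟩ := hQ''
      obtain ⟨e1, he1⟩ := hQ
      exact hx Q'' ⟨e1 * e2, isOverWith_trans he2 he1⟩)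
    rw [hD]
    exact (mem_OPk_iff h2 d Q (hk'Q Q) x).mp hxQ l
  rw [← D.sum_repr x]
  refine Subring.sum_mem _ fun l _ => ?_
  rw [Algebra.smul_def, hD, constBasis_apply]
  exact Subring.mul_mem _ (OPk_map_le P (hD ▸ hy l)) (const_mem_OPk P _)

/-- tower: nonsingular for `k''` implies nonsingular for `k'` -/
theorem ns_tower_left [Algebra.IsAlgebraic K K'] (h2 : Function.Bijective (pm k' k'' K' K''))
    (P : Place k₀ K) (hns : NS k'' K'' P) : NS k' K' P := by
  classical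
  intro x hx
  have hfin2 := finite_of_bij h2
  have hx'' : algebraMap K' K'' x ∈ OPk k'' K'' P := by
    apply hns
    intro Q'' hQ''
    obtain ⟨Q, e2, he2⟩ := exists_below' (K := K') Q''
    have hQ : IsOver Q P := isOver_of_tower hQ'' ⟨e2, he2⟩
    rw [he2]
    exact pow_le_one' (hx Q hQ) _
  let d := Module.finBasis k' k''
  obtain ⟨D, hD⟩ : ∃ D, D = constBasis h2 d := ⟨_, rfl⟩
  have hcoef : ∀ l, D.repr (algebraMap K' K'' x) l ∈ OPk k' K' P := fun l => by
    rw [hD]; exact repr_mem_OPk h2 d P hx'' l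
  have hrepr : ∀ l, D.repr (algebraMap K' K'' x) l = x * algebraMap k' K' (d.repr 1 l) := by
    intro l
    have : algebraMap K' K'' x = x • algebraMap k'' K'' 1 := by
      rw [map_one, Algebra.smul_def, mul_one]
    rw [this, map_smul, Finsupp.smul_apply, smul_eq_mul, hD, constBasis_repr_algebraMap]
  obtain ⟨l, hl⟩ : ∃ l, d.repr 1 l ≠ 0 := by
    by_contra hall
    push Not at hall
    have : d.repr 1 = 0 := Finsupp.ext hall
    exact one_ne_zero ((LinearEquiv.map_eq_zero_iff _).mp this)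
  have hx_eq : x = (x * algebraMap k' K' (d.repr 1 l)) * algebraMap k' K' (d.repr 1 l)⁻¹ := by
    rw [mul_assoc, ← map_mul, mul_inv_cancel₀ hl, map_one, mul_one]
  rw [hx_eq]
  exact Subring.mul_mem _ (hrepr l ▸ hcoef l) (const_mem_OPk P _)

/-- tower: nonsingular for `k''` implies every place above is nonsingular for `k''/k'` -/
theorem ns_tower_right [FiniteDimensional K K'] (h2 : Function.Bijective (pm k' k'' K' K''))
    (hK : IsFFw k₀ K) (P : Place k₀ K)
    (hk'Q : ∀ (Q : Place k₀ K') (c : k'), Q.1 (algebraMap k' K' c) ≤ 1)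
    (hns : NS k'' K'' P) {Q : Place k₀ K'} (hQ : IsOver Q P) : NS k'' K'' Q := by
  classical
  intro x hx
  have hfin2 := finite_of_bij h2
  have hfinKK'' : FiniteDimensional K K'' := FiniteDimensional.trans K K' K''
  -- the places of `K'` above `P`
  obtain ⟨hfinS', -⟩ := sum_ramIdx_mul_deg_w (K' := K') hK P
  obtain ⟨S', hS'def⟩ : ∃ S' : Finset (Place k₀ K'), S' = hfinS'.toFinset := ⟨_, rfl⟩
  have hS' : ∀ Q', Q' ∈ S' ↔ IsOver Q' P := fun Q' => by
    rw [hS'def, Set.Finite.mem_toFinset]; rfl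
  obtain ⟨u, hu⟩ := exists_approx_le S' (fun Q' => if Q' = Q then (1 : K') else 0) 1
  have hlt : exp (-((1 : ℕ) : ℤ)) < 1 := by rw [← exp_zero, exp_lt_exp]; simp
  have huQ : Q.1 u = 1 := by
    have h1 := hu Q ((hS' Q).mpr hQ)
    rw [if_pos rfl] at h1
    have h2' : u = 1 + (u - 1) := by ring
    rw [h2', Valuation.map_add_eq_of_lt_left _ (by rw [map_one]; exact lt_of_le_of_lt h1 hlt),
      map_one]
  have huQ' : ∀ Q' : Place k₀ K', IsOver Q' P → Q' ≠ Q → Q'.1 u ≤ exp (-(1 : ℤ)) := by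
    intro Q' hQ' hne
    have h1 := hu Q' ((hS' Q').mpr hQ')
    rw [if_neg hne, sub_zero] at h1
    simpa using h1
  -- the places of `K''` above `P`
  obtain ⟨hfinS'', -⟩ := sum_ramIdx_mul_deg_w (K' := K'') hK P
  obtain ⟨S'', hS''def⟩ : ∃ S'' : Finset (Place k₀ K''), S'' = hfinS''.toFinset := ⟨_, rfl⟩
  have hS'' : ∀ Q'', Q'' ∈ S'' ↔ IsOver Q'' P := fun Q'' => by
    rw [hS''def, Set.Finite.mem_toFinset]; rfl
  obtain ⟨M0, hM0⟩ := (S''.image fun Q'' : Place k₀ K'' => log (Q''.1 x)).exists_le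
  obtain ⟨M, hMdef⟩ : ∃ M : ℕ, M = M0.toNat := ⟨_, rfl⟩
  have hM : ∀ Q'' : Place k₀ K'', IsOver Q'' P → Q''.1 x ≤ exp (M : ℤ) := by
    intro Q'' hQ''
    apply le_exp_of_log_le
    have := hM0 _ (Finset.mem_image_of_mem _ ((hS'' Q'').mpr hQ''))
    rw [hMdef]
    exact this.trans (Int.self_le_toNat M0)
  -- `u ^ M • x` is integral above `P`
  have hint : algebraMap K' K'' (u ^ M) * x ∈ OPk k'' K'' P := by
    apply hns
    intro Q'' hQ''
    obtain ⟨Q', e2, he2⟩ := exists_below' (K := K') Q''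
    have hQ'P : IsOver Q' P := isOver_of_tower hQ'' ⟨e2, he2⟩
    rw [map_mul, he2, map_pow]
    by_cases hQQ : Q' = Q
    · subst hQQ
      rw [huQ, one_pow, one_pow, one_mul]
      exact hx Q'' ⟨e2, he2⟩
    · have h1 : Q'.1 u ^ M ≤ exp (-(M : ℤ)) := by
        rw [← exp_neg_one_pow]
        exact pow_le_pow_left₀ zero_le (huQ' Q' hQ'P hQQ) M
      have h2' : (Q'.1 u ^ M) ^ e2 ≤ exp (-(M : ℤ)) := by
        have hle1 : Q'.1 u ^ M ≤ 1 := h1.trans (by rw [← exp_zero, exp_le_exp]; omega)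
        calc (Q'.1 u ^ M) ^ e2 ≤ (Q'.1 u ^ M) ^ 1 :=
              pow_le_pow_of_le_one zero_le hle1 (ow_pos he2)
          _ = Q'.1 u ^ M := pow_one _
          _ ≤ _ := h1
      calc (Q'.1 u ^ M) ^ e2 * Q''.1 x ≤ exp (-(M : ℤ)) * exp (M : ℤ) :=
            mul_le_mul' h2' (hM Q'' hQ'')
        _ = 1 := by rw [← exp_add, neg_add_cancel, exp_zero]
  let d := Module.finBasis k' k''
  rw [mem_OPk_iff h2 d Q (hk'Q Q)]
  intro l
  have h3 := repr_mem_OPk h2 d P hint l
  have h4 : Q.1 ((constBasis h2 d).repr (algebraMap K' K'' (u ^ M) * x) l) ≤ 1 :=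
    OPk_le P hk'Q h3 hQ
  rw [← Algebra.smul_def, map_smul, Finsupp.smul_apply, smul_eq_mul, map_mul, map_pow, huQ,
    one_pow, one_mul] at h4
  exact h4

end TowerMain

end Groth.Agent.Helper9.FFExt
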