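import Mathlib
import Groth.Prelude.Def_W4bk4goldsch23Ext
import Groth.Agent.Lib.Helper9.FFExt.ConstExt12

namespace Groth.Agent.Helper9.FFExt

open FunFld WithZero TensorProduct
open Groth.Agent.Lib.Helper4.FF

section Converse

variable {k k' K K' : Type*} [Field k] [Field k'] [Field K] [Field K']
  [Algebra k k'] [Algebra k K] [Algebra K K'] [Algebra k' K'] [Algebra k K']
  [IsScalarTower k k' K'] [IsScalarTower k K K']

/-- converse of `constBasis`: if a `k`-basis of `k'` is a `K`-basis of `K'` then
`k' ⊗_k K → K'` is bijective -/
theorem bijective_pm_of_basis {ι : Type*} (b : Module.Basis ι k k')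
    (hli : LinearIndependent K (fun i => algebraMap k' K' (b i)))
    (hsp : ⊤ ≤ Submodule.span K (Set.range fun i => algebraMap k' K' (b i))) :
    Function.Bijective (pm k k' K K') := by
  constructor
  · rw [injective_iff_map_eq_zero]
    intro t ht
    obtain ⟨l, rfl⟩ := TensorProduct.eq_repr_basis_left b t
    rw [pm_sum] at ht
    have := linearIndependent_iff.mp hli l (by rw [Finsupp.linearCombination_apply]; exact ht)
    rw [this, Finsupp.sum_zero_index]
  · intro x
    have hx : x ∈ Submodule.span K (Set.range fun i => algebraMap k' K' (b i)) := hsp trivial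
    rw [Finsupp.mem_span_range_iff_exists_finsupp] at hx
    obtain ⟨l, rfl⟩ := hx
    exact ⟨l.sum fun i z => b i ⊗ₜ[k] z, pm_sum b l⟩

end Converse

section Mid

variable {k k' K K' : Type*} [Field k] [Field k'] [Field K] [Field K']
  [Algebra k k'] [Algebra k K] [Algebra K K'] [Algebra k' K'] [Algebra k K']
  [IsScalarTower k k' K'] [IsScalarTower k K K']

variable (K K') in
/-- the intermediate field `E K` of `K' = k' K` for an intermediate field `E` of `k'/k` -/
def midField (E : IntermediateField k k') : IntermediateField K K' :=
  IntermediateField.adjoin K ((algebraMap k' K') '' (E : Set k'))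

variable (K K') in
/-- `E → E K` -/
def midHom (E : IntermediateField k k') : E →+* midField K K' E :=
  ((algebraMap k' K').comp (algebraMap E k')).codRestrict (midField K K' E) fun c =>
    IntermediateField.subset_adjoin _ _ ⟨c, c.2, rfl⟩

/-- `E K` is an `E`-algebra -/
scoped instance midAlg (E : IntermediateField k k') : Algebra E (midField K K' E) :=
  (midHom K K' E).toAlgebra

omit [Algebra k K] [Algebra k K'] [IsScalarTower k k' K'] [IsScalarTower k K K'] in
lemma midAlg_coe (E : IntermediateField k k') (c : E) :
    ((algebraMap E (midField K K' E) c : midField K K' E) : K') = algebraMap k' K' (c : k') := rfl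

instance mid_tower1 (E : IntermediateField k k') : IsScalarTower k E (midField K K' E) :=
  IsScalarTower.of_algebraMap_eq fun c => by
    apply Subtype.ext
    rw [midAlg_coe]
    change algebraMap k K' c = algebraMap k' K' (algebraMap k k' c)
    rw [← IsScalarTower.algebraMap_apply]

instance mid_tower2 (E : IntermediateField k k') : IsScalarTower E (midField K K' E) K' :=
  IsScalarTower.of_algebraMap_eq fun c => by
    rw [IntermediateField.algebraMap_apply, midAlg_coe]
    rfl

/-- elements of `E K` are `K`-combinations of the image of `E` -/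
lemma mid_mem_span (hfin : Algebra.IsAlgebraic k k') (E : IntermediateField k k')
    (y : midField K K' E) :
    (y : K') ∈ Submodule.span K ((algebraMap k' K') '' (E : Set k')) := by
  have halg : ∀ x ∈ (algebraMap k' K') '' (E : Set k'), IsAlgebraic K x := by
    rintro _ ⟨c, -, rfl⟩
    have h1 : IsAlgebraic k (algebraMap k' K' c) := (Algebra.IsAlgebraic.isAlgebraic c).algebraMap
    exact h1.tower_top K
  have h1 : (midField K K' E).toSubalgebra =
      Algebra.adjoin K ((algebraMap k' K') '' (E : Set k')) :=
    IntermediateField.adjoin_toSubalgebra_of_isAlgebraic halg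
  have h2 : (y : K') ∈ Algebra.adjoin K ((algebraMap k' K') '' (E : Set k')) := by
    rw [← h1]; exact y.2
  rw [← Subalgebra.mem_toSubmodule, Algebra.adjoin_eq_span] at h2
  have h3 : (Submonoid.closure ((algebraMap k' K') '' (E : Set k')) : Set K') =
      (algebraMap k' K') '' (E : Set k') := by
    have : (algebraMap k' K') '' (E : Set k') =
        ((E.toSubfield.toSubring.toSubmonoid.map (algebraMap k' K' : k' →* K') : Submonoid K') :
          Set K') := rfl
    rw [this, Submonoid.closure_eq]
  rwa [h3] at h2

/-- `E ⊗_k K → E K` is bijective -/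
theorem bijective_mid_bot [FiniteDimensional k k'] (h : Function.Bijective (pm k k' K K'))
    (E : IntermediateField k k') :
    Function.Bijective (pm k E K (midField K K' E)) := by
  have hid : ∀ t : E ⊗[k] K, ((pm k E K (midField K K' E) t : midField K K' E) : K') =
      pm k k' K K' (LinearMap.rTensor K E.val.toLinearMap t) := by
    intro t
    induction t using TensorProduct.induction_on with
    | zero => simp
    | tmul c z =>
      rw [LinearMap.rTensor_tmul, Algebra.TensorProduct.productMap_apply_tmul,
        Algebra.TensorProduct.productMap_apply_tmul]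
      rfl
    | add x y hx hy =>
      rw [map_add, map_add, map_add, ← hx, ← hy]
      rfl
  constructor
  · rw [injective_iff_map_eq_zero]
    intro t ht
    have h1 : pm k k' K K' (LinearMap.rTensor K E.val.toLinearMap t) = 0 := by
      rw [← hid, ht]; rfl
    have h2 := (injective_iff_map_eq_zero _).mp h.1 _ h1
    have hinj : Function.Injective (LinearMap.rTensor K E.val.toLinearMap) :=
      Module.Flat.rTensor_preserves_injective_linearMap _ E.val.injective
    exact (injective_iff_map_eq_zero _).mp hinj _ h2
  · intro y
    have hy := mid_mem_span (K := K) (K' := K') inferInstance E y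
    rw [span_image_eq E (Module.finBasis k E), Finsupp.mem_span_range_iff_exists_finsupp] at hy
    obtain ⟨l, hl⟩ := hy
    refine ⟨l.sum fun i z => (Module.finBasis k E i) ⊗ₜ[k] z, ?_⟩
    apply Subtype.ext
    rw [hid, map_finsuppSum, map_finsuppSum, ← hl]
    refine Finsupp.sum_congr fun i _ => ?_
    rw [LinearMap.rTensor_tmul, Algebra.TensorProduct.productMap_apply_tmul, Algebra.smul_def,
      mul_comm]
    rfl

/-- `k' ⊗_E (E K) → K'` is bijective -/
theorem bijective_mid_top [FiniteDimensional k k'] (h : Function.Bijective (pm k k' K K'))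
    (E : IntermediateField k k') :
    Function.Bijective (pm E k' (midField K K' E) K') := by
  classical
  have hE := bijective_mid_bot h E
  let a := Module.finBasis k E
  let d := Module.finBasis E k'
  obtain ⟨A, hA⟩ : ∃ A, A = constBasis hE a := ⟨_, rfl⟩
  obtain ⟨AD, hAD⟩ : ∃ AD, AD = constBasis h (a.smulTower d) := ⟨_, rfl⟩
  have hADapp : ∀ i l, AD (i, l) =
      ((A i : midField K K' E) : K') * algebraMap k' K' (d l) := by
    intro i l
    rw [hAD, hA, constBasis_apply, constBasis_apply, Module.Basis.smulTower_apply, midAlg_coe,
      Algebra.smul_def, map_mul]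
    rfl
  -- expansion of `∑ y_l d_l`
  have hexp : ∀ y : Fin (Module.finrank E k') → midField K K' E,
      ∑ l, y l • algebraMap k' K' (d l) = ∑ p : Fin (Module.finrank k E) × Fin (Module.finrank E k'),
        A.repr (y p.2) p.1 • AD p := by
    intro y
    rw [Fintype.sum_prod_type, Finset.sum_comm]
    refine Finset.sum_congr rfl fun l _ => ?_
    conv_lhs => rw [← A.sum_repr (y l), Finset.sum_smul]
    refine Finset.sum_congr rfl fun i _ => ?_
    rw [hADapp, Algebra.smul_def, Algebra.smul_def, Algebra.smul_def, map_mul, mul_assoc]
    rfl
  apply bijective_pm_of_basis d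
  · rw [Fintype.linearIndependent_iff]
    intro y hy l
    rw [hexp y] at hy
    have h1 := Fintype.linearIndependent_iff.mp AD.linearIndependent _ hy
    have h2 : A.repr (y l) = 0 := Finsupp.ext fun i => h1 (i, l)
    exact (LinearEquiv.map_eq_zero_iff _).mp h2
  · intro x _
    rw [Submodule.mem_span_range_iff_exists_fun]
    refine ⟨fun l => ∑ i, AD.repr x (i, l) • A i, ?_⟩
    rw [hexp]
    conv_rhs => rw [← AD.sum_repr x]
    refine Finset.sum_congr rfl fun p _ => ?_
    congr 1
    rw [map_sum, Finset.sum_apply']
    rw [Finset.sum_eq_single p.1]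
    · rw [map_smul, Finsupp.smul_apply, Module.Basis.repr_self, Finsupp.single_eq_same,
        smul_eq_mul, mul_one]
    · intro i _ hne
      rw [map_smul, Finsupp.smul_apply, Module.Basis.repr_self, Finsupp.single_eq_of_ne hne.symm,
        smul_zero]
    · intro hp
      exact absurd (Finset.mem_univ _) hp

end Mid

end Groth.Agent.Helper9.FFExt
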