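import Mathlib
import Groth.Prelude.Def_W4bk4goldsch23Ext
import Groth.Agent.Lib.Helper9.FFExt.ConstExt13

namespace Groth.Agent.Helper9.FFExt

open FunFld WithZero TensorProduct
open Groth.Agent.Lib.Helper4.FF

section NSRes

variable {k₀ k k' K K' : Type*} [Field k₀] [Field k] [Field k'] [Field K] [Field K']
  [Algebra k k'] [Algebra k K] [Algebra K K'] [Algebra k' K'] [Algebra k K']
  [IsScalarTower k k' K'] [IsScalarTower k K K']
  [Algebra k₀ K] [Algebra k₀ K'] [IsScalarTower k₀ K K']

/-- a place above which some place makes a constant basis residually independent is nonsingular -/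
theorem ns_of_resIndep (h : Function.Bijective (pm k k' K K')) {ι : Type*} [Fintype ι]
    (b : Module.Basis ι k k') (P : Place k₀ K) (hkP : ∀ c : k, P.1 (algebraMap k K c) ≤ 1)
    (hex : ∃ (Q : Place k₀ K') (e : ℕ), IsOverWith Q P e ∧
      ResIndep Q P (fun i => algebraMap k' K' (b i))) : NS k' K' P := by
  obtain ⟨Q, e, he, hri⟩ := hex
  intro x hx
  rw [mem_OPk_iff h b P hkP]
  have h1 := hx Q ⟨e, he⟩
  have h2 : x = ∑ i, algebraMap K K' ((constBasis h b).repr x i) * algebraMap k' K' (b i) := by
    conv_lhs => rw [← (constBasis h b).sum_repr x]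
    refine Finset.sum_congr rfl fun i _ => ?_
    rw [Algebra.smul_def, constBasis_apply]
  rw [h2, hri.val_le_one_iff he] at h1
  exact fun i => h1 i (Finset.mem_univ i)

/-- for a nonsingular place, the residue field above is generated by `F_P` and `k'` -/
theorem residue_mem_closure [FiniteDimensional K K'] (hK : IsFFw k₀ K) {P : Place k₀ K}
    (hns : NS k' K' P) {Q : Place k₀ K'} (hQ : IsOver Q P)
    (hkQ : ∀ (Q : Place k₀ K') (c : k'), Q.1 (algebraMap k' K' c) ≤ 1)
    (ξ : IsLocalRing.ResidueField Q.O) :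
    ξ ∈ Subring.closure
      (Set.range (@algebraMap (IsLocalRing.ResidueField P.O) (IsLocalRing.ResidueField Q.O) _ _
          (resAlg hQ)) ∪
        Set.range (@algebraMap k' (IsLocalRing.ResidueField Q.O) _ _ (resConstAlg Q (hkQ Q)))) := by
  obtain ⟨y, rfl⟩ := IsLocalRing.residue_surjective ξ
  obtain ⟨r, hr1, hr2⟩ := exists_semilocal_approx hK hQ (y : K') ((Place.mem_O_iff Q).mp y.2)
  have hrO : r ∈ OPk k' K' P := hns r hr1
  have hle : ∀ x ∈ OPk k' K' P, Q.1 x ≤ 1 := fun x hx => OPk_le P hkQ hx hQ
  have key : ∀ (x : K') (hx : x ∈ OPk k' K' P),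
      IsLocalRing.residue Q.O ⟨x, (Place.mem_O_iff Q).mpr (hle x hx)⟩ ∈ Subring.closure
      (Set.range (@algebraMap (IsLocalRing.ResidueField P.O) (IsLocalRing.ResidueField Q.O) _ _
          (resAlg hQ)) ∪
        Set.range (@algebraMap k' (IsLocalRing.ResidueField Q.O) _ _
          (resConstAlg Q (hkQ Q)))) := by
    intro x hx
    induction hx using Subring.closure_induction with
    | mem x hx =>
      rcases hx with ⟨z, hz, rfl⟩ | ⟨c, rfl⟩
      · refine Subring.subset_closure (Or.inl ⟨IsLocalRing.residue P.O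
          ⟨z, (Place.mem_O_iff P).mpr hz⟩, ?_⟩)
        rw [resAlg_algebraMap_residue]
        rfl
      · exact Subring.subset_closure (Or.inr ⟨c, rfl⟩)
    | zero => exact Subring.zero_mem _
    | one => exact Subring.one_mem _
    | add x y hx hy ihx ihy => exact Subring.add_mem _ ihx ihy
    | neg x hx ihx => exact Subring.neg_mem _ ihx
    | mul x y hx hy ihx ihy => exact Subring.mul_mem _ ihx ihy
  have heq : IsLocalRing.residue Q.O y =
      IsLocalRing.residue Q.O ⟨r, (Place.mem_O_iff Q).mpr (hle r hrO)⟩ := by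
    symm
    rw [← sub_eq_zero, ← map_sub, IsLocalRing.residue_eq_zero_iff,
      mem_maximalIdeal_iff (k := k₀) Q]
    exact hr2
  rw [heq]
  exact key r hrO

end NSRes

end Groth.Agent.Helper9.FFExt

namespace Groth.Agent.Helper9.FFExt

open FunFld WithZero TensorProduct
open Groth.Agent.Lib.Helper4.FF

section SepAbstract

/-- abstract form: a field generated over `k'` by a separable extension of `k` is separable -/
theorem isSeparable_of_closure {k k' F L : Type*} [Field k] [Field k'] [Field F] [Field L]
    [Algebra k k'] [Algebra k F] [Algebra k L] [Algebra F L] [Algebra k' L]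
    [IsScalarTower k F L] [IsScalarTower k k' L] [Algebra.IsSeparable k F]
    (hgen : ∀ ξ : L, ξ ∈ Subring.closure
      (Set.range (algebraMap F L) ∪ Set.range (algebraMap k' L))) :
    Algebra.IsSeparable k' L := by
  have key : ∀ ξ ∈ Subring.closure (Set.range (algebraMap F L) ∪ Set.range (algebraMap k' L)),
      IsSeparable k' ξ := by
    intro ξ hξ
    induction hξ using Subring.closure_induction with
    | mem x hx =>
      rcases hx with ⟨η, rfl⟩ | ⟨c, rfl⟩
      · have h1 : IsSeparable k η := Algebra.IsSeparable.isSeparable k η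
        have h2 : IsSeparable k (algebraMap F L η) :=
          h1.map (IsScalarTower.toAlgHom k F L) (algebraMap F L).injective
        exact h2.tower_top k'
      · exact isSeparable_algebraMap c
    | zero => rw [← map_zero (algebraMap k' L)]; exact isSeparable_algebraMap 0
    | one => rw [← map_one (algebraMap k' L)]; exact isSeparable_algebraMap 1
    | add x y hx hy ihx ihy => exact Field.isSeparable_add ihx ihy
    | neg x hx ihx => exact Field.isSeparable_neg ihx
    | mul x y hx hy ihx ihy => exact Field.isSeparable_mul ihx ihy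
  exact ⟨fun ξ => key ξ (hgen ξ)⟩

end SepAbstract

section SepRes

variable {k₀ k k' K K' : Type*} [Field k₀] [Field k] [Field k'] [Field K] [Field K']
  [Algebra k k'] [Algebra k K] [Algebra K K'] [Algebra k' K'] [Algebra k K']
  [IsScalarTower k k' K'] [IsScalarTower k K K']
  [Algebra k₀ K] [Algebra k₀ K'] [IsScalarTower k₀ K K']

/-- if `P` is nonsingular for `k'` and `F_P/k` is separable then `F_Q/k'` is separable -/
theorem residue_separable_of_ns [FiniteDimensional K K'] (hK : IsFFw k₀ K) {P : Place k₀ K}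
    (hns : NS k' K' P) {Q : Place k₀ K'} (hQ : IsOver Q P)
    (hkP : ∀ c : k, P.1 (algebraMap k K c) ≤ 1)
    (hkQ : ∀ (Q : Place k₀ K') (c : k'), Q.1 (algebraMap k' K' c) ≤ 1)
    (hsep : @Algebra.IsSeparable k (IsLocalRing.ResidueField P.O) _ _ (resConstAlg P hkP)) :
    @Algebra.IsSeparable k' (IsLocalRing.ResidueField Q.O) _ _ (resConstAlg Q (hkQ Q)) := by
  have hkQ0 : ∀ c : k, Q.1 (algebraMap k K' c) ≤ 1 := fun c => by
    rw [IsScalarTower.algebraMap_apply k k' K']; exact hkQ Q _
  exact @isSeparable_of_closure k k' (IsLocalRing.ResidueField P.O) (IsLocalRing.ResidueField Q.O)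
    _ _ _ _ _ (resConstAlg P hkP) (resConstAlg Q hkQ0) (resAlg hQ) (resConstAlg Q (hkQ Q))
    (resTower_P hQ hkP hkQ0) (resTower_k' Q hkQ0 (hkQ Q)) hsep
    (residue_mem_closure hK hns hQ hkQ)

end SepRes

end Groth.Agent.Helper9.FFExt
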