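import Mathlib
import Groth.Prelude.Def_W4bk4goldsch23Ext
import Groth.Agent.Lib.Helper9.FFExt.ConstExt14

namespace Groth.Agent.Helper9.FFExt

open FunFld WithZero TensorProduct
open Groth.Agent.Lib.Helper4.FF

universe u v

/-- a place with separable residue field is nonsingular w.r.t. every finite constant extension -/
theorem ns_of_separable_residue (k k' : Type u) (K K' : Type v) [Field k] [Field k'] [Field K]
    [Field K']
    [Algebra k k'] [FiniteDimensional k k'] [Algebra k K] [Algebra K K'] [Algebra k' K'] [Algebra k K']
    [IsScalarTower k k' K'] [IsScalarTower k K K']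
    (h : Function.Bijective (pm k k' K K'))
    (hK : IsFFw k K)
    (P : FunFld.Place k K) [Algebra.IsSeparable k (IsLocalRing.ResidueField P.O)] :
    NS k' K' P := by
  classical
  have hfin := finite_of_bij h
  have hkQ : ∀ (Q : Place k K') (c : k'), Q.1 (algebraMap k' K' c) ≤ 1 := fun Q c =>
    val_le_one_of_isAlgebraic Q ((Algebra.IsAlgebraic.isAlgebraic c).algebraMap)
  let E := separableClosure k k'
  have hE := bijective_mid_bot h E
  have h2 := bijective_mid_top h E
  have hfinE : FiniteDimensional K (midField K K' E) := finite_of_bij hE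
  have hkQE : ∀ (Q : Place k (midField K K' E)) (c : E),
      Q.1 (algebraMap E (midField K K' E) c) ≤ 1 := fun Q c =>
    val_le_one_of_isAlgebraic Q ((Algebra.IsAlgebraic.isAlgebraic c).algebraMap)
  have hnsE : NS E (midField K K' E) P := ns_of_separable hE hK P P.2.1 hkQE
  have hKE : IsFFw k (midField K K' E) := isFFw_of_finite _ hK
  have hfin2 : FiniteDimensional (midField K K' E) K' := finite_of_bij h2
  refine ns_tower_of h2 P hkQE hnsE fun QE hQE => ?_
  -- separability of the residue field of `QE` over `E`
  have hsepP : @Algebra.IsSeparable k (IsLocalRing.ResidueField P.O) _ _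
      (resConstAlg P P.2.1) := inferInstanceAs (Algebra.IsSeparable k (IsLocalRing.ResidueField P.O))
  have hsepQE := residue_separable_of_ns hK hnsE hQE P.2.1 hkQE hsepP
  obtain ⟨Q, e, he⟩ := exists_over_w (K' := K') hKE QE
  refine ns_of_resIndep h2 (Module.finBasis E k') QE (hkQE QE) ⟨Q, e, he, ?_⟩
  exact resIndep_of_sep_pi ⟨e, he⟩ (hkQE QE) (hkQ Q) hsepQE _
    (Module.finBasis E k').linearIndependent


end Groth.Agent.Helper9.FFExt
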