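import Mathlib
import Groth.Prelude.Def_W4bk4goldsch23Ext
import Groth.Agent.Lib.Helper9.FFExt.GeoKaehler

/-! # Algebraically closed constants are geometric; `dx ≠ 0` means separating (helper9) -/

namespace Groth.Agent.Helper9.FFExt

open FunFld TensorProduct
open Groth.Agent.Lib.Helper4.FF

universe u v

/-- over an algebraically closed constant field every extension is geometric -/
theorem isGeometric_of_isAlgClosed (k : Type u) (K : Type v) [Field k] [IsAlgClosed k] [Field K]
    [Algebra k K] : IsGeometric k K := by
  intro k' _ _ hfd
  have hbij : Function.Bijective (algebraMap k k') :=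
    IsAlgClosed.algebraMap_bijective_of_isIntegral
  let e₁ : k ≃ₐ[k] k' := AlgEquiv.ofBijective (Algebra.ofId k k') hbij
  let e₂ : k' ⊗[k] K ≃ₐ[k] k ⊗[k] K := Algebra.TensorProduct.congr e₁.symm AlgEquiv.refl
  let e₃ : k ⊗[k] K ≃ₐ[k] K := Algebra.TensorProduct.lid k K
  exact MulEquiv.isField (Field.toIsField K) (e₂.trans e₃).toMulEquiv

/-- `dx ≠ 0` implies `x` is a separating variable -/
theorem isSeparable_of_D_ne_zero {k : Type u} {K : Type v} [Field k] [Field K] [Algebra k K]
    (hK : IsFFw k K) (hg : IsGeometric k K) {x : K}
    (hx : KaehlerDifferential.D k K x ≠ 0) (hxt : Transcendental k x) :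
    Algebra.IsSeparable (IntermediateField.adjoin k ({x} : Set K)) K := by
  have hfd : FiniteDimensional (IntermediateField.adjoin k ({x} : Set K)) K :=
    finiteDimensional_adjoin_w hK hxt
  have hunr : Algebra.FormallyUnramified (IntermediateField.adjoin k ({x} : Set K)) K := by
    constructor
    constructor
    intro a b
    obtain ⟨a', rfl⟩ := KaehlerDifferential.map_surjective k
      (IntermediateField.adjoin k ({x} : Set K)) K a
    obtain ⟨b', rfl⟩ := KaehlerDifferential.map_surjective k
      (IntermediateField.adjoin k ({x} : Set K)) K b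
    have key : ∀ ω : Ω[K⁄k], KaehlerDifferential.map k
        (IntermediateField.adjoin k ({x} : Set K)) K K ω = 0 := by
      intro ω
      obtain ⟨u, rfl⟩ := exists_eq_smul_D_of_ne_zero hK hg hx ω
      rw [map_smul, KaehlerDifferential.map_D]
      have : (algebraMap K K) x = algebraMap (IntermediateField.adjoin k ({x} : Set K)) K
          (IntermediateField.AdjoinSimple.gen k x) := rfl
      rw [this, Derivation.map_algebraMap, smul_zero]
    rw [key, key]
  exact Algebra.FormallyUnramified.isSeparable _ K

end Groth.Agent.Helper9.FFExt
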