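import Mathlib
import Groth.Prelude.Def_W4bk4goldsch23Ext
import Groth.Agent.Lib.Helper9.FFExt.InertiaField

/-! # Higher ramification groups of places (helper9) -/

namespace Groth.Agent.Helper9.FFExt

open FunFld WithZero
open Groth.Agent.Lib.Helper4.FF
open scoped Pointwise

section Basic

variable {k K K' : Type*} [Field k] [Field K] [Field K'] [Algebra k K] [Algebra K K']
  [Algebra k K'] [IsScalarTower k K K']

/-- `σ` lies in the ramification group `G_{j-1}`: `v(σ x - x) ≥ j` for all `x ∈ O_Q`. -/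
def InRam (Q : Place k K') (j : ℕ) (σ : K' ≃ₐ[K] K') : Prop :=
  ∀ x : K', Q.1 x ≤ 1 → Q.1 (σ x - x) ≤ exp (-(j : ℤ))

lemma lt_exp_iff (a : ℤᵐ⁰) (n : ℤ) : a < exp n ↔ a ≤ exp (n - 1) := by
  by_cases ha : a = 0
  · subst ha
    simp
  · obtain ⟨m, rfl⟩ : ∃ m : ℤ, a = exp m := ⟨log a, (exp_log ha).symm⟩
    rw [exp_lt_exp, exp_le_exp]
    omega

lemma lt_one_iff_le_exp (a : ℤᵐ⁰) : a < 1 ↔ a ≤ exp (-1 : ℤ) := by
  have := lt_exp_iff a 0
  simpa using this

variable {Q : Place k K'} {σ τ : K' ≃ₐ[K] K'} {i j : ℕ}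

omit [Algebra k K] [IsScalarTower k K K'] in
lemma InRam.mono (hij : i ≤ j) (h : InRam Q j σ) : InRam Q i σ := fun x hx =>
  (h x hx).trans (exp_le_exp.mpr (by omega))

omit [Algebra k K] [IsScalarTower k K K'] in
lemma InRam.one : InRam Q j (1 : K' ≃ₐ[K] K') := fun x _ => by simp

/-- elements of `G₀` preserve the valuation -/
lemma InRam.val_eq (h : InRam Q 1 σ) (z : K') : Q.1 (σ z) = Q.1 z := by
  have hQ : Q = conj σ Q := by
    apply place_eq_of_forall
    intro z hz
    rw [conj_apply]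
    have h1 := h z hz.le
    have : σ z = (σ z - z) + z := by ring
    rw [this]
    refine Valuation.map_add_le _ (h1.trans ?_) hz.le
    rw [← exp_zero]
    exact exp_le_exp.mpr (by norm_num)
  have := congrArg (fun R : Place k K' => R.1 z) hQ
  exact this.symm

lemma InRam.mul (hj : 1 ≤ j) (hσ : InRam Q j σ) (hτ : InRam Q j τ) : InRam Q j (σ * τ) := by
  intro x hx
  have h1 : (σ * τ) x - x = σ (τ x - x) + (σ x - x) := by
    rw [AlgEquiv.mul_apply, map_sub]; ring
  rw [h1]
  refine Valuation.map_add_le _ ?_ (hσ x hx)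
  rw [(hσ.mono hj).val_eq]
  exact hτ x hx

lemma InRam.inv (hj : 1 ≤ j) (hσ : InRam Q j σ) : InRam Q j σ⁻¹ := by
  intro x hx
  rw [← (hσ.mono hj).val_eq, map_sub]
  have : σ (σ⁻¹ x) = x := by
    change σ (σ.symm x) = x
    exact σ.apply_symm_apply x
  rw [this, ← Valuation.map_neg, neg_sub]
  exact hσ x hx

lemma InRam.pow (hj : 1 ≤ j) (hσ : InRam Q j σ) (n : ℕ) : InRam Q j (σ ^ n) := by
  induction n with
  | zero => rw [pow_zero]; exact InRam.one
  | succ n ih => rw [pow_succ]; exact ih.mul hj hσ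

end Basic

/-- the inertia group as a subgroup of `Gal(K'/K)` -/
noncomputable abbrev inertiaGal (K : Type*) {k K' : Type*} [Field k] [Field K] [Field K']
    [Algebra K K'] [Algebra k K'] (Q : Place k K') : Subgroup (K' ≃ₐ[K] K') :=
  ((Q.O).inertiaSubgroup K).map ((Q.O).decompositionSubgroup K).subtype

section Galois

variable {k K K' : Type*} [Field k] [Field K] [Field K'] [Algebra k K] [Algebra K K']
  [Algebra k K'] [IsScalarTower k K K'] [FiniteDimensional K K'] [IsGalois K K']

variable {Q : Place k K'} {σ τ : K' ≃ₐ[K] K'} {i j : ℕ}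

omit [FiniteDimensional K K'] [IsGalois K K'] in
lemma InRam.mem_decomposition (h : InRam Q 1 σ) : σ ∈ (Q.O).decompositionSubgroup K := by
  rw [mem_decomposition_iff (k := k)]
  exact Subtype.ext (Valuation.ext fun z => h.val_eq z)

omit [FiniteDimensional K K'] [IsGalois K K'] in
lemma inRam_one_iff : InRam Q 1 σ ↔ σ ∈ inertiaGal K Q := by
  constructor
  · intro h
    refine ⟨⟨σ, h.mem_decomposition⟩, ?_, rfl⟩
    rw [SetLike.mem_coe, mem_inertia_iff]
    intro b hb
    exact (lt_one_iff_le_exp _).mpr (h b hb)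
  · rintro ⟨s, hs, rfl⟩ x hx
    exact (lt_one_iff_le_exp _).mp ((mem_inertia_iff Q s).mp hs x hx)

omit [FiniteDimensional K K'] [IsGalois K K'] in
/-- elements of `G₀` fix the inertia field -/
lemma InRam.fix (h : InRam Q 1 σ) (a : IntermediateField.fixedField (inertiaGal K Q)) :
    σ (a : K') = a :=
  a.2 ⟨σ, inRam_one_iff.mp h⟩

/-- the residue field of `Q` is already the residue field of the inertia field -/
theorem exists_approx (hK : IsFFw k K) (Q : Place k K')
    [Algebra.IsSeparable k (IsLocalRing.ResidueField Q.O)] (x : K') (hx : Q.1 x ≤ 1) :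
    ∃ a : IntermediateField.fixedField (inertiaGal K Q),
      Q.1 (a : K') ≤ 1 ∧ Q.1 (x - (a : K')) < 1 := by
  obtain ⟨Q₁, h₁⟩ := totallyRamified_inertiaField hK Q
  have hov : IsOver Q Q₁ := ⟨_, h₁⟩
  have hK₁ : IsFFw k (IntermediateField.fixedField (inertiaGal K Q)) := isFFw_of_finite _ hK
  have hpos : 0 < Module.finrank (IntermediateField.fixedField (inertiaGal K Q)) K' :=
    Module.finrank_pos
  have hQpos : 0 < Q.deg := deg_pos_w (isFFw_of_finite K' hK) Q
  have hdeg : Q₁.deg = Q.deg := by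
    have h2 := ramIdx_mul_deg_le_w hK₁ hov
    rw [ramIdx_eq h₁] at h2
    have h3 : Q.deg ≤ Q₁.deg := Nat.le_of_mul_le_mul_left h2 hpos
    have h4 := Nat.le_of_dvd hQpos (deg_dvd_of_isOver hov)
    omega
  -- the residue field map
  have := resMapO_isLocalHom hov
  let f : IsLocalRing.ResidueField Q₁.O →+* IsLocalRing.ResidueField Q.O :=
    IsLocalRing.ResidueField.map (resMapO hov)
  have hfc : ∀ c : k, f (algebraMap k _ c) = algebraMap k _ c := by
    intro c
    change IsLocalRing.ResidueField.map (resMapO hov)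
      (IsLocalRing.residue Q₁.O (algebraMap k Q₁.O c)) =
        IsLocalRing.residue Q.O (algebraMap k Q.O c)
    rw [IsLocalRing.ResidueField.map_residue]
    congr 1
  let fa : IsLocalRing.ResidueField Q₁.O →ₐ[k] IsLocalRing.ResidueField Q.O :=
    { f with commutes' := hfc }
  let fl : IsLocalRing.ResidueField Q₁.O →ₗ[k] IsLocalRing.ResidueField Q.O := fa.toLinearMap
  have hinj : Function.Injective fl := f.injective
  have hfin₁ : FiniteDimensional k (IsLocalRing.ResidueField Q₁.O) :=
    Module.finite_of_finrank_pos (by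
      change 0 < Q₁.deg
      rw [hdeg]; exact hQpos)
  have hfin : FiniteDimensional k (IsLocalRing.ResidueField Q.O) :=
    Module.finite_of_finrank_pos hQpos
  have hsurj : Function.Surjective fl :=
    (LinearMap.injective_iff_surjective_of_finrank_eq_finrank hdeg).mp hinj
  obtain ⟨z, hz⟩ := hsurj (IsLocalRing.residue Q.O ⟨x, (Place.mem_O_iff Q).mpr hx⟩)
  obtain ⟨a, rfl⟩ := IsLocalRing.residue_surjective z
  refine ⟨(a : _), ?_, ?_⟩
  · exact (Place.mem_O_iff Q).mp (resMapO hov a).2
  · have h5 : IsLocalRing.residue Q.O (⟨x, (Place.mem_O_iff Q).mpr hx⟩ - resMapO hov a) = 0 := by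
      rw [map_sub, sub_eq_zero, ← hz]
      exact (IsLocalRing.ResidueField.map_residue (resMapO hov) a).symm
    rw [IsLocalRing.residue_eq_zero_iff, mem_maximalIdeal_iff] at h5
    exact h5

/-- **Criterion**: for `σ ∈ G₀` and a uniformizer `t`, `σ ∈ G_{j-1}` iff `v(σ t - t) ≥ j`. -/
theorem inRam_iff_uniformizer (hK : IsFFw k K) (Q : Place k K')
    [Algebra.IsSeparable k (IsLocalRing.ResidueField Q.O)] {σ : K' ≃ₐ[K] K'}
    (hσ : InRam Q 1 σ) {t : K'} (ht : Q.1 t = exp (-1 : ℤ)) (j : ℕ) :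
    InRam Q j σ ↔ Q.1 (σ t - t) ≤ exp (-(j : ℤ)) := by
  have ht1 : Q.1 t ≤ 1 := by
    rw [ht, ← exp_zero]; exact exp_le_exp.mpr (by norm_num)
  have ht0 : t ≠ 0 := by
    rintro rfl
    rw [map_zero] at ht
    exact exp_ne_zero ht.symm
  refine ⟨fun h => h t ht1, fun h => ?_⟩
  have key : ∀ N : ℕ, ∀ x : K', Q.1 x ≤ 1 → Q.1 (σ x - x) ≤ exp (-((min j N : ℕ) : ℤ)) := by
    intro N
    induction N with
    | zero =>
      intro x hx
      rw [Nat.min_zero, Nat.cast_zero, neg_zero, exp_zero]
      exact Valuation.map_sub_le _ (by rw [hσ.val_eq]; exact hx) hx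
    | succ N ih =>
      intro x hx
      obtain ⟨a, ha1, ha2⟩ := exists_approx hK Q x hx
      rw [lt_one_iff_le_exp, ← ht] at ha2
      set y : K' := (x - (a : K')) / t with hy
      have hy1 : Q.1 y ≤ 1 := by
        rw [hy, map_div₀]
        exact div_le_one_of_le₀ ha2 zero_le
      have hx' : x = (a : K') + t * y := by
        rw [hy]; field_simp; ring
      have h1 : σ x - x = (σ t - t) * σ y + t * (σ y - y) := by
        rw [hx', map_add, map_mul, hσ.fix a]; ring
      rw [h1]
      refine Valuation.map_add_le _ ?_ ?_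
      · rw [map_mul, hσ.val_eq]
        refine (mul_le_mul' h hy1).trans ?_
        rw [mul_one]
        exact exp_le_exp.mpr (by
          have : (min j (N + 1) : ℕ) ≤ j := min_le_left _ _
          omega)
      · rw [map_mul, ht]
        refine (mul_le_mul' le_rfl (ih y hy1)).trans ?_
        rw [← exp_add]
        exact exp_le_exp.mpr (by
          have h2 : (min j (N + 1) : ℕ) ≤ min j N + 1 := by omega
          omega)
  intro x hx
  have := key j x hx
  rwa [min_self] at this

end Galois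

end Groth.Agent.Helper9.FFExt
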