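import Mathlib
import Groth.Prelude.Def_W4bk4goldsch23Ext
import Groth.Agent.Lib.Helper9.FFExt.Ramif

/-! # Only finitely many places ramify in a finite separable extension (helper9) -/

namespace Groth.Agent.Helper9.FFExt

open FunFld WithZero
open Groth.Agent.Lib.Helper4.FF
open scoped Pointwise

section Abstract

attribute [local instance] Ideal.Quotient.field in
/-- Counting form of `D/I ≃ Gal(F_Q/F_P)` without separability: `|D| f_0 ≤ |I| f`. -/
theorem card_mul_finrank_le_abstract {k A B G : Type*} [Field k] [CommRing A] [CommRing B]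
    [Algebra A B] [Group G] [Finite G] [MulSemiringAction G B] [SMulCommClass G A B]
    [Algebra.IsInvariant A B G]
    (P : Ideal A) (Q : Ideal B) [P.IsMaximal] [Q.IsMaximal] [Q.LiesOver P]
    [Algebra k (A ⧸ P)] [Algebra k (B ⧸ Q)] [IsScalarTower k (A ⧸ P) (B ⧸ Q)]
    [Module.Finite k (B ⧸ Q)] (hstab : MulAction.stabilizer G Q = ⊤) :
    Nat.card G * Module.finrank k (A ⧸ P) ≤
      Nat.card (Q.inertia G) * Module.finrank k (B ⧸ Q) := by
  have hsurj := Ideal.Quotient.stabilizerHom_surjective G P Q
  have hker := Ideal.Quotient.map_ker_stabilizer_subtype Q P G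
  have hfd : FiniteDimensional (A ⧸ P) (B ⧸ Q) :=
    Module.Finite.of_restrictScalars_finite k (A ⧸ P) (B ⧸ Q)
  have hcard : Nat.card ((B ⧸ Q) ≃ₐ[A ⧸ P] (B ⧸ Q)) ≤ Module.finrank (A ⧸ P) (B ⧸ Q) := by
    rw [Nat.card_eq_fintype_card]
    exact AlgEquiv.card_le
  have h1 := Subgroup.card_eq_card_quotient_mul_card_subgroup
    (Ideal.Quotient.stabilizerHom Q P G).ker
  rw [Nat.card_congr (QuotientGroup.quotientKerEquivOfSurjective _ hsurj).toEquiv,
    (Subgroup.card_eq_iff_eq_top _).mpr hstab,
    ← Subgroup.card_map_of_injective (Subgroup.subtype_injective _), hker] at h1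
  rw [h1, ← Module.finrank_mul_finrank k (A ⧸ P) (B ⧸ Q)]
  calc Nat.card ((B ⧸ Q) ≃ₐ[A ⧸ P] (B ⧸ Q)) * Nat.card (Q.inertia G) * Module.finrank k (A ⧸ P)
      ≤ Module.finrank (A ⧸ P) (B ⧸ Q) * Nat.card (Q.inertia G) * Module.finrank k (A ⧸ P) :=
        Nat.mul_le_mul_right _ (Nat.mul_le_mul_right _ hcard)
    _ = _ := by ring

end Abstract

section Inertia

variable {k K K' : Type*} [Field k] [Field K] [Field K'] [Algebra k K] [Algebra K K']
  [Algebra k K'] [IsScalarTower k K K'] [FiniteDimensional K K'] [IsGalois K K']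

theorem card_inertia_mul_le (Q : Place k K')
    (PZ : Place k (IntermediateField.fixedField ((Q.O).decompositionSubgroup K)))
    (hQ : IsOver Q PZ) (hQfin : 0 < Q.deg) :
    Nat.card ((Q.O).decompositionSubgroup K) * PZ.deg ≤
      Nat.card ((Q.O).inertiaSubgroup K) * Q.deg := by
  let _ : Algebra PZ.O Q.O := (resMapO hQ).toAlgebra
  have hloc : IsLocalHom (algebraMap PZ.O Q.O) := resMapO_isLocalHom hQ
  have halg : ∀ a : PZ.O, ((algebraMap PZ.O Q.O a : Q.O) : K') =
      algebraMap (IntermediateField.fixedField ((Q.O).decompositionSubgroup K)) K' (a : _) :=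
    fun a => rfl
  have hcomm : SMulCommClass ((Q.O).decompositionSubgroup K) PZ.O Q.O := by
    refine ⟨fun σ a b => ?_⟩
    apply Subtype.ext
    rw [Algebra.smul_def, Algebra.smul_def, decomp_smul_coe]
    change (σ : K' ≃ₐ[K] K') (((algebraMap PZ.O Q.O a : Q.O) : K') * (b : K')) =
      ((algebraMap PZ.O Q.O a : Q.O) : K') * ((σ • b : Q.O) : K')
    rw [map_mul, decomp_smul_coe, halg]
    congr 1
    exact (a : IntermediateField.fixedField ((Q.O).decompositionSubgroup K)).2 σ
  have hinv : Algebra.IsInvariant PZ.O Q.O ((Q.O).decompositionSubgroup K) := by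
    refine ⟨fun b hb => ?_⟩
    have hbZ : (b : K') ∈ IntermediateField.fixedField ((Q.O).decompositionSubgroup K) := by
      intro σ
      have := congrArg (fun z : Q.O => (z : K')) (hb σ)
      exact this
    obtain ⟨e, he⟩ := hQ
    have hle : PZ.1 ⟨(b : K'), hbZ⟩ ≤ 1 := by
      rw [← ow_le_one_iff he]
      exact (Place.mem_O_iff Q).mp b.2
    exact ⟨⟨⟨(b : K'), hbZ⟩, (Place.mem_O_iff PZ).mpr hle⟩, Subtype.ext rfl⟩
  have hcomap : (IsLocalRing.maximalIdeal Q.O).comap (algebraMap PZ.O Q.O) =
      IsLocalRing.maximalIdeal PZ.O :=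
    ((IsLocalRing.local_hom_TFAE (algebraMap PZ.O Q.O)).out 0 4).mp hloc
  have hlies : (IsLocalRing.maximalIdeal Q.O).LiesOver (IsLocalRing.maximalIdeal PZ.O) :=
    ⟨hcomap.symm⟩
  have hfinD : Finite ((Q.O).decompositionSubgroup K) := inferInstance
  have hsurj := Ideal.Quotient.stabilizerHom_surjective ((Q.O).decompositionSubgroup K)
    (IsLocalRing.maximalIdeal PZ.O) (IsLocalRing.maximalIdeal Q.O)
  have hker := Ideal.Quotient.map_ker_stabilizer_subtype (IsLocalRing.maximalIdeal Q.O)
    (IsLocalRing.maximalIdeal PZ.O) ((Q.O).decompositionSubgroup K)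
  -- the stabilizer of the maximal ideal is everything
  have hStop : MulAction.stabilizer ((Q.O).decompositionSubgroup K)
      (IsLocalRing.maximalIdeal Q.O) = ⊤ := by
    rw [eq_top_iff]
    intro σ _
    rw [MulAction.mem_stabilizer_iff]
    ext x
    rw [Ideal.mem_pointwise_smul_iff_inv_smul_mem, IsLocalRing.mem_maximalIdeal,
      IsLocalRing.mem_maximalIdeal, mem_nonunits_iff, mem_nonunits_iff, not_iff_not]
    constructor
    · intro hu
      have := hu.map (MulSemiringAction.toRingHom ((Q.O).decompositionSubgroup K) Q.O σ)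
      rwa [MulSemiringAction.toRingHom_apply, smul_inv_smul] at this
    · intro hu
      exact hu.map (MulSemiringAction.toRingHom ((Q.O).decompositionSubgroup K) Q.O σ⁻¹)
  -- the two inertia groups agree
  have hI : (IsLocalRing.maximalIdeal Q.O).inertia ((Q.O).decompositionSubgroup K) =
      (Q.O).inertiaSubgroup K := by
    ext σ
    rw [ValuationSubring.inertiaSubgroup, MonoidHom.mem_ker]
    constructor
    · intro h
      ext x
      obtain ⟨b, rfl⟩ := IsLocalRing.residue_surjective x
      change σ • IsLocalRing.residue Q.O b = IsLocalRing.residue Q.O b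
      rw [← IsLocalRing.ResidueField.residue_smul]
      exact (Ideal.Quotient.eq).mpr (h b)
    · intro h b
      have h1 := congrArg (fun f : RingAut (IsLocalRing.ResidueField Q.O) =>
        f (IsLocalRing.residue Q.O b)) h
      change σ • IsLocalRing.residue Q.O b = IsLocalRing.residue Q.O b at h1
      rw [← IsLocalRing.ResidueField.residue_smul] at h1
      exact (Ideal.Quotient.eq).mp h1
  -- residue fields
  have htower : @IsScalarTower k (PZ.O ⧸ IsLocalRing.maximalIdeal PZ.O)
      (Q.O ⧸ IsLocalRing.maximalIdeal Q.O) (Place.algRes PZ).toSMul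
      (Ideal.Quotient.algebraOfLiesOver (IsLocalRing.maximalIdeal Q.O)
        (IsLocalRing.maximalIdeal PZ.O)).toSMul (Place.algRes Q).toSMul := by
    refine @IsScalarTower.of_algebraMap_eq k (PZ.O ⧸ IsLocalRing.maximalIdeal PZ.O)
      (Q.O ⧸ IsLocalRing.maximalIdeal Q.O) _ _ _ (Place.algRes PZ)
      (Ideal.Quotient.algebraOfLiesOver (IsLocalRing.maximalIdeal Q.O)
        (IsLocalRing.maximalIdeal PZ.O)) (Place.algRes Q) fun c => ?_
    change Ideal.Quotient.mk _ (algebraMap k Q.O c) =
      algebraMap (PZ.O ⧸ IsLocalRing.maximalIdeal PZ.O) (Q.O ⧸ IsLocalRing.maximalIdeal Q.O)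
        (Ideal.Quotient.mk _ (algebraMap k PZ.O c))
    rw [Ideal.Quotient.algebraMap_mk_of_liesOver]
    congr 1
  have hfinQ : Module.Finite k (IsLocalRing.ResidueField Q.O) :=
    Module.finite_of_finrank_pos hQfin
  have key := @card_mul_finrank_le_abstract k PZ.O Q.O ((Q.O).decompositionSubgroup K) _ _ _ _ _ _ _
    hcomm hinv (IsLocalRing.maximalIdeal PZ.O) (IsLocalRing.maximalIdeal Q.O) _ _ hlies
    (Place.algRes PZ) (Place.algRes Q) htower hfinQ hStop
  rw [hI] at key
  exact key

/-- `e ≤ |I|` with no separability assumption -/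
theorem le_card_inertia (hK : IsFFw k K) {Q : Place k K'} {P : Place k K} {e : ℕ}
    (he : IsOverWith Q P e) : e ≤ Nat.card ((Q.O).inertiaSubgroup K) := by
  obtain ⟨PZ, h1, h2, h3⟩ := decompField_facts hK he
  have hQpos := deg_pos_w (isFFw_of_finite K' hK) Q
  have h4 := card_inertia_mul_le Q PZ ⟨e, h1⟩ hQpos
  have h5 := card_decomposition_mul_deg_w hK he
  rw [h3, h5] at h4
  exact Nat.le_of_mul_le_mul_right h4 hQpos

/-- a ramified place has a nontrivial inertia element -/
theorem exists_ne_one_inRam (hK : IsFFw k K) {Q : Place k K'} {P : Place k K} {e : ℕ}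
    (he : IsOverWith Q P e) (h2 : 2 ≤ e) : ∃ σ : K' ≃ₐ[K] K', σ ≠ 1 ∧ InRam Q 1 σ := by
  have h1 := le_card_inertia hK he
  have hnt : Nontrivial ((Q.O).inertiaSubgroup K) :=
    Finite.one_lt_card_iff_nontrivial.mp (by omega)
  obtain ⟨s, hs⟩ := exists_ne (1 : (Q.O).inertiaSubgroup K)
  refine ⟨(s : (Q.O).decompositionSubgroup K), ?_, ?_⟩
  · intro h
    apply hs
    apply Subtype.ext
    apply Subtype.ext
    exact h
  · exact inRam_one_iff.mpr ⟨s.1, s.2, rfl⟩

end Inertia

section Finite

variable {k K : Type*} [Field k] [Field K] [Algebra k K]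

/-- finitely many zeros and poles over a weak base -/
theorem finite_support_ord_w (hK : IsFFw k K) (z : K) :
    (Function.support fun Q : Place k K => Q.ord z).Finite := by
  obtain ⟨x, hxt, hfin⟩ := hK
  have hK' := isFunctionField_kc hxt
  have := finite_support_ord hK' z
  refine (this.image down).subset ?_
  intro Q hQ
  exact ⟨up Q, hQ, down_up Q⟩

end Finite

section Galois

variable {k K K' : Type*} [Field k] [Field K] [Field K'] [Algebra k K] [Algebra K K']
  [Algebra k K'] [IsScalarTower k K K'] [FiniteDimensional K K'] [IsGalois K K']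

omit [FiniteDimensional K K'] [IsGalois K K'] [IsScalarTower k K K'] in
/-- a nontrivial automorphism lies in only finitely many inertia groups -/
theorem finite_inRam (hK' : IsFFw k K') {σ : K' ≃ₐ[K] K'} (hσ : σ ≠ 1) :
    {Q : Place k K' | InRam Q 1 σ}.Finite := by
  obtain ⟨y, hy⟩ : ∃ y, σ y ≠ y := by
    by_contra h
    push Not at h
    exact hσ (AlgEquiv.ext h)
  have hz : σ y - y ≠ 0 := sub_ne_zero.mpr hy
  refine ((finite_support_ord_w hK' y).union (finite_support_ord_w hK' (σ y - y))).subset ?_
  intro Q hQ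
  by_cases hle : Q.1 y ≤ 1
  · right
    have h1 := hQ y hle
    have h2 : Q.1 (σ y - y) < 1 := (lt_one_iff_le_exp _).mpr (by simpa using h1)
    have := (Place.ord_pos_iff Q hz).mpr h2
    exact ne_of_gt this
  · left
    push Not at hle
    have hy0 : y ≠ 0 := by
      rintro rfl
      simp at hle
    have := (Place.ord_neg_iff Q hy0).mpr hle
    exact ne_of_lt this

/-- finitely many places ramify in a finite Galois extension -/
theorem finite_ramified_galois (hK : IsFFw k K) :
    {Q : Place k K' | ∃ (P : Place k K) (e : ℕ), IsOverWith Q P e ∧ 2 ≤ e}.Finite := by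
  have hK' : IsFFw k K' := isFFw_of_finite K' hK
  have hfin : (⋃ σ ∈ {σ : K' ≃ₐ[K] K' | σ ≠ 1}, {Q : Place k K' | InRam Q 1 σ}).Finite :=
    Set.Finite.biUnion (Set.toFinite _) fun σ hσ => finite_inRam hK' hσ
  refine hfin.subset ?_
  rintro Q ⟨P, e, he, h2⟩
  obtain ⟨σ, hσ1, hσ⟩ := exists_ne_one_inRam hK he h2
  exact Set.mem_biUnion hσ1 hσ

end Galois

section Tower

variable {k K K' L : Type*} [Field k] [Field K] [Field K'] [Field L] [Algebra k K] [Algebra K K']
  [Algebra k K'] [IsScalarTower k K K'] [Algebra K' L] [Algebra K L] [Algebra k L]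
  [IsScalarTower K K' L] [IsScalarTower k K L] [IsScalarTower k K' L]
  [FiniteDimensional K L] [IsGalois K L] [FiniteDimensional K K']

include L in
/-- finitely many places ramify in a subextension of a finite Galois extension -/
theorem finite_ramified_of_tower (hK : IsFFw k K) :
    {Q : Place k K' | ∃ (P : Place k K) (e : ℕ), IsOverWith Q P e ∧ 2 ≤ e}.Finite := by
  classical
  have hfd : FiniteDimensional K' L := FiniteDimensional.right K K' L
  have hK' : IsFFw k K' := isFFw_of_finite K' hK
  have hfinL := finite_ramified_galois (k := k) (K := K) (K' := L) hK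
  let below : Place k L → Place k K' := fun R => (exists_below' (K := K') R).choose
  have hbelow : ∀ R : Place k L, IsOver R (below R) := fun R =>
    (exists_below' (K := K') R).choose_spec
  refine (hfinL.image below).subset ?_
  rintro Q ⟨P, e, he, h2⟩
  obtain ⟨R, e₂, hR⟩ := exists_over_w (K' := L) hK' Q
  refine ⟨R, ⟨P, e * e₂, isOverWith_trans hR he, ?_⟩, isOver_unique (hbelow R) ⟨e₂, hR⟩⟩
  have := ow_pos hR
  nlinarith

end Tower

section Separable

variable {k K K' : Type*} [Field k] [Field K] [Field K'] [Algebra k K] [Algebra K K']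
  [Algebra k K'] [IsScalarTower k K K'] [FiniteDimensional K K'] [Algebra.IsSeparable K K']

/-- finitely many places ramify in a finite separable extension -/
theorem finite_ramified_separable (hK : IsFFw k K) :
    {Q : Place k K' | ∃ (P : Place k K) (e : ℕ), IsOverWith Q P e ∧ 2 ≤ e}.Finite := by
  let Ω := AlgebraicClosure K'
  let L : IntermediateField K Ω := IntermediateField.normalClosure K K' Ω
  have hsep : Algebra.IsSeparable K L := by
    have : ∀ f : K' →ₐ[K] Ω, Algebra.IsSeparable K f.fieldRange := fun f =>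
      AlgEquiv.Algebra.isSeparable (AlgEquiv.ofInjectiveField f)
    exact IntermediateField.isSeparable_iSup K Ω
  have hgal : IsGalois K L := ⟨⟩
  have htower : IsScalarTower k K' L := IsScalarTower.of_algebraMap_eq fun c => by
    apply Subtype.ext
    exact IsScalarTower.algebraMap_apply k K' Ω c
  exact finite_ramified_of_tower (L := L) hK

end Separable

end Groth.Agent.Helper9.FFExt
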