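import Mathlib
import Groth.Prelude.Def_W4bk4goldsch23Ext
import Groth.Agent.Lib.Helper9.FFExt.NormOrd2

/-!
# Unit discriminant ⇒ separable residue field extensions (helper9)
-/

namespace Groth.Agent.Helper9.FFExt

open FunFld WithZero Polynomial
open Groth.Agent.Lib.Helper4.FF

/-- a simple root is separable -/
theorem isSeparable_of_aeval_derivative_ne_zero {F E : Type*} [Field F] [Field E] [Algebra F E]
    (a : E) (f : F[X]) (h0 : aeval a f = 0) (h1 : aeval a (derivative f) ≠ 0) : IsSeparable F a := by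
  have hf0 : f ≠ 0 := by
    rintro rfl
    simp at h1
  have hint : IsIntegral F a := (IsAlgebraic.isIntegral ⟨f, hf0, h0⟩)
  obtain ⟨h, hh⟩ := minpoly.dvd F a h0
  have hirr := minpoly.irreducible hint
  unfold IsSeparable
  rw [Polynomial.separable_iff_derivative_ne_zero hirr]
  intro hm
  apply h1
  rw [hh, derivative_mul, hm, zero_mul, zero_add, map_mul, minpoly.aeval, zero_mul]

/-- an extension generated (as an algebra) by one separable element is separable -/
theorem isSeparable_of_adjoin_eq_top {F E : Type*} [Field F] [Field E] [Algebra F E]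
    (a : E) (ha : IsSeparable F a) (htop : ∀ z : E, z ∈ Algebra.adjoin F ({a} : Set E)) :
    Algebra.IsSeparable F E := by
  refine ⟨fun z => ?_⟩
  have h1 : Algebra.adjoin F ({a} : Set E) ≤ (separableClosure F E).toSubalgebra := by
    rw [Algebra.adjoin_le_iff]
    intro b hb
    rw [Set.mem_singleton_iff] at hb
    subst hb
    exact mem_separableClosure_iff.mpr ha
  exact mem_separableClosure_iff.mp (h1 (htop z))

section UnramSep

variable {k K K' : Type*} [Field k] [Field K] [Field K'] [Algebra k K] [Algebra K K']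
  [Algebra k K'] [IsScalarTower k K K'] [FiniteDimensional K K']

/-- elements of the semilocal ring lie in `O_P[y]` when the discriminant of `y` is a `P`-unit -/
theorem mem_adjoin_of_discr_unit [Algebra.IsSeparable K K'] (hK : IsFFw k K) (P : Place k K) [Algebra P.O K']
    [IsScalarTower P.O K K'] (pb : PowerBasis K K')
    (hy : ∀ Q : Place k K', IsOver Q P → Q.1 pb.gen ≤ 1)
    (hd : P.1 (Algebra.discr K pb.basis) = 1) (z : K')
    (hz : ∀ Q : Place k K', IsOver Q P → Q.1 z ≤ 1) :
    z ∈ Algebra.adjoin P.O ({pb.gen} : Set K') := by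
  have hyint : IsIntegral P.O pb.gen := (isIntegral_iff hK P _).mpr hy
  have hzint : IsIntegral P.O z := (isIntegral_iff hK P _).mpr hz
  have h1 := Algebra.discr_mul_isIntegral_mem_adjoin (K := K) hyint hzint
  obtain ⟨d, hdd⟩ : ∃ d, d = Algebra.discr K pb.basis := ⟨_, rfl⟩
  rw [← hdd] at h1 hd
  have hd0 : d ≠ 0 := by
    rw [← Valuation.ne_zero_iff P.1, hd]; exact one_ne_zero
  have hdinv : P.1 d⁻¹ ≤ 1 := by rw [map_inv₀, hd, inv_one]
  have h2 : z = (⟨d⁻¹, (Place.mem_O_iff P).mpr hdinv⟩ : P.O) • (d • z) := by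
    rw [← IsScalarTower.algebraMap_smul K (⟨d⁻¹, (Place.mem_O_iff P).mpr hdinv⟩ : P.O) (d • z)]
    change z = d⁻¹ • (d • z)
    rw [smul_smul, inv_mul_cancel₀ hd0, one_smul]
  rw [h2]
  exact Subalgebra.smul_mem _ h1 _

/-- reduction of polynomial expressions in the semilocal ring -/
theorem semilocalRes_aeval (P : Place k K) [Algebra P.O K'] [IsScalarTower P.O K K']
    {Q : Place k K'} (hQ : IsOver Q P) (yS : semilocal (K' := K') P) (q : P.O[X]) :
    semilocalRes P hQ (aeval yS q) =
      eval₂ (@algebraMap _ _ _ _ (resAlg hQ)) (semilocalRes P hQ yS)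
        (q.map (IsLocalRing.residue P.O)) := by
  have := tower_k_O (K' := K') P
  rw [aeval_def, eval₂_map]
  obtain ⟨ρ, hρ⟩ : ∃ ρ : semilocal (K' := K') P →+* IsLocalRing.ResidueField Q.O,
      ∀ s, ρ s = semilocalRes P hQ s := ⟨(semilocalRes P hQ).toRingHom, fun _ => rfl⟩
  have h1 := hom_eval₂ q (algebraMap P.O (semilocal (K' := K') P)) ρ yS
  rw [hρ, hρ] at h1
  rw [h1]
  congr 1
  ext c
  rw [RingHom.comp_apply, RingHom.comp_apply, resAlg_algebraMap_residue, hρ, semilocalRes_apply]
  congr 1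
  apply Subtype.ext
  exact algebraMap_O_apply P c

/-- an element of the semilocal ring whose norm is a `P`-unit is a unit at every `Q | P` -/
theorem val_eq_one_of_norm_unit (hK : IsFFw k K) (P : Place k K) (w : K')
    (hw : ∀ Q : Place k K', IsOver Q P → Q.1 w ≤ 1) (hN : P.1 (Algebra.norm K w) = 1)
    {Q : Place k K'} (hQ : IsOver Q P) : Q.1 w = 1 := by
  classical
  have hfin := (sum_ramIdx_mul_deg_w (K' := K') hK P).1
  have hQs : ∀ Q', Q' ∈ hfin.toFinset ↔ IsOver Q' P := fun Q' => by
    rw [Set.Finite.mem_toFinset]; rfl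
  have h1 := ord_norm hK P w hfin.toFinset hQs
  have hw0 : w ≠ 0 := by
    rintro rfl
    rw [Algebra.norm_zero, map_zero] at hN
    exact zero_ne_one hN
  have h2 : P.ord (Algebra.norm K w) = 0 := by
    unfold FunFld.Place.ord; rw [hN, log_one, neg_zero]
  rw [h2, mul_zero] at h1
  have hK' : IsFFw k K' := isFFw_of_finite K' hK
  have h3 : ∀ Q' ∈ hfin.toFinset, 0 ≤ (Q'.deg : ℤ) * Q'.ord w := fun Q' hQ' =>
    mul_nonneg (Int.natCast_nonneg _) ((Place.ord_nonneg_iff Q' hw0).mpr (hw Q' ((hQs Q').mp hQ')))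
  have h4 := (Finset.sum_eq_zero_iff_of_nonneg h3).mp h1.symm Q ((hQs Q).mpr hQ)
  have h5 : Q.ord w = 0 := by
    rcases mul_eq_zero.mp h4 with h | h
    · have := deg_pos_w hK' Q
      omega
    · exact h
  rw [Place.val_eq_exp_neg_ord Q hw0, h5, neg_zero, exp_zero]

/-- **Unramified-separable criterion**: if `K' = K(y)` with `y` integral above `P` and the
discriminant of `y` a `P`-unit, then every residue field extension above `P` is separable. -/
theorem residue_isSeparable_of_discr_unit [Algebra.IsSeparable K K'] (hK : IsFFw k K)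
    (P : Place k K) (pb : PowerBasis K K')
    (hy : ∀ Q : Place k K', IsOver Q P → Q.1 pb.gen ≤ 1)
    (hd : P.1 (Algebra.discr K pb.basis) = 1) {Q : Place k K'} (hQ : IsOver Q P) :
    @Algebra.IsSeparable (IsLocalRing.ResidueField P.O) (IsLocalRing.ResidueField Q.O) _ _
      (resAlg hQ) := by
  classical
  let _ : Algebra P.O K' := ((algebraMap K K').comp P.O.subtype).toAlgebra
  have : IsScalarTower P.O K K' := IsScalarTower.of_algebraMap_eq fun _ => rfl
  have htow := tower_k_O (K' := K') P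
  let _ := resAlg hQ
  have hyint : IsIntegral P.O pb.gen := (isIntegral_iff hK P _).mpr hy
  obtain ⟨yS, hyS⟩ : ∃ yS : semilocal (K' := K') P, (yS : K') = pb.gen := ⟨⟨pb.gen, hy⟩, rfl⟩
  obtain ⟨g, hgg⟩ : ∃ g, g = minpoly P.O pb.gen := ⟨_, rfl⟩
  have hgK : minpoly K pb.gen = g.map (algebraMap P.O K) := by
    rw [hgg]; exact minpoly.isIntegrallyClosed_eq_field_fractions K K' hyint
  obtain ⟨wS, hwS⟩ : ∃ wS : semilocal (K' := K') P, wS = aeval yS (derivative g) := ⟨_, rfl⟩
  have hw : (wS : K') = aeval pb.gen (derivative (minpoly K pb.gen)) := by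
    rw [hgK, derivative_map, aeval_map_algebraMap, hwS, ← hyS]
    exact (Subalgebra.aeval_coe _ _ _).symm
  have hg0 : aeval yS g = 0 := by
    apply Subtype.ext
    rw [← Subalgebra.aeval_coe, hyS, hgg, minpoly.aeval]
    rfl
  have hN : P.1 (Algebra.norm K (wS : K')) = 1 := by
    rw [hw]
    have h1 := Algebra.discr_powerBasis_eq_norm (K := K) pb
    rw [h1, map_mul, map_pow, Valuation.map_neg, map_one, one_pow, one_mul] at hd
    exact hd
  have hwu : Q.1 (wS : K') = 1 := val_eq_one_of_norm_unit hK P _ wS.2 hN hQ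
  obtain ⟨yb, hyb⟩ : ∃ yb, yb = semilocalRes P hQ yS := ⟨_, rfl⟩
  obtain ⟨gb, hgb⟩ : ∃ gb, gb = g.map (IsLocalRing.residue P.O) := ⟨_, rfl⟩
  have e1 : aeval yb gb = 0 := by
    rw [aeval_def, hyb, hgb, ← semilocalRes_aeval, hg0, map_zero]
  have e2 : aeval yb (derivative gb) ≠ 0 := by
    rw [aeval_def, hyb, hgb, derivative_map, ← semilocalRes_aeval, ← hwS]
    intro h0
    rw [semilocalRes_eq_zero_iff, hwu] at h0
    exact lt_irrefl _ h0
  have hsep : IsSeparable (IsLocalRing.ResidueField P.O) yb :=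
    isSeparable_of_aeval_derivative_ne_zero yb gb e1 e2
  apply isSeparable_of_adjoin_eq_top yb hsep
  intro ζ
  obtain ⟨s, rfl⟩ := semilocalRes_surjective hK P hQ ζ
  have hs := mem_adjoin_of_discr_unit hK P pb hy hd (s : K') s.2
  rw [Algebra.adjoin_singleton_eq_range_aeval] at hs
  obtain ⟨q, hq⟩ := hs
  have hs' : s = aeval yS q := by
    apply Subtype.ext
    rw [← Subalgebra.aeval_coe, hyS]
    exact hq.symm
  rw [hs', semilocalRes_aeval, ← hyb, ← aeval_def, Algebra.adjoin_singleton_eq_range_aeval]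
  exact ⟨_, rfl⟩

end UnramSep

end Groth.Agent.Helper9.FFExt
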