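import Mathlib
import Groth.Prelude.Def_W4bk4goldsch23Ext
import Groth.Agent.Lib.Helper9.FFExt.UnramSep
import Groth.Agent.Lib.Helper9.FFExt.KaehlerSep
import Groth.Agent.Lib.Helper9.FFExt.GeoSep
import Groth.Agent.Lib.Helper9.FFExt.Const
import Groth.Agent.Lib.Helper9.FFExt.Ramified

/-!
# Infinitely many separable places (helper9)
-/

namespace Groth.Agent.Helper9.FFExt

open FunFld WithZero Polynomial
open Groth.Agent.Lib.Helper4.FF

section SepPlaces

universe u v
variable {k : Type u} {K : Type v} [Field k] [Field K] [Algebra k K]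

theorem adjoin_gen_eq_top (t : K) : IntermediateField.adjoin k
    ({IntermediateField.AdjoinSimple.gen k t} : Set (IntermediateField.adjoin k ({t} : Set K))) = ⊤ := by
  apply IntermediateField.map_injective (IntermediateField.adjoin k ({t} : Set K)).val
  rw [IntermediateField.adjoin_map, Set.image_singleton]
  change IntermediateField.adjoin k {t} = _
  rw [← AlgHom.fieldRange_eq_map, IntermediateField.fieldRange_val]

/-- the zero of `x - a` in `k(x)` has degree one -/
theorem deg_eq_one_of_zero_linear {x : K} (ht : Transcendental k x) (a : k)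
    (p : Place k (IntermediateField.adjoin k ({x} : Set K)))
    (hp : p.1 (IntermediateField.AdjoinSimple.gen k x - algebraMap k _ a) < 1) : p.deg = 1 := by
  classical
  obtain ⟨F₀, hF₀⟩ : ∃ F₀ : IntermediateField k K, F₀ = IntermediateField.adjoin k ({x} : Set K) :=
    ⟨_, rfl⟩
  have hFF : IsFFw k (IntermediateField.adjoin k ({x} : Set K)) := isFFw_adjoin ht
  obtain ⟨x', hx'⟩ : ∃ x' : IntermediateField.adjoin k ({x} : Set K),
    x' = IntermediateField.AdjoinSimple.gen k x := ⟨_, rfl⟩
  rw [← hx'] at hp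
  have hx't : Transcendental k x' := by
    intro halg
    apply ht
    have := halg.algebraMap (A := K)
    rwa [hx', IntermediateField.AdjoinSimple.algebraMap_gen] at this
  obtain ⟨z, hz⟩ : ∃ z, z = (x' - algebraMap k _ a)⁻¹ := ⟨_, rfl⟩
  have hx'z : x' = z⁻¹ + algebraMap k _ a := by rw [hz, inv_inv]; ring
  have hzt : Transcendental k z := by
    intro halg
    apply hx't
    rw [hx'z]
    exact halg.inv.add (isAlgebraic_algebraMap a)
  have htop : IntermediateField.adjoin k ({z} : Set (IntermediateField.adjoin k ({x} : Set K))) = ⊤ := by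
    rw [eq_top_iff, ← adjoin_gen_eq_top x, IntermediateField.adjoin_le_iff]
    intro y hy
    rw [Set.mem_singleton_iff] at hy
    rw [hy, ← hx', hx'z]
    have hzmem : z ∈ IntermediateField.adjoin k
      ({z} : Set (IntermediateField.adjoin k ({x} : Set K))) :=
      IntermediateField.mem_adjoin_simple_self k z
    exact add_mem (inv_mem hzmem) (algebraMap_mem _ a)
  have hfd : FiniteDimensional (IntermediateField.adjoin k
      ({z} : Set (IntermediateField.adjoin k ({x} : Set K)))) (IntermediateField.adjoin k ({x} : Set K)) :=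
    finiteDimensional_adjoin_w hFF hzt
  have hfr : Module.finrank (IntermediateField.adjoin k
      ({z} : Set (IntermediateField.adjoin k ({x} : Set K)))) (IntermediateField.adjoin k ({x} : Set K)) = 1 :=
    IntermediateField.finrank_eq_one_iff_eq_top.mpr htop
  obtain ⟨hfin, hsum⟩ := poles_deg hzt
  have hS : ∀ Q, Q ∈ hfin.toFinset ↔ 1 < Q.1 z := fun Q => by
    rw [Set.Finite.mem_toFinset]; rfl
  have h1 := hsum hfin.toFinset hS
  rw [hfr] at h1
  have hxa0 : x' - algebraMap k _ a ≠ 0 := by
    intro h0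
    apply hx't
    rw [sub_eq_zero.mp h0]
    exact isAlgebraic_algebraMap a
  have hz0 : z ≠ 0 := by rw [hz]; exact inv_ne_zero hxa0
  have hpz : 1 < p.1 z := by
    rw [hz, map_inv₀]
    exact (one_lt_inv₀ (by rw [pos_iff_ne_zero, Valuation.ne_zero_iff]; exact hxa0)).mpr hp
  have hpS : p ∈ hfin.toFinset := (hS p).mpr hpz
  have hnn : ∀ Q ∈ hfin.toFinset, 0 ≤ (-Q.ord z) * (Q.deg : ℤ) := fun Q hQ => by
    have := (Place.ord_neg_iff Q hz0).mpr ((hS Q).mp hQ)
    exact mul_nonneg (by omega) (Int.natCast_nonneg _)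
  have h2 := Finset.single_le_sum hnn hpS
  rw [h1] at h2
  have h3 : p.ord z < 0 := (Place.ord_neg_iff p hz0).mpr hpz
  have h4 := deg_pos_w hFF p
  have h5 : (1 : ℤ) ≤ -p.ord z := by omega
  have h6 : (1 : ℤ) ≤ (p.deg : ℤ) := by exact_mod_cast h4
  have h7 : (p.deg : ℤ) ≤ -p.ord z * p.deg := le_mul_of_one_le_left (by omega) h5
  have h8 : (p.deg : ℤ) ≤ 1 := by push_cast at h2; linarith
  omega

/-- separable over a place of degree one ⇒ separable over `k` -/
theorem isSeparable_of_deg_one {K' : Type*} [Field K'] [Algebra K K']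
    [Algebra k K'] [IsScalarTower k K K'] {Q : Place k K'} {P : Place k K} (hQ : IsOver Q P)
    (hdeg : P.deg = 1)
    (hsep : @Algebra.IsSeparable (IsLocalRing.ResidueField P.O) (IsLocalRing.ResidueField Q.O) _ _
      (resAlg hQ)) :
    Algebra.IsSeparable k (IsLocalRing.ResidueField Q.O) := by
  let _ := resAlg hQ
  have := resAlg_tower hQ
  have h1 : Algebra.IsSeparable k (IsLocalRing.ResidueField P.O) := by
    refine ⟨fun z => ?_⟩
    have htop := Subalgebra.bot_eq_top_of_finrank_eq_one (F := k)
      (E := IsLocalRing.ResidueField P.O) hdeg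
    have hz : z ∈ (⊥ : Subalgebra k (IsLocalRing.ResidueField P.O)) := by
      rw [htop]; exact Algebra.mem_top
    obtain ⟨c, rfl⟩ := Algebra.mem_bot.mp hz
    exact isSeparable_algebraMap c
  exact Algebra.IsSeparable.trans k (IsLocalRing.ResidueField P.O) (IsLocalRing.ResidueField Q.O)

/-- a function field has infinitely many places (any constant field) -/
theorem exists_place_notMem' (hK : IsFunctionField k K) (S : Finset (Place k K)) :
    ∃ R : Place k K, R ∉ S := by
  classical
  rcases S.eq_empty_or_nonempty with rfl | ⟨P₀, hP₀⟩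
  · obtain ⟨x, hxt, -⟩ := hK.1
    obtain ⟨P, -⟩ := exists_zero hK hxt
    exact ⟨P, by simp⟩
  · obtain ⟨z, hz⟩ := weak_approximation S (fun _ => (0 : K)) (fun _ => 1)
    simp only [sub_zero] at hz
    have hzt : Transcendental k z := by
      intro halg
      have h1 := hz P₀ hP₀
      have h2 : P₀.1 z ≤ 1 := val_le_one_of_isAlgebraic P₀ halg
      have h3 : P₀.1 z⁻¹ ≤ 1 := val_le_one_of_isAlgebraic P₀ halg.inv
      rw [map_inv₀, h1, ← exp_neg, neg_neg, ← exp_zero, exp_le_exp] at h3
      omega
    obtain ⟨R, hR⟩ := exists_pole hK hzt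
    refine ⟨R, fun hRS => ?_⟩
    rw [hz R hRS, ← exp_zero, exp_lt_exp] at hR
    omega

theorem eq_of_val_sub_lt_one (Q : Place k K) (x : K) {a a' : k}
    (h1 : Q.1 (x - algebraMap k K a) < 1) (h2 : Q.1 (x - algebraMap k K a') < 1) : a = a' := by
  by_contra hne
  have h3 : Q.1 (algebraMap k K (a' - a)) < 1 := by
    have : algebraMap k K (a' - a) = (x - algebraMap k K a) - (x - algebraMap k K a') := by
      rw [map_sub]; ring
    rw [this]
    exact lt_of_le_of_lt (Valuation.map_sub _ _ _) (max_lt h1 h2)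
  rw [Place.val_k Q (sub_ne_zero.mpr (Ne.symm hne))] at h3
  exact lt_irrefl _ h3

theorem infinite_separable_places_of_infinite [Infinite k] (hK : IsFunctionField k K)
    (hg : IsGeometric k K) :
    {P : Place k K | Algebra.IsSeparable k (IsLocalRing.ResidueField P.O)}.Infinite := by
  classical
  obtain ⟨x, hxt, hsep⟩ := exists_separating_of_isGeometric hK.1 hg
  have hFF : IsFFw k (IntermediateField.adjoin k ({x} : Set K)) := isFFw_adjoin hxt
  have hfd : FiniteDimensional (IntermediateField.adjoin k ({x} : Set K)) K :=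
    finiteDimensional_adjoin_w hK.1 hxt
  obtain ⟨pb, -⟩ : ∃ pb : PowerBasis (IntermediateField.adjoin k ({x} : Set K)) K, pb = pb :=
    ⟨Field.powerBasisOfFiniteOfSeparable _ K, rfl⟩
  obtain ⟨d, hd⟩ : ∃ d, d = Algebra.discr (IntermediateField.adjoin k ({x} : Set K)) pb.basis :=
    ⟨_, rfl⟩
  have hd0 : d ≠ 0 := hd ▸ Algebra.discr_not_zero_of_basis _ pb.basis
  have hz : ∀ a : k, ∃ P : Place k K, P.1 (x - algebraMap k K a) < 1 := by
    intro c
    apply exists_zero hK
    intro halg
    apply hxt
    have : x = (x - algebraMap k K c) + algebraMap k K c := by ring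
    rw [this]
    exact halg.add (isAlgebraic_algebraMap c)
  choose Z hZ using hz
  have hZinj : Function.Injective Z := by
    intro c c' hcc
    have h2 := hZ c'
    rw [← hcc] at h2
    exact eq_of_val_sub_lt_one (Z c) x (hZ c) h2
  have hb : ∀ a, ∃ (p : Place k (IntermediateField.adjoin k ({x} : Set K))) (e : ℕ),
      IsOverWith (Z a) p e := fun a => exists_below' (Z a)
  choose p e hpe using hb
  have hp0 : ∀ a, (p a).1 (IntermediateField.AdjoinSimple.gen k x - algebraMap k _ a) < 1 := by
    intro a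
    rw [← ow_lt_one_iff (hpe a)]
    have := hZ a
    rwa [show algebraMap (IntermediateField.adjoin k ({x} : Set K)) K
      (IntermediateField.AdjoinSimple.gen k x - algebraMap k _ a) = x - algebraMap k K a from rfl]
  have hpinj : Function.Injective p := by
    intro c c' hcc
    have h2 := hp0 c'
    rw [← hcc] at h2
    exact eq_of_val_sub_lt_one (p c) _ (hp0 c) h2
  obtain ⟨A₁, hA₁d⟩ : ∃ A₁ : Set k, A₁ = {a | (p a).ord d ≠ 0} := ⟨_, rfl⟩
  have hA₁ : A₁.Finite := by
    rw [hA₁d]
    exact (finite_support_ord_w hFF d).preimage hpinj.injOn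
  obtain ⟨A₂, hA₂d⟩ : ∃ A₂ : Set k, A₂ = {a | ∃ Q : Place k K,
      Q.1 (x - algebraMap k K a) < 1 ∧ 1 < Q.1 pb.gen} := ⟨_, rfl⟩
  have hA₂ : A₂.Finite := by
    have hpoles : {Q : Place k K | 1 < Q.1 pb.gen}.Finite := by
      refine (finite_support_ord_w hK.1 pb.gen).subset ?_
      intro Q hQ
      have hy0 : pb.gen ≠ 0 := by
        rintro h0
        rw [Set.mem_ofPred_eq, h0, map_zero] at hQ
        exact absurd hQ (by simp)
      have := (Place.ord_neg_iff Q hy0).mpr hQ
      rw [Function.mem_support]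
      omega
    let r : Place k K → k := fun Q =>
      if h : ∃ a, Q.1 (x - algebraMap k K a) < 1 then h.choose else 0
    refine (hpoles.image r).subset ?_
    rw [hA₂d]
    rintro a ⟨Q, hQ1, hQ2⟩
    refine ⟨Q, hQ2, ?_⟩
    have h : ∃ a, Q.1 (x - algebraMap k K a) < 1 := ⟨a, hQ1⟩
    change (if h : ∃ a, Q.1 (x - algebraMap k K a) < 1 then h.choose else 0) = a
    rw [dif_pos h]
    exact eq_of_val_sub_lt_one Q x h.choose_spec hQ1
  have hgood : (A₁ ∪ A₂)ᶜ.Infinite := (hA₁.union hA₂).infinite_compl
  refine (hgood.image hZinj.injOn).mono ?_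
  rintro _ ⟨a, ha, rfl⟩
  rw [Set.mem_compl_iff, Set.mem_union, not_or] at ha
  obtain ⟨ha1, ha2⟩ := ha
  rw [Set.mem_ofPred_eq]
  apply isSeparable_of_deg_one ⟨e a, hpe a⟩ (deg_eq_one_of_zero_linear hxt a (p a) (hp0 a))
  apply residue_isSeparable_of_discr_unit hFF (p a) pb ?_ ?_ ⟨e a, hpe a⟩
  · intro Q hQ
    by_contra hlt
    push Not at hlt
    apply ha2
    rw [hA₂d]
    refine ⟨Q, ?_, hlt⟩
    obtain ⟨e', he'⟩ := hQ
    have := (ow_lt_one_iff he' _).mpr (hp0 a)
    exact this
  · rw [← hd]
    rw [hA₁d, Set.mem_ofPred_eq, not_not] at ha1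
    rw [Place.val_eq_exp_neg_ord (p a) hd0, ha1, neg_zero, exp_zero]

theorem infinite_places (hK : IsFunctionField k K) : Infinite (Place k K) := by
  by_contra h
  rw [not_infinite_iff_finite] at h
  have := Fintype.ofFinite (Place k K)
  obtain ⟨R, hR⟩ := exists_place_notMem' hK Finset.univ
  exact hR (Finset.mem_univ R)

theorem infinite_separable_places (hK : IsFunctionField k K) (hg : IsGeometric k K) :
    {P : Place k K | Algebra.IsSeparable k (IsLocalRing.ResidueField P.O)}.Infinite := by
  rcases finite_or_infinite k with hfin | hinf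
  · have hall : ∀ P : Place k K, Algebra.IsSeparable k (IsLocalRing.ResidueField P.O) := by
      intro P
      have hfin : @Module.Finite k (IsLocalRing.ResidueField P.O) _ _ (Place.algRes P).toModule :=
        Module.finite_of_finrank_pos (deg_pos_w hK.1 P)
      have halg : @Algebra.IsAlgebraic k (IsLocalRing.ResidueField P.O) _ _ (Place.algRes P) :=
        @Algebra.IsAlgebraic.of_finite k _ _ _ _ (Place.algRes P) hfin
      exact Algebra.IsAlgebraic.isSeparable_of_perfectField
    have := infinite_places hK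
    rw [show {P : Place k K | Algebra.IsSeparable k (IsLocalRing.ResidueField P.O)} = Set.univ from
      Set.eq_univ_of_forall hall]
    exact Set.infinite_univ
  · exact infinite_separable_places_of_infinite hK hg

end SepPlaces

end Groth.Agent.Helper9.FFExt
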