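import Mathlib
import Groth.Prelude.Def_W4bk4goldsch45p2
import Groth.Agent.Lib.Helper9.FFExt.SepPlaces
import Groth.Agent.Lib.Helper9.FFExt.Ramified
import Groth.Agent.Lib.Helper9.FFExt.AlgClosed
import Groth.Agent.Lib.Helper9.FFExt.LocRes1
import Groth.Agent.Lib.Helper4.FF.LLS
import Groth.Agent.Lib.Helper4.FF.Zeros

namespace Groth.Agent.Helper9.FFExt

open FunFld WithZero
open Groth.Agent.Lib.Helper4.FF

section FS

universe u v
variable {k : Type u} {K : Type v} [Field k] [Field K] [Algebra k K]

/-- the zero of `x - a` in `k(x)` is simple -/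
theorem val_eq_exp_of_zero_linear {x : K} (ht : Transcendental k x) (a : k)
    (p : Place k (IntermediateField.adjoin k ({x} : Set K)))
    (hp : p.1 (IntermediateField.AdjoinSimple.gen k x - algebraMap k _ a) < 1) :
    p.1 (IntermediateField.AdjoinSimple.gen k x - algebraMap k _ a) = exp (-1 : ℤ) := by
  classical
  have hFF : IsFFw k (IntermediateField.adjoin k ({x} : Set K)) := isFFw_adjoin ht
  obtain ⟨x', hx'⟩ : ∃ x' : IntermediateField.adjoin k ({x} : Set K),
    x' = IntermediateField.AdjoinSimple.gen k x := ⟨_, rfl⟩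
  rw [← hx'] at hp ⊢
  have hx't : Transcendental k x' := by
    intro halg
    apply ht
    have := halg.algebraMap (A := K)
    rwa [hx', IntermediateField.AdjoinSimple.algebraMap_gen] at this
  obtain ⟨z, hz⟩ : ∃ z, z = (x' - algebraMap k _ a)⁻¹ := ⟨_, rfl⟩
  have hx'z : x' = z⁻¹ + algebraMap k _ a := by rw [hz, inv_inv]; ring
  have hzt : Transcendental k z := by
    intro halg
    apply hx't
    rw [hx'z]
    exact halg.inv.add (isAlgebraic_algebraMap a)
  have htop : IntermediateField.adjoin k ({z} : Set (IntermediateField.adjoin k ({x} : Set K))) = ⊤ := by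
    rw [eq_top_iff, ← adjoin_gen_eq_top x, IntermediateField.adjoin_le_iff]
    intro y hy
    rw [Set.mem_singleton_iff] at hy
    rw [hy, ← hx', hx'z]
    have hzmem : z ∈ IntermediateField.adjoin k
      ({z} : Set (IntermediateField.adjoin k ({x} : Set K))) :=
      IntermediateField.mem_adjoin_simple_self k z
    exact add_mem (inv_mem hzmem) (algebraMap_mem _ a)
  have hfd : FiniteDimensional (IntermediateField.adjoin k
      ({z} : Set (IntermediateField.adjoin k ({x} : Set K)))) (IntermediateField.adjoin k ({x} : Set K)) :=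
    finiteDimensional_adjoin_w hFF hzt
  have hfr : Module.finrank (IntermediateField.adjoin k
      ({z} : Set (IntermediateField.adjoin k ({x} : Set K)))) (IntermediateField.adjoin k ({x} : Set K)) = 1 :=
    IntermediateField.finrank_eq_one_iff_eq_top.mpr htop
  obtain ⟨hfin, hsum⟩ := poles_deg hzt
  have hS : ∀ Q, Q ∈ hfin.toFinset ↔ 1 < Q.1 z := fun Q => by
    rw [Set.Finite.mem_toFinset]; rfl
  have h1 := hsum hfin.toFinset hS
  rw [hfr] at h1
  have hxa0 : x' - algebraMap k _ a ≠ 0 := by
    intro h0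
    apply hx't
    rw [sub_eq_zero.mp h0]
    exact isAlgebraic_algebraMap a
  have hz0 : z ≠ 0 := by rw [hz]; exact inv_ne_zero hxa0
  have hpz : 1 < p.1 z := by
    rw [hz, map_inv₀]
    exact (one_lt_inv₀ (by rw [pos_iff_ne_zero, Valuation.ne_zero_iff]; exact hxa0)).mpr hp
  have hpS : p ∈ hfin.toFinset := (hS p).mpr hpz
  have hnn : ∀ Q ∈ hfin.toFinset, 0 ≤ (-Q.ord z) * (Q.deg : ℤ) := fun Q hQ => by
    have := (Place.ord_neg_iff Q hz0).mpr ((hS Q).mp hQ)
    exact mul_nonneg (by omega) (Int.natCast_nonneg _)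
  have h2 := Finset.single_le_sum hnn hpS
  rw [h1] at h2
  have h3 : p.ord z < 0 := (Place.ord_neg_iff p hz0).mpr hpz
  have h4 := deg_pos_w hFF p
  have h5 : (1 : ℤ) ≤ -p.ord z := by omega
  have h6 : (1 : ℤ) ≤ (p.deg : ℤ) := by exact_mod_cast h4
  have h7 : -p.ord z ≤ -p.ord z * p.deg := le_mul_of_one_le_right (by omega) h6
  have h8 : p.ord z = -1 := by push_cast at h2; omega
  have h9 : p.ord (x' - algebraMap k _ a) = 1 := by
    have : x' - algebraMap k _ a = z⁻¹ := by rw [hz, inv_inv]
    rw [this, Place.ord_inv, h8]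
    norm_num
  rw [Place.val_eq_exp_neg_ord p hxa0, h9]

/-- if `s - c` is a local parameter at `Q` then `ds` has order `0` at `Q` -/
theorem ordDiff_eq_zero_of_param (Q : Place k K) (φ : K →ₐ[k] LaurentSeries k)
    (hφ : LocRes.IsExpansionAt Q.1 φ) (s : K) (c : k)
    (hs : Q.1 (s - algebraMap k K c) = exp (-1 : ℤ)) :
    LocRes.ordDiff φ 1 s = 0 := by
  unfold LocRes.ordDiff LocRes.vDiff
  rw [map_one, one_mul]
  have h0 : LocRes.D k (φ s) = LocRes.D k (φ (s - algebraMap k K c)) := by
    rw [map_sub, map_sub, LocRes.map_algebraMap, LocRes.D_apply k (HahnSeries.C _),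
      LocRes.derivative_C, sub_zero]
  have h1 : Valued.v (φ (s - algebraMap k K c)) = exp (-(1 : ℤ)) := by rw [hφ.1, hs]
  rw [val_eq_exp_iff] at h1
  have h2 : Valued.v (LocRes.D k (φ (s - algebraMap k K c))) = exp (-(0 : ℤ)) := by
    rw [val_eq_exp_iff]
    refine ⟨fun m hm => ?_, ?_⟩
    · rw [LocRes.D_coeff, h1.1 (m + 1) (by omega), smul_zero]
    · rw [LocRes.D_coeff, zero_add, one_smul]
      exact h1.2
  rw [h0, h2]
  simp


theorem transcendental_of_D_ne_zero (hK : IsFunctionField k K) {s : K}
    (hs : KaehlerDifferential.D k K s ≠ 0) : Transcendental k s := by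
  intro halg
  obtain ⟨c, rfl⟩ := hK.2 s halg
  apply hs
  exact Derivation.map_algebraMap _ c

/-- the divisor of `ds` has finite support -/
theorem finite_support_ordDiff [IsAlgClosed k] (hK : IsFunctionField k K) {s : K}
    (hs : KaehlerDifferential.D k K s ≠ 0)
    (Φ : Place k K → (K →ₐ[k] LaurentSeries k))
    (hΦ : ∀ P : Place k K, LocRes.IsExpansionAt P.1 (Φ P)) :
    (Function.support fun P : Place k K => LocRes.ordDiff (Φ P) 1 s).Finite := by
  have hg := isGeometric_of_isAlgClosed k K
  have hKw := isFFw_of_isFunctionField hK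
  have hst : Transcendental k s := transcendental_of_D_ne_zero hK hs
  have hsep := isSeparable_of_D_ne_zero hKw hg hs hst
  have hfd : FiniteDimensional (IntermediateField.adjoin k ({s} : Set K)) K :=
    finiteDimensional_adjoin_w hKw hst
  have hF0 : IsFFw k (IntermediateField.adjoin k ({s} : Set K)) := isFFw_adjoin hst
  have hram := finite_ramified_separable (k := k) (K := IntermediateField.adjoin k ({s} : Set K))
    (K' := K) hF0
  have hpole : {Q : Place k K | 1 < Q.1 s}.Finite := by
    apply (finite_support_ord hK s).subset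
    intro Q hQ
    rw [Function.mem_support]
    have hs0 : s ≠ 0 := by
      rintro rfl
      exact hs (map_zero _)
    have := (Place.ord_neg_iff Q hs0).mpr hQ
    omega
  apply (hram.union hpole).subset
  intro Q hQ
  rw [Function.mem_support] at hQ
  by_contra hnot
  rw [Set.mem_union, not_or] at hnot
  obtain ⟨hnr, hnp⟩ := hnot
  apply hQ
  have hint : Q.1 s ≤ 1 := not_lt.mp hnp
  obtain ⟨c, hc⟩ := Place.exists_const_sub_lt Q (Place.deg_eq_one hK Q) hint
  obtain ⟨P, e, he⟩ := exists_below' (K := IntermediateField.adjoin k ({s} : Set K)) Q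
  have he1 : e = 1 := by
    have := ow_pos he
    by_contra hne
    exact hnr ⟨P, e, he, by omega⟩
  subst he1
  have hmap : algebraMap (IntermediateField.adjoin k ({s} : Set K)) K
      (IntermediateField.AdjoinSimple.gen k s - algebraMap k _ c) = s - algebraMap k K c := by
    rw [map_sub, IntermediateField.AdjoinSimple.algebraMap_gen, ← IsScalarTower.algebraMap_apply]
  have hrel := he (IntermediateField.AdjoinSimple.gen k s - algebraMap k _ c)
  rw [pow_one, hmap] at hrel
  have hP : P.1 (IntermediateField.AdjoinSimple.gen k s - algebraMap k _ c) < 1 := by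
    rw [← hrel]
    exact hc
  have hval := val_eq_exp_of_zero_linear hst c P hP
  rw [← hrel] at hval
  exact ordDiff_eq_zero_of_param Q (Φ Q) (hΦ Q) s c hval

end FS

end Groth.Agent.Helper9.FFExt
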