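import Mathlib

namespace Groth.Agent.Helper9.FFExt

open LaurentSeries

section LH

variable {R : Type*} [CommRing R]

/-- a Laurent series with vanishing coefficients below `A` is `X^A` times a power series -/
theorem eq_single_mul_coe (f : R⸨X⸩) (A : ℤ) (hf : ∀ i < A, f.coeff i = 0) :
    f = HahnSeries.single A (1 : R) * ((PowerSeries.mk fun i : ℕ => f.coeff (A + i) : PowerSeries R) : R⸨X⸩) := by
  ext m
  rw [HahnSeries.coeff_single_mul, one_mul, PowerSeries.coeff_coe]
  split_ifs with h
  · exact hf m (by omega)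
  · rw [PowerSeries.coeff_mk]
    congr 1
    omega

/-- coefficients of a product of Laurent series with bounded-below supports -/
theorem coeff_mul_of_bounds (f g : R⸨X⸩) (A B : ℤ) (hf : ∀ i < A, f.coeff i = 0)
    (hg : ∀ j < B, g.coeff j = 0) (N : ℕ) :
    (f * g).coeff (A + B + N) =
      ∑ ij ∈ Finset.HasAntidiagonal.antidiagonal N, f.coeff (A + ij.1) * g.coeff (B + ij.2) := by
  conv_lhs => rw [eq_single_mul_coe f A hf, eq_single_mul_coe g B hg]
  have : HahnSeries.single A (1 : R) * ((PowerSeries.mk fun i : ℕ => f.coeff (A + i) : PowerSeries R) : R⸨X⸩) *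
      (HahnSeries.single B (1 : R) * ((PowerSeries.mk fun i : ℕ => g.coeff (B + i) : PowerSeries R) : R⸨X⸩)) =
      HahnSeries.single (A + B) (1 : R) * (((PowerSeries.mk fun i : ℕ => f.coeff (A + i)) *
        (PowerSeries.mk fun i : ℕ => g.coeff (B + i)) : PowerSeries R) : R⸨X⸩) := by
    rw [PowerSeries.coe_mul, show HahnSeries.single (A + B) (1 : R) = HahnSeries.single A 1 * HahnSeries.single B 1 by
      rw [HahnSeries.single_mul_single, one_mul]]
    ring
  rw [this, HahnSeries.coeff_single_mul, one_mul, PowerSeries.coeff_coe, if_neg (by omega),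
    PowerSeries.coeff_mul]
  have h1 : (A + B + (N : ℤ) - (A + B)).natAbs = N := by
    have : A + B + (N : ℤ) - (A + B) = N := by ring
    rw [this, Int.natAbs_natCast]
  rw [h1]
  refine Finset.sum_congr rfl fun ij _ => ?_
  rw [PowerSeries.coeff_mk, PowerSeries.coeff_mk]

/-- Leibniz rule for Hasse derivatives of Laurent series -/
theorem hasseDeriv_mul (n : ℕ) (f g : R⸨X⸩) :
    LaurentSeries.hasseDeriv R n (f * g) =
      ∑ ab ∈ Finset.HasAntidiagonal.antidiagonal n,
        LaurentSeries.hasseDeriv R ab.1 f * LaurentSeries.hasseDeriv R ab.2 g := by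
  ext m
  -- choose bounds
  obtain ⟨A, hA1, B, hB1, hAB⟩ : ∃ A : ℤ, (∀ i < A, f.coeff i = 0) ∧ ∃ B : ℤ,
      (∀ j < B, g.coeff j = 0) ∧ A + B ≤ m + n := by
    refine ⟨min f.order (m + n - g.order), fun i hi => ?_, g.order, fun j hj => ?_, ?_⟩
    · exact HahnSeries.coeff_eq_zero_of_lt_order (lt_of_lt_of_le hi (min_le_left _ _))
    · exact HahnSeries.coeff_eq_zero_of_lt_order hj
    · have := min_le_right f.order (m + n - g.order)
      omega
  obtain ⟨N, hN⟩ : ∃ N : ℕ, m + n = A + B + N := ⟨(m + n - A - B).toNat, by omega⟩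
  rw [LaurentSeries.hasseDeriv_coeff, hN, coeff_mul_of_bounds f g A B hA1 hB1 N, HahnSeries.coeff_sum]
  have hterm : ∀ ab ∈ Finset.HasAntidiagonal.antidiagonal n,
      (LaurentSeries.hasseDeriv R ab.1 f * LaurentSeries.hasseDeriv R ab.2 g).coeff m =
      ∑ ij ∈ Finset.HasAntidiagonal.antidiagonal N,
        ((Ring.choose (A + (ij.1 : ℤ)) ab.1 : ℤ) : R) * ((Ring.choose (B + (ij.2 : ℤ)) ab.2 : ℤ) : R) *
          (f.coeff (A + ij.1) * g.coeff (B + ij.2)) := by
    intro ab hab
    have hab' : ab.1 + ab.2 = n := Finset.HasAntidiagonal.mem_antidiagonal.mp hab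
    have hm : m = (A - ab.1) + (B - ab.2) + N := by
      have : (n : ℤ) = ab.1 + ab.2 := by exact_mod_cast hab'.symm
      omega
    rw [hm, coeff_mul_of_bounds _ _ (A - ab.1) (B - ab.2) (fun i hi => by
      rw [LaurentSeries.hasseDeriv_coeff, hA1 _ (by omega), smul_zero]) (fun j hj => by
      rw [LaurentSeries.hasseDeriv_coeff, hB1 _ (by omega), smul_zero])]
    refine Finset.sum_congr rfl fun ij _ => ?_
    rw [LaurentSeries.hasseDeriv_coeff, LaurentSeries.hasseDeriv_coeff, zsmul_eq_mul, zsmul_eq_mul,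
      show A - (ab.1 : ℤ) + ij.1 + ab.1 = A + ij.1 by ring,
      show B - (ab.2 : ℤ) + ij.2 + ab.2 = B + ij.2 by ring]
    ring
  rw [Finset.sum_congr rfl hterm, Finset.sum_comm, zsmul_eq_mul, Finset.mul_sum]
  refine Finset.sum_congr rfl fun ij hij => ?_
  have hij' : ij.1 + ij.2 = N := Finset.HasAntidiagonal.mem_antidiagonal.mp hij
  rw [← Finset.sum_mul]
  congr 1
  have hv := Ring.add_choose_eq (R := ℤ) (r := A + (ij.1 : ℤ)) (s := B + (ij.2 : ℤ)) n
    (Commute.all _ _)
  have hsum : A + (ij.1 : ℤ) + (B + (ij.2 : ℤ)) = A + B + N := by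
    have : (N : ℤ) = ij.1 + ij.2 := by exact_mod_cast hij'.symm
    omega
  rw [hsum] at hv
  rw [hv]
  push_cast
  rfl

theorem hasseDeriv_single_zero (n : ℕ) (c : R) :
    LaurentSeries.hasseDeriv R n (HahnSeries.single (0 : ℤ) c) =
      if n = 0 then HahnSeries.single (0 : ℤ) c else 0 := by
  rw [LaurentSeries.hasseDeriv_single]
  rcases Nat.eq_zero_or_pos n with h | h
  · subst h; simp
  · rw [if_neg h.ne']
    have : Ring.choose (0 : ℤ) n = 0 := by
      have := Ring.choose_natCast (R := ℤ) 0 n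
      simp only [Nat.cast_zero] at this
      rw [this, Nat.choose_eq_zero_of_lt h, Nat.cast_zero]
    rw [this, zero_smul, HahnSeries.single_eq_zero]

theorem hasseDeriv_single_one (n : ℕ) :
    LaurentSeries.hasseDeriv R n (HahnSeries.single (1 : ℤ) (1 : R)) =
      if n = 0 then HahnSeries.single (1 : ℤ) 1 else if n = 1 then 1 else 0 := by
  rw [LaurentSeries.hasseDeriv_single]
  have hc : Ring.choose (1 : ℤ) n = (Nat.choose 1 n : ℤ) := by
    have := Ring.choose_natCast (R := ℤ) 1 n
    simpa using this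
  rcases Nat.lt_trichotomy n 1 with h | h | h
  · have h0 : n = 0 := by omega
    subst h0; simp
  · subst h; simp
  · rw [if_neg (by omega), if_neg (by omega), hc, Nat.choose_eq_zero_of_lt h]
    simp

/-- the Taylor expansion homomorphism `f(X) ↦ f(X + T)` on Laurent series -/
noncomputable def taylorL (R : Type*) [CommRing R] : R⸨X⸩ →+* PowerSeries (R⸨X⸩) where
  toFun f := PowerSeries.mk fun n => LaurentSeries.hasseDeriv R n f
  map_one' := by
    refine PowerSeries.ext fun n => ?_
    rw [PowerSeries.coeff_mk, PowerSeries.coeff_one]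
    have : (1 : R⸨X⸩) = HahnSeries.single (0 : ℤ) (1 : R) := rfl
    rw [this, hasseDeriv_single_zero]
  map_mul' f g := by
    refine PowerSeries.ext fun n => ?_
    rw [PowerSeries.coeff_mk, PowerSeries.coeff_mul, hasseDeriv_mul]
    refine Finset.sum_congr rfl fun ab _ => ?_
    rw [PowerSeries.coeff_mk, PowerSeries.coeff_mk]
  map_zero' := by
    refine PowerSeries.ext fun n => ?_
    rw [PowerSeries.coeff_mk, map_zero]
    simp
  map_add' f g := by
    refine PowerSeries.ext fun n => ?_
    rw [PowerSeries.coeff_mk, map_add, map_add, PowerSeries.coeff_mk, PowerSeries.coeff_mk]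

@[simp] theorem coeff_taylorL (n : ℕ) (f : R⸨X⸩) :
    PowerSeries.coeff n (taylorL R f) = LaurentSeries.hasseDeriv R n f := by
  simp [taylorL]

theorem taylorL_C (c : R) : taylorL R (HahnSeries.C c) = PowerSeries.C (HahnSeries.C c) := by
  refine PowerSeries.ext fun n => ?_
  rw [coeff_taylorL, PowerSeries.coeff_C]
  have : (HahnSeries.C c : R⸨X⸩) = HahnSeries.single (0 : ℤ) c := rfl
  rw [this, hasseDeriv_single_zero]

theorem taylorL_X : taylorL R (HahnSeries.single (1 : ℤ) (1 : R)) =
    PowerSeries.C (HahnSeries.single (1 : ℤ) (1 : R)) + PowerSeries.X := by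
  refine PowerSeries.ext fun n => ?_
  rw [coeff_taylorL, hasseDeriv_single_one, map_add, PowerSeries.coeff_C, PowerSeries.coeff_X]
  rcases Nat.lt_trichotomy n 1 with h | h | h
  · have h0 : n = 0 := by omega
    subst h0; simp
  · subst h; simp
  · have h0 : n ≠ 0 := by omega
    have h1 : n ≠ 1 := by omega
    simp [h0, h1]

end LH

end Groth.Agent.Helper9.FFExt
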