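import Mathlib
import Groth.Prelude.Def_W4bk4goldsch45p2
import Groth.Agent.Lib.Helper9.FFExt.Expansion1
import Groth.Agent.Lib.Helper9.FFExt.AlgClosed
import Groth.Agent.S12583

/-! # Hasse derivatives at a rational place, read through an expansion (helper9) -/

namespace Groth.Agent.Helper9.FFExt

open FunFld WithZero
open Groth.Agent.Lib.Helper4.FF

section HL1

universe u v
variable {k : Type u} {K : Type v} [Field k] [Field K] [Algebra k K]

/-- an expansion at a rational place, compatible with a Hasse family for the local parameter -/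
structure HasseExp (P : Place k K) (t : K) (Ht : K →ₐ[k] PowerSeries K) where
  ε : K →ₐ[k] LaurentSeries k
  hexp : LocRes.IsExpansionAt P.1 ε
  ht : ε t = HahnSeries.single 1 1
  hres : ∀ z : K, P.1 z ≤ 1 → P.1 (z - algebraMap k K ((ε z).coeff 0)) < 1
  hD : ∀ (x : K) (n : ℕ), ε (LocRes.hasseD Ht n x) = LaurentSeries.hasseDeriv k n (ε x)

theorem exists_hasseExp (hK : IsFunctionField k K) (hg : IsGeometric k K) (P : Place k K)
    (hdeg : P.deg = 1) (t : K) (ht : P.1 t = exp (-1 : ℤ))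
    (Ht : K →ₐ[k] PowerSeries K) (hHt : LocRes.IsHasseFamily t Ht) :
    Nonempty (HasseExp P t Ht) := by
  obtain ⟨ε, h1, h2, h3⟩ := exists_expansion_of_deg_one P hdeg t ht
  exact ⟨⟨ε, h1, h2, h3, fun x n =>
    Groth.Agent.S12583.Aux.main k K hK hg P k ε h1 t h2 Ht hHt x n⟩⟩

variable {P : Place k K} {t : K} {Ht : K →ₐ[k] PowerSeries K} (E : HasseExp P t Ht)

namespace HasseExp

theorem val (z : K) : Valued.v (E.ε z) = P.1 z := E.hexp.1 z

theorem coeff_eq_zero_of_lt {z : K} (hz : P.1 z ≤ 1) {n : ℤ} (hn : n < 0) : (E.ε z).coeff n = 0 := by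
  have h0 : (1 : ℤᵐ⁰) = exp (-(0 : ℤ)) := by simp
  have := E.val z
  rw [← this, h0, LaurentSeries.valuation_le_iff_coeff_lt_eq_zero] at hz
  exact hz n hn

theorem coeff_hasseD (x : K) (j : ℕ) (n : ℤ) :
    (E.ε (LocRes.hasseD Ht j x)).coeff n = Ring.choose (n + j) j • (E.ε x).coeff (n + j) := by
  rw [E.hD, LaurentSeries.hasseDeriv_coeff]

include E in
theorem hasseD_le {x : K} (hx : P.1 x ≤ 1) (j : ℕ) : P.1 (LocRes.hasseD Ht j x) ≤ 1 := by
  have h0 : (1 : ℤᵐ⁰) = exp (-(0 : ℤ)) := by simp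
  rw [← E.val, h0, LaurentSeries.valuation_le_iff_coeff_lt_eq_zero]
  intro n hn
  rw [E.coeff_hasseD]
  rcases lt_or_ge (n + j) 0 with h | h
  · rw [E.coeff_eq_zero_of_lt hx h, smul_zero]
  · -- `0 ≤ n + j < j`: the binomial coefficient vanishes
    have h1 : Ring.choose (n + (j : ℤ)) j = 0 := by
      obtain ⟨m, hm⟩ := Int.eq_ofNat_of_zero_le h
      rw [hm, Ring.choose_natCast]
      have : m < j := by omega
      rw [Nat.choose_eq_zero_of_lt this]; simp
    rw [h1, zero_smul]

theorem coeff_zero_hasseD (x : K) (j : ℕ) :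
    (E.ε (LocRes.hasseD Ht j x)).coeff 0 = (E.ε x).coeff j := by
  rw [E.coeff_hasseD, zero_add, Ring.choose_natCast, Nat.choose_self]
  simp

/-- the value at `P` of an integral element is its constant coefficient -/
theorem evalP_eq {z : K} (hz : P.1 z ≤ 1) :
    evalP P z = algebraMap k (IsLocalRing.ResidueField P.O) ((E.ε z).coeff 0) := by
  unfold FunFld.evalP
  rw [dif_pos hz]
  have h1 := E.hres z hz
  change _ = IsLocalRing.residue P.O (algebraMap k P.O ((E.ε z).coeff 0))
  rw [← sub_eq_zero, ← map_sub, IsLocalRing.residue_eq_zero_iff]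
  have h2 := (Place.resₗ_eq_zero_iff P
    (⟨z, (Place.mem_O_iff P).mpr hz⟩ - algebraMap k P.O ((E.ε z).coeff 0))).mpr h1
  exact (IsLocalRing.residue_eq_zero_iff _).mp h2

end HasseExp

end HL1

end Groth.Agent.Helper9.FFExt
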