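import Mathlib
import Groth.Prelude.Def_W4bk4goldsch23Ext
import Groth.Prelude.Def_LocRes
import Groth.Agent.Lib.Helper9.FFExt.LaurentHasse
import Groth.Agent.Lib.Helper9.FFExt.GeoKaehler
import Groth.Agent.S12583
import Groth.Agent.Lib.Helper9.FFExt.Weak

/-! # Total Hasse derivatives: basic identities, iterativity, constants (helper9) -/

namespace Groth.Agent.Helper9.FFExt

open FunFld Polynomial
open Groth.Agent.Lib.Helper4.FF

section HF

universe u v w
variable {k : Type u} {K : Type v} [Field k] [Field K] [Algebra k K]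
variable {t : K} {H : K →ₐ[k] PowerSeries K}

theorem hasseD_zero (hH : LocRes.IsHasseFamily t H) (x : K) : LocRes.hasseD H 0 x = x := by
  rw [LocRes.hasseD_apply, PowerSeries.coeff_zero_eq_constantCoeff_apply, hH.2]

theorem hasseD_mul (H : K →ₐ[k] PowerSeries K) (x y : K) (n : ℕ) :
    LocRes.hasseD H n (x * y) =
      ∑ p ∈ Finset.HasAntidiagonal.antidiagonal n, LocRes.hasseD H p.1 x * LocRes.hasseD H p.2 y := by
  rw [LocRes.hasseD_apply, map_mul, PowerSeries.coeff_mul]
  rfl

theorem hasseD_add (H : K →ₐ[k] PowerSeries K) (x y : K) (n : ℕ) :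
    LocRes.hasseD H n (x + y) = LocRes.hasseD H n x + LocRes.hasseD H n y := by
  rw [LocRes.hasseD_apply, map_add, map_add]; rfl

theorem hasseD_map_zero (H : K →ₐ[k] PowerSeries K) (n : ℕ) : LocRes.hasseD H n 0 = 0 := by
  rw [LocRes.hasseD_apply, map_zero, map_zero]

theorem hasseD_sum (H : K →ₐ[k] PowerSeries K) {ι : Type*} (s : Finset ι) (f : ι → K) (n : ℕ) :
    LocRes.hasseD H n (∑ i ∈ s, f i) = ∑ i ∈ s, LocRes.hasseD H n (f i) := by
  rw [LocRes.hasseD_apply, map_sum, map_sum]; rfl

theorem hasseD_algebraMap (H : K →ₐ[k] PowerSeries K) (c : k) (n : ℕ) :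
    LocRes.hasseD H n (algebraMap k K c) = if n = 0 then algebraMap k K c else 0 := by
  rw [LocRes.hasseD_apply, H.commutes, PowerSeries.algebraMap_apply, PowerSeries.coeff_C]

theorem hasseD_smul (H : K →ₐ[k] PowerSeries K) (c : k) (x : K) (n : ℕ) :
    LocRes.hasseD H n (c • x) = c • LocRes.hasseD H n x := by
  rw [LocRes.hasseD_apply, map_smul, PowerSeries.coeff_smul]; rfl

theorem hasseD_t (hH : LocRes.IsHasseFamily t H) (n : ℕ) :
    LocRes.hasseD H n t = if n = 0 then t else if n = 1 then 1 else 0 := by
  rw [LocRes.hasseD_apply, hH.1, map_add, PowerSeries.coeff_C, PowerSeries.coeff_X]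
  rcases n with _ | _ | n <;> simp

/-- the first Hasse derivative as a derivation -/
noncomputable def hasseDer (hH : LocRes.IsHasseFamily t H) : Derivation k K K where
  toFun := LocRes.hasseD H 1
  map_add' x y := hasseD_add H x y 1
  map_smul' c x := hasseD_smul H c x 1
  map_one_eq_zero' := by
    change LocRes.hasseD H 1 (1 : K) = 0
    have := hasseD_algebraMap H (1 : k) 1
    rw [map_one] at this
    simpa using this
  leibniz' x y := by
    change LocRes.hasseD H 1 (x * y) = x • LocRes.hasseD H 1 y + y • LocRes.hasseD H 1 x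
    rw [hasseD_mul, Finset.Nat.antidiagonal_succ, Finset.sum_cons]
    simp only [Finset.Nat.antidiagonal_zero, Finset.map_singleton, Finset.sum_singleton,
      Function.Embedding.prodMap, Function.Embedding.coeFn_mk, Prod.map, Function.Embedding.refl_apply]
    rw [hasseD_zero hH, hasseD_zero hH]
    simp only [smul_eq_mul, Nat.succ_eq_add_one, zero_add]
    ring

theorem hasseDer_apply (hH : LocRes.IsHasseFamily t H) (x : K) :
    hasseDer hH x = LocRes.hasseD H 1 x := rfl

/-- `dt ≠ 0` whenever a total Hasse derivative with respect to `t` exists -/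
theorem D_ne_zero_of_hasse (hH : LocRes.IsHasseFamily t H) : KaehlerDifferential.D k K t ≠ 0 := by
  intro h0
  have h1 := (hasseDer hH).liftKaehlerDifferential_comp_D t
  rw [h0, map_zero, hasseDer_apply, hasseD_t hH] at h1
  simp at h1

/-- a total Hasse derivative is compatible with every homomorphism into Laurent series which
sends `t` to a series whose Taylor expansion is `φ t + U` -/
theorem hasse_compat (hK : IsFFw k K) (hg : IsGeometric k K) (hH : LocRes.IsHasseFamily t H)
    (F : Type w) [Field F] [Algebra k F] (φ : K →ₐ[k] LaurentSeries F)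
    (hφt : taylorL F (φ t) = PowerSeries.C (φ t) + PowerSeries.X) (x : K) (n : ℕ) :
    φ (LocRes.hasseD H n x) = LaurentSeries.hasseDeriv F n (φ x) := by
  have hDt : KaehlerDifferential.D k K t ≠ 0 := D_ne_zero_of_hasse hH
  have hU := Groth.Agent.S12583.Aux.formallyUnramified_of_D_ne_zero hK hg hDt
  let Φ₁ : K →+* PowerSeries (LaurentSeries F) :=
    (PowerSeries.map (φ : K →+* LaurentSeries F)).comp (H : K →+* PowerSeries K)
  let Φ₂ : K →+* PowerSeries (LaurentSeries F) := (taylorL F).comp (φ : K →+* LaurentSeries F)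
  have hagree : ∀ r ∈ Algebra.adjoin k ({t} : Set K), Φ₁ r = Φ₂ r := by
    intro r hr
    induction hr using Algebra.adjoin_induction with
    | mem y hy =>
      rw [Set.mem_singleton_iff.mp hy]
      change PowerSeries.map (φ : K →+* LaurentSeries F) (H t) = taylorL F (φ t)
      rw [hH.1, map_add, PowerSeries.map_C, PowerSeries.map_X, RingHom.coe_coe, hφt]
    | algebraMap c =>
      change PowerSeries.map (φ : K →+* LaurentSeries F) (H (algebraMap k K c)) =
        taylorL F (φ (algebraMap k K c))
      rw [H.commutes, LocRes.map_algebraMap, taylorL_C]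
      rw [PowerSeries.algebraMap_apply, PowerSeries.map_C, RingHom.coe_coe, LocRes.map_algebraMap]
    | add y z _ _ hy hz => rw [map_add, map_add, hy, hz]
    | mul y z _ _ hy hz => rw [map_mul, map_mul, hy, hz]
  let _ : Algebra (Algebra.adjoin k ({t} : Set K)) (PowerSeries (LaurentSeries F)) :=
    (Φ₁.comp (algebraMap (Algebra.adjoin k ({t} : Set K)) K)).toAlgebra
  let g₁ : K →ₐ[Algebra.adjoin k ({t} : Set K)] PowerSeries (LaurentSeries F) :=
    { Φ₁ with commutes' := fun r => rfl }
  let g₂ : K →ₐ[Algebra.adjoin k ({t} : Set K)] PowerSeries (LaurentSeries F) :=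
    { Φ₂ with commutes' := fun r => (hagree r.1 r.2).symm }
  have heq : g₁ = g₂ := by
    apply Algebra.FormallyUnramified.ext_of_iInf (I := Ideal.span {PowerSeries.X})
      Groth.Agent.S12583.Aux.iInf_span_X_pow
    intro y
    rw [Ideal.Quotient.eq, Ideal.mem_span_singleton, PowerSeries.X_dvd_iff, map_sub, sub_eq_zero]
    change PowerSeries.constantCoeff (PowerSeries.map (φ : K →+* LaurentSeries F) (H y)) =
      PowerSeries.constantCoeff (taylorL F (φ y))
    rw [← PowerSeries.coeff_zero_eq_constantCoeff_apply, ← PowerSeries.coeff_zero_eq_constantCoeff_apply,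
      PowerSeries.coeff_map, coeff_taylorL, LaurentSeries.hasseDeriv_zero,
      PowerSeries.coeff_zero_eq_constantCoeff_apply, hH.2]
    rfl
  have h1 : Φ₁ x = Φ₂ x := DFunLike.congr_fun heq x
  have h2 := congrArg (PowerSeries.coeff n) h1
  change PowerSeries.coeff n (PowerSeries.map (φ : K →+* LaurentSeries F) (H x)) =
    PowerSeries.coeff n (taylorL F (φ x)) at h2
  rw [PowerSeries.coeff_map, coeff_taylorL] at h2
  exact h2

/-- **iterativity** of Hasse derivatives -/
theorem hasseD_comp (hK : IsFFw k K) (hg : IsGeometric k K) (hH : LocRes.IsHasseFamily t H)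
    (x : K) (j n : ℕ) :
    LocRes.hasseD H j (LocRes.hasseD H n x) = ((j + n).choose n : K) * LocRes.hasseD H (j + n) x := by
  -- `φ = ι ∘ H`
  let φ : K →ₐ[k] LaurentSeries K :=
    { toRingHom := (HahnSeries.ofPowerSeries ℤ K).comp (H : K →+* PowerSeries K)
      commutes' := fun c => by
        change HahnSeries.ofPowerSeries ℤ K (H (algebraMap k K c)) = algebraMap k (LaurentSeries K) c
        rw [H.commutes, HahnSeries.algebraMap_apply'] }
  have hφ : ∀ z : K, φ z = ((H z : PowerSeries K) : LaurentSeries K) := fun z => rfl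
  have hφt : taylorL K (φ t) = PowerSeries.C (φ t) + PowerSeries.X := by
    rw [hφ, hH.1]
    have : ((PowerSeries.C t + PowerSeries.X : PowerSeries K) : LaurentSeries K) =
        HahnSeries.C t + HahnSeries.single 1 1 := by
      simp
    rw [this, map_add, taylorL_C, taylorL_X, map_add]
    ring
  have h1 := hasse_compat hK hg hH K φ hφt x n
  have h2 := congrArg (fun f => HahnSeries.coeff f (j : ℤ)) h1
  simp only [hφ, PowerSeries.coeff_coe, LaurentSeries.hasseDeriv_coeff] at h2
  have hj : ¬ ((j : ℤ) < 0) := by omega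
  have hjn : ¬ ((j : ℤ) + n < 0) := by omega
  rw [if_neg hj, if_neg hjn, Int.natAbs_natCast] at h2
  have h3 : ((j : ℤ) + (n : ℤ)).natAbs = j + n := by omega
  rw [h3] at h2
  change LocRes.hasseD H j (LocRes.hasseD H n x) = _ at h2
  rw [h2]
  have h4 : Ring.choose ((j : ℤ) + (n : ℤ)) n = ((j + n).choose n : ℤ) := by
    rw [← Nat.cast_add, Ring.choose_natCast]
  rw [h4]
  simp [LocRes.hasseD_apply]

/-- the field of constants of a total Hasse derivative -/
def hasseConst (H : K →ₐ[k] PowerSeries K) : IntermediateField k K where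
  carrier := {z | H z = PowerSeries.C z}
  mul_mem' {a b} ha hb := by
    change H (a * b) = PowerSeries.C (a * b)
    rw [map_mul, map_mul, show H a = _ from ha, show H b = _ from hb]
  one_mem' := by
    change H 1 = PowerSeries.C 1
    rw [map_one, map_one]
  add_mem' {a b} ha hb := by
    change H (a + b) = PowerSeries.C (a + b)
    rw [map_add, map_add, show H a = _ from ha, show H b = _ from hb]
  zero_mem' := by
    change H 0 = PowerSeries.C 0
    rw [map_zero, map_zero]
  algebraMap_mem' c := by
    change H (algebraMap k K c) = PowerSeries.C (algebraMap k K c)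
    rw [H.commutes, PowerSeries.algebraMap_apply]
  inv_mem' a ha := by
    change H a⁻¹ = PowerSeries.C a⁻¹
    by_cases h0 : a = 0
    · rw [h0, inv_zero, map_zero, map_zero]
    · have h1 : H a⁻¹ * H a = 1 := by rw [← map_mul, inv_mul_cancel₀ h0, map_one]
      rw [show H a = _ from ha] at h1
      have h2 : (PowerSeries.C a : PowerSeries K) * PowerSeries.C a⁻¹ = 1 := by
        rw [← map_mul, mul_inv_cancel₀ h0, map_one]
      calc H a⁻¹ = H a⁻¹ * (PowerSeries.C a * PowerSeries.C a⁻¹) := by rw [h2, mul_one]
        _ = (H a⁻¹ * PowerSeries.C a) * PowerSeries.C a⁻¹ := by ring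
        _ = PowerSeries.C a⁻¹ := by rw [h1, one_mul]

theorem mem_hasseConst (z : K) : z ∈ hasseConst H ↔ H z = PowerSeries.C z := Iff.rfl

/-- the constants of a total Hasse derivative of a function field are the constants -/
theorem hasse_const (hK : IsFunctionField k K) (hH : LocRes.IsHasseFamily t H) (x : K)
    (hx : H x = PowerSeries.C x) : x ∈ Set.range (algebraMap k K) := by
  apply hK.2
  by_contra hxt
  have hxt' : Transcendental k x := hxt
  have halg : Algebra.IsAlgebraic (IntermediateField.adjoin k ({x} : Set K)) K :=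
    isAlgebraic_adjoin_w hK.1 hxt'
  obtain ⟨q, hq0, hq⟩ := halg.isAlgebraic t
  have hle : IntermediateField.adjoin k ({x} : Set K) ≤ hasseConst H := by
    rw [IntermediateField.adjoin_le_iff]
    intro y hy
    rw [Set.mem_singleton_iff] at hy
    rw [hy]; exact hx
  obtain ⟨m, hm⟩ : ∃ m : K[X], m = q.map (algebraMap (IntermediateField.adjoin k ({x} : Set K)) K) :=
    ⟨_, rfl⟩
  have hm0 : m ≠ 0 := by
    rw [hm]
    exact (Polynomial.map_ne_zero_iff
      (FaithfulSMul.algebraMap_injective (IntermediateField.adjoin k ({x} : Set K)) K)).mpr hq0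
  have hmt : m.eval t = 0 := by
    rw [hm, eval_map_algebraMap]; exact hq
  have hmH : m.map (H : K →+* PowerSeries K) = m.map (PowerSeries.C : K →+* PowerSeries K) := by
    ext1 n
    rw [coeff_map, coeff_map, hm, coeff_map]
    exact hle (q.coeff n).2
  -- apply `H`
  have h1 : (m.map (PowerSeries.C : K →+* PowerSeries K)).eval (PowerSeries.C t + PowerSeries.X) = 0 := by
    rw [← hmH, ← hH.1, eval_map]
    have := hom_eval₂ m (RingHom.id K) (H : K →+* PowerSeries K) t
    rw [RingHom.comp_id, eval₂_id, hmt, map_zero] at this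
    exact this.symm
  -- the polynomial `m (t + Y)` vanishes
  have h2 : ((m.comp (Polynomial.C t + Polynomial.X) : K[X]) : PowerSeries K) = 0 := by
    rw [← h1, Polynomial.comp, eval_map]
    have := hom_eval₂ m (Polynomial.C : K →+* K[X]) (Polynomial.coeToPowerSeries.ringHom (R := K))
      (Polynomial.C t + Polynomial.X)
    simp only [Polynomial.coeToPowerSeries.ringHom_apply] at this
    rw [this]
    congr 1
    · ext a
      simp
    · simp
  have h3 : m.comp (Polynomial.C t + Polynomial.X) = 0 := Polynomial.coe_eq_zero_iff.mp h2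
  apply hm0
  have h4 : Polynomial.taylor t m = 0 := by
    rw [Polynomial.taylor_apply, add_comm]; exact h3
  exact Polynomial.taylor_injective t (by rw [h4, map_zero])


theorem hasse_eq_C_of_forall (hH : LocRes.IsHasseFamily t H) (x : K)
    (hx : ∀ j : ℕ, 1 ≤ j → LocRes.hasseD H j x = 0) : H x = PowerSeries.C x := by
  ext n
  rw [PowerSeries.coeff_C]
  split_ifs with h
  · subst h
    exact hasseD_zero hH x
  · exact hx n (Nat.one_le_iff_ne_zero.mpr h)

end HF

end Groth.Agent.Helper9.FFExt
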