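import Mathlib
import Groth.Prelude.Def_W4bk4goldsch45p2
import Groth.Agent.Lib.Helper9.FFExt.HasseFam

/-! # Wronskian independence (helper9) -/

namespace Groth.Agent.Helper9.FFExt

open FunFld
open Groth.Agent.Lib.Helper4.FF

section WR1

universe u v
variable {k : Type u} {K : Type v} [Field k] [Field K] [Algebra k K]
variable {t : K} {H : K →ₐ[k] PowerSeries K}

/-- a `K`-linear relation among the rows `(D^j φ_i)_j` -/
def HRel (H : K →ₐ[k] PowerSeries K) {ι : Type*} [Fintype ι] (φ : ι → K) (a : ι → K) : Prop :=
  ∀ j : ℕ, ∑ i, a i * LocRes.hasseD H j (φ i) = 0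

variable {ι : Type*} [Fintype ι] {φ : ι → K}

theorem HRel.smul {a : ι → K} (h : HRel H φ a) (c : K) : HRel H φ (fun i => c * a i) := by
  intro j
  have := h j
  simp only [mul_assoc]
  rw [← Finset.mul_sum, this, mul_zero]

/-- differentiating the coefficients of a relation gives a relation -/
theorem HRel.hasseD (hK : IsFFw k K) (hg : IsGeometric k K) (hH : LocRes.IsHasseFamily t H)
    {a : ι → K} (h : HRel H φ a) (m : ℕ) :
    HRel H φ (fun i => LocRes.hasseD H m (a i)) := by
  induction m using Nat.strong_induction_on with
  | _ m ih =>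
    intro j
    have h1 := congrArg (LocRes.hasseD H m) (h j)
    rw [hasseD_map_zero, hasseD_sum] at h1
    simp only [hasseD_mul, hasseD_comp hK hg hH] at h1
    rw [Finset.sum_comm] at h1
    -- isolate the term `p = (m, 0)`
    have hmem : (m, 0) ∈ Finset.HasAntidiagonal.antidiagonal m := by
      rw [Finset.HasAntidiagonal.mem_antidiagonal]; simp
    rw [← Finset.add_sum_erase _ _ hmem] at h1
    have hrest : ∑ p ∈ (Finset.HasAntidiagonal.antidiagonal m).erase (m, 0),
        ∑ i, LocRes.hasseD H p.1 (a i) *
          (((p.2 + j).choose j : K) * LocRes.hasseD H (p.2 + j) (φ i)) = 0 := by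
      apply Finset.sum_eq_zero
      intro p hp
      obtain ⟨hp1, hp2⟩ := Finset.mem_erase.mp hp
      rw [Finset.HasAntidiagonal.mem_antidiagonal] at hp2
      have hlt : p.1 < m := by
        rcases Nat.lt_or_ge p.1 m with h' | h'
        · exact h'
        · exfalso
          apply hp1
          have : p.1 = m := by omega
          have : p.2 = 0 := by omega
          exact Prod.ext ‹p.1 = m› this
      have h2 := ih p.1 hlt (p.2 + j)
      have h3 : ∀ i, LocRes.hasseD H p.1 (a i) *
          (((p.2 + j).choose j : K) * LocRes.hasseD H (p.2 + j) (φ i)) =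
          ((p.2 + j).choose j : K) * (LocRes.hasseD H p.1 (a i) * LocRes.hasseD H (p.2 + j) (φ i)) :=
        fun i => by ring
      rw [Finset.sum_congr rfl fun i _ => h3 i, ← Finset.mul_sum, h2, mul_zero]
    rw [hrest, add_zero] at h1
    simp only [zero_add, Nat.choose_self, Nat.cast_one, one_mul] at h1
    exact h1


open scoped Classical in
/-- **independence of the rows** of the Hasse matrix of a `k`-linearly independent tuple:
induction on the size of the support of the relation -/
theorem hrel_eq_zero_aux (hK : IsFunctionField k K) (hg : IsGeometric k K)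
    (hH : LocRes.IsHasseFamily t H) (hφ : LinearIndependent k φ) :
    ∀ (N : ℕ) (a : ι → K), HRel H φ a →
      (Finset.univ.filter fun i => a i ≠ 0).card = N → a = 0 := by
  classical
  intro N
  induction N using Nat.strong_induction_on with
  | _ N ih =>
    intro a ha hN
    by_contra hne
    obtain ⟨i₀, hi₀⟩ : ∃ i, a i ≠ 0 := by
      by_contra h
      push Not at h
      exact hne (funext h)
    obtain ⟨a', ha'⟩ : ∃ a' : ι → K, a' = fun i => (a i₀)⁻¹ * a i := ⟨_, rfl⟩
    have hrel' : HRel H φ a' := by rw [ha']; exact ha.smul _
    have h1 : a' i₀ = 1 := by rw [ha']; exact inv_mul_cancel₀ hi₀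
    have hsupp : ∀ i, a' i ≠ 0 → a i ≠ 0 := by
      intro i hi h0
      apply hi
      rw [ha']
      simp only [h0, mul_zero]
    have hD : ∀ m, 1 ≤ m → ∀ i, LocRes.hasseD H m (a' i) = 0 := by
      intro m hm
      have hr := hrel'.hasseD (isFFw_of_isFunctionField hK) hg hH m
      have hcard : (Finset.univ.filter fun i => LocRes.hasseD H m (a' i) ≠ 0).card < N := by
        rw [← hN]
        apply Finset.card_lt_card
        rw [Finset.ssubset_iff_of_subset]
        · refine ⟨i₀, ?_, ?_⟩
          · simp only [Finset.mem_filter, Finset.mem_univ, true_and]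
            exact hi₀
          · simp only [Finset.mem_filter, Finset.mem_univ, true_and, not_not]
            rw [h1]
            have := hasseD_algebraMap H (1 : k) m
            rw [map_one] at this
            rw [this, if_neg (by omega)]
        · intro i hi
          simp only [Finset.mem_filter, Finset.mem_univ, true_and] at hi ⊢
          apply hsupp
          intro h0
          apply hi
          rw [h0, hasseD_map_zero]
      have := ih _ hcard _ hr rfl
      intro i
      exact congrFun this i
    have hc : ∀ i, ∃ b : k, algebraMap k K b = a' i := fun i =>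
      hasse_const hK hH (a' i) (hasse_eq_C_of_forall hH (a' i) (fun j hj => hD j hj i))
    choose b hb using hc
    have h0 := hrel' 0
    simp only [hasseD_zero hH] at h0
    have hsum : ∑ i, b i • φ i = 0 := by
      rw [← h0]
      apply Finset.sum_congr rfl
      intro i _
      rw [Algebra.smul_def, hb]
    have hb0 := (Fintype.linearIndependent_iff.mp hφ) b hsum i₀
    rw [← hb, hb0, map_zero] at h1
    exact zero_ne_one h1

theorem hrel_eq_zero (hK : IsFunctionField k K) (hg : IsGeometric k K)
    (hH : LocRes.IsHasseFamily t H) (hφ : LinearIndependent k φ) {a : ι → K}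
    (h : HRel H φ a) : a = 0 := by
  classical
  exact hrel_eq_zero_aux hK hg hH hφ _ a h rfl

end WR1

end Groth.Agent.Helper9.FFExt
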