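import Mathlib
import Groth.Prelude.Def_W4bk4goldsch45p2

/-! # Linear algebra of jump sequences (helper9) -/

namespace Groth.Agent.Helper9.FFExt

open FunFld

namespace Jump

/-- span of the first `N` columns -/
def V (K : Type*) {M : Type*} [Field K] [AddCommGroup M] [Module K M] (c : ℕ → M) (N : ℕ) :
    Submodule K M :=
  Submodule.span K (c '' Set.Iio N)

variable {K M : Type*} [Field K] [AddCommGroup M] [Module K M] (c : ℕ → M)

theorem isJump_iff (j : ℕ) : IsJump K c j ↔ c j ∉ V K c j := Iff.rfl

theorem V_mono {a b : ℕ} (h : a ≤ b) : V K c a ≤ V K c b :=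
  Submodule.span_mono (Set.image_mono (Set.Iio_subset_Iio h))

theorem mem_V {j N : ℕ} (h : j < N) : c j ∈ V K c N :=
  Submodule.subset_span ⟨j, h, rfl⟩

theorem V_zero : V K c 0 = ⊥ := by
  unfold V
  have : Set.Iio (0 : ℕ) = ∅ := by
    ext x
    simp
  rw [this, Set.image_empty, Submodule.span_empty]

theorem V_succ (N : ℕ) : V K c (N + 1) = V K c N ⊔ Submodule.span K {c N} := by
  unfold V
  rw [← Submodule.span_union]
  congr 1
  ext x
  constructor
  · rintro ⟨j, hj, rfl⟩
    rcases Nat.lt_succ_iff_lt_or_eq.mp hj with h | h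
    · exact Or.inl ⟨j, h, rfl⟩
    · right
      rw [h]
      exact Set.mem_singleton _
  · rintro (⟨j, hj, rfl⟩ | h)
    · exact ⟨j, Nat.lt_succ_of_lt hj, rfl⟩
    · rw [Set.mem_singleton_iff.mp h]
      exact ⟨N, Nat.lt_succ_self N, rfl⟩

theorem isJump_zero : IsJump K c 0 ↔ c 0 ≠ 0 := by
  rw [isJump_iff, V_zero, Submodule.mem_bot]

theorem mem_span_jumps (N : ℕ) :
    ∀ j, j < N → c j ∈ Submodule.span K (c '' {i | i < N ∧ IsJump K c i}) := by
  intro j
  induction j using Nat.strong_induction_on with
  | _ j ih =>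
    intro hj
    by_cases hjump : IsJump K c j
    · exact Submodule.subset_span ⟨j, ⟨hj, hjump⟩, rfl⟩
    · have hmem : c j ∈ V K c j := not_not.mp hjump
      refine Submodule.span_le.mpr ?_ hmem
      rintro _ ⟨i, hi, rfl⟩
      exact ih i hi (lt_trans hi hj)

theorem V_eq_span_jumps (N : ℕ) :
    V K c N = Submodule.span K (c '' {i | i < N ∧ IsJump K c i}) := by
  apply le_antisymm
  · apply Submodule.span_le.mpr
    rintro _ ⟨j, hj, rfl⟩
    exact mem_span_jumps c N j hj
  · apply Submodule.span_mono
    rintro _ ⟨j, hj, rfl⟩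
    exact ⟨j, hj.1, rfl⟩

theorem linearIndependent_jumps {m : ℕ} (e : Fin m → ℕ) (he : StrictMono e)
    (hj : ∀ i, IsJump K c (e i)) : LinearIndependent K (fun i => c (e i)) := by
  induction m with
  | zero => exact linearIndependent_empty_type
  | succ m ih =>
    rw [linearIndependent_finSucc']
    refine ⟨ih (fun i => e i.castSucc) (he.comp Fin.strictMono_castSucc) (fun i => hj _), ?_⟩
    intro hmem
    apply hj (Fin.last m)
    refine Submodule.span_mono ?_ hmem
    rintro _ ⟨i, rfl⟩
    exact ⟨e i.castSucc, he (Fin.castSucc_lt_last i), rfl⟩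

open scoped Classical in
/-- the dimension of the span of the first `N` columns is the number of jumps below `N` -/
theorem finrank_V (N : ℕ) :
    Module.finrank K (V K c N) = ((Finset.range N).filter (fun j => IsJump K c j)).card := by
  obtain ⟨T, hT⟩ : ∃ T : Finset ℕ, T = (Finset.range N).filter (fun j => IsJump K c j) := ⟨_, rfl⟩
  rw [← hT]
  have hmemT : ∀ j, j ∈ T ↔ j < N ∧ IsJump K c j := by
    intro j
    rw [hT, Finset.mem_filter, Finset.mem_range]
  let e : Fin T.card ↪o ℕ := T.orderEmbOfFin rfl
  have hli : LinearIndependent K (fun i => c (e i)) :=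
    linearIndependent_jumps c e e.strictMono
      (fun i => ((hmemT _).mp (Finset.orderEmbOfFin_mem T rfl i)).2)
  have hrange : Set.range (fun i => c (e i)) = c '' {i | i < N ∧ IsJump K c i} := by
    ext x
    constructor
    · rintro ⟨i, rfl⟩
      exact ⟨e i, (hmemT _).mp (Finset.orderEmbOfFin_mem T rfl i), rfl⟩
    · rintro ⟨j, hj, rfl⟩
      have hjT : j ∈ T := (hmemT j).mpr hj
      have : j ∈ Set.range (T.orderEmbOfFin rfl) := by
        rw [Finset.range_orderEmbOfFin]
        exact hjT
      obtain ⟨i, hi⟩ := this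
      exact ⟨i, by change c (T.orderEmbOfFin rfl i) = c j; rw [hi]⟩
  rw [V_eq_span_jumps, ← hrange, finrank_span_eq_card hli, Fintype.card_fin]


/-- every finite set of jumps has at most `dim M` elements -/
theorem card_le_of_jumps [FiniteDimensional K M] (T : Finset ℕ) (hT : ∀ j ∈ T, IsJump K c j) :
    T.card ≤ Module.finrank K M := by
  have hli : LinearIndependent K (fun i => c (T.orderEmbOfFin rfl i)) :=
    linearIndependent_jumps c _ (T.orderEmbOfFin rfl).strictMono
      (fun i => hT _ (Finset.orderEmbOfFin_mem T rfl i))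
  have := LinearIndependent.fintype_card_le_finrank (R := K) hli
  rwa [Fintype.card_fin] at this

theorem finite_jumps [FiniteDimensional K M] : {j | IsJump K c j}.Finite := by
  by_contra hinf
  obtain ⟨T, hTs, hTc⟩ := Set.Infinite.exists_subset_card_eq hinf (Module.finrank K M + 1)
  have := card_le_of_jumps (K := K) c T (fun j hj => hTs hj)
  omega

theorem span_jumps_eq_top (htop : Submodule.span K (Set.range c) = ⊤) :
    Submodule.span K (c '' {j | IsJump K c j}) = ⊤ := by
  rw [eq_top_iff, ← htop]
  apply Submodule.span_le.mpr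
  rintro _ ⟨j, rfl⟩
  have := mem_span_jumps (K := K) c (j + 1) j (Nat.lt_succ_self j)
  refine Submodule.span_mono ?_ this
  rintro _ ⟨i, hi, rfl⟩
  exact ⟨i, hi.2, rfl⟩

theorem card_jumps [FiniteDimensional K M] (htop : Submodule.span K (Set.range c) = ⊤) :
    (finite_jumps (K := K) c).toFinset.card = Module.finrank K M := by
  classical
  apply le_antisymm
  · apply card_le_of_jumps c
    intro j hj
    exact (Set.Finite.mem_toFinset _).mp hj
  · have h1 := span_jumps_eq_top c htop
    have h2 : (c '' {j | IsJump K c j}) = ((finite_jumps (K := K) c).toFinset.image c : Finset M) := by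
      rw [Finset.coe_image, Set.Finite.coe_toFinset]
    rw [h2] at h1
    have h3 := finrank_span_finset_le_card (R := K) ((finite_jumps (K := K) c).toFinset.image c)
    unfold Set.finrank at h3
    rw [h1, finrank_top] at h3
    exact h3.trans Finset.card_image_le

/-- **existence of the order sequence** -/
theorem exists_isOrders [FiniteDimensional K M] {n : ℕ} (hdim : Module.finrank K M = n + 1)
    (h0 : c 0 ≠ 0) (htop : Submodule.span K (Set.range c) = ⊤) :
    ∃ J : Fin n → ℕ, IsOrders K c J := by
  obtain ⟨F, hF⟩ : ∃ F : Finset ℕ, F = (finite_jumps (K := K) c).toFinset := ⟨_, rfl⟩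
  have hmemF : ∀ j, j ∈ F ↔ IsJump K c j := by
    intro j
    rw [hF, Set.Finite.mem_toFinset]
    rfl
  have hcard : F.card = n + 1 := by rw [hF, card_jumps c htop, hdim]
  let e : Fin (n + 1) ↪o ℕ := F.orderEmbOfFin hcard
  have hrange : ∀ j, j ∈ F ↔ ∃ r, e r = j := by
    intro j
    have := Finset.range_orderEmbOfFin F hcard
    constructor
    · intro hj
      have h' : j ∈ Set.range (F.orderEmbOfFin hcard) := by rw [this]; exact hj
      exact h'
    · rintro ⟨r, rfl⟩
      exact Finset.orderEmbOfFin_mem F hcard r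
  have he0 : e 0 = 0 := by
    obtain ⟨r, hr⟩ := (hrange 0).mp ((hmemF 0).mpr ((isJump_zero c).mpr h0))
    have : e 0 ≤ e r := e.monotone (Fin.zero_le r)
    omega
  have hpos : ∀ l : Fin n, 1 ≤ e l.succ := by
    intro l
    have : e 0 < e l.succ := e.strictMono (Fin.succ_pos l)
    omega
  refine ⟨fun l => e l.succ - 1, ?_, ?_⟩
  · intro l l' hll'
    have : e l.succ < e l'.succ := e.strictMono (Fin.succ_lt_succ_iff.mpr hll')
    have h1 := hpos l
    have h2 := hpos l'
    change e l.succ - 1 < e l'.succ - 1
    omega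
  · intro j
    rw [← hmemF, hrange]
    constructor
    · rintro ⟨l, rfl⟩
      refine ⟨l.succ, ?_⟩
      have h1 := hpos l
      change e l.succ = e l.succ - 1 + 1
      omega
    · rintro ⟨r, hr⟩
      have hr0 : r ≠ 0 := by
        rintro rfl
        omega
      obtain ⟨l, rfl⟩ := Fin.exists_succ_eq.mpr hr0
      refine ⟨l, ?_⟩
      change e l.succ - 1 = j
      omega

/-- the index sequence `0, J 0 + 1, …, J (n-1) + 1` -/
def eJ {n : ℕ} (J : Fin n → ℕ) : Fin (n + 1) → ℕ :=
  Fin.cases 0 (fun l => J l + 1)

@[simp] theorem eJ_zero {n : ℕ} (J : Fin n → ℕ) : eJ J 0 = 0 := rfl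

@[simp] theorem eJ_succ {n : ℕ} (J : Fin n → ℕ) (l : Fin n) : eJ J l.succ = J l + 1 := rfl

theorem eJ_strictMono {n : ℕ} {J : Fin n → ℕ} (hJ : StrictMono J) : StrictMono (eJ J) := by
  intro a b hab
  induction a using Fin.cases with
  | zero =>
    induction b using Fin.cases with
    | zero => exact absurd hab (lt_irrefl _)
    | succ b => rw [eJ_zero, eJ_succ]; omega
  | succ a =>
    induction b using Fin.cases with
    | zero => exact absurd hab (Fin.not_lt_zero _)
    | succ b =>
      rw [eJ_succ, eJ_succ]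
      have := hJ (Fin.succ_lt_succ_iff.mp hab)
      omega

theorem isJump_eJ {n : ℕ} {J : Fin n → ℕ} (hJ : IsOrders K c J) (h0 : c 0 ≠ 0) (r : Fin (n + 1)) :
    IsJump K c (eJ J r) := by
  induction r using Fin.cases with
  | zero => exact (isJump_zero c).mpr h0
  | succ l => exact (hJ.2 (J l)).mp ⟨l, rfl⟩

theorem exists_eJ_of_isJump {n : ℕ} {J : Fin n → ℕ} (hJ : IsOrders K c J) {j : ℕ}
    (hj : IsJump K c j) : ∃ r, eJ J r = j := by
  rcases j with _ | j
  · exact ⟨0, rfl⟩
  · obtain ⟨l, hl⟩ := (hJ.2 j).mpr hj
    exact ⟨l.succ, by rw [eJ_succ, hl]⟩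

theorem linearIndependent_eJ {n : ℕ} {J : Fin n → ℕ} (hJ : IsOrders K c J) (h0 : c 0 ≠ 0) :
    LinearIndependent K (fun r => c (eJ J r)) :=
  linearIndependent_jumps c _ (eJ_strictMono hJ.1) (isJump_eJ c hJ h0)


open scoped Classical in
/-- **minimality of the order sequence** -/
theorem orders_le {n : ℕ} {J : Fin n → ℕ} (hJ : IsOrders K c J)
    {J' : Fin n → ℕ} (hJ' : StrictMono J')
    (hli : LinearIndependent K (fun r => c (eJ J' r))) (l : Fin n) : J l ≤ J' l := by
  by_contra hlt
  push Not at hlt
  obtain ⟨N, hN⟩ : ∃ N, N = J' l + 2 := ⟨_, rfl⟩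
  have hfd : FiniteDimensional K (V K c N) :=
    FiniteDimensional.span_of_finite K ((Set.finite_Iio N).image c)
  have h1 : (l : ℕ) + 2 ≤ Module.finrank K (V K c N) := by
    have hle : (l : ℕ) + 2 ≤ n + 1 := by omega
    have hli' := hli.comp (Fin.castLE hle) (Fin.castLE_injective hle)
    have hsub : Submodule.span K (Set.range ((fun r => c (eJ J' r)) ∘ Fin.castLE hle)) ≤ V K c N := by
      apply Submodule.span_le.mpr
      rintro _ ⟨r, rfl⟩
      apply mem_V
      have hr : Fin.castLE hle r ≤ l.succ := by
        rw [Fin.le_def]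
        simp only [Fin.val_castLE, Fin.val_succ]
        omega
      have := (eJ_strictMono hJ').monotone hr
      rw [eJ_succ] at this
      omega
    have := Submodule.finrank_mono hsub
    rw [finrank_span_eq_card hli', Fintype.card_fin] at this
    exact this
  have h2 : ((Finset.range N).filter (fun j => IsJump K c j)).card ≤ l + 1 := by
    let g : ℕ → ℕ := fun i => if h : i < n + 1 then eJ J ⟨i, h⟩ else 0
    have hsub : (Finset.range N).filter (fun j => IsJump K c j) ⊆
        (Finset.range (l + 1)).image g := by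
      intro j hj
      rw [Finset.mem_filter, Finset.mem_range] at hj
      rw [Finset.mem_image]
      rcases j with _ | j
      · refine ⟨0, Finset.mem_range.mpr (by omega), ?_⟩
        have h0 : 0 < n + 1 := by omega
        simp only [g, dif_pos h0]
        rfl
      · obtain ⟨m, hm⟩ := (hJ.2 j).mpr hj.2
        have hml : m < l := by
          by_contra hge
          push Not at hge
          have := hJ.1.monotone hge
          omega
        have hml' : (m : ℕ) < l := hml
        refine ⟨m + 1, Finset.mem_range.mpr (by omega), ?_⟩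
        have hlt' : (m : ℕ) + 1 < n + 1 := by omega
        simp only [g, dif_pos hlt']
        have : (⟨m + 1, hlt'⟩ : Fin (n + 1)) = m.succ := rfl
        rw [this, eJ_succ, hm]
    exact (Finset.card_le_card hsub).trans (Finset.card_image_le.trans (by simp))
  rw [finrank_V] at h1
  omega

section Triangular

variable {c} {c' : ℕ → M} (u : ℕ → K)

theorem V_eq_of_triangular (hu : ∀ j, u j ≠ 0) (h : ∀ j, c' j - u j • c j ∈ V K c j) :
    ∀ N, V K c' N = V K c N := by
  intro N
  induction N with
  | zero => rw [V_zero, V_zero]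
  | succ N ih =>
    rw [V_succ, V_succ, ih]
    apply le_antisymm
    · apply sup_le le_sup_left
      rw [Submodule.span_singleton_le_iff_mem]
      have : c' N = (c' N - u N • c N) + u N • c N := by abel
      rw [this]
      exact Submodule.add_mem _ (Submodule.mem_sup_left (h N))
        (Submodule.mem_sup_right (Submodule.smul_mem _ _ (Submodule.mem_span_singleton_self _)))
    · apply sup_le le_sup_left
      rw [Submodule.span_singleton_le_iff_mem]
      have : c N = (u N)⁻¹ • (c' N - (c' N - u N • c N)) := by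
        rw [sub_sub_cancel, smul_smul, inv_mul_cancel₀ (hu N), one_smul]
      rw [this]
      apply Submodule.smul_mem
      exact Submodule.sub_mem _ (Submodule.mem_sup_right (Submodule.mem_span_singleton_self _))
        (Submodule.mem_sup_left (h N))

theorem isJump_iff_of_triangular (hu : ∀ j, u j ≠ 0) (h : ∀ j, c' j - u j • c j ∈ V K c j)
    (j : ℕ) : IsJump K c' j ↔ IsJump K c j := by
  rw [isJump_iff, isJump_iff, V_eq_of_triangular u hu h j]
  constructor
  · intro hn hmem
    apply hn
    have : c' j = (c' j - u j • c j) + u j • c j := by abel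
    rw [this]
    exact Submodule.add_mem _ (h j) (Submodule.smul_mem _ _ hmem)
  · intro hn hmem
    apply hn
    have : c j = (u j)⁻¹ • (c' j - (c' j - u j • c j)) := by
      rw [sub_sub_cancel, smul_smul, inv_mul_cancel₀ (hu j), one_smul]
    rw [this]
    exact Submodule.smul_mem _ _ (Submodule.sub_mem _ hmem (h j))

theorem isOrders_iff_of_triangular (hu : ∀ j, u j ≠ 0) (h : ∀ j, c' j - u j • c j ∈ V K c j)
    {n : ℕ} (J : Fin n → ℕ) : IsOrders K c' J ↔ IsOrders K c J := by
  unfold IsOrders
  simp only [isJump_iff_of_triangular u hu h]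

end Triangular

section Cons

/-- put a new leading column in front of a sequence -/
def cons (v : M) (d : ℕ → M) : ℕ → M
  | 0 => v
  | j + 1 => d j

variable {v : M} {d : ℕ → M}

theorem V_cons_succ (v : M) (d : ℕ → M) (N : ℕ) :
    V K (cons v d) (N + 1) = V K d N ⊔ Submodule.span K {v} := by
  unfold V
  rw [← Submodule.span_union]
  congr 1
  ext x
  constructor
  · rintro ⟨j, hj, rfl⟩
    rcases j with _ | j
    · right
      exact Set.mem_singleton _
    · left
      exact ⟨j, Nat.lt_of_succ_lt_succ hj, rfl⟩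
  · rintro (⟨j, hj, rfl⟩ | h)
    · exact ⟨j + 1, Nat.succ_lt_succ hj, rfl⟩
    · rw [Set.mem_singleton_iff.mp h]
      exact ⟨0, Nat.succ_pos N, rfl⟩

theorem isJump_of_mem_succ {m : ℕ} (hm1 : v ∈ V K d (m + 1)) (hm0 : v ∉ V K d m) :
    IsJump K d m := by
  rw [isJump_iff]
  intro hmem
  apply hm0
  rw [V_succ] at hm1
  have : V K d m ⊔ Submodule.span K {d m} = V K d m := by
    rw [sup_eq_left, Submodule.span_singleton_le_iff_mem]
    exact hmem
  rwa [this] at hm1

theorem isJump_cons_succ_iff {m : ℕ} (hm1 : v ∈ V K d (m + 1)) (hm0 : v ∉ V K d m) (j : ℕ) :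
    IsJump K (cons v d) (j + 1) ↔ (IsJump K d j ∧ j ≠ m) := by
  rw [isJump_iff, V_cons_succ]
  change d j ∉ _ ↔ _
  rcases lt_trichotomy j m with hjm | hjm | hjm
  · constructor
    · intro hn
      refine ⟨fun hmem => hn (Submodule.mem_sup_left hmem), by omega⟩
    · rintro ⟨hjump, -⟩ hmem
      obtain ⟨w, hw, z, hz, hwz⟩ := Submodule.mem_sup.mp hmem
      obtain ⟨a, rfl⟩ := Submodule.mem_span_singleton.mp hz
      by_cases ha : a = 0
      · rw [ha, zero_smul, add_zero] at hwz
        rw [hwz] at hw
        exact hjump hw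
      · apply hm0
        have : v = a⁻¹ • (d j - w) := by
          rw [← hwz, add_sub_cancel_left, smul_smul, inv_mul_cancel₀ ha, one_smul]
        rw [this]
        apply Submodule.smul_mem
        apply V_mono d (show j + 1 ≤ m by omega)
        exact Submodule.sub_mem _ (mem_V d (Nat.lt_succ_self j)) (V_mono d (Nat.le_succ j) hw)
  · subst hjm
    constructor
    · intro hn
      exfalso
      apply hn
      rw [V_succ] at hm1
      obtain ⟨w, hw, z, hz, hwz⟩ := Submodule.mem_sup.mp hm1
      obtain ⟨a, rfl⟩ := Submodule.mem_span_singleton.mp hz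
      have ha : a ≠ 0 := by
        rintro rfl
        rw [zero_smul, add_zero] at hwz
        rw [← hwz] at hm0
        exact hm0 hw
      have : d j = a⁻¹ • (v - w) := by
        rw [← hwz, add_sub_cancel_left, smul_smul, inv_mul_cancel₀ ha, one_smul]
      rw [this]
      apply Submodule.smul_mem
      exact Submodule.sub_mem _ (Submodule.mem_sup_right (Submodule.mem_span_singleton_self _))
        (Submodule.mem_sup_left hw)
    · rintro ⟨-, h⟩
      exact absurd rfl h
  · have hv : v ∈ V K d j := V_mono d (show m + 1 ≤ j by omega) hm1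
    have : V K d j ⊔ Submodule.span K {v} = V K d j := by
      rw [sup_eq_left, Submodule.span_singleton_le_iff_mem]
      exact hv
    rw [this]
    constructor
    · intro hn
      exact ⟨hn, by omega⟩
    · rintro ⟨hn, -⟩
      exact hn

/-- every element of the span of the whole sequence lies in some `V N` -/
theorem exists_mem_V {x : M} (hx : x ∈ Submodule.span K (Set.range d)) : ∃ N, x ∈ V K d N := by
  induction hx using Submodule.span_induction with
  | mem y hy =>
    obtain ⟨j, rfl⟩ := hy
    exact ⟨j + 1, mem_V d (Nat.lt_succ_self j)⟩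
  | zero => exact ⟨0, Submodule.zero_mem _⟩
  | add y z _ _ hy hz =>
    obtain ⟨N₁, h₁⟩ := hy
    obtain ⟨N₂, h₂⟩ := hz
    exact ⟨max N₁ N₂, Submodule.add_mem _ (V_mono d (le_max_left _ _) h₁)
      (V_mono d (le_max_right _ _) h₂)⟩
  | smul a y _ hy =>
    obtain ⟨N, h⟩ := hy
    exact ⟨N, Submodule.smul_mem _ _ h⟩

open scoped Classical in
/-- a nonzero vector of the span enters the flag at a definite step -/
theorem exists_step {x : M} (hx : x ∈ Submodule.span K (Set.range d)) (hx0 : x ≠ 0) :
    ∃ m, x ∈ V K d (m + 1) ∧ x ∉ V K d m := by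
  have hex := exists_mem_V (K := K) hx
  have h0 : Nat.find hex ≠ 0 := by
    intro h
    have := Nat.find_spec hex
    rw [h, V_zero, Submodule.mem_bot] at this
    exact hx0 this
  obtain ⟨m, hm⟩ := Nat.exists_eq_succ_of_ne_zero h0
  refine ⟨m, ?_, ?_⟩
  · have := Nat.find_spec hex
    rwa [hm] at this
  · exact Nat.find_min hex (by omega)

end Cons

section Map

variable {M' : Type*} [AddCommGroup M'] [Module K M']

theorem isJump_map (L : M ≃ₗ[K] M') (j : ℕ) :
    IsJump K (fun i => L (c i)) j ↔ IsJump K c j := by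
  unfold IsJump
  have : (fun i => L (c i)) '' Set.Iio j = (L : M →ₗ[K] M') '' (c '' Set.Iio j) := by
    rw [Set.image_image]
    rfl
  rw [this, ← Submodule.map_span]
  constructor
  · intro hn hmem
    exact hn (Submodule.mem_map_of_mem hmem)
  · intro hn hmem
    obtain ⟨y, hy, hyx⟩ := Submodule.mem_map.mp hmem
    have : y = c j := L.injective hyx
    rw [this] at hy
    exact hn hy

theorem isOrders_map (L : M ≃ₗ[K] M') {n : ℕ} (J : Fin n → ℕ) :
    IsOrders K (fun i => L (c i)) J ↔ IsOrders K c J := by
  unfold IsOrders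
  simp only [isJump_map]

end Map


section Det

variable {n : ℕ} {c c' : ℕ → (Fin (n + 1) → K)} (u : ℕ → K)

/-- a triangular change of the columns multiplies the determinant of the jump columns by the
product of the diagonal coefficients -/
theorem det_of_triangular (h : ∀ j, c' j - u j • c j ∈ V K c j)
    (e : Fin (n + 1) → ℕ) (he : StrictMono e) (hjump : ∀ r, IsJump K c (e r))
    (hall : ∀ j, IsJump K c j → ∃ r, e r = j) :
    (Matrix.of fun r => c' (e r)).det = (∏ r, u (e r)) * (Matrix.of fun r => c (e r)).det := by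
  classical
  have hli : LinearIndependent K (fun r => c (e r)) := linearIndependent_jumps c e he hjump
  have hcard : Fintype.card (Fin (n + 1)) = Module.finrank K (Fin (n + 1) → K) := by simp
  let b : Module.Basis (Fin (n + 1)) K (Fin (n + 1) → K) :=
    basisOfLinearIndependentOfCardEqFinrank hli hcard
  have hb : ∀ r, b r = c (e r) := fun r => by
    simp only [b, coe_basisOfLinearIndependentOfCardEqFinrank]
  have hV : ∀ r, V K c (e r) ≤ Submodule.span K (b '' {r' | r' < r}) := by
    intro r
    rw [V_eq_span_jumps]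
    apply Submodule.span_mono
    rintro _ ⟨j, ⟨hj, hjj⟩, rfl⟩
    obtain ⟨r', rfl⟩ := hall j hjj
    exact ⟨r', he.lt_iff_lt.mp hj, hb r'⟩
  let T : Matrix (Fin (n + 1)) (Fin (n + 1)) K := Matrix.of fun r r' => b.repr (c' (e r)) r'
  have hprod : (Matrix.of fun r => c' (e r)) = T * (Matrix.of fun r => c (e r)) := by
    ext r i
    rw [Matrix.mul_apply]
    have := congrFun (b.sum_repr (c' (e r))) i
    rw [Finset.sum_apply] at this
    simp only [Matrix.of_apply, T]
    rw [← this]
    apply Finset.sum_congr rfl
    intro r' _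
    rw [Pi.smul_apply, smul_eq_mul, hb]
  have hdec : ∀ r, ∃ w ∈ Submodule.span K (b '' {r' | r' < r}),
      c' (e r) = u (e r) • b r + w := by
    intro r
    refine ⟨c' (e r) - u (e r) • c (e r), hV r (h (e r)), ?_⟩
    rw [hb]
    abel
  have hw0 : ∀ r w, w ∈ Submodule.span K (b '' {r' | r' < r}) → ∀ r', r ≤ r' →
      b.repr w r' = 0 := by
    intro r w hw r' hrr'
    have hsupp := b.repr_support_subset_of_mem_span _ hw
    by_contra hne
    have h1 : r' ∈ (b.repr w).support := Finsupp.mem_support_iff.mpr hne
    have h2 : r' < r := hsupp h1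
    exact absurd h2 (not_lt.mpr hrr')
  have htri : T.BlockTriangular OrderDual.toDual := by
    intro r r' hrr'
    have hlt : r < r' := hrr'
    obtain ⟨w, hw, hc⟩ := hdec r
    simp only [T, Matrix.of_apply]
    rw [hc, map_add, map_smul, Finsupp.add_apply, Finsupp.smul_apply, b.repr_self,
      Finsupp.single_apply, if_neg (ne_of_lt hlt), smul_zero, zero_add]
    exact hw0 r w hw r' hlt.le
  have hdiag : ∀ r, T r r = u (e r) := by
    intro r
    obtain ⟨w, hw, hc⟩ := hdec r
    simp only [T, Matrix.of_apply]
    rw [hc, map_add, map_smul, Finsupp.add_apply, Finsupp.smul_apply, b.repr_self,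
      Finsupp.single_apply, if_pos rfl, hw0 r w hw r le_rfl, add_zero, smul_eq_mul, mul_one]
  rw [hprod, Matrix.det_mul, Matrix.det_of_lowerTriangular T htri]
  simp only [hdiag]

end Det

end Jump

end Groth.Agent.Helper9.FFExt
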