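import Mathlib
import Groth.Prelude.Def_W4bk4goldsch45p2
import Groth.Agent.Lib.Helper9.FFExt.Wronsk1
import Groth.Agent.Lib.Helper9.FFExt.Wronsk2
import Groth.Agent.Lib.Helper9.FFExt.AlgClosed

/-! # Order sequences and Wronskians of a projective map (helper9) -/

namespace Groth.Agent.Helper9.FFExt

open FunFld
open Groth.Agent.Lib.Helper4.FF

section WR3

universe u v
variable {k : Type u} {K : Type v} [Field k] [Field K] [Algebra k K]
variable {t : K} {H : K →ₐ[k] PowerSeries K}

/-- the sequence of columns of Hasse derivatives -/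
noncomputable def dcol {ι : Type*} (H : K →ₐ[k] PowerSeries K) (φ : ι → K) : ℕ → ι → K :=
  fun j i => LocRes.hasseD H j (φ i)

theorem hcol_eq_cons {ι : Type*} (τ : K →ₐ[k] K) (H : K →ₐ[k] PowerSeries K) (φ : ι → K) :
    hcol τ H φ = Jump.cons (fun i => τ (φ i)) (dcol H φ) := by
  funext j
  cases j <;> rfl

theorem hcol_zero {ι : Type*} (τ : K →ₐ[k] K) (H : K →ₐ[k] PowerSeries K) (φ : ι → K) :
    hcol τ H φ 0 = fun i => τ (φ i) := rfl

theorem hcol_succ {ι : Type*} (τ : K →ₐ[k] K) (H : K →ₐ[k] PowerSeries K) (φ : ι → K) (j : ℕ) :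
    hcol τ H φ (j + 1) = dcol H φ j := rfl

theorem wrMat_transpose {n : ℕ} (τ : K →ₐ[k] K) (H : K →ₐ[k] PowerSeries K)
    (φ : Fin (n + 1) → K) (J : Fin n → ℕ) :
    (wrMat τ H φ J).transpose = Matrix.of (fun r => hcol τ H φ (Jump.eJ J r)) := by
  ext r i
  refine Fin.cases ?_ (fun l => ?_) r <;> rfl

theorem det_wrMat {n : ℕ} (τ : K →ₐ[k] K) (H : K →ₐ[k] PowerSeries K)
    (φ : Fin (n + 1) → K) (J : Fin n → ℕ) :
    (wrMat τ H φ J).det = (Matrix.of (fun r => hcol τ H φ (Jump.eJ J r))).det := by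
  rw [← wrMat_transpose, Matrix.det_transpose]

variable {ι : Type*} [Fintype ι] {φ : ι → K}

/-- the columns of Hasse derivatives of a linearly independent tuple span everything -/
theorem span_dcol_eq_top (hK : IsFunctionField k K) (hg : IsGeometric k K)
    (hH : LocRes.IsHasseFamily t H) (hφ : LinearIndependent k φ) :
    Submodule.span K (Set.range (dcol H φ)) = ⊤ := by
  classical
  by_contra hne
  obtain ⟨f, hf0, hf⟩ := Submodule.exists_le_ker_of_lt_top _ (lt_top_iff_ne_top.mpr hne)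
  apply hf0
  have hrel : HRel H φ (fun i => f fun j => if i = j then 1 else 0) := by
    intro j
    have h1 : dcol H φ j ∈ LinearMap.ker f := hf (Submodule.subset_span ⟨j, rfl⟩)
    rw [LinearMap.mem_ker, LinearMap.pi_apply_eq_sum_univ] at h1
    refine Eq.trans ?_ h1
    apply Finset.sum_congr rfl
    intro i _
    rw [smul_eq_mul, mul_comm]
    rfl
  have h0 := hrel_eq_zero hK hg hH hφ hrel
  refine LinearMap.ext fun x => ?_
  rw [LinearMap.pi_apply_eq_sum_univ, LinearMap.zero_apply]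
  apply Finset.sum_eq_zero
  intro i _
  have := congrFun h0 i
  simp only [Pi.zero_apply] at this
  rw [this, smul_zero]

theorem span_hcol_eq_top (hK : IsFunctionField k K) (hg : IsGeometric k K)
    (hH : LocRes.IsHasseFamily t H) (hφ : LinearIndependent k φ) (τ : K →ₐ[k] K) :
    Submodule.span K (Set.range (hcol τ H φ)) = ⊤ := by
  rw [eq_top_iff, ← span_dcol_eq_top hK hg hH hφ]
  apply Submodule.span_mono
  rintro _ ⟨j, rfl⟩
  exact ⟨j + 1, rfl⟩

theorem hcol_zero_ne_zero [Nonempty ι] (hφ : LinearIndependent k φ) (τ : K →ₐ[k] K)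
    (H : K →ₐ[k] PowerSeries K) : hcol τ H φ 0 ≠ 0 := by
  intro h
  obtain ⟨i⟩ := ‹Nonempty ι›
  have h1 := congrFun h i
  rw [hcol_zero] at h1
  simp only [Pi.zero_apply] at h1
  have h2 : φ i = 0 := by
    apply (τ : K →+* K).injective
    rw [map_zero]
    exact h1
  exact hφ.ne_zero i h2

end WR3

section Main

universe u v
variable {k : Type u} {K : Type v} [Field k] [Field K] [Algebra k K]
variable {t : K} {H : K →ₐ[k] PowerSeries K}
variable {n : ℕ} {φ : Fin (n + 1) → K}

/-- **existence of the order sequence and nonvanishing of the Wronskian** -/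
theorem exists_isOrders_det_ne_zero (hK : IsFunctionField k K) (hg : IsGeometric k K)
    (hH : LocRes.IsHasseFamily t H) (hφ : LinearIndependent k φ) (τ : K →ₐ[k] K) :
    ∃ J : Fin n → ℕ, IsOrders K (hcol τ H φ) J ∧ (wrMat τ H φ J).det ≠ 0 := by
  have hdim : Module.finrank K (Fin (n + 1) → K) = n + 1 := by simp
  have h0 := hcol_zero_ne_zero hφ τ H
  obtain ⟨J, hJ⟩ := Jump.exists_isOrders (hcol τ H φ) hdim h0 (span_hcol_eq_top hK hg hH hφ τ)
  refine ⟨J, hJ, ?_⟩
  rw [det_wrMat]
  have hli := Jump.linearIndependent_eJ (hcol τ H φ) hJ h0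
  have hunit : IsUnit (Matrix.of (fun r => hcol τ H φ (Jump.eJ J r))) :=
    Matrix.linearIndependent_rows_iff_isUnit.mp hli
  exact ((Matrix.isUnit_iff_isUnit_det _).mp hunit).ne_zero

/-- **minimality of the order sequence** -/
theorem isOrders_le (τ : K →ₐ[k] K) {J : Fin n → ℕ} (hJ : IsOrders K (hcol τ H φ) J)
    {J' : Fin n → ℕ} (hJ' : StrictMono J') (hdet : (wrMat τ H φ J').det ≠ 0) (l : Fin n) :
    J l ≤ J' l := by
  apply Jump.orders_le (hcol τ H φ) hJ hJ'
  rw [det_wrMat] at hdet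
  have hunit : IsUnit (Matrix.of (fun r => hcol τ H φ (Jump.eJ J' r))) :=
    (Matrix.isUnit_iff_isUnit_det _).mpr (Ne.isUnit hdet)
  exact Matrix.linearIndependent_rows_iff_isUnit.mpr hunit

end Main

end Groth.Agent.Helper9.FFExt
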