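import Mathlib
import Groth.Prelude.Def_W4bk4goldsch45p2
import Groth.Agent.Lib.Helper9.FFExt.Wronsk3

/-! # Invariance properties of order sequences and Wronskians (helper9) -/

namespace Groth.Agent.Helper9.FFExt

open FunFld
open Groth.Agent.Lib.Helper4.FF

namespace Jump

variable {K M : Type*} [Field K] [AddCommGroup M] [Module K M] (c : ℕ → M)
variable {M' : Type*} [AddCommGroup M'] [Module K M']

theorem isJump_map_of_injective (L : M →ₗ[K] M') (hL : Function.Injective L) (j : ℕ) :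
    IsJump K (fun i => L (c i)) j ↔ IsJump K c j := by
  unfold IsJump
  have : (fun i => L (c i)) '' Set.Iio j = L '' (c '' Set.Iio j) := by
    rw [Set.image_image]
  rw [this, ← Submodule.map_span]
  constructor
  · intro hn hmem
    exact hn (Submodule.mem_map_of_mem hmem)
  · intro hn hmem
    obtain ⟨y, hy, hyx⟩ := Submodule.mem_map.mp hmem
    have : y = c j := hL hyx
    rw [this] at hy
    exact hn hy

theorem isOrders_map_of_injective (L : M →ₗ[K] M') (hL : Function.Injective L) {n : ℕ}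
    (J : Fin n → ℕ) : IsOrders K (fun i => L (c i)) J ↔ IsOrders K c J := by
  unfold IsOrders
  simp only [isJump_map_of_injective c L hL]

theorem isJump_one_iff : IsJump K c 1 ↔ ∀ a : K, a • c 0 ≠ c 1 := by
  rw [isJump_iff, V_succ, V_zero, bot_sup_eq, Submodule.mem_span_singleton]
  push Not
  rfl

end Jump

section First

universe u v
variable {k : Type u} {K : Type v} [Field k] [Field K] [Algebra k K]
variable {t : K} {H : K →ₐ[k] PowerSeries K}

/-- the fixed field of an endomorphism -/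
def fixedIF (τ : K →ₐ[k] K) : IntermediateField k K :=
  (AlgHom.equalizer τ (AlgHom.id k K)).toIntermediateField (fun x hx => by
    rw [AlgHom.mem_equalizer] at hx ⊢
    rw [map_inv₀, hx]
    rfl)

theorem mem_fixedIF (τ : K →ₐ[k] K) (x : K) : x ∈ fixedIF τ ↔ τ x = x := by
  change x ∈ AlgHom.equalizer τ (AlgHom.id k K) ↔ _
  rw [AlgHom.mem_equalizer]
  rfl

theorem not_isJump_one_iff {n : ℕ} (φ : Fin (n + 1) → K) (h0 : φ 0 ≠ 0)
    (hbir : IntermediateField.adjoin k (Set.range fun i => φ i / φ 0) = ⊤)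
    (τ : K →ₐ[k] K) (hH : LocRes.IsHasseFamily t H) :
    ¬ IsJump K (hcol τ H φ) 1 ↔ τ = AlgHom.id k K := by
  rw [Jump.isJump_one_iff]
  push Not
  have hc1 : hcol τ H φ 1 = φ := by
    funext i
    change LocRes.hasseD H 0 (φ i) = φ i
    exact hasseD_zero hH _
  rw [hc1, hcol_zero]
  constructor
  · rintro ⟨a, ha⟩
    have ha' : ∀ i, a * τ (φ i) = φ i := fun i => congrFun ha i
    have ha0 : a ≠ 0 := by
      rintro rfl
      have := ha' 0
      rw [zero_mul] at this
      exact h0 this.symm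
    have hτ0 : τ (φ 0) ≠ 0 := by
      intro h
      have := ha' 0
      rw [h, mul_zero] at this
      exact h0 this.symm
    have hle : IntermediateField.adjoin k (Set.range fun i => φ i / φ 0) ≤ fixedIF τ := by
      rw [IntermediateField.adjoin_le_iff]
      rintro _ ⟨i, rfl⟩
      change _ ∈ fixedIF τ
      rw [mem_fixedIF, map_div₀, div_eq_div_iff hτ0 h0]
      calc τ (φ i) * φ 0 = τ (φ i) * (a * τ (φ 0)) := by rw [ha' 0]
        _ = (a * τ (φ i)) * τ (φ 0) := by ring
        _ = φ i * τ (φ 0) := by rw [ha' i]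
    rw [hbir] at hle
    apply AlgHom.ext
    intro x
    exact (mem_fixedIF τ x).mp (hle IntermediateField.mem_top)
  · rintro rfl
    exact ⟨1, by rw [one_smul]; rfl⟩

end First

section Changes

universe u v
variable {k : Type u} {K : Type v} [Field k] [Field K] [Algebra k K]
variable {t : K} {H : K →ₐ[k] PowerSeries K}
variable {n : ℕ}

theorem wrMat_apply (τ : K →ₐ[k] K) (H : K →ₐ[k] PowerSeries K)
    (φ : Fin (n + 1) → K) (J : Fin n → ℕ) (i c : Fin (n + 1)) :
    wrMat τ H φ J i c = hcol τ H φ (Jump.eJ J c) i := by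
  refine Fin.cases ?_ (fun l => ?_) c <;> rfl

/-- linear change of coordinates -/
theorem linear_change (τ : K →ₐ[k] K) (H : K →ₐ[k] PowerSeries K) (φ : Fin (n + 1) → K)
    (A : Matrix (Fin (n + 1)) (Fin (n + 1)) k) (hA : A.det ≠ 0)
    (φ' : Fin (n + 1) → K) (hφ' : ∀ i, φ' i = ∑ j, A i j • φ j) :
    (∀ J : Fin n → ℕ, IsOrders K (hcol τ H φ') J ↔ IsOrders K (hcol τ H φ) J) ∧
    ∀ I : Fin n → ℕ, (wrMat τ H φ' I).det = algebraMap k K A.det * (wrMat τ H φ I).det := by
  obtain ⟨AK, hAK⟩ : ∃ AK : Matrix (Fin (n + 1)) (Fin (n + 1)) K,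
      AK = A.map (algebraMap k K) := ⟨_, rfl⟩
  have hAKij : ∀ i j, AK i j = algebraMap k K (A i j) := by
    intro i j
    rw [hAK]
    rfl
  have hdet : AK.det = algebraMap k K A.det := by
    rw [hAK, RingHom.map_det]
    rfl
  have hcol' : ∀ m, hcol τ H φ' m = AK.mulVecLin (hcol τ H φ m) := by
    intro m
    funext i
    rw [Matrix.mulVecLin_apply]
    change _ = ∑ j, AK i j * hcol τ H φ m j
    rcases m with _ | m
    · change τ (φ' i) = ∑ j, AK i j * τ (φ j)
      rw [hφ' i, map_sum]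
      apply Finset.sum_congr rfl
      intro j _
      rw [map_smul, Algebra.smul_def, hAKij]
    · change LocRes.hasseD H m (φ' i) = ∑ j, AK i j * LocRes.hasseD H m (φ j)
      rw [hφ' i, hasseD_sum]
      apply Finset.sum_congr rfl
      intro j _
      rw [hasseD_smul, Algebra.smul_def, hAKij]
  have hinj : Function.Injective AK.mulVecLin := by
    rw [Matrix.coe_mulVecLin, Matrix.mulVec_injective_iff_isUnit, Matrix.isUnit_iff_isUnit_det, hdet]
    apply Ne.isUnit
    intro h
    exact hA ((map_eq_zero_iff _ (algebraMap k K).injective).mp h)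
  refine ⟨fun J => ?_, fun I => ?_⟩
  · have : hcol τ H φ' = fun m => AK.mulVecLin (hcol τ H φ m) := funext hcol'
    rw [this]
    exact Jump.isOrders_map_of_injective _ _ hinj J
  · have : wrMat τ H φ' I = AK * wrMat τ H φ I := by
      ext i c
      rw [Matrix.mul_apply, wrMat_apply, hcol', Matrix.mulVecLin_apply]
      change ∑ j, AK i j * hcol τ H φ (Jump.eJ I c) j = _
      apply Finset.sum_congr rfl
      intro j _
      rw [wrMat_apply]
    rw [this, Matrix.det_mul, hdet]

/-- the diagonal coefficients for multiplication by `y` -/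
def uSmul (τ : K →ₐ[k] K) (y : K) : ℕ → K
  | 0 => τ y
  | _ + 1 => y

theorem smul_triangular (hH : LocRes.IsHasseFamily t H) (τ : K →ₐ[k] K) (φ : Fin (n + 1) → K)
    (y : K) (j : ℕ) :
    hcol τ H (y • φ) j - uSmul τ y j • hcol τ H φ j ∈ Jump.V K (hcol τ H φ) j := by
  classical
  rcases j with _ | j
  · have : hcol τ H (y • φ) 0 - uSmul τ y 0 • hcol τ H φ 0 = 0 := by
      funext i
      change τ (y • φ i) - τ y * τ (φ i) = 0
      rw [smul_eq_mul, map_mul, sub_self]
    rw [this]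
    exact Submodule.zero_mem _
  · have hexp : hcol τ H (y • φ) (j + 1) =
        ∑ p ∈ Finset.HasAntidiagonal.antidiagonal j,
          LocRes.hasseD H p.1 y • hcol τ H φ (p.2 + 1) := by
      funext i
      rw [Finset.sum_apply]
      change LocRes.hasseD H j (y • φ i) = _
      rw [smul_eq_mul, hasseD_mul]
      rfl
    have hmem : (0, j) ∈ Finset.HasAntidiagonal.antidiagonal j := by
      rw [Finset.HasAntidiagonal.mem_antidiagonal]
      simp
    rw [hexp, ← Finset.add_sum_erase _ _ hmem]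
    change LocRes.hasseD H 0 y • hcol τ H φ (j + 1) + _ - y • hcol τ H φ (j + 1) ∈ _
    rw [hasseD_zero hH, add_sub_cancel_left]
    apply Submodule.sum_mem
    intro p hp
    obtain ⟨hp1, hp2⟩ := Finset.mem_erase.mp hp
    rw [Finset.HasAntidiagonal.mem_antidiagonal] at hp2
    apply Submodule.smul_mem
    apply Jump.mem_V
    have : p.2 ≠ j := by
      intro h
      apply hp1
      have : p.1 = 0 := by omega
      exact Prod.ext this h
    omega

/-- multiplication of the tuple by a nonzero function -/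
theorem smul_change (hH : LocRes.IsHasseFamily t H) (τ : K →ₐ[k] K) (φ : Fin (n + 1) → K)
    (hφ : LinearIndependent k φ) (y : K) (hy : y ≠ 0) :
    (∀ J : Fin n → ℕ, IsOrders K (hcol τ H (y • φ)) J ↔ IsOrders K (hcol τ H φ) J) ∧
    ∀ J : Fin n → ℕ, IsOrders K (hcol τ H φ) J →
      (wrMat τ H (y • φ) J).det = τ y * y ^ n * (wrMat τ H φ J).det := by
  have hu : ∀ j, uSmul τ y j ≠ 0 := by
    intro j
    rcases j with _ | j
    · change τ y ≠ 0
      intro h
      apply hy
      apply (τ : K →+* K).injective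
      rw [map_zero]
      exact h
    · exact hy
  refine ⟨fun J => Jump.isOrders_iff_of_triangular (uSmul τ y) hu (smul_triangular hH τ φ y) J,
    fun J hJ => ?_⟩
  have h0 := hcol_zero_ne_zero hφ τ H
  rw [det_wrMat, det_wrMat, Jump.det_of_triangular (uSmul τ y) (smul_triangular hH τ φ y)
    (Jump.eJ J) (Jump.eJ_strictMono hJ.1) (Jump.isJump_eJ _ hJ h0)
    (fun j hj => Jump.exists_eJ_of_isJump _ hJ hj)]
  congr 1
  rw [Fin.prod_univ_succ]
  simp only [Jump.eJ_zero, Jump.eJ_succ]
  change τ y * ∏ _l : Fin n, y = _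
  rw [Finset.prod_const, Finset.card_univ, Fintype.card_fin]

/-- the `τ`-orders for `τ ≠ 1` -/
theorem jumps_of_ne_id (hK : IsFunctionField k K) (hg : IsGeometric k K)
    (hH : LocRes.IsHasseFamily t H) (φ : Fin (n + 1) → K) (hφ : LinearIndependent k φ)
    (h0 : φ 0 ≠ 0) (hbir : IntermediateField.adjoin k (Set.range fun i => φ i / φ 0) = ⊤)
    (τ : K →ₐ[k] K) (hτ : τ ≠ AlgHom.id k K)
    (J : Fin n → ℕ) (hJ : IsOrders K (hcol (AlgHom.id k K) H φ) J) :
    ∃ m : Fin n, ∀ j : ℕ,
      IsJump K (hcol τ H φ) (j + 1) ↔ (j = 0 ∨ ∃ l, l ≠ m ∧ J l = j) := by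
  have hd0 : dcol H φ 0 = φ := by
    funext i
    exact hasseD_zero hH _
  have hφ0 : φ ≠ 0 := fun h => h0 (congrFun h 0)
  -- the identity column enters at step 0
  have hid1 : (fun i => (AlgHom.id k K) (φ i)) ∈ Jump.V K (dcol H φ) (0 + 1) := by
    have : (fun i => (AlgHom.id k K) (φ i)) = dcol H φ 0 := hd0.symm
    rw [this]
    exact Jump.mem_V _ (Nat.lt_succ_self 0)
  have hid0 : (fun i => (AlgHom.id k K) (φ i)) ∉ Jump.V K (dcol H φ) 0 := by
    rw [Jump.V_zero, Submodule.mem_bot]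
    exact hφ0
  have hidj : ∀ j, IsJump K (hcol (AlgHom.id k K) H φ) (j + 1) ↔
      (IsJump K (dcol H φ) j ∧ j ≠ 0) := by
    intro j
    rw [hcol_eq_cons]
    exact Jump.isJump_cons_succ_iff hid1 hid0 j
  -- the `τ`-column
  have hτ0 : (fun i => τ (φ i)) ≠ 0 := hcol_zero_ne_zero hφ τ H
  have hτmem : (fun i => τ (φ i)) ∈ Submodule.span K (Set.range (dcol H φ)) := by
    rw [span_dcol_eq_top hK hg hH hφ]
    exact Submodule.mem_top
  obtain ⟨ms, hm1, hm0⟩ := Jump.exists_step hτmem hτ0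
  have hτj : ∀ j, IsJump K (hcol τ H φ) (j + 1) ↔ (IsJump K (dcol H φ) j ∧ j ≠ ms) := by
    intro j
    rw [hcol_eq_cons]
    exact Jump.isJump_cons_succ_iff hm1 hm0 j
  have hjms : IsJump K (dcol H φ) ms := Jump.isJump_of_mem_succ hm1 hm0
  have hfirst : IsJump K (hcol τ H φ) 1 := by
    by_contra h
    exact hτ ((not_isJump_one_iff φ h0 hbir τ hH).mp h)
  have h3 := (hτj 0).mp hfirst
  have hms0 : ms ≠ 0 := fun h => h3.2 h.symm
  obtain ⟨m, hm⟩ := (hJ.2 ms).mpr ((hidj ms).mpr ⟨hjms, hms0⟩)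
  refine ⟨m, fun j => ?_⟩
  rw [hτj]
  constructor
  · rintro ⟨hj, hjne⟩
    by_cases hj0 : j = 0
    · exact Or.inl hj0
    · right
      obtain ⟨l, hl⟩ := (hJ.2 j).mpr ((hidj j).mpr ⟨hj, hj0⟩)
      refine ⟨l, ?_, hl⟩
      rintro rfl
      exact hjne (hl.symm.trans hm)
  · rintro (rfl | ⟨l, hl, rfl⟩)
    · exact ⟨h3.1, fun h => hms0 h.symm⟩
    · refine ⟨((hidj (J l)).mp ((hJ.2 (J l)).mp ⟨l, rfl⟩)).1, ?_⟩
      rw [← hm]
      exact fun h => hl (hJ.1.injective h)

end Changes

end Groth.Agent.Helper9.FFExt
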