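import Mathlib
import Groth.Prelude.Def_W4bk4goldsch45p2
import Groth.Agent.Lib.Helper9.FFExt.HasseLocal
import Groth.Agent.Lib.Helper9.FFExt.Wronsk4

namespace Groth.Agent.Helper9.FFExt

open FunFld WithZero
open Groth.Agent.Lib.Helper4.FF

namespace Jump

section Semi

variable {k F : Type*} [Field k] [Field F] {ι : Type*}

/-- transport of jumps along a bijective ring homomorphism of the coefficient fields -/
theorem isJump_map_ringHom (σ : k →+* F) (hσ : Function.Bijective σ) (c : ℕ → (ι → k)) (m : ℕ) :
    IsJump F (fun j i => σ (c j i)) m ↔ IsJump k c m := by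
  have : RingHomSurjective σ := ⟨hσ.surjective⟩
  let S : (ι → k) →ₛₗ[σ] (ι → F) :=
    { toFun := fun v i => σ (v i)
      map_add' := fun v w => by
        funext i
        simp only [Pi.add_apply, map_add]
      map_smul' := fun r v => by
        funext i
        simp only [Pi.smul_apply, smul_eq_mul, map_mul] }
  have hS : Function.Injective S := by
    intro v w h
    funext i
    exact hσ.injective (congrFun h i)
  unfold IsJump
  have h1 : (fun j i => σ (c j i)) '' Set.Iio m = S '' (c '' Set.Iio m) := by
    rw [Set.image_image]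
    rfl
  rw [h1, ← Submodule.map_span]
  constructor
  · intro hn hmem
    exact hn (Submodule.mem_map_of_mem (f := S) hmem)
  · intro hn hmem
    obtain ⟨y, hy, hyx⟩ := Submodule.mem_map.mp hmem
    have : y = c m := hS hyx
    rw [this] at hy
    exact hn hy

theorem isOrders_map_ringHom (σ : k →+* F) (hσ : Function.Bijective σ) (c : ℕ → (ι → k))
    {n : ℕ} (J : Fin n → ℕ) :
    IsOrders F (fun j i => σ (c j i)) J ↔ IsOrders k c J := by
  unfold IsOrders
  simp only [isJump_map_ringHom σ hσ c]

end Semi

section Dot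

variable {k : Type*} [Field k] {ι : Type*} [Fintype ι]

/-- a column is a jump iff some linear form kills the earlier columns but not this one -/
theorem exists_dot_iff_isJump (a : ℕ → (ι → k)) (j : ℕ) :
    (∃ x : ι → k, (∀ m < j, ∑ i, x i * a m i = 0) ∧ ∑ i, x i * a j i ≠ 0) ↔ IsJump k a j := by
  classical
  constructor
  · rintro ⟨x, hx0, hxj⟩ hmem
    apply hxj
    let f : (ι → k) →ₗ[k] k :=
      { toFun := fun v => ∑ i, x i * v i
        map_add' := fun v w => by
          simp only [Pi.add_apply, mul_add, Finset.sum_add_distrib]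
        map_smul' := fun r v => by
          simp only [Pi.smul_apply, smul_eq_mul, RingHom.id_apply, Finset.mul_sum]
          apply Finset.sum_congr rfl
          intro i _
          ring }
    have hle : Submodule.span k (a '' Set.Iio j) ≤ LinearMap.ker f := by
      apply Submodule.span_le.mpr
      rintro _ ⟨m, hm, rfl⟩
      exact hx0 m hm
    exact hle hmem
  · intro hjump
    obtain ⟨f, hfv, hpf⟩ := Submodule.exists_le_ker_of_notMem hjump
    refine ⟨fun i => f (fun i' => if i = i' then 1 else 0), ?_, ?_⟩
    · intro m hm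
      have h1 : a m ∈ LinearMap.ker f := hpf (Submodule.subset_span ⟨m, hm, rfl⟩)
      rw [LinearMap.mem_ker, LinearMap.pi_apply_eq_sum_univ] at h1
      refine Eq.trans ?_ h1
      apply Finset.sum_congr rfl
      intro i _
      rw [smul_eq_mul, mul_comm]
    · rw [LinearMap.pi_apply_eq_sum_univ] at hfv
      intro h
      apply hfv
      refine Eq.trans ?_ h
      apply Finset.sum_congr rfl
      intro i _
      rw [smul_eq_mul, mul_comm]

end Dot

end Jump

section LO1

universe u v
variable {k : Type u} {K : Type v} [Field k] [Field K] [Algebra k K]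
variable {P : Place k K} {t : K} {Ht : K →ₐ[k] PowerSeries K} (E : HasseExp P t Ht)
variable {ι : Type*}

/-- the coefficient columns of the expansions of a tuple -/
noncomputable def acol (φ : ι → K) : ℕ → ι → k := fun j i => (E.ε (φ i)).coeff (j : ℤ)

include E in
theorem residue_surjective :
    Function.Surjective (algebraMap k (IsLocalRing.ResidueField P.O)) := by
  intro r
  obtain ⟨z, rfl⟩ := IsLocalRing.residue_surjective r
  have hz : P.1 (z : K) ≤ 1 := (Place.mem_O_iff P).mp z.2
  refine ⟨(E.ε (z : K)).coeff 0, ?_⟩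
  rw [← E.evalP_eq hz]
  unfold FunFld.evalP
  rw [dif_pos hz]

include E in
theorem residue_bijective :
    Function.Bijective (algebraMap k (IsLocalRing.ResidueField P.O)) :=
  ⟨(algebraMap k (IsLocalRing.ResidueField P.O)).injective, residue_surjective E⟩

theorem hcolAt_eq (φ : ι → K) (hnorm : ∀ i, P.1 (φ i) ≤ 1) :
    hcolAt P Ht φ = fun m i => algebraMap k (IsLocalRing.ResidueField P.O)
      (Jump.cons (acol E φ 0) (acol E φ) m i) := by
  funext m i
  rcases m with _ | m
  · change evalP P (φ i) = _
    rw [E.evalP_eq (hnorm i)]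
    rfl
  · change evalP P (LocRes.hasseD Ht m (φ i)) = _
    rw [E.evalP_eq (E.hasseD_le (hnorm i) m), E.coeff_zero_hasseD]
    rfl

theorem isJump_hcolAt_iff (φ : ι → K) (hnorm : ∀ i, P.1 (φ i) ≤ 1) (m : ℕ) :
    IsJump (IsLocalRing.ResidueField P.O) (hcolAt P Ht φ) m ↔
      IsJump k (Jump.cons (acol E φ 0) (acol E φ)) m := by
  rw [hcolAt_eq E φ hnorm]
  exact Jump.isJump_map_ringHom _ (residue_bijective E) _ m

theorem isOrders_hcolAt_iff (φ : ι → K) (hnorm : ∀ i, P.1 (φ i) ≤ 1) {n : ℕ} (J : Fin n → ℕ) :
    IsOrders (IsLocalRing.ResidueField P.O) (hcolAt P Ht φ) J ↔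
      IsOrders k (Jump.cons (acol E φ 0) (acol E φ)) J := by
  rw [hcolAt_eq E φ hnorm]
  exact Jump.isOrders_map_ringHom _ (residue_bijective E) _ J

variable [Fintype ι]

theorem coeff_sum_smul (φ : ι → K) (x : ι → k) (j : ℕ) :
    (E.ε (∑ i, x i • φ i)).coeff (j : ℤ) = ∑ i, x i * acol E φ j i := by
  rw [map_sum, HahnSeries.coeff_sum]
  apply Finset.sum_congr rfl
  intro i _
  rw [Algebra.smul_def, map_mul, AlgHom.commutes, LocRes.algebraMap_eq_C, HahnSeries.C_mul_eq_smul,
    HahnSeries.coeff_smul, smul_eq_mul]
  rfl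

end LO1

end Groth.Agent.Helper9.FFExt
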