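import Mathlib
import Groth.Prelude.Def_W4bk4goldsch45p2
import Groth.Agent.Lib.Helper9.FFExt.LocalOrd1
import Groth.Agent.Lib.Helper9.FFExt.LocRes1

namespace Groth.Agent.Helper9.FFExt

open FunFld WithZero
open Groth.Agent.Lib.Helper4.FF

section LO2

universe u v
variable {k : Type u} {K : Type v} [Field k] [Field K] [Algebra k K]
variable {P : Place k K} {t : K} {Ht : K →ₐ[k] PowerSeries K} (E : HasseExp P t Ht)
variable {n : ℕ} (φ : Fin (n + 1) → K)

/-- the sequence `0, J 0, …, J (n-1)` of all orders at `P` -/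
def jseq (J' : Fin n → ℕ) : Fin (n + 1) → ℕ := Fin.cases 0 J'

@[simp] theorem jseq_zero (J' : Fin n → ℕ) : jseq J' 0 = 0 := rfl
@[simp] theorem jseq_succ (J' : Fin n → ℕ) (l : Fin n) : jseq J' l.succ = J' l := rfl

theorem acol_zero_ne_zero (heff : (1 : K) ∈ Submodule.span k (Set.range φ)) :
    acol E φ 0 ≠ 0 := by
  obtain ⟨x, hx⟩ := (Submodule.mem_span_range_iff_exists_fun k).mp heff
  intro h
  have h1 := coeff_sum_smul E φ x 0
  rw [hx, map_one] at h1
  simp only [h, Pi.zero_apply, mul_zero, Finset.sum_const_zero] at h1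
  change (1 : LaurentSeries k).coeff 0 = 0 at h1
  rw [HahnSeries.coeff_one, if_pos rfl] at h1
  exact one_ne_zero h1

/-- the orders at `P` are the positive jumps of the coefficient columns -/
theorem mem_range_iff_isJump_acol (heff : (1 : K) ∈ Submodule.span k (Set.range φ))
    {J' : Fin n → ℕ} (hJ' : IsOrders k (Jump.cons (acol E φ 0) (acol E φ)) J') (j : ℕ) :
    j ∈ Set.range J' ↔ (IsJump k (acol E φ) j ∧ j ≠ 0) := by
  rw [hJ'.2 j]
  have h1 : acol E φ 0 ∈ Jump.V k (acol E φ) (0 + 1) := Jump.mem_V _ (Nat.lt_succ_self 0)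
  have h0 : acol E φ 0 ∉ Jump.V k (acol E φ) 0 := by
    rw [Jump.V_zero, Submodule.mem_bot]
    exact acol_zero_ne_zero E φ heff
  exact Jump.isJump_cons_succ_iff h1 h0 j

theorem isJump_acol_zero (heff : (1 : K) ∈ Submodule.span k (Set.range φ)) :
    IsJump k (acol E φ) 0 :=
  (Jump.isJump_zero _).mpr (acol_zero_ne_zero E φ heff)

theorem isJump_acol_jseq (heff : (1 : K) ∈ Submodule.span k (Set.range φ))
    {J' : Fin n → ℕ} (hJ' : IsOrders k (Jump.cons (acol E φ 0) (acol E φ)) J') (l : Fin (n + 1)) :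
    IsJump k (acol E φ) (jseq J' l) := by
  induction l using Fin.cases with
  | zero => exact isJump_acol_zero E φ heff
  | succ l => exact ((mem_range_iff_isJump_acol E φ heff hJ' (J' l)).mp ⟨l, rfl⟩).1

theorem jseq_strictMono (heff : (1 : K) ∈ Submodule.span k (Set.range φ))
    {J' : Fin n → ℕ} (hJ' : IsOrders k (Jump.cons (acol E φ 0) (acol E φ)) J') :
    StrictMono (jseq J') := by
  intro a b hab
  induction a using Fin.cases with
  | zero =>
    induction b using Fin.cases with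
    | zero => exact absurd hab (lt_irrefl _)
    | succ b =>
      rw [jseq_zero, jseq_succ]
      have := ((mem_range_iff_isJump_acol E φ heff hJ' (J' b)).mp ⟨b, rfl⟩).2
      omega
  | succ a =>
    induction b using Fin.cases with
    | zero => exact absurd hab (Fin.not_lt_zero _)
    | succ b =>
      rw [jseq_succ, jseq_succ]
      exact hJ'.1 (Fin.succ_lt_succ_iff.mp hab)

theorem exists_jseq_of_isJump (heff : (1 : K) ∈ Submodule.span k (Set.range φ))
    {J' : Fin n → ℕ} (hJ' : IsOrders k (Jump.cons (acol E φ 0) (acol E φ)) J') {j : ℕ}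
    (hj : IsJump k (acol E φ) j) : ∃ l, jseq J' l = j := by
  by_cases h0 : j = 0
  · exact ⟨0, h0.symm⟩
  · obtain ⟨l, hl⟩ := (mem_range_iff_isJump_acol E φ heff hJ' j).mpr ⟨hj, h0⟩
    exact ⟨l.succ, hl⟩

/-- valuation of a combination in terms of the coefficient columns -/
theorem val_sum_eq_iff (hnorm : ∀ i, P.1 (φ i) ≤ 1) (x : Fin (n + 1) → k) (j : ℕ) :
    P.1 (∑ i, x i • φ i) = exp (-(j : ℤ)) ↔
      ((∀ m < j, ∑ i, x i * acol E φ m i = 0) ∧ ∑ i, x i * acol E φ j i ≠ 0) := by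
  have hint : P.1 (∑ i, x i • φ i) ≤ 1 := by
    apply Valuation.map_sum_le
    intro i _
    rw [Algebra.smul_def, map_mul]
    exact mul_le_one' (Place.val_k_le P (x i)) (hnorm i)
  rw [← E.val, val_eq_exp_iff]
  constructor
  · rintro ⟨h1, h2⟩
    refine ⟨fun m hm => ?_, ?_⟩
    · rw [← coeff_sum_smul]
      exact h1 m (by exact_mod_cast hm)
    · rw [← coeff_sum_smul]
      exact h2
  · rintro ⟨h1, h2⟩
    refine ⟨fun m hm => ?_, ?_⟩
    · rcases lt_or_ge m 0 with hneg | hpos
      · exact E.coeff_eq_zero_of_lt hint hneg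
      · obtain ⟨m', rfl⟩ := Int.eq_ofNat_of_zero_le hpos
        rw [coeff_sum_smul]
        exact h1 m' (by exact_mod_cast hm)
    · rw [coeff_sum_smul]
      exact h2

end LO2

section LO3

universe u v
variable {k : Type u} {K : Type v} [Field k] [Field K] [Algebra k K]
variable {P : Place k K} {t : K} {Ht : K →ₐ[k] PowerSeries K} (E : HasseExp P t Ht)
variable {n : ℕ} (φ : Fin (n + 1) → K)

/-- the adapted change of basis -/
theorem exists_adapted (a : ℕ → (Fin (n + 1) → k)) (e : Fin (n + 1) → ℕ) (he : StrictMono e)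
    (hjump : ∀ l, IsJump k a (e l)) :
    ∃ X : Matrix (Fin (n + 1)) (Fin (n + 1)) k, X.det ≠ 0 ∧
      ∀ l, (∀ m < e l, ∑ i, X l i * a m i = 0) ∧ ∑ i, X l i * a (e l) i = 1 := by
  have hex : ∀ l, ∃ x : Fin (n + 1) → k,
      (∀ m < e l, ∑ i, x i * a m i = 0) ∧ ∑ i, x i * a (e l) i = 1 := by
    intro l
    obtain ⟨x, h1, h2⟩ := (Jump.exists_dot_iff_isJump a (e l)).mpr (hjump l)
    refine ⟨fun i => (∑ i, x i * a (e l) i)⁻¹ * x i, fun m hm => ?_, ?_⟩
    · simp only [mul_assoc]
      rw [← Finset.mul_sum, h1 m hm, mul_zero]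
    · simp only [mul_assoc]
      rw [← Finset.mul_sum, inv_mul_cancel₀ h2]
  choose x hx1 hx2 using hex
  refine ⟨Matrix.of x, ?_, fun l => ⟨hx1 l, hx2 l⟩⟩
  let A' : Matrix (Fin (n + 1)) (Fin (n + 1)) k := Matrix.of fun i l' => a (e l') i
  have hprod : ∀ l l', (Matrix.of x * A') l l' = ∑ i, x l i * a (e l') i := by
    intro l l'
    rw [Matrix.mul_apply]
    rfl
  have htri : (Matrix.of x * A').IsUpperTriangular := by
    intro l l' hll'
    have hlt : l' < l := hll'
    rw [hprod]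
    exact hx1 l (e l') (he hlt)
  have hdet : (Matrix.of x * A').det = 1 := by
    rw [Matrix.det_of_isUpperTriangular htri]
    apply Finset.prod_eq_one
    intro l _
    rw [hprod]
    exact hx2 l
  intro h0
  rw [Matrix.det_mul, h0, zero_mul] at hdet
  exact zero_ne_one hdet

include E in
theorem val_t : P.1 t = exp (-1 : ℤ) := by
  rw [← E.val, E.ht]
  have := (val_eq_exp_iff (HahnSeries.single (1 : ℤ) (1 : k)) 1).mpr ⟨fun m hm => by
    rw [HahnSeries.coeff_single_of_ne (ne_of_lt hm)], by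
    rw [HahnSeries.coeff_single_same]
    exact one_ne_zero⟩
  exact this

theorem evalP_div_pow {f : K} {j : ℕ} (hv : P.1 f = exp (-(j : ℤ)))
    (hc : (E.ε f).coeff (j : ℤ) = 1) : evalP P (f / t ^ j) = 1 := by
  have ht := val_t E
  have ht0 : t ≠ 0 := by
    intro h
    rw [h, map_zero] at ht
    exact exp_ne_zero ht.symm
  have hval : P.1 (f / t ^ j) = 1 := by
    rw [map_div₀, map_pow, hv, ht, ← exp_nsmul]
    have : j • (-1 : ℤ) = -(j : ℤ) := by simp
    rw [this, div_self exp_ne_zero]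
  rw [E.evalP_eq hval.le]
  have h1 : E.ε (f / t ^ j) * HahnSeries.single (j : ℤ) (1 : k) = E.ε f := by
    have : HahnSeries.single (j : ℤ) (1 : k) = E.ε (t ^ j) := by
      rw [map_pow, E.ht, HahnSeries.single_pow, one_pow]
      simp
    rw [this, ← map_mul, div_mul_cancel₀ _ (pow_ne_zero j ht0)]
  have h2 : (E.ε (f / t ^ j) * HahnSeries.single (j : ℤ) (1 : k)).coeff (0 + (j : ℤ)) =
      (E.ε (f / t ^ j)).coeff 0 * 1 := HahnSeries.coeff_mul_single_add
  rw [h1, zero_add, hc, mul_one] at h2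
  rw [← h2, map_one]

end LO3

end Groth.Agent.Helper9.FFExt
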