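import Mathlib
import Groth.Prelude.Def_W4bk4goldsch45p2
import Groth.Agent.Lib.Helper9.FFExt.LocalOrd2
import Groth.Agent.Lib.Helper4.FF.LLS

namespace Groth.Agent.Helper9.FFExt

open FunFld WithZero
open Groth.Agent.Lib.Helper4.FF

section LO4

universe u v
variable {k : Type u} {K : Type v} [Field k] [Field K] [Algebra k K]

theorem span_eq_of_matrix {n : ℕ} (φ φ' : Fin (n + 1) → K)
    (X : Matrix (Fin (n + 1)) (Fin (n + 1)) k) (hX : X.det ≠ 0)
    (hφ' : ∀ l, φ' l = ∑ i, X l i • φ i) :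
    Submodule.span k (Set.range φ') = Submodule.span k (Set.range φ) := by
  apply le_antisymm
  · apply Submodule.span_le.mpr
    rintro _ ⟨l, rfl⟩
    rw [hφ']
    apply Submodule.sum_mem
    intro i _
    exact Submodule.smul_mem _ _ (Submodule.subset_span ⟨i, rfl⟩)
  · apply Submodule.span_le.mpr
    rintro _ ⟨i, rfl⟩
    have hinv : X⁻¹ * X = 1 := Matrix.nonsing_inv_mul X (Ne.isUnit hX)
    have : φ i = ∑ l, X⁻¹ i l • φ' l := by
      simp only [hφ', Finset.smul_sum, smul_smul]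
      rw [Finset.sum_comm]
      simp only [← Finset.sum_smul]
      have h1 : ∀ j, ∑ l, X⁻¹ i l * X l j = (1 : Matrix (Fin (n + 1)) (Fin (n + 1)) k) i j := by
        intro j
        rw [← hinv, Matrix.mul_apply]
      simp only [h1, Matrix.one_apply, ite_smul, one_smul, zero_smul]
      rw [Finset.sum_ite_eq]
      simp
    rw [this]
    apply Submodule.sum_mem
    intro l _
    exact Submodule.smul_mem _ _ (Submodule.subset_span ⟨l, rfl⟩)

variable {P : Place k K} {t : K} {Ht : K →ₐ[k] PowerSeries K} (E : HasseExp P t Ht)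
variable {n : ℕ} (φ : Fin (n + 1) → K)

/-- the adapted basis at `P` -/
theorem exists_adapted_basis (heff : (1 : K) ∈ Submodule.span k (Set.range φ))
    (hnorm : ∀ i, P.1 (φ i) ≤ 1) {J' : Fin n → ℕ}
    (hJ' : IsOrders k (Jump.cons (acol E φ 0) (acol E φ)) J') :
    ∃ X : Matrix (Fin (n + 1)) (Fin (n + 1)) k, X.det ≠ 0 ∧
      ∀ l, P.1 (∑ i, X l i • φ i) = exp (-(jseq J' l : ℤ)) ∧
        (E.ε (∑ i, X l i • φ i)).coeff (jseq J' l : ℤ) = 1 := by
  obtain ⟨X, hX, hXl⟩ := exists_adapted (acol E φ) (jseq J') (jseq_strictMono E φ heff hJ')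
    (isJump_acol_jseq E φ heff hJ')
  refine ⟨X, hX, fun l => ⟨?_, ?_⟩⟩
  · rw [val_sum_eq_iff E φ hnorm]
    refine ⟨(hXl l).1, ?_⟩
    rw [(hXl l).2]
    exact one_ne_zero
  · rw [coeff_sum_smul]
    exact (hXl l).2

theorem exists_val_iff (heff : (1 : K) ∈ Submodule.span k (Set.range φ))
    (hnorm : ∀ i, P.1 (φ i) ≤ 1) {J' : Fin n → ℕ}
    (hJ' : IsOrders k (Jump.cons (acol E φ 0) (acol E φ)) J') (j : ℕ) :
    (j = 0 ∨ j ∈ Set.range J') ↔
      ∃ f ∈ Submodule.span k (Set.range φ), P.1 f = exp (-(j : ℤ)) := by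
  constructor
  · intro hj
    have hjump : IsJump k (acol E φ) j := by
      rcases hj with rfl | hj
      · exact isJump_acol_zero E φ heff
      · exact ((mem_range_iff_isJump_acol E φ heff hJ' j).mp hj).1
    obtain ⟨x, hx⟩ := (Jump.exists_dot_iff_isJump _ j).mpr hjump
    refine ⟨∑ i, x i • φ i, ?_, (val_sum_eq_iff E φ hnorm x j).mpr hx⟩
    apply Submodule.sum_mem
    intro i _
    exact Submodule.smul_mem _ _ (Submodule.subset_span ⟨i, rfl⟩)
  · rintro ⟨f, hf, hv⟩
    obtain ⟨x, rfl⟩ := (Submodule.mem_span_range_iff_exists_fun k).mp hf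
    have hjump : IsJump k (acol E φ) j :=
      (Jump.exists_dot_iff_isJump _ j).mp ⟨x, (val_sum_eq_iff E φ hnorm x j).mp hv⟩
    by_cases h0 : j = 0
    · exact Or.inl h0
    · exact Or.inr ((mem_range_iff_isJump_acol E φ heff hJ' j).mpr ⟨hjump, h0⟩)

end LO4

end Groth.Agent.Helper9.FFExt
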