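import Mathlib
import Groth.Prelude.Def_W4bk4goldsch45p2
import Groth.Agent.Lib.Helper9.FFExt.LocalOrd3
import Groth.Agent.Lib.Helper4.FF.Degree
import Groth.Agent.Lib.Helper9.FFExt.NormOrd2

namespace Groth.Agent.Helper9.FFExt

open FunFld WithZero
open Groth.Agent.Lib.Helper4.FF

section LO5

universe u v
variable {k : Type u} {K : Type v} [Field k] [Field K] [Algebra k K]
variable {P : Place k K}

theorem evalP_of_le {z : K} (hz : P.1 z ≤ 1) :
    evalP P z = IsLocalRing.residue P.O ⟨z, (Valuation.mem_valuationSubring_iff P.1 z).mpr hz⟩ := by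
  unfold FunFld.evalP
  rw [dif_pos hz]

theorem evalP_eq_zero_iff {z : K} (hz : P.1 z ≤ 1) : evalP P z = 0 ↔ P.1 z < 1 := by
  rw [evalP_of_le hz, IsLocalRing.residue_eq_zero_iff]
  exact Valuation.mem_maximalIdeal_iff _ _

theorem evalP_ne_zero_iff {z : K} (hz : P.1 z ≤ 1) : evalP P z ≠ 0 ↔ P.1 z = 1 := by
  rw [Ne, evalP_eq_zero_iff hz, not_lt]
  exact ⟨fun h => le_antisymm hz h, fun h => h.ge⟩

/-- evaluation at `P` commutes with determinants of integral matrices -/
theorem evalP_det {ι : Type*} [Fintype ι] [DecidableEq ι] (M : Matrix ι ι K)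
    (hM : ∀ i j, P.1 (M i j) ≤ 1) :
    P.1 M.det ≤ 1 ∧ evalP P M.det = (Matrix.of fun i j => evalP P (M i j)).det := by
  let MO : Matrix ι ι P.O :=
    Matrix.of fun i j => ⟨M i j, (Valuation.mem_valuationSubring_iff P.1 _).mpr (hM i j)⟩
  have h1 : M = MO.map (P.O.subtype) := by
    ext i j
    rfl
  have h2 : M.det = ((MO.det : P.O) : K) := by
    rw [h1]
    exact (RingHom.map_det P.O.subtype MO).symm
  have hle : P.1 M.det ≤ 1 := by
    rw [h2]
    exact (Valuation.mem_valuationSubring_iff P.1 _).mp MO.det.2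
  refine ⟨hle, ?_⟩
  rw [evalP_of_le hle]
  have h3 : (⟨M.det, (Valuation.mem_valuationSubring_iff P.1 _).mpr hle⟩ : P.O) = MO.det :=
    Subtype.ext h2
  rw [h3, RingHom.map_det]
  congr 1
  ext i j
  change IsLocalRing.residue P.O (MO i j) = evalP P (M i j)
  rw [evalP_of_le (hM i j)]
  rfl

end LO5

section LO6

universe u v
variable {k : Type u} {K : Type v} [Field k] [Field K] [Algebra k K]
variable {P : Place k K}

theorem ord_nonneg_of_le {z : K} (hz : P.1 z ≤ 1) : 0 ≤ P.ord z := by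
  by_cases h0 : z = 0
  · rw [h0]
    simp [FunFld.Place.ord]
  · exact (Place.ord_nonneg_iff P h0).mpr hz

theorem ord_eq_zero_of_eq_one {z : K} (hz : P.1 z = 1) : P.ord z = 0 := by
  unfold FunFld.Place.ord
  rw [hz]
  simp

/-- the divisor of a normalized tuple with a unit entry has coefficient `0` at `P` -/
theorem mapDiv_apply_eq_zero {ι : Type*} [Fintype ι] [Nonempty ι] (φ : ι → K)
    (hnorm : ∀ i, P.1 (φ i) ≤ 1) (i₀ : ι) (h1 : P.1 (φ i₀) = 1) : mapDiv k φ P = 0 := by
  classical
  unfold FunFld.mapDiv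
  split_ifs with h
  · rw [Finsupp.ofSupportFinite_coe, neg_eq_zero]
    apply le_antisymm
    · have := Finset.inf'_le (fun i => P.ord (φ i)) (Finset.mem_univ i₀)
      rwa [ord_eq_zero_of_eq_one h1] at this
    · rw [Finset.le_inf'_iff]
      intro i _
      exact ord_nonneg_of_le (hnorm i)
  · rfl

/-- the divisor of `dt` has coefficient `0` at a place where `t` is a local parameter -/
theorem divDiff_apply_eq_zero (Φ : Place k K → (K →ₐ[k] LaurentSeries k))
    (hΦ : LocRes.IsExpansionAt P.1 (Φ P)) (t : K) (ht : P.1 t = exp (-1 : ℤ)) :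
    divDiff Φ 1 t P = 0 := by
  classical
  unfold FunFld.divDiff
  split_ifs with h
  · rw [Finsupp.ofSupportFinite_coe]
    unfold LocRes.ordDiff LocRes.vDiff
    rw [map_one, one_mul]
    have h1 : Valued.v (Φ P t) = exp (-(1 : ℤ)) := by rw [hΦ.1, ht]
    rw [val_eq_exp_iff] at h1
    have h2 : Valued.v (LocRes.D k (Φ P t)) = exp (-(0 : ℤ)) := by
      rw [val_eq_exp_iff]
      refine ⟨fun m hm => ?_, ?_⟩
      · rw [LocRes.D_coeff, h1.1 (m + 1) (by omega), smul_zero]
      · rw [LocRes.D_coeff, zero_add, one_smul]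
        exact h1.2
    rw [h2]
    simp
  · rfl

end LO6

end Groth.Agent.Helper9.FFExt
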