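import Mathlib
import Groth.Prelude.Def_W4bk4goldsch45p2
import Groth.Agent.Lib.Helper9.FFExt.HasseFam

/-! # The chain rule for total Hasse derivatives (helper9) -/

namespace Groth.Agent.Helper9.FFExt

open FunFld
open Groth.Agent.Lib.Helper4.FF

section Chain

universe u v w
variable {k : Type u} {K : Type v} [Field k] [Field K] [Algebra k K]

/-- uniqueness principle: two ring homomorphisms `K → B⟦X⟧` which agree on `k`, at a separating
element `s` and modulo `X` are equal -/
theorem ringHom_powerSeries_ext (hK : IsFFw k K) (hg : IsGeometric k K) {s : K}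
    (hs : KaehlerDifferential.D k K s ≠ 0) {B : Type w} [CommRing B]
    (Φ₁ Φ₂ : K →+* PowerSeries B)
    (hk : ∀ c : k, Φ₁ (algebraMap k K c) = Φ₂ (algebraMap k K c)) (hss : Φ₁ s = Φ₂ s)
    (hcc : ∀ y, PowerSeries.constantCoeff (Φ₁ y) = PowerSeries.constantCoeff (Φ₂ y)) :
    Φ₁ = Φ₂ := by
  have hU := Groth.Agent.S12583.Aux.formallyUnramified_of_D_ne_zero hK hg hs
  have hagree : ∀ r ∈ Algebra.adjoin k ({s} : Set K), Φ₁ r = Φ₂ r := by
    intro r hr
    induction hr using Algebra.adjoin_induction with
    | mem y hy =>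
      rw [Set.mem_singleton_iff.mp hy]
      exact hss
    | algebraMap c => exact hk c
    | add y z _ _ hy hz => rw [map_add, map_add, hy, hz]
    | mul y z _ _ hy hz => rw [map_mul, map_mul, hy, hz]
  let _ : Algebra (Algebra.adjoin k ({s} : Set K)) (PowerSeries B) :=
    (Φ₁.comp (algebraMap (Algebra.adjoin k ({s} : Set K)) K)).toAlgebra
  let g₁ : K →ₐ[Algebra.adjoin k ({s} : Set K)] PowerSeries B :=
    { Φ₁ with commutes' := fun r => rfl }
  let g₂ : K →ₐ[Algebra.adjoin k ({s} : Set K)] PowerSeries B :=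
    { Φ₂ with commutes' := fun r => (hagree r.1 r.2).symm }
  have heq : g₁ = g₂ := by
    apply Algebra.FormallyUnramified.ext_of_iInf (I := Ideal.span {PowerSeries.X})
      Groth.Agent.S12583.Aux.iInf_span_X_pow
    intro y
    rw [Ideal.Quotient.eq, Ideal.mem_span_singleton, PowerSeries.X_dvd_iff, map_sub, sub_eq_zero]
    exact hcc y
  ext1 x
  exact DFunLike.congr_fun heq x

variable {s t : K} {Hs Ht : K →ₐ[k] PowerSeries K}

/-- the series `H_t(s) - s` to be substituted -/
noncomputable def chainB (Ht : K →ₐ[k] PowerSeries K) (s : K) : PowerSeries K :=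
  Ht s - PowerSeries.C s

theorem constantCoeff_chainB (hHt : LocRes.IsHasseFamily t Ht) (s : K) :
    PowerSeries.constantCoeff (chainB Ht s) = 0 := by
  unfold chainB
  rw [map_sub, hHt.2, PowerSeries.constantCoeff_C, sub_self]

theorem hasSubst_chainB (hHt : LocRes.IsHasseFamily t Ht) (s : K) :
    PowerSeries.HasSubst (chainB Ht s) :=
  PowerSeries.HasSubst.of_constantCoeff_zero' (constantCoeff_chainB hHt s)

/-- **chain rule**: `H_t = (X ↦ H_t(s) - s) ∘ H_s` -/
theorem chain_rule (hK : IsFFw k K) (hg : IsGeometric k K)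
    (hHs : LocRes.IsHasseFamily s Hs) (hHt : LocRes.IsHasseFamily t Ht) (x : K) :
    Ht x = (Hs x).subst (chainB Ht s) := by
  have hb := hasSubst_chainB hHt s
  let Φ₂ : K →+* PowerSeries K :=
    ((PowerSeries.substAlgHom hb : PowerSeries K →ₐ[K] PowerSeries K) : PowerSeries K →+* PowerSeries K).comp
      (Hs : K →+* PowerSeries K)
  have hΦ₂ : ∀ y, Φ₂ y = (Hs y).subst (chainB Ht s) := by
    intro y
    change (PowerSeries.substAlgHom hb) (Hs y) = _
    rw [PowerSeries.coe_substAlgHom]
  have key : (Ht : K →+* PowerSeries K) = Φ₂ := by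
    apply ringHom_powerSeries_ext hK hg (D_ne_zero_of_hasse hHs)
    · intro c
      rw [hΦ₂]
      change Ht (algebraMap k K c) = (Hs (algebraMap k K c)).subst (chainB Ht s)
      rw [Ht.commutes, Hs.commutes, PowerSeries.algebraMap_apply, PowerSeries.subst_C]
      rfl
    · rw [hΦ₂]
      change Ht s = (Hs s).subst (chainB Ht s)
      rw [hHs.1, PowerSeries.subst_add hb, PowerSeries.subst_C, PowerSeries.subst_X hb]
      unfold chainB
      change Ht s = PowerSeries.C s + (Ht s - PowerSeries.C s)
      ring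
    · intro y
      rw [hΦ₂]
      change PowerSeries.constantCoeff (Ht y) = _
      rw [hHt.2]
      have hdec : Hs y = PowerSeries.C y + (Hs y - PowerSeries.C y) := by ring
      rw [hdec, PowerSeries.subst_add hb, PowerSeries.subst_C, map_add]
      have h0 : PowerSeries.constantCoeff (Hs y - PowerSeries.C y) = 0 := by
        rw [map_sub, hHs.2, PowerSeries.constantCoeff_C, sub_self]
      have h1 : PowerSeries.constantCoeff
          (PowerSeries.subst (chainB Ht s) (Hs y - PowerSeries.C y)) = 0 :=
        PowerSeries.constantCoeff_subst_eq_zero (constantCoeff_chainB hHt s)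
          (Hs y - PowerSeries.C y) h0
      rw [h1, add_zero]
      exact (MvPowerSeries.constantCoeff_C y).symm
  have := DFunLike.congr_fun key x
  rw [hΦ₂] at this
  exact this

end Chain

section Chain2

universe u v w
variable {k : Type u} {K : Type v} [Field k] [Field K] [Algebra k K]
variable {s t : K} {Hs Ht : K →ₐ[k] PowerSeries K}

theorem coeff_pow_of_constantCoeff_zero {B : Type*} [CommRing B] (b : PowerSeries B)
    (hb : PowerSeries.constantCoeff b = 0) (j d : ℕ) :
    PowerSeries.coeff j (b ^ d) =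
      if d < j then PowerSeries.coeff j (b ^ d) else if d = j then (PowerSeries.coeff 1 b) ^ j
        else 0 := by
  obtain ⟨b', hb'⟩ := PowerSeries.X_dvd_iff.mpr hb
  have h1 : PowerSeries.coeff 1 b = PowerSeries.constantCoeff b' := by
    rw [hb']
    have := PowerSeries.coeff_succ_X_mul 0 b'
    rw [zero_add] at this
    rw [this, PowerSeries.coeff_zero_eq_constantCoeff_apply]
  split_ifs with h2 h3
  · rfl
  · subst h3
    rw [h1, hb', mul_pow, PowerSeries.coeff_X_pow_mul', if_pos le_rfl, Nat.sub_self,
      PowerSeries.coeff_zero_eq_constantCoeff_apply, map_pow]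
  · rw [hb', mul_pow, PowerSeries.coeff_X_pow_mul', if_neg (by omega)]

theorem coeff_one_chainB (Ht : K →ₐ[k] PowerSeries K) (s : K) :
    PowerSeries.coeff 1 (chainB Ht s) = LocRes.hasseD Ht 1 s := by
  unfold chainB
  rw [map_sub, PowerSeries.coeff_C, if_neg one_ne_zero, sub_zero]
  rfl

/-- the chain rule in coefficients -/
theorem hasseD_chain (hK : IsFFw k K) (hg : IsGeometric k K)
    (hHs : LocRes.IsHasseFamily s Hs) (hHt : LocRes.IsHasseFamily t Ht) (x : K) (j : ℕ) :
    LocRes.hasseD Ht j x =
      ∑ d ∈ Finset.range (j + 1),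
        LocRes.hasseD Hs d x * PowerSeries.coeff j (chainB Ht s ^ d) := by
  have hb := hasSubst_chainB hHt s
  rw [LocRes.hasseD_apply, chain_rule hK hg hHs hHt, PowerSeries.coeff_subst' hb]
  rw [finsum_eq_sum_of_support_subset]
  · rfl
  · intro d hd
    rw [Function.mem_support] at hd
    rw [Finset.coe_range, Set.mem_Iio]
    by_contra hlt
    apply hd
    rw [coeff_pow_of_constantCoeff_zero _ (constantCoeff_chainB hHt s) j d,
      if_neg (by omega), if_neg (by omega), smul_zero]

theorem hasseD_one_mul (hK : IsFFw k K) (hg : IsGeometric k K)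
    (hHs : LocRes.IsHasseFamily s Hs) (hHt : LocRes.IsHasseFamily t Ht) :
    LocRes.hasseD Hs 1 t * LocRes.hasseD Ht 1 s = 1 := by
  have h := hasseD_chain hK hg hHs hHt t 1
  rw [hasseD_t hHt, if_neg one_ne_zero, if_pos rfl] at h
  rw [Finset.sum_range_succ, Finset.sum_range_one, pow_zero, pow_one,
    PowerSeries.coeff_one, if_neg one_ne_zero, mul_zero, zero_add, coeff_one_chainB] at h
  exact h.symm

theorem hasseD_one_ne_zero (hK : IsFFw k K) (hg : IsGeometric k K)
    (hHs : LocRes.IsHasseFamily s Hs) (hHt : LocRes.IsHasseFamily t Ht) :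
    LocRes.hasseD Ht 1 s ≠ 0 := by
  intro h
  have := hasseD_one_mul hK hg hHs hHt
  rw [h, mul_zero] at this
  exact zero_ne_one this

end Chain2

end Groth.Agent.Helper9.FFExt
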