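import Mathlib
import Groth.Prelude.Def_W4bk4goldsch45p2
import Groth.Agent.Lib.Helper9.FFExt.HasseChain
import Groth.Agent.Lib.Helper9.FFExt.Wronsk4

namespace Groth.Agent.Helper9.FFExt

open FunFld
open Groth.Agent.Lib.Helper4.FF

section Var

universe u v
variable {k : Type u} {K : Type v} [Field k] [Field K] [Algebra k K]
variable {s t : K} {Hs Ht : K →ₐ[k] PowerSeries K}
variable {n : ℕ}

/-- the diagonal coefficients for the change of variable -/
noncomputable def uVar (Ht : K →ₐ[k] PowerSeries K) (s : K) : ℕ → K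
  | 0 => 1
  | j + 1 => LocRes.hasseD Ht 1 s ^ j

theorem var_triangular (hK : IsFFw k K) (hg : IsGeometric k K)
    (hHs : LocRes.IsHasseFamily s Hs) (hHt : LocRes.IsHasseFamily t Ht)
    (τ : K →ₐ[k] K) (φ : Fin (n + 1) → K) (j : ℕ) :
    hcol τ Ht φ j - uVar Ht s j • hcol τ Hs φ j ∈ Jump.V K (hcol τ Hs φ) j := by
  rcases j with _ | j
  · have : hcol τ Ht φ 0 - uVar Ht s 0 • hcol τ Hs φ 0 = 0 := by
      funext i
      change τ (φ i) - (1 : K) * τ (φ i) = 0
      rw [one_mul, sub_self]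
    rw [this]
    exact Submodule.zero_mem _
  · have hexp : hcol τ Ht φ (j + 1) =
        ∑ d ∈ Finset.range (j + 1),
          PowerSeries.coeff j (chainB Ht s ^ d) • hcol τ Hs φ (d + 1) := by
      funext i
      rw [Finset.sum_apply]
      change LocRes.hasseD Ht j (φ i) = _
      rw [hasseD_chain hK hg hHs hHt]
      apply Finset.sum_congr rfl
      intro d _
      rw [mul_comm]
      rfl
    rw [hexp, Finset.sum_range_succ]
    rw [coeff_pow_of_constantCoeff_zero _ (constantCoeff_chainB hHt s) j j,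
      if_neg (lt_irrefl j), if_pos rfl, coeff_one_chainB]
    change _ + LocRes.hasseD Ht 1 s ^ j • hcol τ Hs φ (j + 1) -
      LocRes.hasseD Ht 1 s ^ j • hcol τ Hs φ (j + 1) ∈ _
    rw [add_sub_cancel_right]
    apply Submodule.sum_mem
    intro d hd
    rw [Finset.mem_range] at hd
    apply Submodule.smul_mem
    apply Jump.mem_V
    omega

/-- change of the separating variable -/
theorem var_change (hK : IsFFw k K) (hg : IsGeometric k K)
    (hHs : LocRes.IsHasseFamily s Hs) (hHt : LocRes.IsHasseFamily t Ht)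
    (τ : K →ₐ[k] K) (φ : Fin (n + 1) → K) (hφ : LinearIndependent k φ) :
    (∀ J : Fin n → ℕ, IsOrders K (hcol τ Ht φ) J ↔ IsOrders K (hcol τ Hs φ) J) ∧
    ∀ J : Fin n → ℕ, IsOrders K (hcol τ Hs φ) J →
      (wrMat τ Ht φ J).det = LocRes.hasseD Ht 1 s ^ (∑ l, J l) * (wrMat τ Hs φ J).det := by
  have hne := hasseD_one_ne_zero hK hg hHs hHt
  have hu : ∀ j, uVar Ht s j ≠ 0 := by
    intro j
    rcases j with _ | j
    · exact one_ne_zero
    · exact pow_ne_zero _ hne
  refine ⟨fun J => Jump.isOrders_iff_of_triangular (uVar Ht s) hu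
    (var_triangular hK hg hHs hHt τ φ) J, fun J hJ => ?_⟩
  have h0 := hcol_zero_ne_zero hφ τ Hs
  rw [det_wrMat, det_wrMat, Jump.det_of_triangular (uVar Ht s) (var_triangular hK hg hHs hHt τ φ)
    (Jump.eJ J) (Jump.eJ_strictMono hJ.1) (Jump.isJump_eJ _ hJ h0)
    (fun j hj => Jump.exists_eJ_of_isJump _ hJ hj)]
  congr 1
  rw [Fin.prod_univ_succ]
  simp only [Jump.eJ_zero, Jump.eJ_succ]
  change 1 * ∏ l : Fin n, LocRes.hasseD Ht 1 s ^ J l = _
  rw [one_mul, Finset.prod_pow_eq_pow_sum]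

end Var

end Groth.Agent.Helper9.FFExt
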