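import Mathlib
import Groth.Prelude.Def_W4bk4goldsch45p2
import Groth.Agent.Lib.Helper9.FFExt.DiffSupport
import Groth.Agent.Lib.Helper9.FFExt.Wronsk5
import Groth.Agent.Lib.Helper9.FFExt.LocalOrd4

namespace Groth.Agent.Helper9.FFExt

open FunFld WithZero
open Groth.Agent.Lib.Helper4.FF

section MD

universe u v
variable {k : Type u} {K : Type v} [Field k] [Field K] [Algebra k K]

theorem mapDiv_apply (hK : IsFunctionField k K) {ι : Type*} [Fintype ι] [Nonempty ι]
    (ψ : ι → K) (P : Place k K) :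
    mapDiv k ψ P = -Finset.univ.inf' Finset.univ_nonempty (fun i => P.ord (ψ i)) := by
  classical
  unfold FunFld.mapDiv
  have hfin : (Function.support fun P : Place k K =>
      -Finset.univ.inf' Finset.univ_nonempty (fun i => P.ord (ψ i))).Finite := by
    apply (Set.finite_iUnion (fun i : ι => finite_support_ord hK (ψ i))).subset
    intro Q hQ
    rw [Function.mem_support] at hQ
    rw [Set.mem_iUnion]
    by_contra hcon
    push Not at hcon
    apply hQ
    have h0 : ∀ i, Q.ord (ψ i) = 0 := by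
      intro i
      have := hcon i
      rwa [Function.mem_support, not_not] at this
    simp only [h0]
    simp
  rw [dif_pos hfin]
  rfl

theorem divDiff_apply [IsAlgClosed k] (hK : IsFunctionField k K) {s : K}
    (hs : KaehlerDifferential.D k K s ≠ 0)
    (Φ : Place k K → (K →ₐ[k] LaurentSeries k))
    (hΦ : ∀ P : Place k K, LocRes.IsExpansionAt P.1 (Φ P)) (P : Place k K) :
    divDiff Φ 1 s P = LocRes.ordDiff (Φ P) 1 s := by
  classical
  unfold FunFld.divDiff
  rw [dif_pos (finite_support_ordDiff hK hs Φ hΦ)]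
  rfl

theorem inf_ord_smul {ι : Type*} [Fintype ι] [Nonempty ι] (ψ : ι → K) (hψ : ∀ i, ψ i ≠ 0)
    (y : K) (hy : y ≠ 0) (P : Place k K) :
    Finset.univ.inf' Finset.univ_nonempty (fun i => P.ord (y * ψ i)) =
      P.ord y + Finset.univ.inf' Finset.univ_nonempty (fun i => P.ord (ψ i)) := by
  simp only [Place.ord_mul P hy (hψ _)]
  apply le_antisymm
  · obtain ⟨i, -, hi⟩ := Finset.exists_mem_eq_inf' Finset.univ_nonempty (fun i => P.ord (ψ i))
    rw [hi]
    exact Finset.inf'_le _ (Finset.mem_univ i)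
  · rw [Finset.le_inf'_iff]
    intro i _
    have := Finset.inf'_le (fun i => P.ord (ψ i)) (Finset.mem_univ i)
    omega

/-- the least order of a tuple does not decrease under a `k`-linear change -/
theorem inf_ord_le_of_matrix {n : ℕ} (ψ ψ' : Fin (n + 1) → K) (hψ : ∀ i, ψ i ≠ 0)
    (hψ' : ∀ i, ψ' i ≠ 0) (A : Matrix (Fin (n + 1)) (Fin (n + 1)) k)
    (h : ∀ i, ψ' i = ∑ j, A i j • ψ j) (P : Place k K) :
    Finset.univ.inf' Finset.univ_nonempty (fun i => P.ord (ψ i)) ≤
      Finset.univ.inf' Finset.univ_nonempty (fun i => P.ord (ψ' i)) := by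
  rw [Finset.le_inf'_iff]
  intro i _
  obtain ⟨j, hj⟩ : ∃ j, P.1 (ψ' i) ≤ P.1 (ψ j) := by
    by_contra hcon
    push Not at hcon
    have hne : P.1 (ψ' i) ≠ 0 := (Valuation.ne_zero_iff _).mpr (hψ' i)
    have hlt : P.1 (∑ j, A i j • ψ j) < P.1 (ψ' i) := by
      apply Valuation.map_sum_lt _ hne
      intro j _
      rw [Algebra.smul_def, map_mul]
      calc P.1 (algebraMap k K (A i j)) * P.1 (ψ j) ≤ 1 * P.1 (ψ j) :=
            mul_le_mul_left (Place.val_k_le P _) _
        _ = P.1 (ψ j) := one_mul _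
        _ < P.1 (ψ' i) := hcon j
    rw [← h i] at hlt
    exact lt_irrefl _ hlt
  refine (Finset.inf'_le _ (Finset.mem_univ j)).trans ?_
  rw [Place.val_eq_exp_neg_ord P (hψ' i), Place.val_eq_exp_neg_ord P (hψ j), exp_le_exp] at hj
  omega

theorem ne_zero_of_matrix {n : ℕ} (ψ ψ' : Fin (n + 1) → K) (hψ : LinearIndependent k ψ)
    (A : Matrix (Fin (n + 1)) (Fin (n + 1)) k) (hA : A.det ≠ 0)
    (h : ∀ i, ψ' i = ∑ j, A i j • ψ j) : LinearIndependent k ψ' := by
  rw [Fintype.linearIndependent_iff]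
  intro c hc
  have h1 : ∑ j, (∑ i, c i * A i j) • ψ j = 0 := by
    rw [← hc]
    simp only [h, Finset.smul_sum, smul_smul, Finset.sum_smul]
    rw [Finset.sum_comm]
  have h2 := Fintype.linearIndependent_iff.mp hψ _ h1
  have h3 : Matrix.vecMul c A = 0 := by
    funext j
    exact h2 j
  have h4 := Matrix.eq_zero_of_vecMul_eq_zero hA h3
  intro i
  exact congrFun h4 i

theorem inf_ord_matrix {n : ℕ} (ψ ψ' : Fin (n + 1) → K) (hψ : LinearIndependent k ψ)
    (A : Matrix (Fin (n + 1)) (Fin (n + 1)) k) (hA : A.det ≠ 0)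
    (h : ∀ i, ψ' i = ∑ j, A i j • ψ j) (P : Place k K) :
    Finset.univ.inf' Finset.univ_nonempty (fun i => P.ord (ψ' i)) =
      Finset.univ.inf' Finset.univ_nonempty (fun i => P.ord (ψ i)) := by
  have hψ' := ne_zero_of_matrix ψ ψ' hψ A hA h
  apply le_antisymm
  · have hinv : A⁻¹ * A = 1 := Matrix.nonsing_inv_mul A (Ne.isUnit hA)
    have h' : ∀ i, ψ i = ∑ l, A⁻¹ i l • ψ' l := by
      intro i
      simp only [h, Finset.smul_sum, smul_smul]
      rw [Finset.sum_comm]
      simp only [← Finset.sum_smul]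
      have h1 : ∀ j, ∑ l, A⁻¹ i l * A l j = (1 : Matrix (Fin (n + 1)) (Fin (n + 1)) k) i j := by
        intro j
        rw [← hinv, Matrix.mul_apply]
      simp only [h1, Matrix.one_apply, ite_smul, one_smul, zero_smul]
      rw [Finset.sum_ite_eq]
      simp
    exact inf_ord_le_of_matrix ψ' ψ (fun i => hψ'.ne_zero i) (fun i => hψ.ne_zero i) A⁻¹ h' P
  · exact inf_ord_le_of_matrix ψ ψ' (fun i => hψ.ne_zero i) (fun i => hψ'.ne_zero i) A h P

variable {s t : K} {Hs Ht : K →ₐ[k] PowerSeries K}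

/-- `dt = (dt/ds) ds` -/
theorem D_eq_hasseD_smul (hK : IsFFw k K) (hg : IsGeometric k K)
    (hHs : LocRes.IsHasseFamily s Hs) (x : K) :
    KaehlerDifferential.D k K x = LocRes.hasseD Hs 1 x • KaehlerDifferential.D k K s := by
  obtain ⟨u, hu⟩ := exists_eq_smul_D_of_ne_zero hK hg (D_ne_zero_of_hasse hHs)
    (KaehlerDifferential.D k K x)
  have h1 := congrArg (hasseDer hHs).liftKaehlerDifferential hu
  rw [map_smul, Derivation.liftKaehlerDifferential_comp_D,
    Derivation.liftKaehlerDifferential_comp_D, hasseDer_apply, hasseDer_apply, hasseD_t hHs,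
    if_neg one_ne_zero, if_pos rfl, smul_eq_mul, mul_one] at h1
  rw [h1]
  exact hu


theorem det_wrMat_ne_zero' {n : ℕ}
    {φ : Fin (n + 1) → K} (hφ : LinearIndependent k φ) (τ : K →ₐ[k] K)
    (H : K →ₐ[k] PowerSeries K) {J : Fin n → ℕ} (hJ : IsOrders K (hcol τ H φ) J) :
    (wrMat τ H φ J).det ≠ 0 := by
  rw [det_wrMat]
  have hli := Jump.linearIndependent_eJ (hcol τ H φ) hJ (hcol_zero_ne_zero hφ τ H)
  have hunit : IsUnit (Matrix.of (fun r => hcol τ H φ (Jump.eJ J r))) :=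
    Matrix.linearIndependent_rows_iff_isUnit.mp hli
  exact ((Matrix.isUnit_iff_isUnit_det _).mp hunit).ne_zero

/-- a nonzero differential has a nonzero expansion -/
theorem vDiff_ne_zero_of_D_ne_zero (hK : IsFFw k K) (hg : IsGeometric k K) (P : Place k K)
    (φ : K →ₐ[k] LaurentSeries k) (hφ : LocRes.IsExpansionAt P.1 φ) {x : K}
    (hx : KaehlerDifferential.D k K x ≠ 0) : LocRes.vDiff φ 1 x ≠ 0 := by
  obtain ⟨π, hπ⟩ := hφ.2.2
  obtain ⟨u, hu⟩ := exists_eq_smul_D_of_ne_zero hK hg hx (KaehlerDifferential.D k K π)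
  have h1 := D_exp_rel φ hu
  have h2 : Valued.v (LocRes.D k (φ π)) = exp (-(0 : ℤ)) := by
    have h3 : Valued.v (φ π) = exp (-(1 : ℤ)) := by rw [hφ.1, hπ]
    rw [val_eq_exp_iff] at h3
    rw [val_eq_exp_iff]
    refine ⟨fun m hm => ?_, ?_⟩
    · rw [LocRes.D_coeff, h3.1 (m + 1) (by omega), smul_zero]
    · rw [LocRes.D_coeff, zero_add, one_smul]
      exact h3.2
  rw [vDiff_one]
  intro h0
  have h4 : LocRes.D k (φ x) = 0 := (Valuation.zero_iff _).mp h0
  rw [h1, h4, mul_zero, map_zero] at h2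
  exact exp_ne_zero h2.symm

end MD

end Groth.Agent.Helper9.FFExt
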