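import Mathlib
import Groth.Prelude.Def_W4bk4goldsch45p2
import Groth.Agent.Lib.Helper9.FFExt.MapDiv
import Groth.Agent.Lib.Helper4.FF.Degree

/-! # Binomial determinants and degree bounds for classical orders (helper9) -/

namespace Groth.Agent.Helper9.FFExt

open FunFld WithZero
open Groth.Agent.Lib.Helper4.FF
open Matrix Polynomial Finset

section Binom

theorem det_binom_int0 {n : ℕ} (J : Fin n → ℕ) :
    ((∏ i : Fin n, Nat.factorial i : ℕ) : ℤ) *
      (Matrix.of fun r s : Fin n => (((J r).choose (s : ℕ) : ℕ) : ℤ)).det =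
    ∏ i : Fin n, ∏ j ∈ Finset.Ioi i, ((J j : ℤ) - J i) := by
  have h := det_eval_matrixOfPolynomials_eq_det_vandermonde (fun i => ((J i : ℕ) : ℤ))
      (fun i : Fin n => descPochhammer ℤ i)
      (fun i => descPochhammer_natDegree ℤ i)
      (fun i => monic_descPochhammer ℤ i)
  rw [det_vandermonde] at h
  rw [h]
  have h2 := det_mul_row (fun (i : Fin n) => ((Nat.factorial (i : ℕ)) : ℤ))
    (Matrix.of fun r s : Fin n => (((J r).choose (s : ℕ) : ℕ) : ℤ))
  rw [Nat.cast_prod, ← h2]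
  congr 1
  ext r s
  rw [of_apply, of_apply, of_apply, descPochhammer_eval_eq_descFactorial ℤ _ _,
    Nat.descFactorial_eq_factorial_mul_choose]
  push_cast
  ring

theorem det_binom_int1 {n : ℕ} (J : Fin n → ℕ) :
    ((∏ i : Fin n, Nat.factorial ((i : ℕ) + 1) : ℕ) : ℤ) *
      (Matrix.of fun r s : Fin n => (((J r).choose ((s : ℕ) + 1) : ℕ) : ℤ)).det =
    (∏ r : Fin n, (J r : ℤ)) * ∏ i : Fin n, ∏ j ∈ Finset.Ioi i, ((J j : ℤ) - J i) := by
  have h := det_eval_matrixOfPolynomials_eq_det_vandermonde (fun i => ((J i : ℕ) : ℤ) - 1)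
      (fun i : Fin n => descPochhammer ℤ i)
      (fun i => descPochhammer_natDegree ℤ i)
      (fun i => monic_descPochhammer ℤ i)
  rw [det_vandermonde_sub, det_vandermonde] at h
  rw [h]
  have h2 := det_mul_row (fun (i : Fin n) => ((Nat.factorial ((i : ℕ) + 1)) : ℤ))
    (Matrix.of fun r s : Fin n => (((J r).choose ((s : ℕ) + 1) : ℕ) : ℤ))
  have h3 := det_mul_column (fun (r : Fin n) => (J r : ℤ))
    (Matrix.of fun r s : Fin n => (descPochhammer ℤ s).eval ((J r : ℤ) - 1))
  rw [Nat.cast_prod, ← h2, ← h3]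
  congr 1
  ext r s
  rw [of_apply, of_apply, of_apply, of_apply]
  have h4 : (descPochhammer ℤ ((s : ℕ) + 1)).eval (J r : ℤ) =
      (J r : ℤ) * (descPochhammer ℤ s).eval ((J r : ℤ) - 1) := by
    rw [descPochhammer_succ_left]
    simp
  rw [← h4, descPochhammer_eval_eq_descFactorial ℤ _ _,
    Nat.descFactorial_eq_factorial_mul_choose]
  push_cast
  ring

theorem intCast_ne_zero_of_lt (k : Type*) [Field k] {m : ℤ} (hm0 : 0 < m)
    (hm : ringChar k = 0 ∨ m < ringChar k) : (m : k) ≠ 0 := by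
  have := ringChar.charP k
  intro h
  rw [CharP.intCast_eq_zero_iff k (ringChar k)] at h
  rcases hm with hm | hm
  · rw [hm] at h
    simp at h
    omega
  · have := Int.le_of_dvd hm0 h
    omega

theorem vandermonde_cast_ne_zero (k : Type*) [Field k] {n : ℕ} (J : Fin n → ℕ) (hJ : StrictMono J)
    (hp : ∀ l, ringChar k = 0 ∨ J l < ringChar k) :
    ((∏ i : Fin n, ∏ j ∈ Finset.Ioi i, ((J j : ℤ) - J i) : ℤ) : k) ≠ 0 := by
  rw [Int.cast_prod]
  rw [Finset.prod_ne_zero_iff]
  intro i _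
  rw [Int.cast_prod]
  rw [Finset.prod_ne_zero_iff]
  intro j hj
  rw [Finset.mem_Ioi] at hj
  have h1 := hJ hj
  apply intCast_ne_zero_of_lt k
  · omega
  · rcases hp j with h | h
    · exact Or.inl h
    · right
      omega

theorem det_binomMat_ne_zero0 (k : Type*) [Field k] {n : ℕ} (J : Fin n → ℕ) (hJ : StrictMono J)
    (hp : ∀ l, ringChar k = 0 ∨ J l < ringChar k) :
    (binomMat k J (fun l : Fin n => (l : ℕ))).det ≠ 0 := by
  intro h
  have h1 := congrArg (Int.castRingHom k) (det_binom_int0 J)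
  rw [map_mul, RingHom.map_det] at h1
  have h2 : (Int.castRingHom k).mapMatrix
      (Matrix.of fun r s : Fin n => (((J r).choose (s : ℕ) : ℕ) : ℤ)) =
      binomMat k J (fun l : Fin n => (l : ℕ)) := by
    ext r s
    simp [binomMat]
  rw [h2, h, mul_zero] at h1
  exact vandermonde_cast_ne_zero k J hJ hp h1.symm

theorem det_binomMat_ne_zero1 (k : Type*) [Field k] {n : ℕ} (J : Fin n → ℕ) (hJ : StrictMono J)
    (hpos : ∀ l, 0 < J l)
    (hp : ∀ l, ringChar k = 0 ∨ J l < ringChar k) :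
    (binomMat k J (fun l : Fin n => (l : ℕ) + 1)).det ≠ 0 := by
  intro h
  have h1 := congrArg (Int.castRingHom k) (det_binom_int1 J)
  rw [map_mul, RingHom.map_det] at h1
  have h2 : (Int.castRingHom k).mapMatrix
      (Matrix.of fun r s : Fin n => (((J r).choose ((s : ℕ) + 1) : ℕ) : ℤ)) =
      binomMat k J (fun l : Fin n => (l : ℕ) + 1) := by
    ext r s
    simp [binomMat]
  rw [h2, h, mul_zero, map_mul] at h1
  have h3 := vandermonde_cast_ne_zero k J hJ hp
  have h4 : (Int.castRingHom k) (∏ r : Fin n, (J r : ℤ)) ≠ 0 := by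
    rw [map_prod, Finset.prod_ne_zero_iff]
    intro r _
    change ((J r : ℤ) : k) ≠ 0
    apply intCast_ne_zero_of_lt k
    · have := hpos r
      omega
    · rcases hp r with h | h
      · exact Or.inl h
      · right
        omega
  exact mul_ne_zero h4 h3 h1.symm

end Binom

section DivLemmas

universe u v
variable {k : Type u} {K : Type v} [Field k] [Field K] [Algebra k K]

theorem coeff_mul_deg_le_deg {D : Divisor k K} (hD : 0 ≤ D) (P : Place k K) :
    D P * (P.deg : ℤ) ≤ D.deg := by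
  classical
  unfold Divisor.deg Finsupp.sum
  by_cases hP : P ∈ D.support
  · exact Finset.single_le_sum (f := fun Q => D Q * (Q.deg : ℤ))
      (fun Q _ => mul_nonneg (hD Q) (Int.natCast_nonneg _)) hP
  · rw [Finsupp.notMem_support_iff] at hP
    rw [hP, zero_mul]
    exact Finset.sum_nonneg (fun Q _ => mul_nonneg (hD Q) (Int.natCast_nonneg _))

/-- the order of a `k`-linear combination is at least the least order -/
theorem inf_ord_le_of_mem_span {ι : Type*} [Fintype ι] [Nonempty ι] (ψ : ι → K)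
    (hψ : ∀ i, ψ i ≠ 0) {f : K} (hf0 : f ≠ 0)
    (hf : f ∈ Submodule.span k (Set.range ψ)) (P : Place k K) :
    Finset.univ.inf' Finset.univ_nonempty (fun i => P.ord (ψ i)) ≤ P.ord f := by
  obtain ⟨c, rfl⟩ := (Submodule.mem_span_range_iff_exists_fun k).mp hf
  obtain ⟨j, hj⟩ : ∃ j, P.1 (∑ i, c i • ψ i) ≤ P.1 (ψ j) := by
    by_contra hcon
    push Not at hcon
    have hne : P.1 (∑ i, c i • ψ i) ≠ 0 := (Valuation.ne_zero_iff _).mpr hf0
    have hlt : P.1 (∑ j, c j • ψ j) < P.1 (∑ i, c i • ψ i) := by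
      apply Valuation.map_sum_lt _ hne
      intro j _
      rw [Algebra.smul_def, map_mul]
      calc P.1 (algebraMap k K (c j)) * P.1 (ψ j) ≤ 1 * P.1 (ψ j) :=
            mul_le_mul_left (Place.val_k_le P _) _
        _ = P.1 (ψ j) := one_mul _
        _ < _ := hcon j
    exact lt_irrefl _ hlt
  refine (Finset.inf'_le _ (Finset.mem_univ j)).trans ?_
  rw [Place.val_eq_exp_neg_ord P hf0, Place.val_eq_exp_neg_ord P (hψ j), exp_le_exp] at hj
  omega

theorem div_add_mapDiv_nonneg (hK : IsFunctionField k K) {ι : Type*} [Fintype ι] [Nonempty ι]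
    (ψ : ι → K) (hψ : ∀ i, ψ i ≠ 0) {f : K} (hf0 : f ≠ 0)
    (hf : f ∈ Submodule.span k (Set.range ψ)) : 0 ≤ div k f + mapDiv k ψ := by
  intro P
  rw [Finsupp.add_apply, div_apply hK, mapDiv_apply hK]
  have := inf_ord_le_of_mem_span ψ hψ hf0 hf P
  change (0 : ℤ) ≤ _
  omega

theorem deg_mapDiv_smul (hK : IsFunctionField k K) {ι : Type*} [Fintype ι] [Nonempty ι]
    (ψ : ι → K) (hψ : ∀ i, ψ i ≠ 0) (y : K) (hy : y ≠ 0) :
    (mapDiv k (y • ψ)).deg = (mapDiv k ψ).deg := by
  have h : mapDiv k (y • ψ) = mapDiv k ψ - div k y := by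
    ext P
    rw [Finsupp.sub_apply, div_apply hK, mapDiv_apply hK, mapDiv_apply hK]
    have := inf_ord_smul ψ hψ y hy P
    change -Finset.univ.inf' Finset.univ_nonempty (fun i => P.ord (y * ψ i)) = _
    rw [this]
    ring
  rw [h, Divisor.deg_sub, deg_div hK, sub_zero]

/-- a function in the span of `ψ` has order at most `deg ψ` at a rational place where `ψ` is
normalized -/
theorem ord_le_deg_mapDiv (hK : IsFunctionField k K) {ι : Type*} [Fintype ι] [Nonempty ι]
    (ψ : ι → K) (hψ : ∀ i, ψ i ≠ 0) (heff : (1 : K) ∈ Submodule.span k (Set.range ψ))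
    {f : K} (hf0 : f ≠ 0) (hf : f ∈ Submodule.span k (Set.range ψ))
    (P : Place k K) (hdeg : P.deg = 1) : P.ord f ≤ (mapDiv k ψ).deg := by
  have h1 := coeff_mul_deg_le_deg (div_add_mapDiv_nonneg hK ψ hψ hf0 hf) P
  rw [hdeg, Divisor.deg_add, deg_div hK, Finsupp.add_apply, div_apply hK, mapDiv_apply hK] at h1
  have h2 := inf_ord_le_of_mem_span ψ hψ one_ne_zero heff P
  rw [Place.ord_one] at h2
  push_cast at h1
  omega

end DivLemmas

end Groth.Agent.Helper9.FFExt
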