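import Mathlib
import Groth.Prelude.Def_W4bk4goldsch23Ext
import Groth.Prelude.Def_LocRes
import Groth.Agent.Lib.Helper9.FFExt.Expansion1
import Groth.Agent.Lib.Helper9.FFExt.ConstExt9
import Groth.Agent.Lib.Helper9.FFExt.ConstExt4
import Groth.Agent.Lib.Helper9.FFExt.NormOrd2
import Groth.Agent.Lib.Helper9.FFExt.DiffExp2
import Groth.Agent.Lib.Helper9.Zeta.CE1

/-! Expansions at places with separable residue field, through a constant field extension
(helper9). -/

namespace Groth.Agent.Helper9.FFExt

open FunFld WithZero TensorProduct Polynomial IntermediateField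
open Groth.Agent.Lib.Helper4.FF Groth.Agent.Helper9.Zeta

section Abstract

variable {k k' K K' : Type*} [Field k] [Field k'] [Field K] [Field K']
  [Algebra k k'] [Algebra k K] [Algebra K K'] [Algebra k' K'] [Algebra k K']
  [IsScalarTower k k' K'] [IsScalarTower k K K']
  [FiniteDimensional k k'] [Algebra.IsSeparable k k']

omit [Algebra k K] [Algebra K K'] [Algebra k' K'] [Algebra k K'] [IsScalarTower k k' K']
  [IsScalarTower k K K'] [FiniteDimensional k k'] [Algebra.IsSeparable k k'] [Field K] [Field K'] in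
theorem algebraMap_LS (c : k) :
    algebraMap k' (LaurentSeries k') (algebraMap k k' c) = algebraMap k (LaurentSeries k') c := by
  rw [HahnSeries.algebraMap_apply', HahnSeries.algebraMap_apply', PowerSeries.algebraMap_apply,
    PowerSeries.algebraMap_apply, Algebra.algebraMap_self, RingHom.id_apply]

/-- closeness is preserved by sums and products of integral elements -/
theorem close_mul {v : Valuation K' ℤᵐ⁰} {x y f g : K'} (hx : v x ≤ 1) (hg : v g ≤ 1)
    (h1 : v (x - f) < 1) (h2 : v (y - g) < 1) : v (x * y - f * g) < 1 := by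
  have : x * y - f * g = x * (y - g) + g * (x - f) := by ring
  rw [this]
  refine lt_of_le_of_lt (v.map_add _ _) (max_lt ?_ ?_)
  · rw [map_mul]
    calc v x * v (y - g) ≤ 1 * v (y - g) := mul_le_mul' hx le_rfl
      _ < 1 := by rw [one_mul]; exact h2
  · rw [map_mul]
    calc v g * v (x - f) ≤ 1 * v (x - f) := mul_le_mul' hg le_rfl
      _ < 1 := by rw [one_mul]; exact h1

/-- if the constants of `k'` are congruent modulo `Q` to elements of `O_P` and conversely,
then `P` has an expansion with coefficients in `k'` -/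
theorem exists_expansion_of_constExt (h : Function.Bijective (pm k k' K K')) (hK : IsFFw k K)
    (P : Place k K) (Q : Place k K') (hQ : IsOver Q P)
    (Hc : ∀ c : k', ∃ f : K, P.1 f ≤ 1 ∧ Q.1 (algebraMap k' K' c - algebraMap K K' f) < 1)
    (Hf : ∀ f : K, P.1 f ≤ 1 → ∃ c : k', Q.1 (algebraMap K K' f - algebraMap k' K' c) < 1) :
    ∃ φ : K →ₐ[k] LaurentSeries k', LocRes.IsExpansionAt P.1 φ := by
  classical
  have hfin := finite_of_bij h
  have hkQ : ∀ (Q : Place k K') (c : k'), Q.1 (algebraMap k' K' c) ≤ 1 := fun Q c =>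
    val_le_one_of_isAlgebraic Q ((Algebra.IsAlgebraic.isAlgebraic c).algebraMap)
  obtain ⟨e, he⟩ := hQ
  have he1 : e = 1 := unramified_of_separable h hK he P.2.1 hkQ
  subst he1
  have hQ : IsOver Q P := ⟨1, he⟩
  have hns : NS k' K' P := ns_of_separable h hK P P.2.1 hkQ
  -- elements of `O_P[k']` are congruent to elements of `O_P`
  have hO : ∀ x ∈ OPk k' K' P, ∃ f : K, P.1 f ≤ 1 ∧ Q.1 (x - algebraMap K K' f) < 1 := by
    intro x hx
    induction hx using Subring.closure_induction with
    | mem x hx =>
      rcases hx with ⟨z, hz, rfl⟩ | ⟨c, rfl⟩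
      · exact ⟨z, hz, by rw [sub_self, map_zero]; exact zero_lt_one⟩
      · exact Hc c
    | zero => exact ⟨0, by rw [map_zero]; exact zero_le_one, by
        rw [map_zero, sub_self, map_zero]; exact zero_lt_one⟩
    | one => exact ⟨1, by rw [map_one], by rw [map_one, sub_self, map_zero]; exact zero_lt_one⟩
    | add x y hx hy ihx ihy =>
      obtain ⟨f, hf, hf'⟩ := ihx
      obtain ⟨g, hg, hg'⟩ := ihy
      refine ⟨f + g, (P.1.map_add _ _).trans (max_le hf hg), ?_⟩
      have : x + y - algebraMap K K' (f + g) = (x - algebraMap K K' f) + (y - algebraMap K K' g) := by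
        rw [map_add]; ring
      rw [this]
      exact lt_of_le_of_lt (Q.1.map_add _ _) (max_lt hf' hg')
    | neg x hx ihx =>
      obtain ⟨f, hf, hf'⟩ := ihx
      refine ⟨-f, by rw [Valuation.map_neg]; exact hf, ?_⟩
      have : -x - algebraMap K K' (-f) = -(x - algebraMap K K' f) := by rw [map_neg]; ring
      rw [this, Valuation.map_neg]
      exact hf'
    | mul x y hx hy ihx ihy =>
      obtain ⟨f, hf, hf'⟩ := ihx
      obtain ⟨g, hg, hg'⟩ := ihy
      refine ⟨f * g, by rw [map_mul]; exact mul_le_one' hf hg, ?_⟩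
      rw [map_mul]
      exact close_mul (OPk_le P hkQ hx hQ) ((ow_le_one_iff he g).mpr hg) hf' hg'
  -- the place over `k'`
  let Q' : Place k' K' := ⟨Q.1, hkQ Q, Q.2.2⟩
  obtain ⟨t₀, ht₀⟩ := Place.exists_uniformizer P
  have hres : ∀ z : K', Q'.1 z ≤ 1 → ∃ c : k', Q'.1 (z - algebraMap k' K' c) < 1 := by
    intro z hz
    obtain ⟨r, hr1, hr2⟩ := exists_semilocal_approx hK hQ z hz
    obtain ⟨f, hf, hf'⟩ := hO r (hns r hr1)
    obtain ⟨c, hc⟩ := Hf f hf
    refine ⟨c, ?_⟩
    have : z - algebraMap k' K' c = -(r - z) + ((r - algebraMap K K' f) +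
        (algebraMap K K' f - algebraMap k' K' c)) := by ring
    change Q.1 (z - algebraMap k' K' c) < 1
    rw [this]
    refine lt_of_le_of_lt (Q.1.map_add _ _) (max_lt (by rw [Valuation.map_neg]; exact hr2) ?_)
    exact lt_of_le_of_lt (Q.1.map_add _ _) (max_lt hf' hc)
  let R : RatData Q' := ⟨algebraMap K K' t₀, by
    change Q.1 (algebraMap K K' t₀) = _
    rw [he t₀, pow_one, ht₀], hres⟩
  let φ : K →ₐ[k] LaurentSeries k' :=
    { (R.expand : K' →+* LaurentSeries k').comp (algebraMap K K') with
      commutes' := fun c => by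
        change R.expand (algebraMap K K' (algebraMap k K c)) = _
        rw [← IsScalarTower.algebraMap_apply k K K', IsScalarTower.algebraMap_apply k k' K',
          AlgHom.commutes, algebraMap_LS] }
  refine ⟨φ, ?_, ?_, t₀, ht₀⟩
  · intro f
    change Valued.v (R.expand (algebraMap K K' f)) = _
    rw [R.val_expand]
    change Q.1 (algebraMap K K' f) = _
    rw [he f, pow_one]
  · intro c
    obtain ⟨f, hf, hf'⟩ := Hc c
    refine ⟨f, hf, ?_⟩
    change (R.expand (algebraMap K K' f)).coeff 0 = c
    have hfQ : Q'.1 (algebraMap K K' f) ≤ 1 := (ow_le_one_iff he f).mpr hf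
    rw [R.coeff_zero_expand hfQ]
    apply R.rho_unique _ hfQ
    change Q.1 (algebraMap K K' f - algebraMap k' K' c) < 1
    rw [← Valuation.map_neg, neg_sub]
    exact hf'

end Abstract

section Concrete

universe u v

/-- polynomial expressions in congruent integral elements are congruent -/
theorem aeval_close {k K' : Type*} [Field k] [Field K'] [Algebra k K'] (v : Valuation K' ℤᵐ⁰)
    (hk : ∀ c : k, v (algebraMap k K' c) ≤ 1) {r a : K'} (hr : v r ≤ 1) (ha : v a ≤ 1)
    (hra : v (r - a) < 1) (g : k[X]) :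
    v (aeval r g) ≤ 1 ∧ v (aeval a g) ≤ 1 ∧ v (aeval r g - aeval a g) < 1 := by
  induction g using Polynomial.induction_on with
  | C c =>
    rw [aeval_C, aeval_C, sub_self, map_zero]
    exact ⟨hk c, hk c, zero_lt_one⟩
  | add p q hp hq =>
    have e1 : aeval r (p + q) = aeval r p + aeval r q := map_add _ _ _
    have e2 : aeval a (p + q) = aeval a p + aeval a q := map_add _ _ _
    rw [e1, e2]
    refine ⟨(v.map_add _ _).trans (max_le hp.1 hq.1), (v.map_add _ _).trans (max_le hp.2.1 hq.2.1), ?_⟩
    have : aeval r p + aeval r q - (aeval a p + aeval a q) =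
        (aeval r p - aeval a p) + (aeval r q - aeval a q) := by ring
    rw [this]
    exact lt_of_le_of_lt (v.map_add _ _) (max_lt hp.2.2 hq.2.2)
  | monomial n c ih =>
    have e1 : aeval r (C c * X ^ (n + 1)) = aeval r (C c * X ^ n) * r := by
      rw [pow_succ, ← mul_assoc, map_mul, aeval_X]
    have e2 : aeval a (C c * X ^ (n + 1)) = aeval a (C c * X ^ n) * a := by
      rw [pow_succ, ← mul_assoc, map_mul, aeval_X]
    rw [e1, e2]
    refine ⟨by rw [map_mul]; exact mul_le_one' ih.1 hr, by rw [map_mul]; exact mul_le_one' ih.2.1 ha, ?_⟩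
    exact close_mul ih.1 ha ih.2.2 hra

attribute [local instance] Groth.Agent.Helper9.Zeta.ceAlg

/-- **expansions exist at places with separable residue field** -/
theorem exists_expansion_of_separable (k : Type u) (K : Type v) [Field k] [Field K] [Algebra k K]
    (hK : IsFunctionField k K) (P : Place k K)
    [Algebra.IsSeparable k (IsLocalRing.ResidueField P.O)] :
    ∃ (F : Type u) (_ : Field F) (_ : Algebra k F) (_ : FiniteDimensional k F)
      (φ : K →ₐ[k] LaurentSeries F), LocRes.IsExpansionAt P.1 φ := by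
  classical
  have hfinF : @Module.Finite k (IsLocalRing.ResidueField P.O) _ _ (Place.algRes P).toModule := by
    have h0 : 0 < Module.finrank k (IsLocalRing.ResidueField P.O) := Place.deg_pos hK P
    exact Module.finite_of_finrank_pos h0
  obtain ⟨α, hα⟩ := Field.exists_primitive_element k (IsLocalRing.ResidueField P.O)
  have hint : IsIntegral k α := IsIntegral.of_finite k α
  obtain ⟨μ, hμ⟩ : ∃ μ : k[X], μ = minpoly k α := ⟨_, rfl⟩
  have hmon : μ.Monic := by rw [hμ]; exact minpoly.monic hint
  have hirr : Irreducible μ := by rw [hμ]; exact minpoly.irreducible hint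
  have hirr' : Irreducible (μ.map (algebraMap k K)) := irreducible_map_of_algClosedIn hK.2 hirr hmon
  have hmon' : (μ.map (algebraMap k K)).Monic := hmon.map _
  have := Fact.mk hirr
  have := Fact.mk hirr'
  have htower := ce_tower (K := K) μ
  have hbij := ce_bijective (K := K) μ hmon
  have hfin : FiniteDimensional k (AdjoinRoot μ) := (AdjoinRoot.powerBasis hirr.ne_zero).finite
  -- separability of `k[X]/(μ)`
  have hsep : Algebra.IsSeparable k (AdjoinRoot μ) := by
    have e1 : AdjoinRoot (minpoly k α) ≃ₐ[k] k⟮α⟯ := IntermediateField.adjoinRootEquivAdjoin k hint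
    have e2 : k⟮α⟯ ≃ₐ[k] IsLocalRing.ResidueField P.O :=
      (IntermediateField.equivOfEq hα).trans IntermediateField.topEquiv
    subst hμ
    exact AlgEquiv.Algebra.isSeparable (e1.trans e2).symm
  -- notation
  obtain ⟨a, ha⟩ := IsLocalRing.residue_surjective α
  set r : AdjoinRoot (μ.map (algebraMap k K)) := AdjoinRoot.root (μ.map (algebraMap k K)) with hr
  set a' : AdjoinRoot (μ.map (algebraMap k K)) := algebraMap K _ (a : K) with ha'
  have hkQ : ∀ (Q : Place k (AdjoinRoot (μ.map (algebraMap k K)))) (c : AdjoinRoot μ),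
      Q.1 (algebraMap (AdjoinRoot μ) _ c) ≤ 1 := fun Q c =>
    val_le_one_of_isAlgebraic Q ((Algebra.IsAlgebraic.isAlgebraic c).algebraMap)
  have hmk : ∀ g : k[X], algebraMap (AdjoinRoot μ) (AdjoinRoot (μ.map (algebraMap k K)))
      (AdjoinRoot.mk μ g) = aeval r g := by
    intro g
    rw [← AdjoinRoot.aeval_eq, ← aeval_algebraMap_apply, ceAlg_root]
  have hrQ : ∀ Q : Place k (AdjoinRoot (μ.map (algebraMap k K))), Q.1 r ≤ 1 := by
    intro Q
    rw [hr, ← ceAlg_root]
    exact hkQ Q _
  -- residues of polynomial expressions in `a`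
  have hresid : ∀ (f : P.O) (g : k[X]), IsLocalRing.residue P.O f = aeval α g →
      P.1 ((f : K) - aeval (a : K) g) < 1 := by
    intro f g hfg
    have h1 : ((g.eval₂ (algebraMap k P.O) a : P.O) : K) = aeval (a : K) g := by
      have := Polynomial.hom_eval₂ g (algebraMap k P.O) P.O.subtype a
      exact this
    have h2 : IsLocalRing.residue P.O (g.eval₂ (algebraMap k P.O) a) = aeval α g := by
      have := Polynomial.hom_eval₂ g (algebraMap k P.O) (IsLocalRing.residue P.O) a
      rw [ha] at this
      exact this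
    rw [← h1]
    have h3 : IsLocalRing.residue P.O (f - g.eval₂ (algebraMap k P.O) a) = 0 := by
      rw [map_sub, hfg, h2, sub_self]
    rw [IsLocalRing.residue_eq_zero_iff, mem_maximalIdeal_iff (k := k) P] at h3
    exact h3
  have hμa : P.1 (aeval (a : K) μ) < 1 := by
    have := hresid 0 μ (by rw [map_zero, hμ, minpoly.aeval])
    rwa [ZeroMemClass.coe_zero, zero_sub, Valuation.map_neg] at this
  -- a place over `P` at which `r ≡ a`
  have hexQ : ∃ Q : Place k (AdjoinRoot (μ.map (algebraMap k K))), IsOver Q P ∧ Q.1 (r - a') < 1 := by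
    by_contra hno
    push Not at hno
    have hu : ∀ Q : Place k (AdjoinRoot (μ.map (algebraMap k K))), IsOver Q P → Q.1 (r - a') = 1 := by
      intro Q hQ
      apply le_antisymm _ (hno Q hQ)
      obtain ⟨e, he⟩ := hQ
      exact (Q.1.map_sub _ _).trans (max_le (hrQ Q) ((ow_le_one_iff he _).mpr ((Place.mem_O_iff P).mp a.2)))
    have hfinK : FiniteDimensional K (AdjoinRoot (μ.map (algebraMap k K))) := finite_of_bij hbij
    have h0 := ord_norm_unit hK.1 P (r - a') hu
    have hne : r - a' ≠ 0 := by
      obtain ⟨Q, hQ⟩ := exists_over_w (K' := AdjoinRoot (μ.map (algebraMap k K))) hK.1 P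
      rw [← Valuation.ne_zero_iff Q.1, hu Q hQ]
      exact one_ne_zero
    have hN0 : Algebra.norm K (r - a') ≠ 0 := by
      rw [Ne, Algebra.norm_eq_zero_iff]
      exact hne
    have hNv : P.1 (Algebra.norm K (r - a')) = 1 := by
      rw [Place.val_eq_exp_neg_ord P hN0, h0, neg_zero, exp_zero]
    -- but the norm is a power of `± μ(a)`
    have hrint : IsIntegral K r := IsIntegral.of_finite K r
    have hmin : minpoly K (r - a') = (μ.map (algebraMap k K)).comp (X + C (a : K)) := by
      rw [ha', minpoly.sub_algebraMap, hr, AdjoinRoot.minpoly_root hirr'.ne_zero,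
        hmon'.leadingCoeff, inv_one, C_1, mul_one]
    have hc0 : (minpoly K (r - a')).coeff 0 = aeval (a : K) μ := by
      rw [hmin, coeff_zero_eq_eval_zero, eval_comp, eval_add, eval_X, eval_C, zero_add,
        eval_map_algebraMap]
    rw [norm_eq_coeff_zero_pow, hc0, map_pow, map_mul, map_pow, Valuation.map_neg,
      Valuation.map_one, one_pow, one_mul] at hNv
    have hpos : 0 < Module.finrank (IntermediateField.adjoin K ({r - a'} : Set _))
        (AdjoinRoot (μ.map (algebraMap k K))) := Module.finrank_pos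
    have : P.1 (aeval (a : K) μ) ^ Module.finrank (IntermediateField.adjoin K ({r - a'} : Set _))
        (AdjoinRoot (μ.map (algebraMap k K))) < 1 :=
      pow_lt_one₀ zero_le hμa hpos.ne'
    rw [hNv] at this
    exact lt_irrefl _ this
  obtain ⟨Q, hQ, hQra⟩ := hexQ
  have haQ : Q.1 a' ≤ 1 := by
    obtain ⟨e, he⟩ := hQ
    exact (ow_le_one_iff he _).mpr ((Place.mem_O_iff P).mp a.2)
  have hkK' : ∀ c : k, Q.1 (algebraMap k (AdjoinRoot (μ.map (algebraMap k K))) c) ≤ 1 := Q.2.1
  have hclose := aeval_close Q.1 hkK' (hrQ Q) haQ hQra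
  have haeval : ∀ g : k[X], algebraMap K (AdjoinRoot (μ.map (algebraMap k K))) (aeval (a : K) g) =
      aeval a' g := fun g => by rw [ha', aeval_algebraMap_apply]
  obtain ⟨φ, hφ⟩ := exists_expansion_of_constExt hbij hK.1 P Q hQ
    (by
      intro c
      obtain ⟨g, rfl⟩ := AdjoinRoot.mk_surjective c
      refine ⟨aeval (a : K) g, ?_, ?_⟩
      · have := hresid (g.eval₂ (algebraMap k P.O) a) g (by
          have := Polynomial.hom_eval₂ g (algebraMap k P.O) (IsLocalRing.residue P.O) a
          rw [ha] at this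
          exact this)
        have h1 : ((g.eval₂ (algebraMap k P.O) a : P.O) : K) = aeval (a : K) g :=
          Polynomial.hom_eval₂ g (algebraMap k P.O) P.O.subtype a
        rw [← h1]
        exact (Place.mem_O_iff P).mp (g.eval₂ (algebraMap k P.O) a).2
      · rw [hmk, haeval]
        exact (hclose g).2.2)
    (by
      intro f hf
      have hmem : IsLocalRing.residue P.O ⟨f, (Place.mem_O_iff P).mpr hf⟩ ∈ (aeval α : k[X] →ₐ[k] _).range := by
        rw [← Algebra.adjoin_singleton_eq_range_aeval,
          ← IntermediateField.adjoin_simple_toSubalgebra_of_isAlgebraic hint.isAlgebraic, hα]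
        exact Algebra.mem_top
      obtain ⟨g, hg⟩ := hmem
      refine ⟨AdjoinRoot.mk μ g, ?_⟩
      rw [hmk]
      have h1 := hresid ⟨f, (Place.mem_O_iff P).mpr hf⟩ g hg.symm
      have h2 : algebraMap K (AdjoinRoot (μ.map (algebraMap k K))) f - aeval r g =
          algebraMap K _ (f - aeval (a : K) g) - (aeval r g - aeval a' g) := by
        rw [map_sub, haeval]; ring
      rw [h2]
      obtain ⟨e, he⟩ := hQ
      exact lt_of_le_of_lt (Q.1.map_sub _ _) (max_lt ((ow_lt_one_iff he _).mpr h1) (hclose g).2.2))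
  exact ⟨AdjoinRoot μ, inferInstance, inferInstance, hfin, φ, hφ⟩

end Concrete

end Groth.Agent.Helper9.FFExt
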