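import Mathlib
import Groth.Prelude.Def_W4bk4goldsch23Ext
import Groth.Agent.Lib.Helper9.Zeta.CE1

/-! Over a perfect constant field every function field is geometric (helper9). -/

namespace Groth.Agent.Helper9.FFExt

open FunFld TensorProduct Polynomial IntermediateField
open Groth.Agent.Lib.Helper4.FF Groth.Agent.Helper9.Zeta

universe u v

attribute [local instance] Groth.Agent.Helper9.Zeta.ceAlg

theorem isGeometric_of_perfect (k : Type u) (K : Type v) [Field k] [Field K] [Algebra k K]
    [PerfectField k]
    (hcl : ∀ y : K, IsAlgebraic k y → y ∈ Set.range (algebraMap k K)) : IsGeometric k K := by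
  intro k' _ _ hfin
  have hsep : Algebra.IsSeparable k k' := Algebra.IsAlgebraic.isSeparable_of_perfectField
  obtain ⟨α, hα⟩ := Field.exists_primitive_element k k'
  have hint : IsIntegral k α := IsIntegral.of_finite k α
  have hmon : (minpoly k α).Monic := minpoly.monic hint
  have hirr : Irreducible (minpoly k α) := minpoly.irreducible hint
  have hirr' : Irreducible ((minpoly k α).map (algebraMap k K)) :=
    irreducible_map_of_algClosedIn hcl hirr hmon
  have := Fact.mk hirr
  have := Fact.mk hirr'
  have htower := ce_tower (K := K) (minpoly k α)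
  have hbij := ce_bijective (K := K) (minpoly k α) hmon
  have e1 : AdjoinRoot (minpoly k α) ≃ₐ[k] k⟮α⟯ := IntermediateField.adjoinRootEquivAdjoin k hint
  have e2 : k⟮α⟯ ≃ₐ[k] k' := (IntermediateField.equivOfEq hα).trans IntermediateField.topEquiv
  have e3 : k' ⊗[k] K ≃ₐ[k] AdjoinRoot (minpoly k α) ⊗[k] K :=
    Algebra.TensorProduct.congr (e1.trans e2).symm AlgEquiv.refl
  have e4 : AdjoinRoot (minpoly k α) ⊗[k] K ≃ₐ[k] AdjoinRoot ((minpoly k α).map (algebraMap k K)) :=
    AlgEquiv.ofBijective _ hbij
  exact MulEquiv.isField (Field.toIsField _) (e3.trans e4).toMulEquiv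

end Groth.Agent.Helper9.FFExt
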