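import Mathlib
import Groth.Prelude.Def_W4bk4goldsch23FF
import Groth.Agent.Lib.Helper9.FFExt.ConstExt1

/-! The rational function field is geometric (helper9). -/

namespace Groth.Agent.Helper9.FFExt

open FunFld TensorProduct Polynomial

section GeoRat

universe u

variable (k : Type u) [Field k] (k' : Type u) [Field k'] [Algebra k k']

theorem ratFunc_map_cond :
    nonZeroDivisors k[X] ≤ (nonZeroDivisors k'[X]).comap (Polynomial.mapRingHom (algebraMap k k')) := by
  intro p hp
  rw [Submonoid.mem_comap, mem_nonZeroDivisors_iff_ne_zero]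
  have hp0 : p ≠ 0 := mem_nonZeroDivisors_iff_ne_zero.mp hp
  rw [Polynomial.coe_mapRingHom]
  exact (Polynomial.map_ne_zero_iff (algebraMap k k').injective).mpr hp0

/-- the inclusion `k(X) → k'(X)` -/
noncomputable def ratFuncMap : RatFunc k →+* RatFunc k' :=
  RatFunc.mapRingHom (Polynomial.mapRingHom (algebraMap k k')) (ratFunc_map_cond k k')

theorem ratFuncMap_algebraMap (p : k[X]) :
    ratFuncMap k k' (algebraMap k[X] (RatFunc k) p) =
      algebraMap k'[X] (RatFunc k') (p.map (algebraMap k k')) := by
  unfold ratFuncMap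
  rw [RatFunc.coe_mapRingHom_eq_coe_map]
  have h := RatFunc.map_apply_div (Polynomial.mapRingHom (algebraMap k k')) (ratFunc_map_cond k k') p 1
  rw [map_one, map_one, map_one, div_one, div_one] at h
  rw [h]
  rfl

theorem ratFuncMap_C (c : k) :
    ratFuncMap k k' (algebraMap k (RatFunc k) c) = algebraMap k' (RatFunc k') (algebraMap k k' c) := by
  rw [IsScalarTower.algebraMap_apply k k[X] (RatFunc k), ratFuncMap_algebraMap,
    IsScalarTower.algebraMap_apply k' k'[X] (RatFunc k'), Polynomial.algebraMap_apply,
    Polynomial.algebraMap_apply, Polynomial.map_C]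
  rfl

theorem li_basis {ι : Type*} [Fintype ι] (b : Module.Basis ι k k') (g : ι → RatFunc k)
    (hg : ∑ i, ratFuncMap k k' (g i) * algebraMap k' (RatFunc k') (b i) = 0) : ∀ i, g i = 0 := by
  classical
  obtain ⟨q, hq⟩ := IsLocalization.exist_integer_multiples_of_finset (nonZeroDivisors k[X])
    (Finset.univ.image g)
  have hq' : ∀ i, ∃ p : k[X], algebraMap k[X] (RatFunc k) p = algebraMap k[X] (RatFunc k) q * g i := by
    intro i
    obtain ⟨p, hp⟩ := hq (g i) (Finset.mem_image_of_mem g (Finset.mem_univ i))
    exact ⟨p, by rw [hp, Algebra.smul_def]⟩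
  choose p hp using hq'
  have hq0 : algebraMap k[X] (RatFunc k) q ≠ 0 := by
    have := mem_nonZeroDivisors_iff_ne_zero.mp q.2
    exact (map_ne_zero_iff _ (IsFractionRing.injective k[X] (RatFunc k))).mpr this
  have h1 : ∑ i, algebraMap k'[X] (RatFunc k') ((p i).map (algebraMap k k') * C (b i)) = 0 := by
    have h2 : ratFuncMap k k' (algebraMap k[X] (RatFunc k) q) *
        ∑ i, ratFuncMap k k' (g i) * algebraMap k' (RatFunc k') (b i) = 0 := by
      rw [hg, mul_zero]
    rw [Finset.mul_sum] at h2
    rw [← h2]
    refine Finset.sum_congr rfl fun i _ => ?_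
    rw [← mul_assoc, ← map_mul, ← hp i, ratFuncMap_algebraMap, map_mul,
      IsScalarTower.algebraMap_apply k' k'[X] (RatFunc k'), Polynomial.algebraMap_apply]
    rfl
  rw [← map_sum] at h1
  have h3 : ∑ i, (p i).map (algebraMap k k') * C (b i) = 0 :=
    (map_eq_zero_iff _ (IsFractionRing.injective k'[X] (RatFunc k'))).mp h1
  have h4 : ∀ i, p i = 0 := by
    intro i
    ext n
    have h5 := congrArg (fun r : k'[X] => r.coeff n) h3
    simp only [finsetSum_coeff, coeff_mul_C, coeff_map, coeff_zero] at h5
    have h6 : ∑ j, (p j).coeff n • b j = 0 := by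
      rw [← h5]
      refine Finset.sum_congr rfl fun j _ => ?_
      rw [Algebra.smul_def]
    have := Fintype.linearIndependent_iff.mp b.linearIndependent (fun j => (p j).coeff n) h6 i
    rw [this, coeff_zero]
  intro i
  have := hp i
  rw [h4 i, map_zero] at this
  exact (mul_eq_zero.mp this.symm).resolve_left hq0

theorem isGeometric_ratFunc : IsGeometric k (RatFunc k) := by
  intro k' _ _ hfin
  classical
  letI : Algebra (RatFunc k) (RatFunc k') := (ratFuncMap k k').toAlgebra
  haveI : IsScalarTower k (RatFunc k) (RatFunc k') := IsScalarTower.of_algebraMap_eq (fun c => by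
    rw [IsScalarTower.algebraMap_apply k k' (RatFunc k')]
    exact (ratFuncMap_C k k' c).symm)
  -- injectivity of the product map
  have hinj : Function.Injective (pm k k' (RatFunc k) (RatFunc k')) := by
    rw [injective_iff_map_eq_zero]
    intro t ht
    let b := Module.finBasis k k'
    obtain ⟨l, rfl⟩ := TensorProduct.eq_repr_basis_left b t
    rw [pm_sum] at ht
    have hl : ∀ i, l i = 0 := by
      apply li_basis k k' b
      rw [Finsupp.sum_fintype _ _ (fun i => by rw [zero_smul])] at ht
      rw [← ht]
      refine Finset.sum_congr rfl fun i _ => ?_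
      rw [Algebra.smul_def]
      rfl
    have : l = 0 := Finsupp.ext hl
    rw [this, Finsupp.sum_zero_index]
  haveI hdom : IsDomain (k' ⊗[k] RatFunc k) := hinj.isDomain (pm k k' (RatFunc k) (RatFunc k')).toRingHom
  -- transfer to `RatFunc k ⊗ k'`, which is finite over `RatFunc k`
  let e := Algebra.TensorProduct.comm k k' (RatFunc k)
  haveI hdom' : IsDomain (RatFunc k ⊗[k] k') := e.symm.toMulEquiv.isDomain
  have hfld : IsField (RatFunc k ⊗[k] k') :=
    isField_of_isIntegral_of_isField' (R := RatFunc k) (Field.toIsField _)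
  exact e.toMulEquiv.isField hfld

end GeoRat

end Groth.Agent.Helper9.FFExt
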