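import Mathlib
import Groth.Prelude.Def_W4bk4goldsch23FF
import Groth.Agent.Lib.Helper4.FF.Approx

/-! # Places of the rational function field (helper9) -/

namespace Groth.Agent.Helper9.FFExt

open FunFld WithZero Polynomial
open Groth.Agent.Lib.Helper4.FF

variable {k : Type*} [Field k]

theorem isFunctionField_ratFunc : IsFunctionField k (RatFunc k) := by
  refine ⟨⟨RatFunc.X, RatFunc.transcendental_X, ?_⟩, ?_⟩
  · have h1 : Module.finrank (IntermediateField.adjoin k ({RatFunc.X} : Set (RatFunc k)))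
        (RatFunc k) = 1 := by
      rw [RatFunc.adjoin_X]
      exact IntermediateField.finrank_top
    exact Module.finite_of_finrank_pos (by rw [h1]; exact Nat.one_pos)
  · intro y hy
    by_contra h
    refine RatFunc.transcendental_of_ne_C (f := y) ?_ hy
    rintro ⟨c, hc⟩
    exact h ⟨c, by rw [hc, RatFunc.algebraMap_eq_C]⟩

section Val

variable {K : Type*} [Field K] [Algebra k K] (v : Valuation K ℤᵐ⁰)
  (hv : ∀ c : k, v (algebraMap k K c) ≤ 1)

include hv

/-- at a pole of `x`, a polynomial in `x` has the valuation of its leading term -/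
lemma val_aeval_of_one_lt {x : K} (hx : 1 < v x) {p : k[X]} (hp : p ≠ 0) :
    v (aeval x p) = v x ^ p.natDegree := by
  have hx0 : v x ≠ 0 := (zero_lt_one.trans hx).ne'
  rw [aeval_eq_sum_range, Finset.sum_range_succ, add_comm]
  have hlead : v (p.coeff p.natDegree • x ^ p.natDegree) = v x ^ p.natDegree := by
    have hc : p.coeff p.natDegree ≠ 0 := by
      rw [coeff_natDegree]; exact leadingCoeff_ne_zero.mpr hp
    rw [Algebra.smul_def, map_mul, map_pow, val_algebraMap_eq_one v hv hc, one_mul]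
  have hlow : v (∑ i ∈ Finset.range p.natDegree, p.coeff i • x ^ i) < v x ^ p.natDegree := by
    apply Valuation.map_sum_lt v (pow_ne_zero _ hx0)
    intro i hi
    rw [Finset.mem_range] at hi
    rw [Algebra.smul_def, map_mul, map_pow]
    calc v (algebraMap k K (p.coeff i)) * v x ^ i ≤ 1 * v x ^ i :=
          mul_le_mul' (hv _) le_rfl
      _ = v x ^ i := one_mul _
      _ < v x ^ p.natDegree := pow_lt_pow_right₀ hx hi
  rw [Valuation.map_add_eq_of_lt_left v (by rw [hlead]; exact hlow), hlead]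

end Val

section Finite

variable (P₀ : Place k (RatFunc k))

lemma algebraMap_eq_aeval (q : k[X]) :
    algebraMap k[X] (RatFunc k) q = aeval (RatFunc.X : RatFunc k) q :=
  (RatFunc.aeval_X_left_eq_algebraMap q).symm

lemma val_poly_le_one (hX : P₀.1 RatFunc.X ≤ 1) (q : k[X]) :
    P₀.1 (algebraMap k[X] (RatFunc k) q) ≤ 1 := by
  rw [algebraMap_eq_aeval]
  exact val_aeval_le_one P₀.1 P₀.2.1 hX q

lemma algebraMap_poly_ne_zero {q : k[X]} (hq : q ≠ 0) : algebraMap k[X] (RatFunc k) q ≠ 0 :=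
  (map_ne_zero_iff _ (IsFractionRing.injective k[X] (RatFunc k))).mpr hq

/-- a place at which a nonzero polynomial vanishes is finite -/
lemma val_X_le_one_of_lt_one {p : k[X]} (hp0 : p ≠ 0)
    (hp : P₀.1 (algebraMap k[X] (RatFunc k) p) < 1) : P₀.1 RatFunc.X ≤ 1 := by
  by_contra hX
  push Not at hX
  rw [algebraMap_eq_aeval, val_aeval_of_one_lt P₀.1 P₀.2.1 hX hp0] at hp
  exact absurd hp (not_lt.mpr (one_le_pow₀ hX.le))

variable {p : k[X]} (hp : Irreducible p) (hpv : P₀.1 (algebraMap k[X] (RatFunc k) p) < 1)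

include hp hpv

lemma val_poly_eq_one_of_not_dvd {q : k[X]} (hq : ¬ p ∣ q) :
    P₀.1 (algebraMap k[X] (RatFunc k) q) = 1 := by
  have hX := val_X_le_one_of_lt_one P₀ hp.ne_zero hpv
  apply le_antisymm (val_poly_le_one P₀ hX q)
  by_contra hlt
  push Not at hlt
  obtain ⟨a, b, hab⟩ := (Irreducible.coprime_iff_not_dvd hp).mpr hq
  have h1 : algebraMap k[X] (RatFunc k) a * algebraMap k[X] (RatFunc k) p +
      algebraMap k[X] (RatFunc k) b * algebraMap k[X] (RatFunc k) q = 1 := by
    rw [← map_mul, ← map_mul, ← map_add, hab, map_one]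
  have h2 : P₀.1 (algebraMap k[X] (RatFunc k) a * algebraMap k[X] (RatFunc k) p +
      algebraMap k[X] (RatFunc k) b * algebraMap k[X] (RatFunc k) q) < 1 := by
    refine lt_of_le_of_lt (P₀.1.map_add _ _) (max_lt ?_ ?_)
    · rw [map_mul]
      exact mul_lt_one_of_nonneg_of_lt_one_right (val_poly_le_one P₀ hX a) zero_le hpv
    · rw [map_mul]
      exact mul_lt_one_of_nonneg_of_lt_one_right (val_poly_le_one P₀ hX b) zero_le hlt
  rw [h1, map_one] at h2
  exact lt_irrefl _ h2

/-- the order of a polynomial is a multiple of the order of `p` -/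
lemma ord_poly_eq_mul {q : k[X]} (hq : q ≠ 0) :
    ∃ n : ℕ, P₀.ord (algebraMap k[X] (RatFunc k) q) =
      n * P₀.ord (algebraMap k[X] (RatFunc k) p) ∧ ∃ q', ¬ p ∣ q' ∧ q = p ^ n * q' := by
  obtain ⟨n, q', hq', rfl⟩ := WfDvdMonoid.max_power_factor hq hp
  refine ⟨n, ?_, q', hq', rfl⟩
  have hq'0 : q' ≠ 0 := by
    rintro rfl
    exact hq' (dvd_zero p)
  rw [map_mul, map_pow, Place.ord_mul P₀ (pow_ne_zero _ (algebraMap_poly_ne_zero hp.ne_zero))
    (algebraMap_poly_ne_zero hq'0), Place.ord_pow]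
  have : P₀.ord (algebraMap k[X] (RatFunc k) q') = 0 := by
    unfold FunFld.Place.ord
    rw [val_poly_eq_one_of_not_dvd P₀ hp hpv hq']
    simp
  rw [this, add_zero]

/-- an irreducible polynomial is a local parameter at its place -/
theorem ord_irreducible : P₀.ord (algebraMap k[X] (RatFunc k) p) = 1 := by
  set m := P₀.ord (algebraMap k[X] (RatFunc k) p) with hm
  have hmpos : 0 < m := (Place.ord_pos_iff P₀ (algebraMap_poly_ne_zero hp.ne_zero)).mpr hpv
  -- every order is a multiple of `m`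
  have hmul : ∀ z : RatFunc k, z ≠ 0 → m ∣ P₀.ord z := by
    intro z hz
    obtain ⟨a, b, hb, rfl⟩ := IsFractionRing.div_surjective (A := k[X]) z
    have hb0 : b ≠ 0 := nonZeroDivisors.ne_zero hb
    have ha0 : a ≠ 0 := by
      rintro rfl
      simp at hz
    obtain ⟨n₁, h₁, -⟩ := ord_poly_eq_mul P₀ hp hpv ha0
    obtain ⟨n₂, h₂, -⟩ := ord_poly_eq_mul P₀ hp hpv hb0
    rw [div_eq_mul_inv, Place.ord_mul P₀ (algebraMap_poly_ne_zero ha0)
      (inv_ne_zero (algebraMap_poly_ne_zero hb0)), Place.ord_inv, h₁, h₂]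
    exact ⟨(n₁ : ℤ) - n₂, by ring⟩
  obtain ⟨t, ht⟩ := Place.exists_uniformizer P₀
  have ht0 : t ≠ 0 := by
    rintro rfl
    rw [map_zero] at ht
    exact exp_ne_zero ht.symm
  have h1 : P₀.ord t = 1 := by
    unfold FunFld.Place.ord
    rw [ht]
    simp
  have := hmul t ht0
  rw [h1] at this
  exact Int.eq_one_of_dvd_one hmpos.le this

/-- the order of a polynomial at the place of `p` -/
theorem ord_poly {q q' : k[X]} {n : ℕ} (hq' : ¬ p ∣ q') (hq : q = p ^ n * q') :
    P₀.ord (algebraMap k[X] (RatFunc k) q) = n := by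
  have hq'0 : q' ≠ 0 := by
    rintro rfl
    exact hq' (dvd_zero p)
  rw [hq, map_mul, map_pow, Place.ord_mul P₀ (pow_ne_zero _ (algebraMap_poly_ne_zero hp.ne_zero))
    (algebraMap_poly_ne_zero hq'0), Place.ord_pow, ord_irreducible P₀ hp hpv]
  have : P₀.ord (algebraMap k[X] (RatFunc k) q') = 0 := by
    unfold FunFld.Place.ord
    rw [val_poly_eq_one_of_not_dvd P₀ hp hpv hq']
    simp
  rw [this]
  ring

/-- a squarefree polynomial divisible by `p` has order one -/
theorem ord_squarefree {f : k[X]} (hf : Squarefree f) (hpf : p ∣ f) :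
    P₀.ord (algebraMap k[X] (RatFunc k) f) = 1 := by
  obtain ⟨g, rfl⟩ := hpf
  have hg : ¬ p ∣ g := by
    rintro ⟨h, rfl⟩
    have : IsUnit p := hf p ⟨h, by ring⟩
    exact hp.not_isUnit this
  have := ord_poly P₀ hp hpv (n := 1) hg (by rw [pow_one])
  simpa using this

end Finite

section Infinite

variable (Pinf : Place k (RatFunc k)) (hX : 1 < Pinf.1 RatFunc.X)

include hX

lemma val_poly_infty {q : k[X]} (hq : q ≠ 0) :
    Pinf.1 (algebraMap k[X] (RatFunc k) q) = Pinf.1 RatFunc.X ^ q.natDegree := by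
  rw [algebraMap_eq_aeval]
  exact val_aeval_of_one_lt Pinf.1 Pinf.2.1 hX hq

/-- `x` has a simple pole at the infinite place -/
theorem ord_X_infty : Pinf.ord (RatFunc.X : RatFunc k) = -1 := by
  have hX0 : (RatFunc.X : RatFunc k) ≠ 0 := RatFunc.X_ne_zero
  set m := Pinf.ord (RatFunc.X : RatFunc k) with hm
  have hmneg : m < 0 := (Place.ord_neg_iff Pinf hX0).mpr hX
  have hpoly : ∀ q : k[X], q ≠ 0 → Pinf.ord (algebraMap k[X] (RatFunc k) q) = q.natDegree * m := by
    intro q hq
    unfold FunFld.Place.ord at hm ⊢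
    rw [val_poly_infty Pinf hX hq, log_pow]
    rw [hm]
    simp
  have hmul : ∀ z : RatFunc k, z ≠ 0 → m ∣ Pinf.ord z := by
    intro z hz
    obtain ⟨a, b, hb, rfl⟩ := IsFractionRing.div_surjective (A := k[X]) z
    have hb0 : b ≠ 0 := nonZeroDivisors.ne_zero hb
    have ha0 : a ≠ 0 := by
      rintro rfl
      simp at hz
    rw [div_eq_mul_inv, Place.ord_mul Pinf (algebraMap_poly_ne_zero ha0)
      (inv_ne_zero (algebraMap_poly_ne_zero hb0)), Place.ord_inv, hpoly a ha0, hpoly b hb0]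
    exact ⟨(a.natDegree : ℤ) - b.natDegree, by ring⟩
  obtain ⟨t, ht⟩ := Place.exists_uniformizer Pinf
  have ht0 : t ≠ 0 := by
    rintro rfl
    rw [map_zero] at ht
    exact exp_ne_zero ht.symm
  have h1 : Pinf.ord t = 1 := by
    unfold FunFld.Place.ord
    rw [ht]
    simp
  have := hmul t ht0
  rw [h1] at this
  have h2 : -m ∣ 1 := (neg_dvd).mpr this
  have := Int.eq_one_of_dvd_one (by omega) h2
  omega

theorem ord_poly_infty {q : k[X]} (hq : q ≠ 0) :
    Pinf.ord (algebraMap k[X] (RatFunc k) q) = -(q.natDegree : ℤ) := by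
  have h1 := ord_X_infty Pinf hX
  unfold FunFld.Place.ord at h1 ⊢
  rw [val_poly_infty Pinf hX hq, log_pow]
  have : log (Pinf.1 (RatFunc.X : RatFunc k)) = 1 := by omega
  rw [this]
  simp

end Infinite

end Groth.Agent.Helper9.FFExt
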