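import Mathlib
import Groth.Prelude.Def_W4bk4goldsch23Ext
import Groth.Prelude.Def_LocRes
import Groth.Agent.Lib.Helper4.FF.Rational
import Groth.Agent.Lib.Helper9.FFExt.RatPlace
import Groth.Agent.Lib.Helper9.FFExt.DiffExpU

/-! The differential `dx` of the rational function field `k(x)`: order `0` at the finite places
(perfect `k`), order `-2` at the infinite place (helper9). -/

namespace Groth.Agent.Helper9.FFExt

open FunFld WithZero Polynomial
open Groth.Agent.Lib.Helper4.FF

section RatDiff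

variable {k : Type*} [Field k]

/-- the infinite place of `k(x)` -/
theorem exists_infty : ∃ Pinf : Place k (RatFunc k), Pinf.deg = 1 ∧ 1 < Pinf.1 RatFunc.X ∧
    ∀ P : Place k (RatFunc k), 1 < P.1 RatFunc.X → P = Pinf := by
  have hE := isFunctionField_ratFunc (k := k)
  obtain ⟨Pinf, hdeg, hpole⟩ := exists_place_of_adjoin_eq_top hE RatFunc.adjoin_X
  have hX0 : (RatFunc.X : RatFunc k) ≠ 0 := RatFunc.X_ne_zero
  have key : ∀ P : Place k (RatFunc k), max (-(P.ord (RatFunc.X : RatFunc k))) 0 =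
      (Finsupp.single Pinf (1 : ℤ)) P := by
    intro P
    rw [← hpole, poleDiv_apply hE]
  refine ⟨Pinf, hdeg, ?_, ?_⟩
  · have := key Pinf
    rw [Finsupp.single_eq_same] at this
    rw [← Place.ord_neg_iff Pinf hX0]
    omega
  · intro P hP
    by_contra hne
    have := key P
    rw [Finsupp.single_eq_of_ne hne] at this
    rw [← Place.ord_neg_iff P hX0] at hP
    omega

/-- a polynomial vanishing at a finite place has an irreducible factor vanishing there -/
lemma exists_irreducible_factor_lt_one' (P₀ : Place k (RatFunc k)) (hX : P₀.1 RatFunc.X ≤ 1)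
    (q : Polynomial k) :
    q ≠ 0 → P₀.1 (algebraMap (Polynomial k) (RatFunc k) q) < 1 →
      ∃ p : Polynomial k, Irreducible p ∧ p ∣ q ∧
        P₀.1 (algebraMap (Polynomial k) (RatFunc k) p) < 1 := by
  induction q using WfDvdMonoid.induction_on_irreducible with
  | zero => intro h; exact absurd rfl h
  | unit u hu =>
    intro _ hlt
    obtain ⟨c, hc, rfl⟩ := Polynomial.isUnit_iff.mp hu
    have hc0 : c ≠ 0 := hc.ne_zero
    have hCc : algebraMap (Polynomial k) (RatFunc k) (Polynomial.C c) = algebraMap k (RatFunc k) c := by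
      rw [RatFunc.algebraMap_C, RatFunc.algebraMap_eq_C]
    rw [hCc, Place.val_k P₀ hc0] at hlt
    exact absurd hlt (lt_irrefl _)
  | mul a i ha hi ih =>
    intro _ hlt
    rw [map_mul, map_mul] at hlt
    by_cases h1 : P₀.1 (algebraMap (Polynomial k) (RatFunc k) i) < 1
    · exact ⟨i, hi, dvd_mul_right i a, h1⟩
    · have h2 : P₀.1 (algebraMap (Polynomial k) (RatFunc k) i) = 1 :=
        le_antisymm (val_poly_le_one P₀ hX i) (not_lt.mp h1)
      rw [h2, one_mul] at hlt
      obtain ⟨p, hp, hpa, hpv⟩ := ih ha hlt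
      exact ⟨p, hp, hpa.mul_left i, hpv⟩

/-- every finite place of `k(x)` is the place of an irreducible polynomial -/
theorem exists_irreducible_of_finite (p : Place k (RatFunc k)) (hX : p.1 RatFunc.X ≤ 1) :
    ∃ π : k[X], Irreducible π ∧ p.1 (algebraMap k[X] (RatFunc k) π) < 1 := by
  obtain ⟨t, ht⟩ := Place.exists_uniformizer p
  have ht0 : t ≠ 0 := by
    rintro rfl
    rw [map_zero] at ht
    exact exp_ne_zero ht.symm
  have htlt : p.1 t < 1 := by
    rw [ht, ← exp_zero, exp_lt_exp]; norm_num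
  have hnum0 : t.num ≠ 0 := RatFunc.num_ne_zero ht0
  have hlt : p.1 (algebraMap k[X] (RatFunc k) t.num) < 1 := by
    have h1 : algebraMap k[X] (RatFunc k) t.num = t * algebraMap k[X] (RatFunc k) t.denom := by
      have := RatFunc.num_div_denom t
      have hd : algebraMap k[X] (RatFunc k) t.denom ≠ 0 := algebraMap_poly_ne_zero (RatFunc.denom_ne_zero t)
      field_simp at this
      rw [this, mul_comm]
    rw [h1, map_mul]
    calc p.1 t * p.1 (algebraMap k[X] (RatFunc k) t.denom) ≤ p.1 t * 1 :=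
          mul_le_mul' le_rfl (val_poly_le_one p hX _)
      _ < 1 := by rw [mul_one]; exact htlt
  obtain ⟨π, hπ, -, hπv⟩ := exists_irreducible_factor_lt_one' p hX t.num hnum0 hlt
  exact ⟨π, hπ, hπv⟩

variable {F : Type*} [Field F] [Algebra k F]

/-- `dx` has order `0` at the finite places -/
theorem val_D_X_finite [PerfectField k] (p : Place k (RatFunc k)) (hX : p.1 RatFunc.X ≤ 1)
    (φ : RatFunc k →ₐ[k] LaurentSeries F) (hφ : LocRes.IsExpansionAt p.1 φ) :
    Valued.v (LocRes.D F (φ RatFunc.X)) = 1 := by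
  obtain ⟨π, hπ, hπv⟩ := exists_irreducible_of_finite p hX
  have hord := ord_irreducible p hπ hπv
  have hπ0 := algebraMap_poly_ne_zero (k := k) hπ.ne_zero
  have hv : Valued.v (φ (algebraMap k[X] (RatFunc k) π)) = exp (-1) := by
    rw [hφ.1, Place.val_eq_exp_neg_ord p hπ0, hord]
  have h1 := val_D_of_val_exp_neg_one _ hv
  have hrel : KaehlerDifferential.D k (RatFunc k) (algebraMap k[X] (RatFunc k) π) =
      algebraMap k[X] (RatFunc k) (derivative π) • KaehlerDifferential.D k (RatFunc k) RatFunc.X := by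
    rw [algebraMap_eq_aeval, algebraMap_eq_aeval, Derivation.map_aeval]
  have h2 := D_exp_rel φ hrel
  rw [h2, map_mul, hφ.1] at h1
  have hsep : π.Separable := PerfectField.separable_of_irreducible hπ
  have hnd : ¬ π ∣ derivative π := by
    intro hd
    exact hπ.not_isUnit (hsep.isUnit_of_dvd' dvd_rfl hd)
  rw [val_poly_eq_one_of_not_dvd p hπ hπv hnd, one_mul] at h1
  exact h1

/-- `dx` has order `-2` at the infinite place -/
theorem val_D_X_infty (p : Place k (RatFunc k)) (hX : 1 < p.1 RatFunc.X)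
    (φ : RatFunc k →ₐ[k] LaurentSeries F) (hφ : LocRes.IsExpansionAt p.1 φ) :
    Valued.v (LocRes.D F (φ RatFunc.X)) = exp 2 := by
  have hord := ord_X_infty p hX
  have hX0 : (RatFunc.X : RatFunc k) ≠ 0 := RatFunc.X_ne_zero
  have hv : Valued.v (φ (RatFunc.X : RatFunc k)⁻¹) = exp (-1) := by
    rw [hφ.1, Place.val_eq_exp_neg_ord p (inv_ne_zero hX0), Place.ord_inv, hord]
    norm_num
  have h1 := val_D_of_val_exp_neg_one _ hv
  have hrel : KaehlerDifferential.D k (RatFunc k) (RatFunc.X : RatFunc k)⁻¹ =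
      (-(RatFunc.X : RatFunc k)⁻¹ ^ 2) • KaehlerDifferential.D k (RatFunc k) RatFunc.X :=
    Derivation.leibniz_inv _ _
  have h2 := D_exp_rel φ hrel
  rw [h2, map_mul, hφ.1, Valuation.map_neg, map_pow, Place.val_eq_exp_neg_ord p (inv_ne_zero hX0),
    Place.ord_inv, hord, neg_neg, ← exp_nsmul] at h1
  have h3 : (2 • (-1 : ℤ)) = -2 := by norm_num
  rw [h3] at h1
  calc Valued.v (LocRes.D F (φ RatFunc.X)) = exp 2 * (exp (-2) * Valued.v (LocRes.D F (φ RatFunc.X))) := by
        rw [← mul_assoc, ← exp_add]; norm_num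
    _ = exp 2 := by rw [h1, mul_one]

theorem ordDiff_X_finite [PerfectField k] (p : Place k (RatFunc k)) (hX : p.1 RatFunc.X ≤ 1)
    (φ : RatFunc k →ₐ[k] LaurentSeries F) (hφ : LocRes.IsExpansionAt p.1 φ) :
    LocRes.ordDiff φ 1 (RatFunc.X : RatFunc k) = 0 := by
  unfold LocRes.ordDiff
  rw [vDiff_one, val_D_X_finite p hX φ hφ]
  simp

theorem ordDiff_X_infty (p : Place k (RatFunc k)) (hX : 1 < p.1 RatFunc.X)
    (φ : RatFunc k →ₐ[k] LaurentSeries F) (hφ : LocRes.IsExpansionAt p.1 φ) :
    LocRes.ordDiff φ 1 (RatFunc.X : RatFunc k) = -2 := by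
  unfold LocRes.ordDiff
  rw [vDiff_one, val_D_X_infty p hX φ hφ, log_exp]

end RatDiff

end Groth.Agent.Helper9.FFExt
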