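import Mathlib
import Groth.Prelude.Def_W4bk4goldsch23Ext
import Groth.Prelude.Def_LocRes
import Groth.Agent.Lib.Helper9.FFExt.LocRes2

/-!
# The different exponent from the derivative of an Eisenstein-type equation (helper9)
-/

namespace Groth.Agent.Helper9.FFExt

open LaurentSeries HahnSeries WithZero Polynomial FunFld
open Groth.Agent.Lib.Helper4.FF

universe u v w

section DE1

variable {F : Type*} [Field F]

theorem val_D_le_one (g : F⸨X⸩) (h : Valued.v g ≤ 1) : Valued.v (LocRes.D F g) ≤ 1 := by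
  have h0 : (1 : ℤᵐ⁰) = exp (-(0 : ℤ)) := by simp
  rw [h0, LaurentSeries.valuation_le_iff_coeff_lt_eq_zero] at h ⊢
  intro n hn
  rw [LocRes.D_coeff]
  rcases (show n + 1 < 0 ∨ n + 1 = 0 by omega) with h1 | h1
  · rw [h _ h1, smul_zero]
  · rw [h1, zero_smul]

theorem val_D_eq_one (g : F⸨X⸩) (h : Valued.v g = exp (-1 : ℤ)) : Valued.v (LocRes.D F g) = 1 := by
  have h0 : (1 : ℤᵐ⁰) = exp (-(0 : ℤ)) := by simp
  rw [val_eq_exp_iff] at h
  rw [h0, val_eq_exp_iff]
  obtain ⟨h1, h2⟩ := h
  refine ⟨fun n hn => ?_, ?_⟩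
  · rw [LocRes.D_coeff]
    rcases (show n + 1 < 0 ∨ n + 1 = 0 by omega) with h3 | h3
    · rw [h1 _ (by omega), smul_zero]
    · rw [h3, zero_smul]
  · rw [LocRes.D_coeff]
    simpa using h2

end DE1

theorem leibniz_pow' {L : Type*} [CommRing L] (d : L →+ L)
    (hmul : ∀ a b, d (a * b) = a * d b + b * d a) (a : L) (n : ℕ) :
    d (a ^ n) = n * a ^ (n - 1) * d a := by
  have h1 : d 1 = 0 := by
    have := hmul 1 1
    simp only [mul_one, one_mul] at this
    have h2 : d 1 + d 1 = d 1 + 0 := by rw [add_zero]; exact this.symm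
    exact add_left_cancel h2
  induction n with
  | zero => simp [h1]
  | succ n ih =>
    rw [pow_succ, hmul, ih]
    rcases n with _ | n
    · simp
    · simp only [Nat.add_sub_cancel, Nat.cast_add, Nat.cast_one]
      ring

/-- derivative of a polynomial expression under a ring hom followed by a derivation -/
theorem D_map_aeval {K K' L : Type*} [CommRing K] [CommRing K'] [Algebra K K'] [CommRing L]
    (ψ : K' →+* L) (d : L →+ L) (hmul : ∀ a b, d (a * b) = a * d b + b * d a) (s : K') (f : K[X]) :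
    d (ψ (aeval s f)) = f.sum (fun i a => d (ψ (algebraMap K K' a)) * ψ s ^ i) +
      ψ (aeval s (derivative f)) * d (ψ s) := by
  induction f using Polynomial.induction_on' with
  | add p q hp hq =>
    rw [map_add, map_add, map_add, hp, hq, derivative_add, map_add, map_add, add_mul,
      Polynomial.sum_add_index]
    · ring
    · intro i; simp
    · intro i a b; simp [add_mul]
  | monomial n a =>
    rw [Polynomial.sum_monomial_index _ _ (by simp), aeval_monomial, map_mul, map_pow,
      hmul, leibniz_pow' d hmul, derivative_monomial, aeval_monomial]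
    simp only [map_mul, map_pow, map_natCast]
    ring

/-- **different exponent from the derivative of an Eisenstein-type equation** -/
theorem ord_aeval_derivative_eq_diffExp {k : Type u} {K K' : Type v} [Field k] [Field K] [Field K']
    [Algebra k K] [Algebra K K'] [Algebra k K'] [IsScalarTower k K K']
    (hK : IsFFw k K) (hg : IsGeometric k K)
    {F F' : Type w} [Field F] [Algebra k F] [Field F'] [Algebra k F']
    (P : Place k K) (Q : Place k K') (e : ℕ) (he : IsOverWith Q P e)
    (φ : K →ₐ[k] LaurentSeries F) (hφ : ∀ f : K, Valued.v (φ f) = P.1 f)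
    (ψ : K' →ₐ[k] LaurentSeries F') (hψ : ∀ f : K', Valued.v (ψ f) = Q.1 f)
    (x : K) (hx : LocRes.vDiff φ 1 x ≠ 0) (hx' : LocRes.vDiff ψ 1 (algebraMap K K' x) ≠ 0)
    (s : K') (hs : Q.1 s = exp (-1 : ℤ)) (f : K[X]) (hf0 : aeval s f = 0)
    (hint : ∀ i, P.1 (f.coeff i) ≤ 1) (h0 : P.1 (f.coeff 0) = exp (-1 : ℤ)) :
    Q.ord (aeval s (derivative f)) = LocRes.diffExp φ ψ e x := by
  classical
  have hDx : KaehlerDifferential.D k K x ≠ 0 := D_ne_zero_of_vDiff φ hx
  choose U hU using fun i : ℕ => exists_eq_smul_D_of_ne_zero hK hg hDx (KaehlerDifferential.D k K (f.coeff i))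
  -- relations through φ and ψ
  have hφU : ∀ i, LocRes.D F (φ (f.coeff i)) = φ (U i) * LocRes.D F (φ x) := fun i =>
    D_exp_rel φ (hU i)
  have hψU : ∀ i, LocRes.D F' (ψ (algebraMap K K' (f.coeff i))) =
      ψ (algebraMap K K' (U i)) * LocRes.D F' (ψ (algebraMap K K' x)) := fun i =>
    D_exp_rel (ψ.comp (IsScalarTower.toAlgHom k K K')) (hU i)
  rw [vDiff_one] at hx hx'
  -- δ_P, δ_Q
  obtain ⟨δP, hδP⟩ : ∃ m : ℤ, Valued.v (LocRes.D F (φ x)) = exp m := ⟨_, (exp_log hx).symm⟩
  obtain ⟨δQ, hδQ⟩ : ∃ m : ℤ, Valued.v (LocRes.D F' (ψ (algebraMap K K' x))) = exp m :=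
    ⟨_, (exp_log hx').symm⟩
  -- valuations of U i
  have hUle : ∀ i, P.1 (U i) ≤ exp (-δP) := by
    intro i
    have h1 := congrArg Valued.v (hφU i)
    rw [map_mul, hφ, hδP] at h1
    have h2 : Valued.v (LocRes.D F (φ (f.coeff i))) ≤ 1 :=
      val_D_le_one _ (by rw [hφ]; exact hint i)
    rw [h1] at h2
    calc P.1 (U i) = P.1 (U i) * exp δP * exp (-δP) := by
          rw [mul_assoc, ← exp_add, add_neg_cancel, exp_zero, mul_one]
      _ ≤ 1 * exp (-δP) := by gcongr
      _ = exp (-δP) := one_mul _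
  have hU0 : P.1 (U 0) = exp (-δP) := by
    have h1 := congrArg Valued.v (hφU 0)
    rw [map_mul, hφ, hδP] at h1
    have h2 : Valued.v (LocRes.D F (φ (f.coeff 0))) = 1 :=
      val_D_eq_one _ (by rw [hφ]; exact h0)
    rw [h2] at h1
    calc P.1 (U 0) = P.1 (U 0) * exp δP * exp (-δP) := by
          rw [mul_assoc, ← exp_add, add_neg_cancel, exp_zero, mul_one]
      _ = exp (-δP) := by rw [← h1, one_mul]
  -- the sum `∑ u_i s^i`
  obtain ⟨E, hE⟩ : ∃ E : ℤᵐ⁰, E = exp (-((e : ℤ) * δP)) := ⟨_, rfl⟩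
  have hE0 : E ≠ 0 := by rw [hE]; exact exp_ne_zero
  have hEpow : (exp (-δP) : ℤᵐ⁰) ^ e = E := by
    rw [hE, ← exp_nsmul]; congr 1; simp
  have hterm : ∀ i, Q.1 (algebraMap K K' (U i) * s ^ i) ≤ E * exp (-(i : ℤ)) := by
    intro i
    rw [map_mul, map_pow, he, hs, ← hEpow, ← exp_nsmul]
    have h1 : (i • (-1 : ℤ)) = -(i : ℤ) := by simp
    rw [h1]
    gcongr
    exact hUle i
  have hterm0 : Q.1 (algebraMap K K' (U 0) * s ^ 0) = E := by
    rw [pow_zero, mul_one, he, hU0, hEpow]
  have h0supp : 0 ∈ f.support := by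
    rw [mem_support_iff]
    intro h
    rw [h, map_zero] at h0
    exact exp_ne_zero h0.symm
  obtain ⟨S, hS⟩ : ∃ S : K', S = ∑ i ∈ f.support, algebraMap K K' (U i) * s ^ i := ⟨_, rfl⟩
  have hSval : Q.1 S = E := by
    rw [hS, ← Finset.add_sum_erase _ _ h0supp, add_comm]
    have hlt : Q.1 (∑ i ∈ f.support.erase 0, algebraMap K K' (U i) * s ^ i) < E := by
      apply Valuation.map_sum_lt _ hE0
      intro i hi
      have hi0 : i ≠ 0 := (Finset.mem_erase.mp hi).1
      refine lt_of_le_of_lt (hterm i) ?_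
      calc E * exp (-(i : ℤ)) < E * 1 := by
            apply mul_lt_mul_of_pos_left _ (pos_iff_ne_zero.mpr hE0)
            rw [← exp_zero, exp_lt_exp]
            have : 0 < i := Nat.pos_of_ne_zero hi0
            omega
        _ = E := mul_one _
    rw [← hterm0] at hlt ⊢
    exact Valuation.map_add_eq_of_lt_right _ hlt
  -- the identity
  have hid := D_map_aeval (ψ : K' →+* LaurentSeries F')
    ({ toFun := fun g => LocRes.D F' g
       map_zero' := map_zero _
       map_add' := map_add _ } : LaurentSeries F' →+ LaurentSeries F')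
    (fun a b => by
      change LocRes.D F' (a * b) = a * LocRes.D F' b + b * LocRes.D F' a
      rw [Derivation.leibniz]; rfl) s f
  simp only [AddMonoidHom.coe_mk, ZeroHom.coe_mk] at hid
  rw [hf0, map_zero, map_zero, Polynomial.sum_def] at hid
  have hsum : ∑ i ∈ f.support, LocRes.D F' ((ψ : K' →+* LaurentSeries F') (algebraMap K K' (f.coeff i))) *
      (ψ : K' →+* LaurentSeries F') s ^ i = LocRes.D F' (ψ (algebraMap K K' x)) * ψ S := by
    rw [hS, map_sum, Finset.mul_sum]
    refine Finset.sum_congr rfl fun i _ => ?_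
    rw [RingHom.coe_coe, hψU i, map_mul, map_pow]
    ring
  rw [hsum] at hid
  have hid2 : ψ (aeval s (derivative f)) * LocRes.D F' (ψ s) =
      -(LocRes.D F' (ψ (algebraMap K K' x)) * ψ S) := by
    rw [eq_neg_iff_add_eq_zero, add_comm]
    exact hid.symm
  have hval := congrArg Valued.v hid2
  rw [map_mul, Valuation.map_neg, map_mul, hψ, hψ, hSval, hδQ,
    val_D_eq_one _ (by rw [hψ]; exact hs), mul_one] at hval
  unfold LocRes.diffExp LocRes.ordDiff FunFld.Place.ord
  rw [vDiff_one, vDiff_one, hval, hδP, hδQ, hE, ← exp_add, log_exp, log_exp, log_exp]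
  ring

end Groth.Agent.Helper9.FFExt
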