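import Mathlib
import Groth.Prelude.Def_W4bk4goldsch23Ext
import Groth.Prelude.Def_LocRes
import Groth.Agent.S12519
import Groth.Agent.S12588
import Groth.Agent.Lib.Helper9.FFExt.ExpSep
import Groth.Agent.Lib.Helper9.FFExt.GeoPerf
import Groth.Agent.Lib.Helper9.FFExt.DiffExpU
import Groth.Agent.Lib.Helper9.FFExt.RatDiff
import Groth.Agent.Lib.Helper9.FFExt.GeoRat
import Groth.Agent.Lib.Helper9.Tate.LocalGen
import Groth.Agent.Lib.Helper9.Tate.ResWeil2

/-! Artin–Schreier double covers of the line in characteristic two: the divisor of `dx`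
(helper9). -/

namespace Groth.Agent.Helper9.AS2

open FunFld WithZero Polynomial IntermediateField
open Groth.Agent.Lib.Helper4.FF Groth.Agent.Helper9.FFExt Groth.Agent.Helper9.Tate

universe u v w'

/-- expansions exist at all places when the constant field is perfect -/
theorem exists_expansion_of_perfect (k : Type u) (K : Type v) [Field k] [Field K] [Algebra k K]
    [PerfectField k] (hK : IsFunctionField k K) (P : Place k K) :
    ∃ (F : Type u) (_ : Field F) (_ : Algebra k F) (_ : FiniteDimensional k F)
      (φ : K →ₐ[k] LaurentSeries F), LocRes.IsExpansionAt P.1 φ := by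
  have hfinF : @Module.Finite k (IsLocalRing.ResidueField P.O) _ _ (Place.algRes P).toModule := by
    have h0 : 0 < Module.finrank k (IsLocalRing.ResidueField P.O) := Place.deg_pos hK P
    exact Module.finite_of_finrank_pos h0
  have : Algebra.IsSeparable k (IsLocalRing.ResidueField P.O) :=
    Algebra.IsAlgebraic.isSeparable_of_perfectField
  exact exists_expansion_of_separable k K hK P

/-- an Artin–Schreier extension in characteristic two is separable -/
theorem isSeparable_AS {E K : Type*} [Field E] [Field K] [Algebra E K] (h2 : (2 : E) = 0)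
    (hdeg : Module.finrank E K = 2) (y : K) (hy : y ∉ Set.range (algebraMap E K))
    (f : E) (heq : y ^ 2 + y = algebraMap E K f) : Algebra.IsSeparable E K := by
  have hfin : FiniteDimensional E K := Module.finite_of_finrank_pos (by rw [hdeg]; norm_num)
  have hysep : IsSeparable E y := by
    have hp : aeval y (X ^ 2 + X - C f : E[X]) = 0 := by
      rw [map_sub, map_add, map_pow, aeval_X, aeval_C, heq, sub_self]
    have hsep : (X ^ 2 + X - C f : E[X]).Separable := by
      unfold Polynomial.Separable
      have hd : derivative (X ^ 2 + X - C f : E[X]) = 1 := by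
        rw [derivative_sub, derivative_add, derivative_X_pow, derivative_X, derivative_C, sub_zero]
        have : (C ((2 : ℕ) : E) : E[X]) = 0 := by
          rw [Nat.cast_ofNat, h2, C_0]
        rw [this, zero_mul, zero_add]
      rw [hd]
      exact isCoprime_one_right
    exact hsep.of_dvd (minpoly.dvd E y hp)
  have htop : E⟮y⟯ = ⊤ := by
    have h1 : Module.finrank E E⟮y⟯ ∣ 2 := by
      rw [← hdeg]
      exact IntermediateField.finrank_dvd_of_le_right le_top |>.trans (by
        rw [IntermediateField.finrank_top'])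
    have h3 : Module.finrank E E⟮y⟯ ≠ 1 := by
      rw [Ne, IntermediateField.finrank_adjoin_simple_eq_one_iff, IntermediateField.mem_bot]
      exact hy
    have h4 : Module.finrank E E⟮y⟯ = 2 := by
      rcases (Nat.dvd_prime Nat.prime_two).mp h1 with h | h
      · exact absurd h h3
      · exact h
    apply IntermediateField.eq_of_le_of_finrank_eq le_top
    rw [h4, IntermediateField.finrank_top', hdeg]
  rw [← separableClosure.eq_top_iff, eq_top_iff, ← htop, IntermediateField.adjoin_simple_le_iff,
    mem_separableClosure_iff]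
  exact hysep

section VDiff

variable {k : Type u} {K : Type v} [Field k] [Field K] [Algebra k K]
  {F : Type*} [Field F] [Algebra k F]

/-- regularity of `u dv` at a place in terms of orders -/
theorem vDiff_le_one_iff (Q : Place k K) {φ : K →ₐ[k] LaurentSeries F}
    (hφ : LocRes.IsExpansionAt Q.1 φ) {u v : K} (hu : u ≠ 0) (hv : LocRes.vDiff φ 1 v ≠ 0) :
    LocRes.vDiff φ u v ≤ 1 ↔ 0 ≤ Q.ord u + LocRes.ordDiff φ 1 v := by
  have h1 := vDiff_mul_left hφ u 1 v
  rw [mul_one] at h1
  rw [h1, vDiff_eq_exp_ordDiff hv, Place.val_eq_exp_neg_ord Q hu, ← exp_add, ← exp_zero, exp_le_exp]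
  constructor <;> intro h <;> linarith

end VDiff

section RegSpan

universe w

variable {k : Type u} {K : Type v} [Field k] [Field K] [Algebra k K]
  {F : Place k K → Type w} [∀ P, Field (F P)] [∀ P, Algebra k (F P)]
  [∀ P, FiniteDimensional k (F P)]
  {ψ : ∀ P, K →ₐ[k] LaurentSeries (F P)}

/-- `g` linearly independent regular differentials span the regular differentials -/
theorem regular_span (hK : IsFunctionField k K) (hg : IsGeometric k K)
    (hψ : ∀ P, LocRes.IsExpansionAt P.1 (ψ P)) {v : K} (hv : KaehlerDifferential.D k K v ≠ 0)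
    {ι : Type*} [Fintype ι] (b : ι → K) (hb : ∀ i P, LocRes.vDiff (ψ P) (b i) v ≤ 1)
    (hli : LinearIndependent k b) (hcard : Fintype.card ι = genus k K)
    (z : K) (hz : ∀ P, LocRes.vDiff (ψ P) z v ≤ 1) : z ∈ Submodule.span k (Set.range b) := by
  obtain ⟨C, hC, -⟩ := exists_divisor_resW hK hg hψ one_ne_zero hv
  have hcan : IsCanonical k K C := isCanonical_divisor hK hg hψ hv C hC
  have hset := setOf_vDiff_le_eq hK hg hψ hv C hC 0
  have hmem : ∀ w : K, (∀ P, LocRes.vDiff (ψ P) w v ≤ 1) → w ∈ L (C - 0) := by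
    intro w hw
    have : w ∈ {y : K | ∀ P, LocRes.vDiff (ψ P) y v ≤ exp (-((0 : Divisor k K) P))} := by
      intro P
      rw [Finsupp.zero_apply, neg_zero, exp_zero]
      exact hw P
    rw [hset] at this
    exact this
  rw [sub_zero] at hmem
  have hfin : Module.Finite k (L C) := L_finite hK C
  have hle : Submodule.span k (Set.range b) ≤ L C := by
    rw [Submodule.span_le]
    rintro _ ⟨i, rfl⟩
    exact hmem _ (hb i)
  have hrank : Module.finrank k (Submodule.span k (Set.range b)) = Module.finrank k (L C) := by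
    rw [finrank_span_eq_card hli, hcard]
    exact (ell_canonical hK hcan).symm
  rw [Submodule.eq_of_le_of_finrank_eq hle hrank]
  exact hmem z hz

end RegSpan

section Main

variable {k : Type u} {K : Type v} [Field k] [Field K] [PerfectField k] [Algebra k K]
  [Algebra (RatFunc k) K] [IsScalarTower k (RatFunc k) K]

omit [PerfectField k] in
theorem two_eq_zero_ratFunc (h2 : ringChar k = 2) : (2 : RatFunc k) = 0 := by
  have hc2 : CharP k 2 := ringChar.of_eq h2
  have hc2E : CharP (RatFunc k) 2 :=
    charP_of_injective_algebraMap (algebraMap k (RatFunc k)).injective 2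
  exact CharTwo.two_eq_zero

omit [PerfectField k] in
theorem ringChar_ratFunc (h2 : ringChar k = 2) : ringChar (RatFunc k) = 2 := by
  have hc2 : CharP k 2 := ringChar.of_eq h2
  have hc2E : CharP (RatFunc k) 2 :=
    charP_of_injective_algebraMap (algebraMap k (RatFunc k)).injective 2
  exact ringChar.eq (RatFunc k) 2

/-- **the divisor of `dx` on an Artin–Schreier double cover** -/
theorem as_ordDiff (h2 : ringChar k = 2) (hK : IsFunctionField k K)
    (hdeg : Module.finrank (RatFunc k) K = 2) (y : K)
    (hy : y ∉ Set.range (algebraMap (RatFunc k) K)) (f : RatFunc k)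
    (heq : y ^ 2 + y = algebraMap (RatFunc k) K f)
    (hodd : ∀ p : Place k (RatFunc k), p.ord f < 0 → Odd (p.ord f))
    (Q : Place k K) (p : Place k (RatFunc k)) (e : ℕ) (he : IsOverWith Q p e)
    {F' : Type w'} [Field F'] [Algebra k F'] (ψ : K →ₐ[k] LaurentSeries F')
    (hψ : LocRes.IsExpansionAt Q.1 ψ) :
    e = (if p.ord f < 0 then 2 else 1) ∧
    LocRes.ordDiff ψ 1 (algebraMap (RatFunc k) K RatFunc.X) =
      (if p.ord f < 0 then 1 - p.ord f else 0) +
        (e : ℤ) * (if 1 < p.1 RatFunc.X then -2 else 0) := by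
  classical
  have hfin : FiniteDimensional (RatFunc k) K :=
    Module.finite_of_finrank_pos (by rw [hdeg]; norm_num)
  have hE : IsFunctionField k (RatFunc k) := isFunctionField_ratFunc
  have hgE : IsGeometric k (RatFunc k) := isGeometric_ratFunc k
  have hgK : IsGeometric k K := isGeometric_of_perfect k K hK.2
  have h2E := two_eq_zero_ratFunc h2
  have hrcE := ringChar_ratFunc h2
  have hsep : Algebra.IsSeparable (RatFunc k) K := isSeparable_AS h2E hdeg y hy f heq
  obtain ⟨F, _, _, _, φ, hφ⟩ := exists_expansion_of_perfect k (RatFunc k) hE p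
  have hx : LocRes.vDiff φ 1 (RatFunc.X : RatFunc k) ≠ 0 :=
    vDiff_ne_zero_gen (isFFw_of_isFunctionField hE) hgE hφ one_ne_zero D_X_ne_zero
  have hx' : LocRes.vDiff ψ 1 (algebraMap (RatFunc k) K RatFunc.X) ≠ 0 :=
    vDiff_ne_zero_gen (isFFw_of_isFunctionField hK) hgK hψ one_ne_zero D_algebraMap_X_ne_zero
  have hdE : LocRes.diffExp φ ψ e (RatFunc.X : RatFunc k) =
      LocRes.ordDiff ψ 1 (algebraMap (RatFunc k) K RatFunc.X) -
        e * LocRes.ordDiff φ 1 (RatFunc.X : RatFunc k) := rfl
  have hoE : LocRes.ordDiff φ 1 (RatFunc.X : RatFunc k) =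
      if 1 < p.1 RatFunc.X then -2 else 0 := by
    split_ifs with h
    · exact ordDiff_X_infty p h φ hφ
    · exact ordDiff_X_finite p (not_lt.mp h) φ hφ
  by_cases hpole : p.ord f < 0
  · rw [if_pos hpole, if_pos hpole]
    have ho := hodd p hpole
    have hf0 : f ≠ 0 := by
      rintro rfl
      simp [FunFld.Place.ord] at hpole
    have h19 := (Groth.Agent.S12519.Aux.main h2 hdeg y hy f heq p).1 ⟨hpole, ho⟩
    have he2 : IsOverWith Q p 2 := (h19.2 Q ⟨e, he⟩).1
    have hee : e = 2 := ow_unique he he2
    have h88 := Groth.Agent.S12588.Aux.main k K hK hdeg h2 y hy f heq p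
      ((Place.ord_neg_iff p hf0).mp hpole) ho Q e he F F' φ hφ ψ hψ RatFunc.X hx hx'
    refine ⟨hee, ?_⟩
    rw [hdE] at h88
    rw [← hoE]
    linarith
  · rw [if_neg hpole, if_neg hpole]
    push Not at hpole
    have h1 := (Groth.Agent.S12519.Aux.main h2 hdeg y hy f heq p).2 hpole Q ⟨e, he⟩
    have he1 : e = 1 := ow_unique he h1
    have h3 := (diffExp_tame k (RatFunc k) K hE hgE F F' p Q e he φ hφ ψ hψ RatFunc.X hx hx').1
      (by rw [hrcE, he1]; norm_num)
    refine ⟨he1, ?_⟩
    rw [hdE] at h3
    rw [← hoE]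
    rw [he1] at h3 ⊢
    push_cast at h3 ⊢
    linarith

end Main

end Groth.Agent.Helper9.AS2
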