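import Mathlib
import Groth.Prelude.Def_W4bk4goldsch23Ext
import Groth.Agent.Lib.Helper4.FF.Exist
import Groth.Agent.Lib.Helper4.FF.LLS
import Groth.Agent.Lib.Helper9.FFExt.RatDiff

/-! Places of `k(x)` at the linear polynomials `x - α`; independence by distinct valuations
(helper9). -/

namespace Groth.Agent.Helper9.FFExt

open FunFld WithZero Polynomial
open Groth.Agent.Lib.Helper4.FF

section ValLI

variable {k E : Type*} [Field k] [Field E] [Algebra k E]

/-- a combination of elements with pairwise distinct pole orders which is regular has zero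
coefficients -/
theorem coeff_eq_zero_of_distinct_val (v : Valuation E ℤᵐ⁰)
    (hk : ∀ c : k, c ≠ 0 → v (algebraMap k E c) = 1) {ι : Type*} (s : Finset ι) (u : ι → E)
    (hu : ∀ i ∈ s, 1 < v (u i)) (hdist : ∀ i ∈ s, ∀ j ∈ s, i ≠ j → v (u i) ≠ v (u j))
    (c : ι → k) (hreg : v (∑ i ∈ s, c i • u i) ≤ 1) : ∀ i ∈ s, c i = 0 := by
  classical
  by_contra hne
  push Not at hne
  obtain ⟨i₀, hi₀, hci₀⟩ := hne
  have hne' : (s.filter fun i => c i ≠ 0).Nonempty := ⟨i₀, Finset.mem_filter.mpr ⟨hi₀, hci₀⟩⟩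
  obtain ⟨j, hj, hmax⟩ := Finset.exists_max_image (s.filter fun i => c i ≠ 0) (fun i => v (u i)) hne'
  rw [Finset.mem_filter] at hj
  have hval : ∀ i ∈ s, c i ≠ 0 → v (c i • u i) = v (u i) := by
    intro i _ hci
    rw [Algebra.smul_def, map_mul, hk _ hci, one_mul]
  have h1 : v (∑ i ∈ s, c i • u i) = v (c j • u j) := by
    apply Valuation.map_sum_eq_of_lt v hj.1
    · intro i hi
      rw [Finset.mem_sdiff, Finset.mem_singleton] at hi
      rw [hval j hj.1 hj.2]
      by_cases hci : c i = 0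
      · rw [hci, zero_smul, map_zero]
        exact zero_lt_one.trans (hu j hj.1)
      · rw [hval i hi.1 hci]
        exact lt_of_le_of_ne (hmax i (Finset.mem_filter.mpr ⟨hi.1, hci⟩))
          (hdist i hi.1 j hj.1 hi.2)
  rw [h1, hval j hj.1 hj.2] at hreg
  exact absurd hreg (not_le.mpr (hu j hj.1))

end ValLI

section Linear

variable {k : Type*} [Field k]

lemma X_sub_C_eq (α : k) : ((RatFunc.X : RatFunc k) - RatFunc.C α) =
    algebraMap k[X] (RatFunc k) (X - C α) := by
  rw [map_sub, RatFunc.algebraMap_X, RatFunc.algebraMap_C]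

lemma X_sub_C_ne_zero (α : k) : ((RatFunc.X : RatFunc k) - RatFunc.C α) ≠ 0 := by
  rw [X_sub_C_eq]
  exact algebraMap_poly_ne_zero (Polynomial.X_sub_C_ne_zero α)

/-- the place `x = α` -/
theorem exists_place_at (α : k) : ∃ p : Place k (RatFunc k),
    p.1 ((RatFunc.X : RatFunc k) - RatFunc.C α) < 1 := by
  apply exists_zero isFunctionField_ratFunc
  intro halg
  have h1 : IsAlgebraic k (RatFunc.C α : RatFunc k) := by
    rw [← RatFunc.algebraMap_eq_C]
    exact isAlgebraic_algebraMap α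
  have := halg.add h1
  rw [sub_add_cancel] at this
  exact RatFunc.transcendental_X this

variable (p : Place k (RatFunc k))

theorem val_X_le_one_of_linear {α : k} (h : p.1 ((RatFunc.X : RatFunc k) - RatFunc.C α) < 1) :
    p.1 RatFunc.X ≤ 1 := by
  rw [X_sub_C_eq] at h
  exact val_X_le_one_of_lt_one p (Polynomial.X_sub_C_ne_zero α) h

theorem ord_X_sub_C {α : k} (h : p.1 ((RatFunc.X : RatFunc k) - RatFunc.C α) < 1) :
    p.ord ((RatFunc.X : RatFunc k) - RatFunc.C α) = 1 := by
  rw [X_sub_C_eq] at h ⊢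
  exact ord_irreducible p (Polynomial.irreducible_X_sub_C α) h

theorem val_C_eq_one {c : k} (hc : c ≠ 0) : p.1 (RatFunc.C c : RatFunc k) = 1 := by
  rw [← RatFunc.algebraMap_eq_C]
  exact Place.val_k p hc

theorem val_X_sub_C_of_ne {α β : k} (h : p.1 ((RatFunc.X : RatFunc k) - RatFunc.C α) < 1)
    (hne : β ≠ α) : p.1 ((RatFunc.X : RatFunc k) - RatFunc.C β) = 1 := by
  have h1 : (RatFunc.X : RatFunc k) - RatFunc.C β =
      RatFunc.C (α - β) + ((RatFunc.X : RatFunc k) - RatFunc.C α) := by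
    rw [map_sub]; ring
  rw [h1, Valuation.map_add_eq_of_lt_left]
  · exact val_C_eq_one p (sub_ne_zero.mpr hne.symm)
  · rw [val_C_eq_one p (sub_ne_zero.mpr hne.symm)]
    exact h

theorem ord_X_sub_C_of_ne {α β : k} (h : p.1 ((RatFunc.X : RatFunc k) - RatFunc.C α) < 1)
    (hne : β ≠ α) : p.ord ((RatFunc.X : RatFunc k) - RatFunc.C β) = 0 := by
  unfold FunFld.Place.ord
  rw [val_X_sub_C_of_ne p h hne]
  simp

theorem val_X_sub_C_infty (hX : 1 < p.1 RatFunc.X) (α : k) :
    p.1 ((RatFunc.X : RatFunc k) - RatFunc.C α) = p.1 RatFunc.X := by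
  apply Valuation.map_sub_eq_of_lt_left
  by_cases hα : α = 0
  · rw [hα, map_zero, map_zero]
    exact zero_lt_one.trans hX
  · rw [val_C_eq_one p hα]
    exact hX

theorem ord_X_sub_C_infty (hX : 1 < p.1 RatFunc.X) (α : k) :
    p.ord ((RatFunc.X : RatFunc k) - RatFunc.C α) = -1 := by
  have := ord_X_infty p hX
  unfold FunFld.Place.ord at this ⊢
  rw [val_X_sub_C_infty p hX α]
  exact this

theorem val_X_sub_C_le (hX : p.1 RatFunc.X ≤ 1) (α : k) :
    p.1 ((RatFunc.X : RatFunc k) - RatFunc.C α) ≤ 1 := by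
  rw [X_sub_C_eq]
  exact val_poly_le_one p hX _

/-- the place of an irreducible polynomial is unique -/
theorem place_unique_of_irreducible {π : k[X]} (hπ : Irreducible π) (p p' : Place k (RatFunc k))
    (h : p.1 (algebraMap k[X] (RatFunc k) π) < 1) (h' : p'.1 (algebraMap k[X] (RatFunc k) π) < 1) :
    p = p' := by
  apply place_eq_of_forall
  intro z hz
  by_cases hz0 : z = 0
  · rw [hz0, map_zero]; exact zero_le_one
  have hn0 : z.num ≠ 0 := RatFunc.num_ne_zero hz0
  have hd0 : z.denom ≠ 0 := RatFunc.denom_ne_zero z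
  obtain ⟨n, a, ha, hna⟩ := WfDvdMonoid.max_power_factor hn0 hπ
  obtain ⟨m, b, hb, hmb⟩ := WfDvdMonoid.max_power_factor hd0 hπ
  have hzeq : z = algebraMap k[X] (RatFunc k) z.num / algebraMap k[X] (RatFunc k) z.denom :=
    (RatFunc.num_div_denom z).symm
  have hord : ∀ q : Place k (RatFunc k), q.1 (algebraMap k[X] (RatFunc k) π) < 1 →
      q.ord z = (n : ℤ) - m := by
    intro q hq
    rw [hzeq, div_eq_mul_inv, Place.ord_mul q (algebraMap_poly_ne_zero hn0)
      (inv_ne_zero (algebraMap_poly_ne_zero hd0)), Place.ord_inv,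
      ord_poly q hπ hq ha hna, ord_poly q hπ hq hb hmb]
    ring
  have h1 : 0 < p.ord z := (Place.ord_pos_iff p hz0).mpr hz
  rw [hord p h] at h1
  rw [← Place.ord_nonneg_iff p' hz0, hord p' h']
  omega

theorem place_unique_at {α : k} (p p' : Place k (RatFunc k))
    (h : p.1 ((RatFunc.X : RatFunc k) - RatFunc.C α) < 1)
    (h' : p'.1 ((RatFunc.X : RatFunc k) - RatFunc.C α) < 1) : p = p' := by
  rw [X_sub_C_eq] at h h'
  exact place_unique_of_irreducible (Polynomial.irreducible_X_sub_C α) p p' h h'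

end Linear

end Groth.Agent.Helper9.FFExt
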