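import Mathlib
import Groth.Prelude.Def_W4bk4goldsch23Ext
import Groth.Prelude.Def_LocRes
import Groth.Agent.S11028
import Groth.Agent.Lib.Helper9.FFExt.AS2
import Groth.Agent.Lib.Helper9.FFExt.RatLin

/-! Artin–Schreier double covers `y² + y = f(x)` over an algebraically closed field of
characteristic two, `f` with odd poles at finitely many finite points (helper9). -/

namespace Groth.Agent.Helper9.ASB

open FunFld WithZero Polynomial IntermediateField
open Groth.Agent.Lib.Helper4.FF Groth.Agent.Helper9.FFExt Groth.Agent.Helper9.Tate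
open Groth.Agent.Helper9.AS2

universe u v w

section

variable {k : Type u} {K : Type v} [Field k] [Field K] [Algebra k K] [Algebra (RatFunc k) K]

/-- the order of `y` at a ramified place -/
theorem ord_y_of_pole (y : K) (f : RatFunc k) (heq : y ^ 2 + y = algebraMap (RatFunc k) K f)
    (Q : Place k K) (p : Place k (RatFunc k)) (he : IsOverWith Q p 2) (hpole : p.ord f < 0) :
    Q.ord y = p.ord f := by
  have hf0 : f ≠ 0 := by
    rintro rfl
    simp [FunFld.Place.ord] at hpole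
  have hvf : Q.1 (algebraMap (RatFunc k) K f) = exp (-(2 * p.ord f)) := by
    rw [he f, Place.val_eq_exp_neg_ord p hf0, ← exp_nsmul]
    congr 1
    simp
  have hvy1 : 1 < Q.1 y := by
    by_contra hle
    push Not at hle
    have : Q.1 (y ^ 2 + y) ≤ 1 :=
      Valuation.map_add_le Q.1 (by rw [map_pow]; exact pow_le_one₀ zero_le hle) hle
    rw [heq, hvf, ← exp_zero, exp_le_exp] at this
    omega
  have hy0 : y ≠ 0 := by
    rintro rfl
    simp at hvy1
  have hval : Q.1 (y ^ 2 + y) = Q.1 (y ^ 2) := by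
    refine Valuation.map_add_eq_of_lt_left Q.1 ?_
    rw [map_pow, sq]
    exact lt_mul_of_one_lt_left (zero_lt_one.trans hvy1) hvy1
  rw [heq, hvf, map_pow, Place.val_eq_exp_neg_ord Q hy0, ← exp_nsmul, exp_inj] at hval
  simp at hval
  omega

/-- `y` is integral where `f` is -/
theorem val_y_le_one (y : K) (f : RatFunc k) (heq : y ^ 2 + y = algebraMap (RatFunc k) K f)
    (Q : Place k K) (hf : Q.1 (algebraMap (RatFunc k) K f) ≤ 1) : Q.1 y ≤ 1 := by
  by_contra hlt
  push Not at hlt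
  have hval : Q.1 (y ^ 2 + y) = Q.1 (y ^ 2) := by
    refine Valuation.map_add_eq_of_lt_left Q.1 ?_
    rw [map_pow, sq]
    exact lt_mul_of_one_lt_left (zero_lt_one.trans hlt) hlt
  rw [heq, map_pow] at hval
  rw [hval] at hf
  exact absurd hf (not_le.mpr (one_lt_pow₀ hlt two_ne_zero))

end

section Setup

variable {k : Type u} {K : Type v} [Field k] [IsAlgClosed k] [CharP k 2] [Field K] [Algebra k K]
  [Algebra (RatFunc k) K] [IsScalarTower k (RatFunc k) K]

omit [IsAlgClosed k] [CharP k 2] in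
theorem pole_iff (f : RatFunc k) (B : Finset k) (d : k → ℕ) (hd : ∀ β ∈ B, Odd (d β))
    (hpole : ∀ (p : FunFld.Place k (RatFunc k)) (β : k), β ∈ B →
      p.1 ((RatFunc.X : RatFunc k) - RatFunc.C β) < 1 → p.ord f = -(d β : ℤ))
    (hint : ∀ p : FunFld.Place k (RatFunc k),
      (∀ β ∈ B, 1 ≤ p.1 ((RatFunc.X : RatFunc k) - RatFunc.C β)) → p.1 f ≤ 1)
    (p : Place k (RatFunc k)) :
    p.ord f < 0 ↔ ∃ β ∈ B, p.1 ((RatFunc.X : RatFunc k) - RatFunc.C β) < 1 := by
  constructor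
  · intro h
    by_contra hno
    push Not at hno
    have h1 := hint p hno
    by_cases hf0 : f = 0
    · rw [hf0] at h
      simp [FunFld.Place.ord] at h
    · have := (Place.ord_nonneg_iff p hf0).mpr h1
      omega
  · rintro ⟨β, hβ, h⟩
    rw [hpole p β hβ h]
    obtain ⟨m, hm⟩ := hd β hβ
    omega

omit [IsAlgClosed k] [CharP k 2] in
theorem odd_of_pole (f : RatFunc k) (B : Finset k) (d : k → ℕ) (hd : ∀ β ∈ B, Odd (d β))
    (hpole : ∀ (p : FunFld.Place k (RatFunc k)) (β : k), β ∈ B →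
      p.1 ((RatFunc.X : RatFunc k) - RatFunc.C β) < 1 → p.ord f = -(d β : ℤ))
    (hint : ∀ p : FunFld.Place k (RatFunc k),
      (∀ β ∈ B, 1 ≤ p.1 ((RatFunc.X : RatFunc k) - RatFunc.C β)) → p.1 f ≤ 1)
    (p : Place k (RatFunc k)) (h : p.ord f < 0) : Odd (p.ord f) := by
  obtain ⟨β, hβ, h1⟩ := (pole_iff f B d hd hpole hint p).mp h
  rw [hpole p β hβ h1]
  obtain ⟨m, hm⟩ := hd β hβ
  exact ⟨-m - 1, by rw [hm]; push_cast; ring⟩

omit [IsAlgClosed k] in
/-- ramification and the order of `y` -/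
theorem ram_data (hdeg : Module.finrank (RatFunc k) K = 2)
    (y : K) (hy : y ∉ Set.range (algebraMap (RatFunc k) K)) (f : RatFunc k)
    (heq : y ^ 2 + y = algebraMap (RatFunc k) K f)
    (B : Finset k) (d : k → ℕ) (hd : ∀ β ∈ B, Odd (d β))
    (hpole : ∀ (p : FunFld.Place k (RatFunc k)) (β : k), β ∈ B →
      p.1 ((RatFunc.X : RatFunc k) - RatFunc.C β) < 1 → p.ord f = -(d β : ℤ))
    (hint : ∀ p : FunFld.Place k (RatFunc k),
      (∀ β ∈ B, 1 ≤ p.1 ((RatFunc.X : RatFunc k) - RatFunc.C β)) → p.1 f ≤ 1)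
    (Q : Place k K) (p : Place k (RatFunc k)) (e : ℕ) (he : IsOverWith Q p e) :
    (∀ β ∈ B, p.1 ((RatFunc.X : RatFunc k) - RatFunc.C β) < 1 →
      e = 2 ∧ Q.ord y = -(d β : ℤ) ∧ ∀ Q' : Place k K, IsOver Q' p → Q' = Q) ∧
    ((∀ β ∈ B, 1 ≤ p.1 ((RatFunc.X : RatFunc k) - RatFunc.C β)) → e = 1 ∧ Q.1 y ≤ 1) := by
  have h2 : ringChar k = 2 := ringChar.eq k 2
  have h19 := Groth.Agent.S12519.Aux.main h2 hdeg y hy f heq p
  constructor
  · intro β hβ h
    have hp : p.ord f < 0 := (pole_iff f B d hd hpole hint p).mpr ⟨β, hβ, h⟩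
    have h1 := h19.1 ⟨hp, odd_of_pole f B d hd hpole hint p hp⟩
    have he2 : IsOverWith Q p 2 := (h1.2 Q ⟨e, he⟩).1
    have hee : e = 2 := ow_unique he he2
    refine ⟨hee, ?_, ?_⟩
    · rw [ord_y_of_pole y f heq Q p he2 hp, hpole p β hβ h]
    · intro Q' hQ'
      obtain ⟨Q₀, -, hQ₀⟩ := h1.1
      rw [hQ₀ Q' hQ', hQ₀ Q ⟨e, he⟩]
  · intro h
    have hp : ¬ p.ord f < 0 := by
      rw [pole_iff f B d hd hpole hint p]
      push Not
      exact h
    push Not at hp
    have h1 := h19.2 hp Q ⟨e, he⟩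
    have he1 : e = 1 := ow_unique he h1
    refine ⟨he1, ?_⟩
    apply val_y_le_one y f heq Q
    rw [h1 f, pow_one]
    exact hint p h

/-- the divisor of `dx` -/
theorem diff_data (hK : IsFunctionField k K) (hdeg : Module.finrank (RatFunc k) K = 2)
    (y : K) (hy : y ∉ Set.range (algebraMap (RatFunc k) K)) (f : RatFunc k)
    (heq : y ^ 2 + y = algebraMap (RatFunc k) K f)
    (B : Finset k) (d : k → ℕ) (hd : ∀ β ∈ B, Odd (d β))
    (hpole : ∀ (p : FunFld.Place k (RatFunc k)) (β : k), β ∈ B →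
      p.1 ((RatFunc.X : RatFunc k) - RatFunc.C β) < 1 → p.ord f = -(d β : ℤ))
    (hint : ∀ p : FunFld.Place k (RatFunc k),
      (∀ β ∈ B, 1 ≤ p.1 ((RatFunc.X : RatFunc k) - RatFunc.C β)) → p.1 f ≤ 1)
    (Q : Place k K) (p : Place k (RatFunc k)) (e : ℕ) (he : IsOverWith Q p e)
    {F' : Type w} [Field F'] [Algebra k F'] (ψ : K →ₐ[k] LaurentSeries F')
    (hψ : LocRes.IsExpansionAt Q.1 ψ) :
    (∀ β ∈ B, p.1 ((RatFunc.X : RatFunc k) - RatFunc.C β) < 1 →
      LocRes.ordDiff ψ 1 (algebraMap (RatFunc k) K RatFunc.X) = 1 + (d β : ℤ)) ∧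
    (1 < p.1 RatFunc.X → LocRes.ordDiff ψ 1 (algebraMap (RatFunc k) K RatFunc.X) = -2) ∧
    (p.1 RatFunc.X ≤ 1 → (∀ β ∈ B, 1 ≤ p.1 ((RatFunc.X : RatFunc k) - RatFunc.C β)) →
      LocRes.ordDiff ψ 1 (algebraMap (RatFunc k) K RatFunc.X) = 0) := by
  have h2 : ringChar k = 2 := ringChar.eq k 2
  obtain ⟨hee, hoD⟩ := as_ordDiff h2 hK hdeg y hy f heq (odd_of_pole f B d hd hpole hint) Q p e he ψ hψ
  have hpi := pole_iff f B d hd hpole hint p
  refine ⟨fun β hβ h => ?_, fun hX => ?_, fun hX h => ?_⟩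
  · have hp : p.ord f < 0 := hpi.mpr ⟨β, hβ, h⟩
    have hfin : ¬ 1 < p.1 RatFunc.X := not_lt.mpr (val_X_le_one_of_linear p h)
    rw [if_pos hp, if_neg hfin, hpole p β hβ h] at hoD
    rw [hoD]
    ring
  · have hp : ¬ p.ord f < 0 := by
      rw [hpi]
      push Not
      intro β _
      rw [val_X_sub_C_infty p hX β]
      exact hX.le
    rw [if_neg hp] at hee
    rw [if_neg hp, if_pos hX, hee] at hoD
    rw [hoD]
    norm_num
  · have hp : ¬ p.ord f < 0 := by
      rw [hpi]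
      push Not
      exact h
    rw [if_neg hp, if_neg (not_lt.mpr hX)] at hoD
    rw [hoD]
    ring

/-- the genus -/
theorem genus_eq (hK : IsFunctionField k K) (hdeg : Module.finrank (RatFunc k) K = 2)
    (y : K) (hy : y ∉ Set.range (algebraMap (RatFunc k) K)) (f : RatFunc k)
    (heq : y ^ 2 + y = algebraMap (RatFunc k) K f)
    (B : Finset k) (d : k → ℕ) (hd : ∀ β ∈ B, Odd (d β))
    (hpole : ∀ (p : FunFld.Place k (RatFunc k)) (β : k), β ∈ B →
      p.1 ((RatFunc.X : RatFunc k) - RatFunc.C β) < 1 → p.ord f = -(d β : ℤ))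
    (hint : ∀ p : FunFld.Place k (RatFunc k),
      (∀ β ∈ B, 1 ≤ p.1 ((RatFunc.X : RatFunc k) - RatFunc.C β)) → p.1 f ≤ 1) :
    (genus k K : ℤ) = -1 + ∑ β ∈ B, (1 + (d β : ℤ)) / 2 := by
  classical
  have h2 : ringChar k = 2 := ringChar.eq k 2
  have hE : IsFunctionField k (RatFunc k) := isFunctionField_ratFunc
  have hdivf : ∀ P, div k f P = P.ord f := div_apply hE f
  have h28 := Groth.Agent.S11028.Aux.main k K h2 hK hdeg y hy f heq (by
    intro P hP
    rw [hdivf] at hP ⊢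
    exact odd_of_pole f B d hd hpole hint P hP)
  choose pl hpl using fun β : k => exists_place_at β
  have hinj : ∀ β ∈ B, ∀ β' ∈ B, pl β = pl β' → β = β' := by
    intro β _ β' _ h
    by_contra hne
    have h1 := hpl β'
    rw [← h, val_X_sub_C_of_ne (pl β) (hpl β) (Ne.symm hne)] at h1
    exact lt_irrefl _ h1
  have hS : (div k f).support.filter (fun P => div k f P < 0) = B.image pl := by
    ext p
    rw [Finset.mem_filter, Finsupp.mem_support_iff, hdivf, Finset.mem_image]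
    constructor
    · rintro ⟨-, h⟩
      obtain ⟨β, hβ, h1⟩ := (pole_iff f B d hd hpole hint p).mp h
      exact ⟨β, hβ, place_unique_at _ _ (hpl β) h1⟩
    · rintro ⟨β, hβ, rfl⟩
      have := (pole_iff f B d hd hpole hint (pl β)).mpr ⟨β, hβ, hpl β⟩
      exact ⟨this.ne, this⟩
  rw [hS, Finset.sum_image hinj] at h28
  rw [h28]
  congr 1
  refine Finset.sum_congr rfl fun β hβ => ?_
  rw [hdivf, hpole (pl β) β hβ (hpl β), Place.deg_eq_one hE (pl β)]
  push_cast
  ring_nf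

end Setup

end Groth.Agent.Helper9.ASB
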