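import Mathlib
import Groth.Prelude.Def_W4bk4goldsch23Ext
import Groth.Agent.Lib.Helper4.FF.Riemann
import Groth.Agent.Lib.Helper4.FF.LLS
import Groth.Agent.Lib.Helper9.FFExt.RatLin
import Groth.Agent.Lib.Helper9.FFExt.RatDiff
import Groth.Agent.Lib.Helper9.FFExt.Deg

/-! Artin–Schreier normal form of separable quadratic extensions of `k(x)` in characteristic `2`
(helper9). -/

namespace Groth.Agent.Helper9.ASNormal

open FunFld WithZero Polynomial IntermediateField
open Groth.Agent.Lib.Helper4.FF Groth.Agent.Helper9.FFExt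

section Residue

variable {k K : Type*} [Field k] [Field K] [Algebra k K]

/-- over a perfect constant field of characteristic `p`, every integral element is a `p`-th power
modulo the maximal ideal -/
theorem exists_pow_approx (hK : IsFunctionField k K) [PerfectField k] (p : ℕ) [hp : Fact p.Prime]
    [CharP k p] (P : Place k K) (z : K) (hz : P.1 z ≤ 1) :
    ∃ w : K, P.1 w ≤ 1 ∧ P.1 (z - w ^ p) < 1 := by
  have hfin : @Module.Finite k (IsLocalRing.ResidueField P.O) _ _ (Place.algRes P).toModule := by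
    have h0 : 0 < Module.finrank k (IsLocalRing.ResidueField P.O) := Place.deg_pos hK P
    exact Module.finite_of_finrank_pos h0
  have halg : @Algebra.IsAlgebraic k (IsLocalRing.ResidueField P.O) _ _ (Place.algRes P) :=
    @Algebra.IsAlgebraic.of_finite k _ _ _ _ (Place.algRes P) hfin
  have hperf : PerfectField (IsLocalRing.ResidueField P.O) := Algebra.IsAlgebraic.perfectField (K := k)
  have hcp : CharP (IsLocalRing.ResidueField P.O) p :=
    charP_of_injective_algebraMap (algebraMap k (IsLocalRing.ResidueField P.O)).injective p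
  have hpr : PerfectRing (IsLocalRing.ResidueField P.O) p := PerfectField.toPerfectRing p
  obtain ⟨s, hs⟩ := surjective_frobenius (IsLocalRing.ResidueField P.O) p
    (Place.resₗ P ⟨z, (Place.mem_O_iff P).mpr hz⟩)
  obtain ⟨w, hw⟩ := Place.resₗ_surjective P s
  refine ⟨(w : K), (Place.mem_O_iff P).mp w.2, ?_⟩
  have h1 : Place.resₗ P (⟨z, (Place.mem_O_iff P).mpr hz⟩ - w ^ p) = 0 := by
    rw [map_sub, ← hs, frobenius_def, ← hw]
    change _ - IsLocalRing.residue P.O (w ^ p) = 0
    rw [map_pow]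
    exact sub_self _
  rw [Place.resₗ_eq_zero_iff] at h1
  exact h1

end Residue


section Rat

variable {k : Type*} [Field k]

/-- an integral element of `k(x)` at a finite place is congruent to a polynomial of small degree -/
theorem exists_poly_approx (P : Place k (RatFunc k)) {π : k[X]} (hπ : Irreducible π)
    (hπv : P.1 (algebraMap k[X] (RatFunc k) π) < 1) (z : RatFunc k) (hz : P.1 z ≤ 1) :
    ∃ c : k[X], c.degree < π.degree ∧ P.1 (z - algebraMap k[X] (RatFunc k) c) < 1 := by
  have hX := val_X_le_one_of_lt_one P hπ.ne_zero hπv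
  have hd0 : algebraMap k[X] (RatFunc k) z.denom ≠ 0 :=
    algebraMap_poly_ne_zero (RatFunc.denom_ne_zero z)
  have hzeq : z * algebraMap k[X] (RatFunc k) z.denom = algebraMap k[X] (RatFunc k) z.num := by
    have := RatFunc.num_div_denom z
    field_simp at this
    rw [mul_comm]
    exact this.symm
  have hnd : ¬ π ∣ z.denom := by
    intro hdvd
    have hcop := RatFunc.isCoprime_num_denom z
    have hnn : ¬ π ∣ z.num := fun h => hπ.not_isUnit (hcop.isUnit_of_dvd' h hdvd)
    have h1 := val_poly_eq_one_of_not_dvd P hπ hπv hnn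
    obtain ⟨s, hs⟩ := hdvd
    have h2 : P.1 (algebraMap k[X] (RatFunc k) z.denom) < 1 := by
      rw [hs, map_mul, map_mul]
      exact mul_lt_one_of_nonneg_of_lt_one_left zero_le hπv (val_poly_le_one P hX s)
    have h3 : P.1 (z * algebraMap k[X] (RatFunc k) z.denom) < 1 := by
      rw [map_mul]
      exact mul_lt_one_of_nonneg_of_lt_one_right hz zero_le h2
    rw [hzeq, h1] at h3
    exact lt_irrefl _ h3
  have hdv : P.1 (algebraMap k[X] (RatFunc k) z.denom) = 1 :=
    val_poly_eq_one_of_not_dvd P hπ hπv hnd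
  obtain ⟨u, v, huv⟩ := (Irreducible.coprime_iff_not_dvd hπ).mpr hnd
  -- `c₀ = num * v`
  have h1 : P.1 (z - algebraMap k[X] (RatFunc k) (z.num * v)) < 1 := by
    have h2 : z - algebraMap k[X] (RatFunc k) (z.num * v) =
        z * (algebraMap k[X] (RatFunc k) u * algebraMap k[X] (RatFunc k) π) := by
      have h3 : algebraMap k[X] (RatFunc k) u * algebraMap k[X] (RatFunc k) π +
          algebraMap k[X] (RatFunc k) v * algebraMap k[X] (RatFunc k) z.denom = 1 := by
        rw [← map_mul, ← map_mul, ← map_add, huv, map_one]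
      rw [map_mul, ← hzeq]
      linear_combination (-z) * h3
    rw [h2, map_mul, map_mul]
    exact mul_lt_one_of_nonneg_of_lt_one_right hz zero_le
      (mul_lt_one_of_nonneg_of_lt_one_right (val_poly_le_one P hX u) zero_le hπv)
  refine ⟨(z.num * v) % π, Polynomial.degree_mod_lt _ hπ.ne_zero, ?_⟩
  have h4 : z - algebraMap k[X] (RatFunc k) ((z.num * v) % π) =
      (z - algebraMap k[X] (RatFunc k) (z.num * v)) +
        algebraMap k[X] (RatFunc k) π * algebraMap k[X] (RatFunc k) ((z.num * v) / π) := by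
    have := congrArg (algebraMap k[X] (RatFunc k)) (EuclideanDomain.div_add_mod (z.num * v) π)
    rw [map_add, map_mul] at this
    linear_combination (-1 : RatFunc k) * this
  rw [h4]
  refine lt_of_le_of_lt (P.1.map_add _ _) (max_lt h1 ?_)
  rw [map_mul]
  exact mul_lt_one_of_nonneg_of_lt_one_left zero_le hπv (val_poly_le_one P hX _)

end Rat


section Step

variable {k K : Type*} [Field k] [Field K] [Algebra k K]

/-- the local computation of one reduction step -/
theorem step_core (h2 : (2 : K) = 0) (P : Place k K) (t : K) (ht : P.ord t = 1) (ht0 : t ≠ 0)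
    (f : K) (hf0 : f ≠ 0) (m : ℕ) (hm : 0 < m) (hord : P.ord f = -(2 * m : ℤ))
    (c : K) (hc : P.1 c ≤ 1) (hfc : P.1 (f * t ^ (2 * m) - c ^ 2) < 1) :
    P.1 (f + (c / t ^ m) ^ 2 + c / t ^ m) < P.1 f := by
  have hvt : P.1 t = exp (-1) := by rw [Place.val_eq_exp_neg_ord P ht0, ht]
  have hvf : P.1 f = exp (2 * m : ℤ) := by
    rw [Place.val_eq_exp_neg_ord P hf0, hord, neg_neg]
  have htm0 : t ^ m ≠ 0 := pow_ne_zero _ ht0
  have ht2m0 : t ^ (2 * m) ≠ 0 := pow_ne_zero _ ht0
  have h1 : f + (c / t ^ m) ^ 2 + c / t ^ m =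
      (f * t ^ (2 * m) - c ^ 2) / t ^ (2 * m) + c / t ^ m := by
    have : t ^ (2 * m) = (t ^ m) ^ 2 := by rw [← pow_mul, mul_comm]
    rw [this]
    field_simp
    linear_combination (c ^ 2) * h2
  rw [h1]
  refine lt_of_le_of_lt (P.1.map_add _ _) (max_lt ?_ ?_)
  · rw [map_div₀, map_pow, hvt, hvf, ← exp_nsmul, div_eq_mul_inv, ← exp_neg]
    have : exp (-((2 * m) • (-1 : ℤ))) = exp (2 * m : ℤ) := by
      congr 1
      simp
    rw [this]
    calc P.1 (f * t ^ (2 * m) - c ^ 2) * exp (2 * m : ℤ) < 1 * exp (2 * m : ℤ) :=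
          mul_lt_mul_of_pos_right hfc (exp_pos)
      _ = exp (2 * m : ℤ) := one_mul _
  · rw [map_div₀, map_pow, hvt, hvf, ← exp_nsmul, div_eq_mul_inv, ← exp_neg]
    have : exp (-(m • (-1 : ℤ))) = exp (m : ℤ) := by
      congr 1
      simp
    rw [this]
    calc P.1 c * exp (m : ℤ) ≤ 1 * exp (m : ℤ) := mul_le_mul' hc le_rfl
      _ = exp (m : ℤ) := one_mul _
      _ < exp (2 * m : ℤ) := by
          rw [exp_lt_exp]
          omega

end Step


section RatStep

variable {k : Type*} [Field k] [PerfectField k] [CharP k 2]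

omit [PerfectField k] in
theorem two_eq_zero_ratFunc' : (2 : RatFunc k) = 0 := by
  have hc2E : CharP (RatFunc k) 2 :=
    charP_of_injective_algebraMap (algebraMap k (RatFunc k)).injective 2
  exact CharTwo.two_eq_zero

/-- reduction step at a finite place -/
theorem step_finite (P : Place k (RatFunc k)) (hX : P.1 RatFunc.X ≤ 1) (f : RatFunc k)
    (hf0 : f ≠ 0) (m : ℕ) (hm : 0 < m) (hord : P.ord f = -(2 * m : ℤ)) :
    ∃ g : RatFunc k, P.1 (f + g ^ 2 + g) < P.1 f ∧
      ∀ Q : Place k (RatFunc k), Q ≠ P → Q.1 g ≤ 1 := by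
  have hE : IsFunctionField k (RatFunc k) := isFunctionField_ratFunc
  have h2E := two_eq_zero_ratFunc' (k := k)
  obtain ⟨π, hπ, hπv⟩ := exists_irreducible_of_finite P hX
  have hordπ := ord_irreducible P hπ hπv
  obtain ⟨t, ht⟩ : ∃ t : RatFunc k, t = algebraMap k[X] (RatFunc k) π := ⟨_, rfl⟩
  rw [← ht] at hordπ hπv
  have ht0 : t ≠ 0 := by rw [ht]; exact algebraMap_poly_ne_zero hπ.ne_zero
  have hh0 : f * t ^ (2 * m) ≠ 0 := mul_ne_zero hf0 (pow_ne_zero _ ht0)
  have hordh : P.ord (f * t ^ (2 * m)) = 0 := by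
    rw [Place.ord_mul P hf0 (pow_ne_zero _ ht0), Place.ord_pow, hord, hordπ]
    push_cast
    ring
  have hvh : P.1 (f * t ^ (2 * m)) = 1 := by
    rw [Place.val_eq_exp_neg_ord P hh0, hordh, neg_zero, exp_zero]
  haveI : Fact (Nat.Prime 2) := ⟨Nat.prime_two⟩
  obtain ⟨w, hw1, hw⟩ := exists_pow_approx hE 2 P (f * t ^ (2 * m)) hvh.le
  obtain ⟨c, hcdeg, hc⟩ := exists_poly_approx P hπ (by rw [← ht]; exact hπv) w hw1
  obtain ⟨c', hc'⟩ : ∃ c' : RatFunc k, c' = algebraMap k[X] (RatFunc k) c := ⟨_, rfl⟩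
  rw [← hc'] at hc
  have hc'1 : P.1 c' ≤ 1 := by rw [hc']; exact val_poly_le_one P hX c
  have hfc : P.1 (f * t ^ (2 * m) - c' ^ 2) < 1 := by
    have : f * t ^ (2 * m) - c' ^ 2 = (f * t ^ (2 * m) - w ^ 2) + (w - c') * (w + c') := by ring
    rw [this]
    refine lt_of_le_of_lt (P.1.map_add _ _) (max_lt hw ?_)
    rw [map_mul]
    exact mul_lt_one_of_nonneg_of_lt_one_left zero_le hc
      ((P.1.map_add _ _).trans (max_le hw1 hc'1))
  refine ⟨c' / t ^ m, step_core h2E P t hordπ ht0 f hf0 m hm hord c' hc'1 hfc, ?_⟩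
  intro Q hQ
  by_cases hQX : Q.1 RatFunc.X ≤ 1
  · have hQt : Q.1 t = 1 := by
      apply le_antisymm (by rw [ht]; exact val_poly_le_one Q hQX π)
      by_contra hlt
      push Not at hlt
      exact hQ (place_unique_of_irreducible hπ Q P (by rw [← ht]; exact hlt)
        (by rw [← ht]; exact hπv))
    rw [map_div₀, map_pow, hQt, one_pow, div_one, hc']
    exact val_poly_le_one Q hQX c
  · push Not at hQX
    by_cases hc0 : c = 0
    · rw [hc', hc0, map_zero, zero_div, map_zero]
      exact zero_le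
    rw [map_div₀, map_pow, hc', ht, algebraMap_eq_aeval, algebraMap_eq_aeval,
      val_aeval_of_one_lt Q.1 (Place.val_k_le Q) hQX hc0,
      val_aeval_of_one_lt Q.1 (Place.val_k_le Q) hQX hπ.ne_zero, ← pow_mul]
    have hdeg : c.natDegree ≤ π.natDegree * m := by
      have h1 : c.natDegree < π.natDegree := Polynomial.natDegree_lt_natDegree hc0 hcdeg
      nlinarith
    have hpos : (0 : ℤᵐ⁰) < Q.1 RatFunc.X ^ (π.natDegree * m) :=
      pow_pos (zero_lt_one.trans hQX) _
    rw [div_le_one₀ hpos]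
    exact pow_le_pow_right₀ hQX.le hdeg

/-- reduction step at the infinite place -/
theorem step_infty (P : Place k (RatFunc k)) (hX : 1 < P.1 RatFunc.X) (f : RatFunc k)
    (hf0 : f ≠ 0) (m : ℕ) (hm : 0 < m) (hord : P.ord f = -(2 * m : ℤ)) :
    ∃ g : RatFunc k, P.1 (f + g ^ 2 + g) < P.1 f ∧
      ∀ Q : Place k (RatFunc k), Q ≠ P → Q.1 g ≤ 1 := by
  have hE : IsFunctionField k (RatFunc k) := isFunctionField_ratFunc
  have h2E := two_eq_zero_ratFunc' (k := k)
  obtain ⟨Pinf, hdinf, hXinf, huniq⟩ := exists_infty (k := k)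
  have hP : P = Pinf := huniq P hX
  subst hP
  have hX0 : (RatFunc.X : RatFunc k) ≠ 0 := RatFunc.X_ne_zero
  obtain ⟨t, ht⟩ : ∃ t : RatFunc k, t = (RatFunc.X)⁻¹ := ⟨_, rfl⟩
  have ht0 : t ≠ 0 := by rw [ht]; exact inv_ne_zero hX0
  have hordt : P.ord t = 1 := by
    rw [ht, Place.ord_inv, ord_X_infty P hX]
    norm_num
  have hh0 : f * t ^ (2 * m) ≠ 0 := mul_ne_zero hf0 (pow_ne_zero _ ht0)
  have hordh : P.ord (f * t ^ (2 * m)) = 0 := by
    rw [Place.ord_mul P hf0 (pow_ne_zero _ ht0), Place.ord_pow, hord, hordt]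
    push_cast
    ring
  have hvh : P.1 (f * t ^ (2 * m)) = 1 := by
    rw [Place.val_eq_exp_neg_ord P hh0, hordh, neg_zero, exp_zero]
  obtain ⟨a, ha⟩ := Place.exists_const_sub_lt P hdinf hvh.le
  obtain ⟨s, hs⟩ := surjective_frobenius k 2 a
  rw [frobenius_def] at hs
  obtain ⟨c', hc'⟩ : ∃ c' : RatFunc k, c' = algebraMap k (RatFunc k) s := ⟨_, rfl⟩
  have hc'1 : P.1 c' ≤ 1 := by rw [hc']; exact Place.val_k_le P s
  have hfc : P.1 (f * t ^ (2 * m) - c' ^ 2) < 1 := by
    rw [hc', ← map_pow, hs]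
    exact ha
  refine ⟨c' / t ^ m, step_core h2E P t hordt ht0 f hf0 m hm hord c' hc'1 hfc, ?_⟩
  intro Q hQ
  have hQX : Q.1 RatFunc.X ≤ 1 := by
    by_contra h
    push Not at h
    exact hQ (huniq Q h)
  rw [ht, inv_pow, div_inv_eq_mul, map_mul, map_pow, hc']
  exact mul_le_one' (Place.val_k_le Q s) (pow_le_one₀ zero_le hQX)

end RatStep


section Gen

variable {E K : Type*} [Field E] [Field K] [Algebra E K]

theorem adjoin_eq_top_of_notMem (hdeg : Module.finrank E K = 2) (y : K)
    (hy : y ∉ Set.range (algebraMap E K)) : E⟮y⟯ = ⊤ := by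
  have hfin : FiniteDimensional E K := Module.finite_of_finrank_pos (by rw [hdeg]; norm_num)
  have h1 : Module.finrank E E⟮y⟯ ∣ 2 := by
    rw [← hdeg]
    exact IntermediateField.finrank_dvd_of_le_right le_top |>.trans (by
      rw [IntermediateField.finrank_top'])
  have h3 : Module.finrank E E⟮y⟯ ≠ 1 := by
    rw [Ne, IntermediateField.finrank_adjoin_simple_eq_one_iff, IntermediateField.mem_bot]
    exact hy
  have h4 : Module.finrank E E⟮y⟯ = 2 := by
    rcases (Nat.dvd_prime Nat.prime_two).mp h1 with h | h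
    · exact absurd h h3
    · exact h
  apply IntermediateField.eq_of_le_of_finrank_eq le_top
  rw [h4, IntermediateField.finrank_top', hdeg]

/-- a separable quadratic extension in characteristic `2` has an Artin–Schreier generator -/
theorem exists_AS_gen (h2 : (2 : E) = 0) (hdeg : Module.finrank E K = 2)
    [Algebra.IsSeparable E K] :
    ∃ (y : K) (f : E), y ^ 2 + y = algebraMap E K f ∧ y ∉ Set.range (algebraMap E K) := by
  have hfin : FiniteDimensional E K := Module.finite_of_finrank_pos (by rw [hdeg]; norm_num)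
  have h2K : (2 : K) = 0 := by
    have := congrArg (algebraMap E K) h2
    rwa [map_ofNat, map_zero] at this
  -- an element outside `E`
  obtain ⟨z, hz⟩ : ∃ z : K, z ∉ Set.range (algebraMap E K) := by
    by_contra hall
    push Not at hall
    have hsurj : Function.Surjective (algebraMap E K) := hall
    have hb : (⊤ : IntermediateField E K) = ⊥ := by
      rw [eq_bot_iff]
      intro w _
      rw [IntermediateField.mem_bot]
      exact hsurj w
    have h1 := IntermediateField.finrank_eq_one_iff.mpr hb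
    rw [IntermediateField.finrank_top'] at h1
    omega
  have hint : IsIntegral E z := Algebra.IsIntegral.isIntegral z
  obtain ⟨μ, hμ⟩ : ∃ μ : E[X], μ = minpoly E z := ⟨_, rfl⟩
  have hμm : μ.Monic := by rw [hμ]; exact minpoly.monic hint
  have hμdeg : μ.natDegree = 2 := by
    apply le_antisymm
    · rw [hμ, ← hdeg]
      exact minpoly.natDegree_le z
    · rw [hμ]
      exact (minpoly.two_le_natDegree_iff hint).mpr hz
  have hroot : aeval z μ = 0 := by rw [hμ]; exact minpoly.aeval E z
  rw [aeval_eq_sum_range, hμdeg, Finset.sum_range_succ, Finset.sum_range_succ,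
    Finset.sum_range_one] at hroot
  have hc2 : μ.coeff 2 = 1 := by
    rw [← hμdeg]
    exact hμm.coeff_natDegree
  rw [hc2, one_smul, pow_zero, pow_one, Algebra.smul_def, Algebra.smul_def, mul_one] at hroot
  obtain ⟨b, hb⟩ : ∃ b : E, b = μ.coeff 1 := ⟨_, rfl⟩
  obtain ⟨c, hc⟩ : ∃ c : E, c = μ.coeff 0 := ⟨_, rfl⟩
  rw [← hb, ← hc] at hroot
  have hsep : μ.Separable := by
    rw [hμ]
    exact Algebra.IsSeparable.isSeparable E z
  have hb0 : b ≠ 0 := by
    intro hb0
    have hirr : Irreducible μ := by rw [hμ]; exact minpoly.irreducible hint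
    rw [Polynomial.separable_iff_derivative_ne_zero hirr] at hsep
    apply hsep
    ext n
    rw [coeff_derivative, coeff_zero]
    rcases n with _ | _ | n
    · rw [zero_add, ← hb, hb0, zero_mul]
    · have : ((1 : ℕ) : E) + 1 = 2 := by norm_num
      rw [this, h2, mul_zero]
    · rw [coeff_eq_zero_of_natDegree_lt (by rw [hμdeg]; omega), zero_mul]
  have hb0' : algebraMap E K b ≠ 0 := (map_ne_zero_iff _ (algebraMap E K).injective).mpr hb0
  refine ⟨z / algebraMap E K b, c / b ^ 2, ?_, ?_⟩
  · rw [map_div₀, map_pow]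
    field_simp
    linear_combination hroot - (algebraMap E K c) * h2K
  · rintro ⟨e, he⟩
    apply hz
    refine ⟨e * b, ?_⟩
    rw [map_mul, he]
    field_simp

end Gen


section Induction

variable {k : Type*} [Field k] [PerfectField k] [CharP k 2]

omit [PerfectField k] [CharP k 2] in
/-- the pole divisor drops when one pole is lowered and no others are raised -/
theorem deg_poleDiv_lt (f f' : RatFunc k) (hf0 : f ≠ 0) (P : Place k (RatFunc k))
    (hP : 1 < P.1 f) (hlt : P.1 f' < P.1 f)
    (hle : ∀ Q : Place k (RatFunc k), Q ≠ P → Q.1 f' ≤ max (Q.1 f) 1) :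
    (poleDiv f' : Divisor k (RatFunc k)).deg + 1 ≤ (poleDiv f : Divisor k (RatFunc k)).deg := by
  classical
  have hE : IsFunctionField k (RatFunc k) := isFunctionField_ratFunc
  have h1 : (poleDiv f' : Divisor k (RatFunc k)) + Finsupp.single P 1 ≤ poleDiv f := by
    rw [Finsupp.le_def]
    intro Q
    rw [Finsupp.add_apply, poleDiv_apply hE, poleDiv_apply hE]
    by_cases hQ : Q = P
    · subst hQ
      rw [Finsupp.single_eq_same]
      have hof : Q.ord f < 0 := (Place.ord_neg_iff Q hf0).mpr hP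
      by_cases hf'0 : f' = 0
      · rw [hf'0]
        have : Q.ord (0 : RatFunc k) = 0 := by simp [FunFld.Place.ord]
        rw [this]
        simp only [neg_zero, max_self, zero_add]
        omega
      · rw [Place.val_eq_exp_neg_ord Q hf'0, Place.val_eq_exp_neg_ord Q hf0, exp_lt_exp] at hlt
        omega
    · rw [Finsupp.single_eq_of_ne hQ, add_zero]
      by_cases hf'0 : f' = 0
      · rw [hf'0]
        have : Q.ord (0 : RatFunc k) = 0 := by simp [FunFld.Place.ord]
        rw [this]
        simp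
      · have h3 := hle Q hQ
        rw [Place.val_eq_exp_neg_ord Q hf'0, Place.val_eq_exp_neg_ord Q hf0, ← exp_zero,
          ← Monotone.map_max (fun a b h => exp_le_exp.mpr h), exp_le_exp] at h3
        exact max_le h3 (le_max_right _ _)
  have h2 := Divisor.deg_mono h1
  rw [Divisor.deg_add, Divisor.deg_single] at h2
  have h3 : 0 < P.deg := Place.deg_pos hE P
  have : (1 : ℤ) ≤ (P.deg : ℤ) := by exact_mod_cast h3
  linarith

theorem exists_odd_poles : ∀ (N : ℕ) (f : RatFunc k),
    (poleDiv f : Divisor k (RatFunc k)).deg ≤ N →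
    ∃ g : RatFunc k, ∀ P : Place k (RatFunc k),
      P.ord (f + g ^ 2 + g) < 0 → Odd (P.ord (f + g ^ 2 + g)) := by
  have hE : IsFunctionField k (RatFunc k) := isFunctionField_ratFunc
  have h2E := two_eq_zero_ratFunc' (k := k)
  intro N
  induction N with
  | zero =>
    intro f hf
    refine ⟨0, ?_⟩
    intro P hP
    exfalso
    rw [zero_pow (by norm_num), add_zero, add_zero] at hP
    have hf0 : f ≠ 0 := by
      rintro rfl
      simp [FunFld.Place.ord] at hP
    have h1 := deg_poleDiv_lt f 0 hf0 P ((Place.ord_neg_iff P hf0).mp hP)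
      (by rw [map_zero]; exact zero_lt_one.trans ((Place.ord_neg_iff P hf0).mp hP))
      (fun Q _ => by rw [map_zero]; exact zero_le)
    have h3 : (0 : ℤ) ≤ (poleDiv (0 : RatFunc k) : Divisor k (RatFunc k)).deg := by
      apply Divisor.deg_nonneg
      unfold poleDiv
      exact le_sup_right
    push_cast at hf
    linarith
  | succ N ih =>
    intro f hf
    by_cases hall : ∀ P : Place k (RatFunc k), P.ord f < 0 → Odd (P.ord f)
    · refine ⟨0, ?_⟩
      rw [zero_pow (by norm_num), add_zero, add_zero]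
      exact hall
    · push Not at hall
      obtain ⟨P, hP, hnodd⟩ := hall
      have hf0 : f ≠ 0 := by
        rintro rfl
        simp [FunFld.Place.ord] at hP
      rw [Int.not_odd_iff_even] at hnodd
      obtain ⟨r, hr⟩ := hnodd
      obtain ⟨m, hm⟩ : ∃ m : ℕ, (m : ℤ) = -r := ⟨(-r).toNat, Int.toNat_of_nonneg (by omega)⟩
      have hmpos : 0 < m := by omega
      have hord : P.ord f = -(2 * m : ℤ) := by omega
      obtain ⟨g₁, hg₁, hg₁'⟩ : ∃ g : RatFunc k, P.1 (f + g ^ 2 + g) < P.1 f ∧
          ∀ Q : Place k (RatFunc k), Q ≠ P → Q.1 g ≤ 1 := by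
        by_cases hX : P.1 RatFunc.X ≤ 1
        · exact step_finite P hX f hf0 m hmpos hord
        · exact step_infty P (not_le.mp hX) f hf0 m hmpos hord
      have hdeg := deg_poleDiv_lt f (f + g₁ ^ 2 + g₁) hf0 P ((Place.ord_neg_iff P hf0).mp hP) hg₁
        (fun Q hQ => by
          have h1 := hg₁' Q hQ
          refine (Q.1.map_add _ _).trans (max_le ((Q.1.map_add _ _).trans (max_le (le_max_left _ _) ?_)) ?_)
          · rw [map_pow]
            exact (pow_le_one₀ zero_le h1).trans (le_max_right _ _)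
          · exact h1.trans (le_max_right _ _))
      obtain ⟨g₂, hg₂⟩ := ih (f + g₁ ^ 2 + g₁) (by push_cast at hf; linarith)
      refine ⟨g₁ + g₂, ?_⟩
      have : f + (g₁ + g₂) ^ 2 + (g₁ + g₂) = f + g₁ ^ 2 + g₁ + g₂ ^ 2 + g₂ := by
        linear_combination (g₁ * g₂) * h2E
      rw [this]
      exact hg₂

end Induction

section Final

variable {k K : Type*} [Field k] [Field K] [PerfectField k] [Algebra k K]
  [Algebra (RatFunc k) K] [IsScalarTower k (RatFunc k) K]

/-- **Artin–Schreier normal form with odd poles** -/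
theorem exists_normal_form (h2 : ringChar k = 2)
    (hdeg : Module.finrank (RatFunc k) K = 2) [Algebra.IsSeparable (RatFunc k) K] :
    ∃ (y : K) (f : RatFunc k), y ^ 2 + y = algebraMap (RatFunc k) K f ∧
      IntermediateField.adjoin (RatFunc k) ({y} : Set K) = ⊤ ∧
      ∀ P : FunFld.Place k (RatFunc k), P.ord f < 0 → Odd (P.ord f) := by
  have hc2 : CharP k 2 := ringChar.of_eq h2
  have h2E := two_eq_zero_ratFunc' (k := k)
  have h2K : (2 : K) = 0 := by
    have := congrArg (algebraMap (RatFunc k) K) h2E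
    rwa [map_ofNat, map_zero] at this
  obtain ⟨y₀, f₀, heq₀, hy₀⟩ := exists_AS_gen h2E hdeg (K := K)
  have hnn : (0 : ℤ) ≤ (poleDiv f₀ : Divisor k (RatFunc k)).deg := by
    apply Divisor.deg_nonneg
    unfold poleDiv
    exact le_sup_right
  obtain ⟨g, hg⟩ := exists_odd_poles ((poleDiv f₀ : Divisor k (RatFunc k)).deg.toNat) f₀
    (by rw [Int.toNat_of_nonneg hnn])
  have hy : y₀ + algebraMap (RatFunc k) K g ∉ Set.range (algebraMap (RatFunc k) K) := by
    rintro ⟨e, he⟩
    apply hy₀
    refine ⟨e - g, ?_⟩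
    rw [map_sub, he]
    ring
  refine ⟨y₀ + algebraMap (RatFunc k) K g, f₀ + g ^ 2 + g, ?_, adjoin_eq_top_of_notMem hdeg _ hy, hg⟩
  rw [map_add, map_add, map_pow, ← heq₀]
  linear_combination (y₀ * algebraMap (RatFunc k) K g) * h2K

end Final

end Groth.Agent.Helper9.ASNormal
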