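import Mathlib
import Groth.Prelude.Def_W4bk4goldsch23Ext
import Groth.Agent.Lib.Helper9.FFExt.ConstExt15
import Groth.Agent.Lib.Helper9.FFExt.Conorm
import Groth.Agent.Lib.Helper9.FFExt.Const

/-!
# Genus drop under constant extensions, part 1: places over `k` and over `k'` (helper9)
-/

namespace Groth.Agent.Helper9.GenusDrop

open FunFld WithZero TensorProduct
open Groth.Agent.Lib.Helper4.FF Groth.Agent.Helper9.FFExt

section PlaceEquiv

variable {k k' K' : Type*} [Field k] [Field k'] [Field K'] [Algebra k k'] [Algebra k' K']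
  [Algebra k K'] [IsScalarTower k k' K']

/-- a place over `k` of a field containing an algebraic extension `k'` is a place over `k'` -/
def toK' [Algebra.IsAlgebraic k k'] (Q : Place k K') : Place k' K' :=
  ⟨Q.1, fun c => val_le_one_of_isAlgebraic Q ((Algebra.IsAlgebraic.isAlgebraic c).algebraMap),
    Q.2.2⟩

/-- a place over `k'` is a place over `k` -/
def ofK' (Q' : Place k' K') : Place k K' :=
  ⟨Q'.1, fun c => by
    rw [IsScalarTower.algebraMap_apply k k' K']
    exact Q'.2.1 _, Q'.2.2⟩

@[simp] lemma toK'_val [Algebra.IsAlgebraic k k'] (Q : Place k K') :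
    (toK' (k' := k') Q).1 = Q.1 := rfl
@[simp] lemma ofK'_val (Q' : Place k' K') : (ofK' (k := k) Q').1 = Q'.1 := rfl

/-- the places of `K'` over `k` and over `k'` are the same -/
def placeEquiv [Algebra.IsAlgebraic k k'] : Place k K' ≃ Place k' K' where
  toFun := toK'
  invFun := ofK'
  left_inv _ := rfl
  right_inv _ := rfl

lemma deg_toK' [Algebra.IsAlgebraic k k'] (Q : Place k K') :
    Q.deg = Module.finrank k k' * (toK' (k' := k') Q).deg :=
  @finrank_tower_general k k' (IsLocalRing.ResidueField Q.O) _ _ _ _
    (Place.algRes (toK' (k' := k') Q)) (Place.algRes Q)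
    (@IsScalarTower.of_algebraMap_eq k k' (IsLocalRing.ResidueField Q.O) _ _ _ _
      (Place.algRes (toK' (k' := k') Q)) (Place.algRes Q) fun c =>
        congrArg (IsLocalRing.residue Q.O) (Subtype.ext (IsScalarTower.algebraMap_apply k k' K' c)))

/-- transport of a divisor of `K'/k` to a divisor of `K'/k'` -/
noncomputable def trD [Algebra.IsAlgebraic k k'] (D : Divisor k K') : Divisor k' K' :=
  Finsupp.equivMapDomain placeEquiv D

lemma trD_apply [Algebra.IsAlgebraic k k'] (D : Divisor k K') (Q' : Place k' K') :
    trD D Q' = D (ofK' Q') := rfl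

lemma deg_trD [Algebra.IsAlgebraic k k'] (D : Divisor k K') :
    D.deg = Module.finrank k k' * (trD (k' := k') D).deg := by
  unfold FunFld.Divisor.deg trD
  rw [Finsupp.sum_equivMapDomain, Finsupp.mul_sum]
  refine Finsupp.sum_congr fun Q _ => ?_
  change _ = _ * (_ * ((toK' (k' := k') Q).deg : ℤ))
  rw [deg_toK' (k' := k') Q]
  push_cast
  ring

lemma mem_L_trD [Algebra.IsAlgebraic k k'] (D : Divisor k K') (x : K') :
    x ∈ L (trD (k' := k') D) ↔ ∀ Q : Place k K', Q.1 x ≤ exp (D Q) := by
  constructor
  · intro hx Q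
    exact hx (toK' Q)
  · intro hx Q'
    exact hx (ofK' Q')

end PlaceEquiv

section Disjoint

variable {k k' K K' : Type*} [Field k] [Field k'] [Field K] [Field K']
  [Algebra k k'] [FiniteDimensional k k'] [Algebra k K] [Algebra K K'] [Algebra k' K'] [Algebra k K']
  [IsScalarTower k k' K'] [IsScalarTower k K K']

/-- linear disjointness, on the side of `K` -/
theorem linearIndependent_algebraMap (h : Function.Bijective (pm k k' K K')) {ι : Type*}
    {β : ι → K} (hβ : LinearIndependent k β) :
    LinearIndependent k' (fun j => algebraMap K K' (β j)) := by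
  classical
  rw [linearIndependent_iff']
  intro s g hsum j hj
  let b := Module.finBasis k k'
  have key : ∀ i, ∑ j ∈ s, (b.repr (g j) i) • β j = 0 := by
    intro i
    have h1 : (constBasis h b).repr (∑ j ∈ s, g j • algebraMap K K' (β j)) i = 0 := by
      rw [hsum, map_zero, Finsupp.zero_apply]
    rw [map_sum, Finset.sum_apply'] at h1
    rw [← h1]
    refine Finset.sum_congr rfl fun j _ => ?_
    have h2 : g j • algebraMap K K' (β j) = β j • algebraMap k' K' (g j) := by
      rw [Algebra.smul_def, Algebra.smul_def, mul_comm]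
    rw [h2, map_smul, Finsupp.smul_apply, constBasis_repr_algebraMap, smul_eq_mul,
      Algebra.smul_def, mul_comm]
  have h2 : ∀ i, b.repr (g j) i = 0 := fun i =>
    linearIndependent_iff'.mp hβ s (fun j => b.repr (g j) i) (key i) j hj
  have h3 : b.repr (g j) = 0 := Finsupp.ext h2
  exact (LinearEquiv.map_eq_zero_iff _).mp h3

end Disjoint

end Groth.Agent.Helper9.GenusDrop
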