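import Mathlib
import Groth.Prelude.Def_W4bk4goldsch23Ext
import Groth.Agent.Lib.Helper9.FFExt.GenusDrop1
import Groth.Agent.Lib.Helper9.FFExt.SepPlaces
import Groth.Agent.Lib.Helper4.FF.Riemann
import Groth.Agent.Lib.Helper4.FF.Approx
import Groth.Agent.S11006

/-!
# Genus drop under constant extensions, part 2: the inequality (helper9)
-/

namespace Groth.Agent.Helper9.GenusDrop

open FunFld WithZero TensorProduct
open Groth.Agent.Lib.Helper4.FF Groth.Agent.Helper9.FFExt

universe u v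

section Main

variable {k k' : Type u} {K K' : Type v} [Field k] [Field k'] [Field K] [Field K']
  [Algebra k k'] [FiniteDimensional k k'] [Algebra k K] [Algebra K K'] [Algebra k' K']
  [Algebra k K'] [IsScalarTower k k' K'] [IsScalarTower k K K']

omit [FiniteDimensional k k'] [Algebra k k'] [Algebra k K'] [IsScalarTower k k' K'] [IsScalarTower k K K'] in
/-- combinations of constants with integral coefficients lie in `O_P[k']` -/
lemma sum_mem_OPk (P : Place k K) {ι : Type*} (s : Finset ι) (w : ι → K) (c : ι → k')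
    (hw : ∀ i ∈ s, P.1 (w i) ≤ 1) :
    ∑ i ∈ s, algebraMap K K' (w i) * algebraMap k' K' (c i) ∈ OPk k' K' P :=
  Subring.sum_mem _ fun i hi =>
    Subring.mul_mem _ (algebraMap_mem_OPk P (hw i hi)) (const_mem_OPk P _)

/-- **genus drop**: the genus of a constant extension drops at least by the number of singular
places -/
theorem genus_drop (h : Function.Bijective (pm k k' K K'))
    (hK : IsFunctionField k K) (hg : IsGeometric k K)
    (S : Finset (Place k K)) (hS : ∀ P ∈ S, ¬ NS k' K' P) :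
    (S.card : ℤ) + genus k' K' ≤ genus k K := by
  classical
  have hK' : IsFunctionField k' K' := (Groth.Agent.S11006.result k k' K K' h hK hg).1
  have hfin : FiniteDimensional K K' := finite_of_bij h
  have hkQ : ∀ (Q : Place k K') (c : k'), Q.1 (algebraMap k' K' c) ≤ 1 := fun Q c =>
    val_le_one_of_isAlgebraic Q ((Algebra.IsAlgebraic.isAlgebraic c).algebraMap)
  let b := Module.finBasis k k'
  obtain ⟨B, hB⟩ : ∃ B, B = constBasis h b := ⟨_, rfl⟩
  -- the singular elements
  have hz : ∀ P : Place k K, ∃ z : K', P ∈ S →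
      (∀ Q : Place k K', IsOver Q P → Q.1 z ≤ 1) ∧ z ∉ OPk k' K' P := by
    intro P
    by_cases hP : P ∈ S
    · have := hS P hP
      unfold NS at this
      push Not at this
      obtain ⟨z, hz1, hz2⟩ := this
      exact ⟨z, fun _ => ⟨hz1, hz2⟩⟩
    · exact ⟨0, fun h => absurd h hP⟩
  choose z hz using hz
  -- the approximations
  have hy : ∀ (P : Place k K) (i : Fin (Module.finrank k k')), ∃ y : K, ∀ P₂ ∈ S,
      P₂.1 (y - (if P₂ = P then B.repr (z P) i else 0)) ≤ 1 := by
    intro P i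
    obtain ⟨y, hy⟩ := weak_approximation S (fun P₂ => if P₂ = P then B.repr (z P) i else 0)
      (fun _ => 0)
    refine ⟨y, fun P₂ hP₂ => ?_⟩
    rw [hy P₂ hP₂, neg_zero, exp_zero]
  choose y hy using hy
  have hyP : ∀ P ∈ S, ∀ i, P.1 (y P i - B.repr (z P) i) ≤ 1 := by
    intro P hP i
    have := hy P i P hP
    rwa [if_pos rfl] at this
  have hyP₂ : ∀ P : Place k K, ∀ P₂ ∈ S, P₂ ≠ P → ∀ i, P₂.1 (y P i) ≤ 1 := by
    intro P P₂ hP₂ hne i
    have := hy P i P₂ hP₂
    rwa [if_neg hne, sub_zero] at this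
  obtain ⟨Y, hY⟩ : ∃ Y : Place k K → K', Y = fun P =>
      ∑ i, algebraMap K K' (y P i) * algebraMap k' K' (b i) := ⟨_, rfl⟩
  -- `Y P` is in `O_{P₂}[k']` for the other singular places
  have hYmem : ∀ P : Place k K, ∀ P₂ ∈ S, P₂ ≠ P → Y P ∈ OPk k' K' P₂ := by
    intro P P₂ hP₂ hne
    rw [hY]
    exact sum_mem_OPk P₂ _ _ _ fun i _ => hyP₂ P P₂ hP₂ hne i
  -- `Y P - z P` is in `O_P[k']`
  have hYz : ∀ P ∈ S, Y P - z P ∈ OPk k' K' P := by
    intro P hP
    have h1 : z P = ∑ i, algebraMap K K' (B.repr (z P) i) * algebraMap k' K' (b i) := by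
      conv_lhs => rw [← B.sum_repr (z P)]
      refine Finset.sum_congr rfl fun i _ => ?_
      rw [Algebra.smul_def, hB, constBasis_apply]
    have h2 : Y P - z P = ∑ i, algebraMap K K' (y P i - B.repr (z P) i) * algebraMap k' K' (b i) := by
      conv_lhs => rw [h1, hY]
      rw [← Finset.sum_sub_distrib]
      refine Finset.sum_congr rfl fun i _ => ?_
      rw [map_sub, sub_mul]
    rw [h2]
    exact sum_mem_OPk P _ _ _ fun i _ => hyP P hP i
  -- the divisor
  obtain ⟨NK, hNK⟩ := eq_genus_of_deg_ge hK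
  obtain ⟨NK', hNK'⟩ := eq_genus_of_deg_ge hK'
  obtain ⟨D₁, hD₁⟩ : ∃ D₁ : Divisor k K, D₁ = ∑ P ∈ S, ∑ i, poleDiv (y P i) := ⟨_, rfl⟩
  obtain ⟨Pinf, hPinf⟩ := exists_place_notMem' hK S
  obtain ⟨D₂, hD₂⟩ : ∃ D₂ : Divisor k K, D₂ = D₁.filter (fun P => P ∉ S) := ⟨_, rfl⟩
  obtain ⟨m, hm⟩ : ∃ m : ℕ, m = (max NK NK' - D₂.deg).toNat := ⟨_, rfl⟩
  obtain ⟨D, hD⟩ : ∃ D : Divisor k K, D = D₂ + Finsupp.single Pinf (m : ℤ) := ⟨_, rfl⟩
  have hDS : ∀ P ∈ S, D P = 0 := by
    intro P hP
    have hne : Pinf ≠ P := by rintro rfl; exact hPinf hP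
    rw [hD, Finsupp.add_apply, hD₂, Finsupp.filter_apply_neg (fun P => P ∉ S) D₁ (by simpa using hP),
      Finsupp.single_apply, if_neg hne, add_zero]
  have hD₁nn : ∀ P₀ ∈ S, ∀ i, ∀ P₃, poleDiv (y P₀ i) P₃ ≤ D₁ P₃ := by
    intro P₀ hP₀ i P₃
    rw [hD₁, Finsupp.finsetSum_apply]
    have h1 : (∑ i, poleDiv (y P₀ i) : Divisor k K) P₃ ≤
        ∑ P ∈ S, (∑ i, poleDiv (y P i) : Divisor k K) P₃ :=
      Finset.single_le_sum (f := fun P => (∑ i, poleDiv (y P i) : Divisor k K) P₃)
        (fun P _ => by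
          rw [Finsupp.finsetSum_apply]
          exact Finset.sum_nonneg fun i _ => poleDiv_nonneg (y P i) P₃) hP₀
    refine le_trans ?_ h1
    rw [Finsupp.finsetSum_apply]
    exact Finset.single_le_sum (f := fun i => (poleDiv (y P₀ i) : Divisor k K) P₃)
      (fun i _ => poleDiv_nonneg (y P₀ i) P₃) (Finset.mem_univ i)
  have hDpole : ∀ P₀ ∈ S, ∀ i, ∀ P₃ ∉ S, P₃.1 (y P₀ i) ≤ exp (D P₃) := by
    intro P₀ hP₀ i P₃ hP₃
    have h1 : poleDiv (y P₀ i) P₃ ≤ D P₃ := by
      rw [hD, Finsupp.add_apply, hD₂, Finsupp.filter_apply_pos (fun P => P ∉ S) D₁ hP₃]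
      have h2 : (0 : ℤ) ≤ (Finsupp.single Pinf (m : ℤ) : Divisor k K) P₃ := by
        rw [Finsupp.single_apply]
        split_ifs
        · exact Int.natCast_nonneg m
        · exact le_rfl
      have := hD₁nn P₀ hP₀ i P₃
      omega
    by_cases h0 : y P₀ i = 0
    · rw [h0, map_zero]; exact zero_le
    rw [Place.val_eq_exp_neg_ord P₃ h0, exp_le_exp]
    have := poleDiv_apply hK (y P₀ i) P₃
    omega
  have hdegD : max NK NK' ≤ D.deg := by
    rw [hD, Divisor.deg_add, Divisor.deg_single]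
    have h1 : (1 : ℤ) ≤ Pinf.deg := by exact_mod_cast Place.deg_pos hK Pinf
    have h2 : (m : ℤ) ≤ (m : ℤ) * Pinf.deg := by nlinarith [Int.natCast_nonneg m]
    have h3 : max NK NK' - D₂.deg ≤ (m : ℤ) := by
      rw [hm]; exact Int.self_le_toNat _
    omega
  -- the conorm and its transport
  obtain ⟨D', hD'⟩ : ∃ D' : Divisor k' K', D' = trD (conorm K' D) := ⟨_, rfl⟩
  have hdegD' : D'.deg = D.deg := by
    have h1 := deg_trD (k' := k') (conorm K' D)
    rw [deg_conorm hK, finrank_of_bij h, ← hD'] at h1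
    have hn0 : ((Module.finrank k k' : ℕ) : ℤ) ≠ 0 := by
      have : 0 < Module.finrank k k' := Module.finrank_pos
      omega
    exact (mul_left_cancel₀ hn0 h1).symm
  have hmemL : ∀ x : K', (∀ (Q : Place k K') (P : Place k K) (e : ℕ), IsOverWith Q P e →
      Q.1 x ≤ exp ((e : ℤ) * D P)) → x ∈ L D' := by
    intro x hx
    rw [hD', mem_L_trD]
    intro Q
    obtain ⟨P, e, he⟩ := exists_below' (K := K) Q
    rw [conorm_apply D he (finite_over hK P)]
    exact hx Q P e he
  -- a basis of `L(D)`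
  have hLfin := L_finite hK D
  have hL'fin := L_finite hK' D'
  let β := Module.finBasis k (L D)
  have hβli : LinearIndependent k (fun j => ((β j : L D) : K)) :=
    β.linearIndependent.map' (L D).subtype (Submodule.ker_subtype _)
  have hβli' := linearIndependent_algebraMap h hβli
  have hβmem : ∀ j (P : Place k K), P.1 ((β j : L D) : K) ≤ exp (D P) := fun j P => (β j).2 P
  -- membership of `Y P₀`
  have hYL : ∀ P₀ ∈ S, Y P₀ ∈ L D' := by
    intro P₀ hP₀
    apply hmemL
    intro Q P e he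
    by_cases hP : P ∈ S
    · rw [hDS P hP, mul_zero, exp_zero]
      by_cases hPP : P = P₀
      · subst hPP
        have h1 : Y P = z P + (Y P - z P) := by ring
        rw [h1]
        exact (Q.1.map_add _ _).trans (max_le ((hz P hP).1 Q ⟨e, he⟩)
          (OPk_le P hkQ (hYz P hP) ⟨e, he⟩))
      · exact OPk_le P hkQ (hYmem P₀ P hP hPP) ⟨e, he⟩
    · rw [hY]
      apply Valuation.map_sum_le
      intro i _
      rw [map_mul, he]
      calc P.1 (y P₀ i) ^ e * Q.1 (algebraMap k' K' (b i)) ≤ exp (D P) ^ e * 1 :=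
            mul_le_mul' (pow_le_pow_left' (hDpole P₀ hP₀ i P hP) e) (hkQ Q _)
        _ = exp ((e : ℤ) * D P) := by
            rw [mul_one, ← exp_nsmul, nsmul_eq_mul]
  have hβL : ∀ j, algebraMap K K' ((β j : L D) : K) ∈ L D' := by
    intro j
    apply hmemL
    intro Q P e he
    rw [he]
    calc P.1 ((β j : L D) : K) ^ e ≤ exp (D P) ^ e := pow_le_pow_left' (hβmem j P) e
      _ = exp ((e : ℤ) * D P) := by rw [← exp_nsmul, nsmul_eq_mul]
  -- the family
  obtain ⟨v, hv⟩ : ∃ v : Fin (Module.finrank k (L D)) ⊕ {P // P ∈ S} → K', v =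
      Sum.elim (fun j => algebraMap K K' ((β j : L D) : K)) (fun P => Y P.1) := ⟨_, rfl⟩
  have hvmem : ∀ idx, v idx ∈ L D' := by
    intro idx
    rw [hv]
    rcases idx with j | P
    · exact hβL j
    · exact hYL P.1 P.2
  have hvli : LinearIndependent k' v := by
    rw [Fintype.linearIndependent_iff]
    intro g hsum
    rw [Fintype.sum_sum_type, hv] at hsum
    simp only [Sum.elim_inl, Sum.elim_inr] at hsum
    -- the coefficients of the `Y P` vanish
    have hgr : ∀ P₀ : {P // P ∈ S}, g (Sum.inr P₀) = 0 := by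
      intro P₀
      by_contra hc
      have h1 : g (Sum.inr P₀) • Y P₀.1 = -(∑ j, g (Sum.inl j) • algebraMap K K' ((β j : L D) : K) +
          ∑ P ∈ Finset.univ.erase P₀, g (Sum.inr P) • Y P.1) := by
        rw [← Finset.add_sum_erase Finset.univ _ (Finset.mem_univ P₀)] at hsum
        linear_combination hsum
      have h2 : g (Sum.inr P₀) • Y P₀.1 ∈ OPk k' K' P₀.1 := by
        rw [h1]
        refine Subring.neg_mem _ (Subring.add_mem _ (Subring.sum_mem _ fun j _ => ?_)
          (Subring.sum_mem _ fun P hP => ?_))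
        · rw [Algebra.smul_def]
          refine Subring.mul_mem _ (const_mem_OPk _ _) (algebraMap_mem_OPk _ ?_)
          have := hβmem j P₀.1
          rwa [hDS P₀.1 P₀.2, exp_zero] at this
        · rw [Algebra.smul_def]
          refine Subring.mul_mem _ (const_mem_OPk _ _) (hYmem P.1 P₀.1 P₀.2 ?_)
          intro heq
          exact (Finset.mem_erase.mp hP).1 (Subtype.ext heq.symm)
      have h3 : Y P₀.1 ∈ OPk k' K' P₀.1 := by
        have : Y P₀.1 = algebraMap k' K' (g (Sum.inr P₀))⁻¹ * (g (Sum.inr P₀) • Y P₀.1) := by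
          rw [Algebra.smul_def, ← mul_assoc, ← map_mul, inv_mul_cancel₀ hc, map_one, one_mul]
        rw [this]
        exact Subring.mul_mem _ (const_mem_OPk _ _) h2
      have h4 : z P₀.1 ∈ OPk k' K' P₀.1 := by
        have : z P₀.1 = Y P₀.1 - (Y P₀.1 - z P₀.1) := by ring
        rw [this]
        exact Subring.sub_mem _ h3 (hYz P₀.1 P₀.2)
      exact (hz P₀.1 P₀.2).2 h4
    have hsum' : ∑ j, g (Sum.inl j) • algebraMap K K' ((β j : L D) : K) = 0 := by
      rw [← hsum]
      have : ∑ P : {P // P ∈ S}, g (Sum.inr P) • Y P.1 = 0 :=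
        Finset.sum_eq_zero fun P _ => by rw [hgr P, zero_smul]
      rw [this, add_zero]
    have hgl := Fintype.linearIndependent_iff.mp hβli' (fun j => g (Sum.inl j)) hsum'
    rintro (j | P)
    · exact hgl j
    · exact hgr P
  -- the dimension count
  have hcount : Module.finrank k (L D) + S.card ≤ Module.finrank k' (L D') := by
    let v' : Fin (Module.finrank k (L D)) ⊕ {P // P ∈ S} → L D' := fun idx => ⟨v idx, hvmem idx⟩
    have hv'li : LinearIndependent k' v' :=
      LinearIndependent.of_comp (L D').subtype (by exact hvli)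
    have := hv'li.fintype_card_le_finrank
    rwa [Fintype.card_sum, Fintype.card_fin, Fintype.card_coe] at this
  have hR1 := hNK D (le_trans (le_max_left _ _) hdegD)
  have hR2 := hNK' D' (by rw [hdegD']; exact le_trans (le_max_right _ _) hdegD)
  rw [hdegD'] at hR2
  unfold ell at hR1 hR2
  have : ((Module.finrank k (L D) : ℕ) : ℤ) + (S.card : ℤ) ≤ (Module.finrank k' (L D') : ℤ) := by
    exact_mod_cast hcount
  omega

end Main

end Groth.Agent.Helper9.GenusDrop
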