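import Mathlib
import Groth.Prelude.Def_W4bk4goldsch23Ext
import Groth.Agent.Lib.Helper9.FFExt.GenusDrop2

/-!
# Plumbing for constant field extensions: transitivity, cancellation, existence in the right
universe, purely inseparable / separable decomposition of a finite normal extension.
-/

set_option autoImplicit false
set_option linter.unusedSectionVars false
set_option linter.style.haveILetI false

namespace Groth.Agent.Helper9.GenusDrop

open FunFld WithZero TensorProduct
open Groth.Agent.Lib.Helper4.FF Groth.Agent.Helper9.FFExt

section Trans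

variable {k k' k'' K K' K'' : Type*} [Field k] [Field k'] [Field k''] [Field K] [Field K'] [Field K'']
  [Algebra k k'] [Algebra k' k''] [Algebra k k''] [IsScalarTower k k' k'']
  [Algebra k K] [Algebra K K'] [Algebra K' K''] [Algebra K K''] [IsScalarTower K K' K'']
  [Algebra k' K'] [Algebra k'' K''] [Algebra k K'] [Algebra k' K''] [Algebra k K'']
  [IsScalarTower k k' K'] [IsScalarTower k K K'] [IsScalarTower k' k'' K''] [IsScalarTower k' K' K'']
  [IsScalarTower k k'' K''] [IsScalarTower k K K'']

/-- the product basis of `K''/K` is the image of the product basis of `k''/k` -/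
lemma smulTower_constBasis (h1 : Function.Bijective (pm k k' K K'))
    (h2 : Function.Bijective (pm k' k'' K' K'')) {ι κ : Type*} (b : Module.Basis ι k k')
    (d : Module.Basis κ k' k'') (p : ι × κ) :
    ((constBasis h1 b).smulTower (constBasis h2 d)) p = algebraMap k'' K'' ((b.smulTower d) p) := by
  rw [Module.Basis.smulTower_apply, Module.Basis.smulTower_apply, constBasis_apply,
    constBasis_apply, Algebra.smul_def, Algebra.smul_def, map_mul,
    ← IsScalarTower.algebraMap_apply k' K' K'', ← IsScalarTower.algebraMap_apply k' k'' K'']

/-- transitivity of constant field extensions -/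
theorem bijective_pm_trans (h1 : Function.Bijective (pm k k' K K'))
    (h2 : Function.Bijective (pm k' k'' K' K'')) : Function.Bijective (pm k k'' K K'') := by
  let b := Module.Free.chooseBasis k k'
  let d := Module.Free.chooseBasis k' k''
  have hfun : (fun p => algebraMap k'' K'' ((b.smulTower d) p)) =
      ((constBasis h1 b).smulTower (constBasis h2 d)) := by
    funext p
    exact (smulTower_constBasis h1 h2 b d p).symm
  apply bijective_pm_of_basis (b.smulTower d)
  · rw [hfun]
    exact ((constBasis h1 b).smulTower (constBasis h2 d)).linearIndependent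
  · rw [hfun]
    exact ((constBasis h1 b).smulTower (constBasis h2 d)).span_eq.ge

/-- cancellation on top for constant field extensions -/
theorem bijective_pm_top [FiniteDimensional k k'] [FiniteDimensional k' k'']
    (h1 : Function.Bijective (pm k k' K K'))
    (h : Function.Bijective (pm k k'' K K'')) : Function.Bijective (pm k' k'' K' K'') := by
  classical
  let a := Module.finBasis k k'
  let d := Module.finBasis k' k''
  obtain ⟨A, hA⟩ : ∃ A, A = constBasis h1 a := ⟨_, rfl⟩
  obtain ⟨AD, hAD⟩ : ∃ AD, AD = constBasis h (a.smulTower d) := ⟨_, rfl⟩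
  have hADapp : ∀ i l, AD (i, l) = algebraMap K' K'' (A i) * algebraMap k'' K'' (d l) := by
    intro i l
    rw [hAD, hA, constBasis_apply, constBasis_apply, Module.Basis.smulTower_apply,
      Algebra.smul_def, map_mul, ← IsScalarTower.algebraMap_apply k' K' K'',
      ← IsScalarTower.algebraMap_apply k' k'' K'']
  have hexp : ∀ y : Fin (Module.finrank k' k'') → K',
      ∑ l, y l • algebraMap k'' K'' (d l) = ∑ p : Fin (Module.finrank k k') × Fin (Module.finrank k' k''),
        A.repr (y p.2) p.1 • AD p := by
    intro y
    rw [Fintype.sum_prod_type, Finset.sum_comm]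
    refine Finset.sum_congr rfl fun l _ => ?_
    conv_lhs => rw [← A.sum_repr (y l), Finset.sum_smul]
    refine Finset.sum_congr rfl fun i _ => ?_
    rw [hADapp, Algebra.smul_def, Algebra.smul_def, Algebra.smul_def, map_mul, mul_assoc,
      ← IsScalarTower.algebraMap_apply K K' K'']
  apply bijective_pm_of_basis d
  · rw [Fintype.linearIndependent_iff]
    intro y hy l
    rw [hexp y] at hy
    have h1 := Fintype.linearIndependent_iff.mp AD.linearIndependent _ hy
    have h2 : A.repr (y l) = 0 := Finsupp.ext fun i => h1 (i, l)
    exact (LinearEquiv.map_eq_zero_iff _).mp h2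
  · intro x _
    rw [Submodule.mem_span_range_iff_exists_fun]
    refine ⟨fun l => ∑ i, AD.repr x (i, l) • A i, ?_⟩
    rw [hexp]
    conv_rhs => rw [← AD.sum_repr x]
    refine Finset.sum_congr rfl fun p _ => ?_
    congr 1
    rw [map_sum, Finset.sum_apply']
    rw [Finset.sum_eq_single p.1]
    · rw [map_smul, Finsupp.smul_apply, Module.Basis.repr_self, Finsupp.single_eq_same,
        smul_eq_mul, mul_one]
    · intro i _ hne
      rw [map_smul, Finsupp.smul_apply, Module.Basis.repr_self, Finsupp.single_eq_of_ne hne.symm,
        smul_zero]
    · intro hp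
      exact absurd (Finset.mem_univ _) hp

end Trans


universe u v

section Exists

/-- existence of the constant field extension in the universe of `K` -/
theorem exists_constExt (k : Type u) (K : Type v) [Field k] [Field K] [Algebra k K]
    (hg : IsGeometric k K) (N : Type u) [Field N] [Algebra k N] [FiniteDimensional k N] :
    ∃ (KN : Type v) (_ : Field KN) (_ : Algebra K KN) (_ : Algebra N KN) (_ : Algebra k KN)
      (_ : IsScalarTower k N KN) (_ : IsScalarTower k K KN),
      Function.Bijective (pm k N K KN) := by
  classical
  let Ω := AlgebraicClosure K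
  let φ : N →ₐ[k] Ω := IsAlgClosed.lift
  letI : Algebra N Ω := φ.toRingHom.toAlgebra
  haveI : IsScalarTower k N Ω := IsScalarTower.of_algebraMap_eq fun c => (φ.commutes c).symm
  let KN : IntermediateField K Ω := midField K Ω (⊤ : IntermediateField k N)
  let ψ : N →+* KN := (algebraMap N Ω).codRestrict KN fun c =>
    IntermediateField.subset_adjoin _ _ ⟨c, trivial, rfl⟩
  letI : Algebra N KN := ψ.toAlgebra
  have hψ : ∀ c : N, ((algebraMap N KN c : KN) : Ω) = algebraMap N Ω c := fun c => rfl
  haveI : IsScalarTower k N KN := IsScalarTower.of_algebraMap_eq fun c => by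
    apply Subtype.ext
    rw [hψ, ← IsScalarTower.algebraMap_apply]
    rfl
  refine ⟨KN, inferInstance, inferInstance, inferInstance, inferInstance, inferInstance,
    inferInstance, ?_⟩
  have hF : IsField (N ⊗[k] K) := hg N inferInstance
  constructor
  · rw [injective_iff_map_eq_zero]
    intro t ht
    by_contra hne
    obtain ⟨s, hs⟩ := hF.mul_inv_cancel hne
    have := congrArg (pm k N K KN) hs
    rw [map_mul, ht, zero_mul, map_one] at this
    exact zero_ne_one this
  · intro y
    have hy := mid_mem_span (K := K) (K' := Ω) (k := k) (k' := N) inferInstance ⊤ y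
    rw [IntermediateField.coe_top, Set.image_univ] at hy
    rw [Finsupp.mem_span_range_iff_exists_finsupp] at hy
    obtain ⟨l, hl⟩ := hy
    refine ⟨l.sum fun c z => c ⊗ₜ[k] z, ?_⟩
    apply Subtype.ext
    rw [← hl, map_finsuppSum]
    have hcoe : ∀ (f : N →₀ K) (g : N → K → KN), ((f.sum g : KN) : Ω) = f.sum fun a b => (g a b : Ω) := by
      intro f g
      unfold Finsupp.sum
      exact map_sum KN.val _ _
    rw [hcoe]
    refine Finsupp.sum_congr fun c _ => ?_
    rw [Algebra.TensorProduct.productMap_apply_tmul, Algebra.smul_def, mul_comm]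
    rfl

end Exists


section Normal

open IntermediateField

variable (F N : Type*) [Field F] [Field N] [Algebra F N] [FiniteDimensional F N] [Normal F N]

/-- the fixed field of the automorphism group of a finite normal extension is purely inseparable
over the base -/
theorem isPurelyInseparable_fixedField :
    IsPurelyInseparable F (fixedField (⊤ : Subgroup Gal(N/F))) := by
  rw [isPurelyInseparable_iff_natSepDegree_eq_one]
  intro x
  have hx : ∀ σ : Gal(N/F), σ (x : N) = x := fun σ =>
    (mem_fixedField_iff _ _).mp x.2 σ (Subgroup.mem_top σ)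
  have hmin : minpoly F x = minpoly F (x : N) :=
    (minpoly.algebraMap_eq (algebraMap (fixedField (⊤ : Subgroup Gal(N/F))) N).injective x).symm
  rw [hmin]
  have hint : IsIntegral F (x : N) := Algebra.IsIntegral.isIntegral _
  classical
  rw [Polynomial.natSepDegree_eq_of_splits (E := N) _ (Normal.splits inferInstance (x : N))]
  have hset : ((minpoly F (x : N)).aroots N).toFinset = {(x : N)} := by
    ext y
    rw [Multiset.mem_toFinset, Polynomial.mem_aroots, Finset.mem_singleton]
    constructor
    · rintro ⟨-, hy⟩
      obtain ⟨σ, hσ⟩ := minpoly.exists_algEquiv_of_root' hint.isAlgebraic hy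
      rw [← hσ, hx]
    · rintro rfl
      exact ⟨minpoly.ne_zero hint, minpoly.aeval F _⟩
  rw [hset, Finset.card_singleton]

/-- a finite normal extension is separable over the fixed field of its automorphism group -/
theorem isSeparable_fixedField :
    Algebra.IsSeparable (fixedField (⊤ : Subgroup Gal(N/F))) N := by
  have : IsGalois (FixedPoints.subfield (⊤ : Subgroup Gal(N/F)) N) N :=
    IsGalois.of_fixed_field N (⊤ : Subgroup Gal(N/F))
  exact this.to_isSeparable

end Normal


section Triv

/-- isomorphic function fields have the same genus (one inequality, via the trivial constant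
extension) -/
theorem genus_le_of_algEquiv {k₁ : Type u} {K₁ K' : Type v} [Field k₁] [Field K₁] [Field K']
    [Algebra k₁ K₁] [Algebra k₁ K'] (hK₁ : IsFunctionField k₁ K₁) (hg₁ : IsGeometric k₁ K₁)
    (φ : K₁ ≃ₐ[k₁] K') : genus k₁ K' ≤ genus k₁ K₁ := by
  letI : Algebra K₁ K' := φ.toRingEquiv.toRingHom.toAlgebra
  haveI : IsScalarTower k₁ K₁ K' := IsScalarTower.of_algebraMap_eq fun c => (φ.commutes c).symm
  have hφ : ∀ z : K₁, algebraMap K₁ K' z = φ z := fun z => rfl
  have h : Function.Bijective (pm k₁ k₁ K₁ K') := by
    apply bijective_pm_of_basis (Module.Basis.singleton Unit k₁)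
    · rw [linearIndependent_unique_iff]
      rw [Module.Basis.singleton_apply, map_one]
      exact one_ne_zero
    · intro x _
      rw [Submodule.mem_span_range_iff_exists_fun]
      refine ⟨fun _ => φ.symm x, ?_⟩
      rw [Fintype.sum_unique, Module.Basis.singleton_apply, map_one, Algebra.smul_def, mul_one, hφ,
        AlgEquiv.apply_symm_apply]
  have := genus_drop h hK₁ hg₁ ∅ (by simp)
  simpa using this

end Triv

end Groth.Agent.Helper9.GenusDrop
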