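import Mathlib
import Groth.Prelude.Def_W4bk4goldsch23Ext
import Groth.Agent.Lib.Helper9.FFExt.GenusDrop3

set_option autoImplicit false
set_option linter.unusedSectionVars false
set_option linter.style.haveILetI false

namespace Groth.Agent.Helper9.GenusDrop

open FunFld WithZero TensorProduct
open Groth.Agent.Lib.Helper4.FF Groth.Agent.Helper9.FFExt

universe u v

/-- if no finite purely inseparable constant extension lowers the genus, every place is
nonsingular for every finite constant extension -/
theorem ns_of_minimal {k₁ : Type u} {K' : Type v} [Field k₁] [Field K'] [Algebra k₁ K']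
    (hK' : IsFunctionField k₁ K') (hg' : IsGeometric k₁ K')
    (hmin : ∀ (E : Type u) [Field E] [Algebra k₁ E] [FiniteDimensional k₁ E]
      [IsPurelyInseparable k₁ E]
      (KE : Type v) [Field KE] [Algebra K' KE] [Algebra E KE] [Algebra k₁ KE]
      [IsScalarTower k₁ E KE] [IsScalarTower k₁ K' KE],
      Function.Bijective (pm k₁ E K' KE) → genus k₁ K' ≤ genus E KE)
    (Q : Place k₁ K') (k'' : Type u) [Field k''] [Algebra k₁ k''] [FiniteDimensional k₁ k'']
    (K'' : Type v) [Field K''] [Algebra K' K''] [Algebra k'' K''] [Algebra k₁ K'']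
    [IsScalarTower k₁ k'' K''] [IsScalarTower k₁ K' K'']
    (h2 : Function.Bijective (pm k₁ k'' K' K'')) : NS k'' K'' Q := by
  classical
  obtain ⟨hK'', hg''⟩ := Groth.Agent.S11006.result k₁ k'' K' K'' h2 hK' hg'
  -- normal closure
  let Ak := AlgebraicClosure k''
  haveI : IsAlgClosure k₁ Ak := IsAlgClosure.ofAlgebraic k₁ k'' Ak
  let N : IntermediateField k₁ Ak := IntermediateField.normalClosure k₁ k'' Ak
  haveI : FiniteDimensional k'' N := FiniteDimensional.right k₁ k'' N
  obtain ⟨KN, _, _, _, _, _, _, hN⟩ := exists_constExt k'' K'' hg'' N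
  letI : Algebra K' KN := ((algebraMap K'' KN).comp (algebraMap K' K'')).toAlgebra
  haveI : IsScalarTower K' K'' KN := IsScalarTower.of_algebraMap_eq fun _ => rfl
  letI : Algebra k₁ KN := ((algebraMap K'' KN).comp (algebraMap k₁ K'')).toAlgebra
  haveI : IsScalarTower k₁ K'' KN := IsScalarTower.of_algebraMap_eq fun _ => rfl
  haveI : IsScalarTower k₁ K' KN := IsScalarTower.of_algebraMap_eq fun c => by
    change algebraMap K'' KN (algebraMap k₁ K'' c) =
      algebraMap K'' KN (algebraMap K' K'' (algebraMap k₁ K' c))
    rw [← IsScalarTower.algebraMap_apply k₁ K' K'']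
  haveI : IsScalarTower k₁ N KN := IsScalarTower.of_algebraMap_eq fun c => by
    change algebraMap K'' KN (algebraMap k₁ K'' c) = algebraMap N KN (algebraMap k₁ N c)
    rw [IsScalarTower.algebraMap_apply k₁ k'' K'', ← IsScalarTower.algebraMap_apply k'' K'' KN,
      IsScalarTower.algebraMap_apply k'' N KN, ← IsScalarTower.algebraMap_apply k₁ k'' N]
  have hN1 : Function.Bijective (pm k₁ N K' KN) := bijective_pm_trans h2 hN
  -- the purely inseparable part
  let E : IntermediateField k₁ N := IntermediateField.fixedField (⊤ : Subgroup Gal(N/k₁))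
  haveI hEpi : IsPurelyInseparable k₁ E := isPurelyInseparable_fixedField k₁ N
  haveI hEsep : Algebra.IsSeparable E N := isSeparable_fixedField k₁ N
  let KE : IntermediateField K' KN := midField K' KN E
  have hE1 : Function.Bijective (pm k₁ E K' KE) := bijective_mid_bot hN1 E
  have hE2 : Function.Bijective (pm E N KE KN) := bijective_mid_top hN1 E
  have hgen : genus k₁ K' ≤ genus E KE := hmin E KE hE1
  have hnsE : NS E KE Q := by
    by_contra hns
    have := genus_drop hE1 hK' hg' {Q} (by simpa using hns)
    rw [Finset.card_singleton] at this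
    omega
  obtain ⟨hKE, hgE⟩ := Groth.Agent.S11006.result k₁ E K' KE hE1 hK' hg'
  haveI : FiniteDimensional K' KE := finite_of_bij hE1
  have hnsN : NS N KN Q := by
    apply ns_tower_of hE2 Q ?_ hnsE ?_
    · intro Q' c
      exact val_le_one_of_isAlgebraic Q' ((Algebra.IsAlgebraic.isAlgebraic c).algebraMap)
    · intro Q' hQ'
      apply ns_of_separable hE2 (isFFw_of_finite KE hK'.1) Q'
      · intro c
        exact val_le_one_of_isAlgebraic Q' ((Algebra.IsAlgebraic.isAlgebraic c).algebraMap)
      · intro Q'' c
        exact val_le_one_of_isAlgebraic Q'' ((Algebra.IsAlgebraic.isAlgebraic c).algebraMap)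
  haveI : FiniteDimensional K' K'' := finite_of_bij h2
  exact ns_tower_left hN Q hnsN

/-- class of purely inseparable finite constant extensions with given genus -/
def InClass (k : Type u) (K : Type v) [Field k] [Field K] [Algebra k K] (g : ℕ) : Prop :=
  ∃ (k' : Type u) (_ : Field k') (_ : Algebra k k') (_ : FiniteDimensional k k')
    (_ : IsPurelyInseparable k k')
    (K' : Type v) (_ : Field K') (_ : Algebra K K') (_ : Algebra k' K') (_ : Algebra k K')
    (_ : IsScalarTower k k' K') (_ : IsScalarTower k K K'),
    Function.Bijective (pm k k' K K') ∧ genus k' K' = g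

lemma bijective_pm_self (k : Type*) (K : Type*) [Field k] [Field K] [Algebra k K] :
    Function.Bijective (pm k k K K) := by
  apply bijective_pm_of_basis (Module.Basis.singleton Unit k)
  · rw [linearIndependent_unique_iff]
    rw [Module.Basis.singleton_apply, map_one]
    exact one_ne_zero
  · intro x _
    rw [Submodule.mem_span_range_iff_exists_fun]
    refine ⟨fun _ => x, ?_⟩
    rw [Fintype.sum_unique, Module.Basis.singleton_apply, map_one, smul_eq_mul, mul_one]

lemma inClass_self (k : Type u) (K : Type v) [Field k] [Field K] [Algebra k K] :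
    InClass k K (genus k K) :=
  ⟨k, inferInstance, inferInstance, inferInstance, inferInstance, K, inferInstance, inferInstance,
    inferInstance, inferInstance, inferInstance, inferInstance, bijective_pm_self k K, rfl⟩

/-- **existence of a nonsingular purely inseparable constant extension** -/
theorem exists_pi_nonsingular (k : Type u) (K : Type v) [Field k] [Field K] [Algebra k K]
    (hK : IsFunctionField k K) (hg : IsGeometric k K) :
    ∃ (k' : Type u) (_ : Field k') (_ : Algebra k k'), FiniteDimensional k k' ∧
      IsPurelyInseparable k k' ∧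
      ∀ (K' : Type v) [Field K'] [Algebra K K'] [Algebra k' K'] [Algebra k K']
        [IsScalarTower k k' K'] [IsScalarTower k K K'],
        Function.Bijective (pm k k' K K') →
        ∀ (Q : Place k' K') (k'' : Type u) [Field k''] [Algebra k' k''] [FiniteDimensional k' k'']
          (K'' : Type v) [Field K''] [Algebra K' K''] [Algebra k'' K''] [Algebra k' K'']
          [IsScalarTower k' k'' K''] [IsScalarTower k' K' K''],
          Function.Bijective (pm k' k'' K' K'') → NS k'' K'' Q := by
  classical
  have hex : ∃ g, InClass k K g := ⟨_, inClass_self k K⟩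
  obtain ⟨k₁, _, _, _, _, K₁, _, _, _, _, _, _, h₁, hg₁⟩ := Nat.find_spec hex
  have hminimal : ∀ g, InClass k K g → Nat.find hex ≤ g := fun g hg => Nat.find_min' hex hg
  refine ⟨k₁, inferInstance, inferInstance, inferInstance, inferInstance, ?_⟩
  intro K' _ _ _ _ _ _ h Q k'' _ _ _ K'' _ _ _ _ _ _ h2
  obtain ⟨hK₁, hgeo₁⟩ := Groth.Agent.S11006.result k k₁ K K₁ h₁ hK hg
  obtain ⟨hK', hgeo'⟩ := Groth.Agent.S11006.result k k₁ K K' h hK hg
  let φ : K₁ ≃ₐ[k₁] K' := (S11006aux.e h₁).symm.trans (S11006aux.e h)
  have hA1 : genus k₁ K' ≤ genus k₁ K₁ := genus_le_of_algEquiv hK₁ hgeo₁ φ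
  have hmin : ∀ (E : Type u) [Field E] [Algebra k₁ E] [FiniteDimensional k₁ E]
      [IsPurelyInseparable k₁ E]
      (KE : Type v) [Field KE] [Algebra K' KE] [Algebra E KE] [Algebra k₁ KE]
      [IsScalarTower k₁ E KE] [IsScalarTower k₁ K' KE],
      Function.Bijective (pm k₁ E K' KE) → genus k₁ K' ≤ genus E KE := by
    intro E _ _ _ _ KE _ _ _ _ _ _ hE
    letI : Algebra k E := ((algebraMap k₁ E).comp (algebraMap k k₁)).toAlgebra
    haveI : IsScalarTower k k₁ E := IsScalarTower.of_algebraMap_eq fun _ => rfl
    haveI : FiniteDimensional k E := FiniteDimensional.trans k k₁ E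
    haveI : IsPurelyInseparable k E := IsPurelyInseparable.trans k k₁ E
    letI : Algebra K KE := ((algebraMap K' KE).comp (algebraMap K K')).toAlgebra
    haveI : IsScalarTower K K' KE := IsScalarTower.of_algebraMap_eq fun _ => rfl
    letI : Algebra k KE := ((algebraMap E KE).comp (algebraMap k E)).toAlgebra
    haveI : IsScalarTower k E KE := IsScalarTower.of_algebraMap_eq fun _ => rfl
    haveI : IsScalarTower k K KE := IsScalarTower.of_algebraMap_eq fun c => by
      change algebraMap E KE (algebraMap k₁ E (algebraMap k k₁ c)) =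
        algebraMap K' KE (algebraMap K K' (algebraMap k K c))
      rw [← IsScalarTower.algebraMap_apply k₁ E KE, IsScalarTower.algebraMap_apply k₁ K' KE,
        ← IsScalarTower.algebraMap_apply k k₁ K', ← IsScalarTower.algebraMap_apply k K K']
    have hkE : Function.Bijective (pm k E K KE) := bijective_pm_trans h hE
    have hcl : InClass k K (genus E KE) :=
      ⟨E, inferInstance, inferInstance, inferInstance, inferInstance, KE, inferInstance,
        inferInstance, inferInstance, inferInstance, inferInstance, inferInstance, hkE, rfl⟩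
    have := hminimal _ hcl
    omega
  exact ns_of_minimal hK' hgeo' hmin Q k'' K'' h2

end Groth.Agent.Helper9.GenusDrop
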