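import Mathlib
import Groth.Prelude.Def_W4bk4goldsch23Ext
import Groth.Agent.Lib.Helper9.FFExt.GenusDrop4

set_option autoImplicit false
set_option linter.unusedSectionVars false
set_option linter.style.haveILetI false

namespace Groth.Agent.Helper9.GenusDrop

open FunFld WithZero TensorProduct
open Groth.Agent.Lib.Helper4.FF Groth.Agent.Helper9.FFExt

universe u v

section Descend

variable {k k₁ k₃ : Type u} {K K₁ K₃ : Type v} [Field k] [Field k₁] [Field k₃] [Field K] [Field K₁]
  [Field K₃] [Algebra k k₁] [FiniteDimensional k k₁] [Algebra k K] [Algebra K K₁] [Algebra k₁ K₁]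
  [Algebra k K₁] [IsScalarTower k k₁ K₁] [IsScalarTower k K K₁]
  [Algebra k k₃] [FiniteDimensional k k₃] [Algebra K K₃] [Algebra k₃ K₃]
  [Algebra k K₃] [IsScalarTower k k₃ K₃] [IsScalarTower k K K₃]

/-- nonsingularity descends along an embedding of constant fields -/
theorem ns_descend (h₁ : Function.Bijective (pm k k₁ K K₁)) (h₃ : Function.Bijective (pm k k₃ K K₃))
    (σ : k₁ →ₐ[k] k₃) (P : Place k K) (hns : NS k₃ K₃ P) : NS k₁ K₁ P := by
  letI : Algebra k₁ k₃ := σ.toRingHom.toAlgebra
  haveI : IsScalarTower k k₁ k₃ := IsScalarTower.of_algebraMap_eq fun c => (σ.commutes c).symm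
  letI : Algebra k₁ K₃ := ((algebraMap k₃ K₃).comp (algebraMap k₁ k₃)).toAlgebra
  haveI : IsScalarTower k₁ k₃ K₃ := IsScalarTower.of_algebraMap_eq fun _ => rfl
  haveI : IsScalarTower k k₁ K₃ := IsScalarTower.of_algebraMap_eq fun c => by
    change algebraMap k K₃ c = algebraMap k₃ K₃ (algebraMap k₁ k₃ (algebraMap k k₁ c))
    rw [← IsScalarTower.algebraMap_apply k k₁ k₃, ← IsScalarTower.algebraMap_apply k k₃ K₃]
  let τ : K₁ →ₐ[k] K₃ := (Algebra.TensorProduct.productMap (IsScalarTower.toAlgHom k k₁ K₃)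
    (IsScalarTower.toAlgHom k K K₃)).comp ((S11006aux.e h₁).symm.toAlgHom.restrictScalars k)
  have hτK : ∀ z : K, τ (algebraMap K K₁ z) = algebraMap K K₃ z := by
    intro z
    have h1 : (S11006aux.e h₁).symm (algebraMap K K₁ z) = (1 : k₁) ⊗ₜ[k] z := by
      rw [AlgEquiv.symm_apply_eq, S11006aux.e_tmul, map_one, one_mul]
    change Algebra.TensorProduct.productMap (IsScalarTower.toAlgHom k k₁ K₃)
      (IsScalarTower.toAlgHom k K K₃) ((S11006aux.e h₁).symm (algebraMap K K₁ z)) = _
    rw [h1, Algebra.TensorProduct.productMap_apply_tmul, map_one, one_mul]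
    rfl
  have hτk : ∀ c : k₁, τ (algebraMap k₁ K₁ c) = algebraMap k₁ K₃ c := by
    intro c
    have h1 : (S11006aux.e h₁).symm (algebraMap k₁ K₁ c) = c ⊗ₜ[k] (1 : K) := by
      rw [AlgEquiv.symm_apply_eq, S11006aux.e_tmul, map_one, mul_one]
    change Algebra.TensorProduct.productMap (IsScalarTower.toAlgHom k k₁ K₃)
      (IsScalarTower.toAlgHom k K K₃) ((S11006aux.e h₁).symm (algebraMap k₁ K₁ c)) = _
    rw [h1, Algebra.TensorProduct.productMap_apply_tmul, map_one, mul_one]
    rfl
  letI : Algebra K₁ K₃ := τ.toRingHom.toAlgebra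
  have hτ : ∀ x : K₁, algebraMap K₁ K₃ x = τ x := fun _ => rfl
  haveI : IsScalarTower K K₁ K₃ := IsScalarTower.of_algebraMap_eq fun z => by
    rw [hτ, hτK]
  haveI : IsScalarTower k₁ K₁ K₃ := IsScalarTower.of_algebraMap_eq fun c => by
    rw [hτ, hτk]
  haveI : IsScalarTower k K₁ K₃ := IsScalarTower.of_algebraMap_eq fun c => by
    rw [hτ, AlgHom.commutes]
  haveI : FiniteDimensional k₁ k₃ := FiniteDimensional.right k k₁ k₃
  have h13 : Function.Bijective (pm k₁ k₃ K₁ K₃) := bijective_pm_top h₁ h₃
  haveI : FiniteDimensional K K₁ := finite_of_bij h₁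
  exact ns_tower_left h13 P hns

end Descend

section Common

/-- two finite extensions embed in a common finite extension -/
theorem exists_common_ext (k : Type u) [Field k] (k₁ k₂ : Type u) [Field k₁] [Field k₂]
    [Algebra k k₁] [Algebra k k₂] [FiniteDimensional k k₁] [FiniteDimensional k k₂] :
    ∃ (k₃ : Type u) (_ : Field k₃) (_ : Algebra k k₃) (_ : FiniteDimensional k k₃),
      Nonempty (k₁ →ₐ[k] k₃) ∧ Nonempty (k₂ →ₐ[k] k₃) := by
  let A := AlgebraicClosure k
  let φ₁ : k₁ →ₐ[k] A := IsAlgClosed.lift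
  let φ₂ : k₂ →ₐ[k] A := IsAlgClosed.lift
  haveI : FiniteDimensional k φ₁.fieldRange :=
    (LinearMap.finiteDimensional_range φ₁.toLinearMap :)
  haveI : FiniteDimensional k φ₂.fieldRange :=
    (LinearMap.finiteDimensional_range φ₂.toLinearMap :)
  refine ⟨(φ₁.fieldRange ⊔ φ₂.fieldRange : IntermediateField k A), inferInstance, inferInstance,
    inferInstance, ⟨?_⟩, ⟨?_⟩⟩
  · exact φ₁.codRestrict (φ₁.fieldRange ⊔ φ₂.fieldRange).toSubalgebra fun x =>
      (le_sup_left : φ₁.fieldRange ≤ _) ⟨x, rfl⟩
  · exact φ₂.codRestrict (φ₁.fieldRange ⊔ φ₂.fieldRange).toSubalgebra fun x =>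
      (le_sup_right : φ₂.fieldRange ≤ _) ⟨x, rfl⟩

end Common

section Fin

variable (k : Type u) (K : Type v) [Field k] [Field K] [Algebra k K]

/-- `P` is singular in some finite constant extension (abstract form) -/
def Sing (P : Place k K) : Prop :=
  ∃ (k' : Type u) (_ : Field k') (_ : Algebra k k') (_ : FiniteDimensional k k')
    (K' : Type v) (_ : Field K') (_ : Algebra K K') (_ : Algebra k' K') (_ : Algebra k K')
    (_ : IsScalarTower k k' K') (_ : IsScalarTower k K K'),
    Function.Bijective (pm k k' K K') ∧ ¬ NS k' K' P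

variable {k K}

theorem exists_common_sing (hg : IsGeometric k K)
    (S : Finset (Place k K)) (hS : ∀ P ∈ S, Sing k K P) :
    ∃ (k' : Type u) (_ : Field k') (_ : Algebra k k') (_ : FiniteDimensional k k')
    (K' : Type v) (_ : Field K') (_ : Algebra K K') (_ : Algebra k' K') (_ : Algebra k K')
    (_ : IsScalarTower k k' K') (_ : IsScalarTower k K K'),
    Function.Bijective (pm k k' K K') ∧ ∀ P ∈ S, ¬ NS k' K' P := by
  classical
  induction S using Finset.induction_on with
  | empty =>
    exact ⟨k, inferInstance, inferInstance, inferInstance, K, inferInstance, inferInstance,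
      inferInstance, inferInstance, inferInstance, inferInstance, bijective_pm_self k K,
      fun P hP => absurd hP (Finset.notMem_empty P)⟩
  | insert P S₀ hP ih =>
    obtain ⟨k₁, _, _, _, K₁, _, _, _, _, _, _, h₁, hns₁⟩ :=
      ih fun P' hP' => hS P' (Finset.mem_insert_of_mem hP')
    obtain ⟨k₂, _, _, _, K₂, _, _, _, _, _, _, h₂, hns₂⟩ := hS P (Finset.mem_insert_self P S₀)
    obtain ⟨k₃, _, _, _, ⟨σ₁⟩, ⟨σ₂⟩⟩ := exists_common_ext k k₁ k₂
    obtain ⟨K₃, _, _, _, _, _, _, h₃⟩ := exists_constExt k K hg k₃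
    refine ⟨k₃, inferInstance, inferInstance, inferInstance, K₃, inferInstance, inferInstance,
      inferInstance, inferInstance, inferInstance, inferInstance, h₃, ?_⟩
    intro P' hP'
    rcases Finset.mem_insert.mp hP' with rfl | hP'
    · exact fun hns => hns₂ (ns_descend h₂ h₃ σ₂ P' hns)
    · exact fun hns => hns₁ P' hP' (ns_descend h₁ h₃ σ₁ P' hns)

theorem finite_sing (hK : IsFunctionField k K) (hg : IsGeometric k K) :
    {P : Place k K | Sing k K P}.Finite := by
  classical
  by_contra hinf
  obtain ⟨S, hS, hcard⟩ := Set.Infinite.exists_subset_card_eq hinf (genus k K + 1)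
  obtain ⟨k', _, _, _, K', _, _, _, _, _, _, h, hns⟩ := exists_common_sing hg S fun P hP => hS hP
  have := genus_drop h hK hg S hns
  rw [hcard] at this
  push_cast at this
  omega

end Fin

section Transfer

variable {A B : Type*} [CommRing A] [CommRing B]

lemma isIntegral_map_iff (e : A ≃+* B) (S : Subring A) (a : A) :
    IsIntegral (S.map e.toRingHom) (e a) ↔ IsIntegral S a := by
  constructor
  · intro h
    have := IsIntegral.map_of_comp_eq (e.subringMap (s := S)).symm.toRingHom e.symm.toRingHom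
      (by
        ext x
        obtain ⟨y, hy, hxy⟩ := x.2
        have : (e.subringMap (s := S)).symm x = ⟨y, hy⟩ := by
          rw [RingEquiv.symm_apply_eq]
          exact Subtype.ext hxy.symm
        change (((e.subringMap (s := S)).symm x : S) : A) = e.symm (x : B)
        rw [this, ← hxy]
        exact (e.symm_apply_apply y).symm) h
    simpa using this
  · intro h
    exact IsIntegral.map_of_comp_eq (e.subringMap (s := S)).toRingHom e.toRingHom
      (by ext x; rfl) h

/-- transfer of "integral closure = adjoin" along a ring isomorphism -/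
theorem integralClosure_eq_adjoin_iff (e : A ≃+* B) (S : Subring A) (X : Set A) (S' : Subring B)
    (X' : Set B) (hS : S' = S.map e.toRingHom) (hX : X' = e '' X) :
    integralClosure S A = Algebra.adjoin S X ↔ integralClosure S' B = Algebra.adjoin S' X' := by
  subst hS hX
  have hcl : ∀ a : A, e a ∈ Subring.closure
      (Set.range (algebraMap (S.map e.toRingHom) B) ∪ e '' X) ↔
      a ∈ Subring.closure (Set.range (algebraMap S A) ∪ X) := by
    intro a
    have h1 : Set.range (algebraMap (S.map e.toRingHom) B) ∪ e '' X =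
        e.toRingHom '' (Set.range (algebraMap S A) ∪ X) := by
      rw [Set.image_union]
      congr 1
      ext b
      constructor
      · rintro ⟨⟨_, y, hy, rfl⟩, rfl⟩
        exact ⟨y, ⟨⟨y, hy⟩, rfl⟩, rfl⟩
      · rintro ⟨_, ⟨y, rfl⟩, rfl⟩
        exact ⟨⟨e y, y, y.2, rfl⟩, rfl⟩
    rw [h1, ← RingHom.map_closure]
    constructor
    · rintro ⟨a', ha', haa'⟩
      have : a' = a := e.injective haa'
      rwa [← this]
    · intro ha
      exact ⟨a, ha, rfl⟩
  constructor
  · intro h
    ext b
    obtain ⟨a, rfl⟩ := e.surjective b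
    rw [mem_integralClosure_iff, Algebra.mem_adjoin_iff, isIntegral_map_iff, hcl,
      ← Algebra.mem_adjoin_iff, ← h, mem_integralClosure_iff]
  · intro h
    ext a
    rw [mem_integralClosure_iff, Algebra.mem_adjoin_iff, ← isIntegral_map_iff e, ← hcl,
      ← Algebra.mem_adjoin_iff, ← h, mem_integralClosure_iff]

end Transfer


end Groth.Agent.Helper9.GenusDrop
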