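import Mathlib
import Groth.Prelude.Def_W4bk4goldsch23Ext
import Groth.Agent.Lib.Helper9.FFExt.GenusDrop5

set_option autoImplicit false
set_option linter.unusedSectionVars false
set_option linter.style.haveILetI false

namespace Groth.Agent.Helper9.GenusDrop

open FunFld WithZero TensorProduct Polynomial
open Groth.Agent.Lib.Helper4.FF Groth.Agent.Helper9.FFExt

universe u v

section TowerAlg

variable {k k₁ k₃ : Type u} {K K₁ K₃ : Type v} [Field k] [Field k₁] [Field k₃] [Field K] [Field K₁]
  [Field K₃] [Algebra k k₁] [FiniteDimensional k k₁] [Algebra k K] [Algebra K K₁] [Algebra k₁ K₁]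
  [Algebra k K₁] [IsScalarTower k k₁ K₁] [IsScalarTower k K K₁]
  [Algebra k k₃] [FiniteDimensional k k₃] [Algebra K K₃] [Algebra k₃ K₃]
  [Algebra k K₃] [IsScalarTower k k₃ K₃] [IsScalarTower k K K₃]
  [Algebra k₁ k₃] [IsScalarTower k k₁ k₃] [Algebra k₁ K₃] [IsScalarTower k₁ k₃ K₃]

/-- a constant extension by a bigger field is a constant extension of the smaller constant
extension -/
theorem exists_tower_algebra (h₁ : Function.Bijective (pm k k₁ K K₁))
    (h₃ : Function.Bijective (pm k k₃ K K₃)) :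
    ∃ (_ : Algebra K₁ K₃) (_ : IsScalarTower K K₁ K₃) (_ : IsScalarTower k₁ K₁ K₃)
      (_ : IsScalarTower k K₁ K₃), Function.Bijective (pm k₁ k₃ K₁ K₃) := by
  haveI : IsScalarTower k k₁ K₃ := IsScalarTower.of_algebraMap_eq fun c => by
    rw [IsScalarTower.algebraMap_apply k₁ k₃ K₃, ← IsScalarTower.algebraMap_apply k k₁ k₃,
      ← IsScalarTower.algebraMap_apply k k₃ K₃]
  let τ : K₁ →ₐ[k] K₃ := (Algebra.TensorProduct.productMap (IsScalarTower.toAlgHom k k₁ K₃)
    (IsScalarTower.toAlgHom k K K₃)).comp ((S11006aux.e h₁).symm.toAlgHom.restrictScalars k)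
  have hτK : ∀ z : K, τ (algebraMap K K₁ z) = algebraMap K K₃ z := by
    intro z
    have h1 : (S11006aux.e h₁).symm (algebraMap K K₁ z) = (1 : k₁) ⊗ₜ[k] z := by
      rw [AlgEquiv.symm_apply_eq, S11006aux.e_tmul, map_one, one_mul]
    change Algebra.TensorProduct.productMap (IsScalarTower.toAlgHom k k₁ K₃)
      (IsScalarTower.toAlgHom k K K₃) ((S11006aux.e h₁).symm (algebraMap K K₁ z)) = _
    rw [h1, Algebra.TensorProduct.productMap_apply_tmul, map_one, one_mul]
    rfl
  have hτk : ∀ c : k₁, τ (algebraMap k₁ K₁ c) = algebraMap k₁ K₃ c := by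
    intro c
    have h1 : (S11006aux.e h₁).symm (algebraMap k₁ K₁ c) = c ⊗ₜ[k] (1 : K) := by
      rw [AlgEquiv.symm_apply_eq, S11006aux.e_tmul, map_one, mul_one]
    change Algebra.TensorProduct.productMap (IsScalarTower.toAlgHom k k₁ K₃)
      (IsScalarTower.toAlgHom k K K₃) ((S11006aux.e h₁).symm (algebraMap k₁ K₁ c)) = _
    rw [h1, Algebra.TensorProduct.productMap_apply_tmul, map_one, mul_one]
    rfl
  letI : Algebra K₁ K₃ := τ.toRingHom.toAlgebra
  have hτ : ∀ x : K₁, algebraMap K₁ K₃ x = τ x := fun _ => rfl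
  haveI i1 : IsScalarTower K K₁ K₃ := IsScalarTower.of_algebraMap_eq fun z => by
    rw [hτ, hτK]
  haveI i2 : IsScalarTower k₁ K₁ K₃ := IsScalarTower.of_algebraMap_eq fun c => by
    rw [hτ, hτk]
  haveI i3 : IsScalarTower k K₁ K₃ := IsScalarTower.of_algebraMap_eq fun c => by
    rw [hτ, AlgHom.commutes]
  haveI : FiniteDimensional k₁ k₃ := FiniteDimensional.right k k₁ k₃
  exact ⟨inferInstance, i1, i2, i3, bijective_pm_top h₁ h₃⟩

end TowerAlg

section Abstract

/-- abstract form: a field generated by `k'` and the image of `F`, where `F` is generated over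
`k₁` by roots of polynomials splitting in `k'`, is `k'` -/
theorem surjective_of_closure {k₁ k' F L ι : Type*} [Field k₁] [Field k'] [Field F] [Field L]
    (i₁ : k₁ →+* k') (j : k₁ →+* F) (φ : F →+* L) (ψ : k' →+* L)
    (hcomm : ∀ c, φ (j c) = ψ (i₁ c)) (b : ι → F)
    (hb : ∀ η : F, η ∈ Subring.closure (Set.range j ∪ Set.range b))
    (p : ι → k₁[X]) (hp0 : ∀ i, p i ≠ 0) (hroot : ∀ i, (p i).eval₂ j (b i) = 0)
    (hsplit : ∀ i, ((p i).map i₁).Splits)
    (hgen : ∀ ξ : L, ξ ∈ Subring.closure (Set.range φ ∪ Set.range ψ)) :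
    Function.Surjective ψ := by
  have hbi : ∀ i, φ (b i) ∈ ψ.range := by
    intro i
    apply (hsplit i).mem_range_of_isRoot (Polynomial.map_ne_zero (hp0 i))
    rw [IsRoot.def, Polynomial.map_map, eval_map]
    have : ψ.comp i₁ = φ.comp j := RingHom.ext fun c => (hcomm c).symm
    rw [this, ← Polynomial.hom_eval₂, hroot, map_zero]
  have hF : ∀ η : F, φ η ∈ ψ.range := by
    intro η
    induction hb η using Subring.closure_induction with
    | mem x hx =>
      rcases hx with ⟨c, rfl⟩ | ⟨i, rfl⟩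
      · exact ⟨i₁ c, (hcomm c).symm⟩
      · exact hbi i
    | zero => rw [map_zero]; exact Subring.zero_mem _
    | one => rw [map_one]; exact Subring.one_mem _
    | add x y hx hy ihx ihy => rw [map_add]; exact Subring.add_mem _ ihx ihy
    | neg x hx ihx => rw [map_neg]; exact Subring.neg_mem _ ihx
    | mul x y hx hy ihx ihy => rw [map_mul]; exact Subring.mul_mem _ ihx ihy
  intro ξ
  have : ξ ∈ ψ.range := by
    induction hgen ξ using Subring.closure_induction with
    | mem x hx =>
      rcases hx with ⟨η, rfl⟩ | ⟨c, rfl⟩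
      · exact hF η
      · exact ⟨c, rfl⟩
    | zero => exact Subring.zero_mem _
    | one => exact Subring.one_mem _
    | add x y hx hy ihx ihy => exact Subring.add_mem _ ihx ihy
    | neg x hx ihx => exact Subring.neg_mem _ ihx
    | mul x y hx hy ihx ihy => exact Subring.mul_mem _ ihx ihy
  exact this

/-- a finite-dimensional algebra is generated as a ring by the base and finitely many elements -/
theorem exists_gens (k₁ F : Type*) [Field k₁] [Field F] [Algebra k₁ F] [FiniteDimensional k₁ F] :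
    ∃ (n : ℕ) (b : Fin n → F),
      ∀ η : F, η ∈ Subring.closure (Set.range (algebraMap k₁ F) ∪ Set.range b) := by
  refine ⟨_, Module.finBasis k₁ F, fun η => ?_⟩
  rw [← (Module.finBasis k₁ F).sum_repr η]
  refine Subring.sum_mem _ fun i _ => ?_
  rw [Algebra.smul_def]
  exact Subring.mul_mem _ (Subring.subset_closure (Or.inl ⟨_, rfl⟩))
    (Subring.subset_closure (Or.inr ⟨i, rfl⟩))

theorem finrank_eq_one_of_surjective {k' L : Type*} [Field k'] [Field L] [Algebra k' L]
    (h : Function.Surjective (algebraMap k' L)) : Module.finrank k' L = 1 := by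
  rw [finrank_eq_one_iff_of_nonzero' (1 : L) one_ne_zero]
  intro w
  obtain ⟨c, hc⟩ := h w
  exact ⟨c, by rw [Algebra.smul_def, mul_one, hc]⟩

end Abstract

section HasExt

variable {k K K' : Type*} [Field k] [Field K] [Field K'] [Algebra k K] [Algebra K K']
  [Algebra k K'] [IsScalarTower k K K'] [Algebra.IsAlgebraic K K']

lemma isOver_of_isEquiv (P : Place k K) (Q : Place k K')
    (h : P.1.IsEquiv (Q.1.comap (algebraMap K K'))) : IsOver Q P := by
  obtain ⟨P₀, e, he⟩ := exists_below' (K := K) Q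
  have : P = P₀ := by
    apply place_eq_of_forall
    intro z hz
    have h1 : Q.1 (algebraMap K K' z) < 1 := by
      have := (Valuation.IsEquiv.lt_one_iff_lt_one h (x := z)).mp hz
      simpa using this
    exact ((ow_lt_one_iff he z).mp h1).le
  rw [this]
  exact ⟨e, he⟩

end HasExt

section Split

/-- **existence of a finite splitting field** for a place -/
theorem exists_splitting (k : Type u) (K : Type v) [Field k] [Field K] [Algebra k K]
    (hK : IsFunctionField k K) (hg : IsGeometric k K) (P : Place k K) :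
    ∃ (k' : Type u) (_ : Field k') (_ : Algebra k k'), FiniteDimensional k k' ∧
      ∀ (K' : Type v) [Field K'] [Algebra K K'] [Algebra k' K'] [Algebra k K']
        [IsScalarTower k k' K'] [IsScalarTower k K K'],
        Function.Bijective (pm k k' K K') →
        ∀ Q : Place k' K', P.1.IsEquiv (Q.1.comap (algebraMap K K')) → Q.deg = 1 := by
  classical
  obtain ⟨k₁, _, _, hfin₁, hpi₁, Hns⟩ := exists_pi_nonsingular k K hK hg
  haveI := hfin₁
  haveI := hpi₁
  obtain ⟨K₁, _, _, _, _, _, _, h₁⟩ := exists_constExt k K hg k₁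
  obtain ⟨hK₁, hg₁⟩ := Groth.Agent.S11006.result k k₁ K K₁ h₁ hK hg
  haveI : FiniteDimensional K K₁ := finite_of_bij h₁
  obtain ⟨P₁, hP₁⟩ : ∃ P₁ : Place k K₁, IsOver P₁ P := exists_over_w hK.1 P
  let P₁' : Place k₁ K₁ := toK' P₁
  haveI finF : @Module.Finite k₁ (IsLocalRing.ResidueField P₁'.O) _ _ Algebra.toModule :=
    Module.finite_of_finrank_pos (Place.deg_pos hK₁ P₁')
  obtain ⟨n, b, hb⟩ := exists_gens k₁ (IsLocalRing.ResidueField P₁'.O)
  let f : k₁[X] := ∏ i, minpoly k₁ (b i)
  let k' := f.SplittingField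
  haveI : IsScalarTower k k₁ k' := inferInstance
  haveI : FiniteDimensional k₁ k' := IsSplittingField.finiteDimensional k' f
  haveI : FiniteDimensional k k' := FiniteDimensional.trans k k₁ k'
  refine ⟨k', inferInstance, inferInstance, inferInstance, ?_⟩
  intro K' _ _ _ _ _ _ h Q hQP
  letI : Algebra k₁ K' := ((algebraMap k' K').comp (algebraMap k₁ k')).toAlgebra
  haveI : IsScalarTower k₁ k' K' := IsScalarTower.of_algebraMap_eq fun _ => rfl
  obtain ⟨_, _, _, _, h13⟩ := exists_tower_algebra h₁ h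
  haveI : FiniteDimensional K₁ K' := finite_of_bij h13
  haveI : FiniteDimensional K K' := finite_of_bij h
  let Q₀ : Place k₁ K' := ofK' Q
  obtain ⟨Q₁, e, he⟩ := exists_below' (K := K₁) Q₀
  have hQ₁ : Q₁ = P₁' := by
    have h0 : IsOver (ofK' (k := k) Q) P := isOver_of_isEquiv P (ofK' (k := k) Q) hQP
    have h1 : IsOver (ofK' (k := k) Q) (ofK' (k := k) Q₁) := ⟨e, he⟩
    have h2 : IsOver (ofK' (k := k) Q₁) P := isOver_of_tower h0 h1
    have h3 : ofK' (k := k) Q₁ = P₁ := unique_over_of_pi h₁ h2 hP₁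
    change toK' (ofK' (k := k) Q₁) = toK' P₁
    rw [h3]
  subst hQ₁
  have hQ₀ : IsOver Q₀ P₁' := ⟨e, he⟩
  have hns : NS k' K' P₁' := Hns K₁ h₁ P₁' k' K' h13
  have hkQ : ∀ (Q' : Place k₁ K') (c : k'), Q'.1 (algebraMap k' K' c) ≤ 1 := fun Q' c =>
    val_le_one_of_isAlgebraic Q' ((Algebra.IsAlgebraic.isAlgebraic c).algebraMap)
  have hgen := residue_mem_closure hK₁.1 hns hQ₀ hkQ
  have hsurj : Function.Surjective (@algebraMap k' (IsLocalRing.ResidueField Q₀.O) _ _
      (resConstAlg Q₀ (hkQ Q₀))) := by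
    refine surjective_of_closure (algebraMap k₁ k')
      (algebraMap k₁ (IsLocalRing.ResidueField P₁'.O)) (@algebraMap _ _ _ _ (resAlg hQ₀)) _ ?_ b ?_
      (fun i => minpoly k₁ (b i)) ?_ ?_ ?_ hgen
    · intro c
      change @algebraMap _ _ _ _ (resAlg hQ₀) (IsLocalRing.residue P₁'.O (algebraMap k₁ P₁'.O c)) = _
      rw [resAlg_algebraMap_residue, resConstAlg_algebraMap]
      congr 1
      apply Subtype.ext
      change algebraMap K₁ K' (algebraMap k₁ K₁ c) = algebraMap k' K' (algebraMap k₁ k' c)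
      rw [← IsScalarTower.algebraMap_apply k₁ K₁ K', ← IsScalarTower.algebraMap_apply k₁ k' K']
    · exact hb
    · intro i
      exact minpoly.ne_zero (Algebra.IsIntegral.isIntegral _)
    · intro i
      exact minpoly.aeval k₁ (b i)
    · intro i
      have hf0 : f ≠ 0 := Finset.prod_ne_zero_iff.mpr fun i _ =>
        minpoly.ne_zero (Algebra.IsIntegral.isIntegral _)
      refine Splits.of_dvd (SplittingField.splits f) (Polynomial.map_ne_zero hf0) ?_
      exact Polynomial.map_dvd _ (Finset.dvd_prod_of_mem _ (Finset.mem_univ i))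
  exact @finrank_eq_one_of_surjective k' (IsLocalRing.ResidueField Q.O) _ _ (Place.algRes Q) hsurj

end Split

end Groth.Agent.Helper9.GenusDrop
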