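import Mathlib
import Groth.Prelude.Def_W4bk4goldsch23Ext
import Groth.Agent.Lib.Helper9.FFExt.GenusDrop6

set_option autoImplicit false
set_option linter.unusedSectionVars false
set_option linter.style.haveILetI false

namespace Groth.Agent.Helper9.AlgCl

open FunFld WithZero TensorProduct Polynomial
open Groth.Agent.Lib.Helper4.FF Groth.Agent.Helper9.FFExt Groth.Agent.Helper9.GenusDrop

section MidAlg

variable {k k' K K' : Type*} [Field k] [Field k'] [Field K] [Field K']
  [Algebra k k'] [Algebra k K] [Algebra K K'] [Algebra k' K'] [Algebra k K']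
  [IsScalarTower k k' K'] [IsScalarTower k K K']

/-- `E ⊗_k K → E K` is bijective, for `k'/k` algebraic and `E/k` finite -/
theorem bijective_mid_bot' [Algebra.IsAlgebraic k k'] (h : Function.Bijective (pm k k' K K'))
    (E : IntermediateField k k') [FiniteDimensional k E] :
    Function.Bijective (pm k E K (midField K K' E)) := by
  have hid : ∀ t : E ⊗[k] K, ((pm k E K (midField K K' E) t : midField K K' E) : K') =
      pm k k' K K' (LinearMap.rTensor K E.val.toLinearMap t) := by
    intro t
    induction t using TensorProduct.induction_on with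
    | zero => simp
    | tmul c z =>
      rw [LinearMap.rTensor_tmul, Algebra.TensorProduct.productMap_apply_tmul,
        Algebra.TensorProduct.productMap_apply_tmul]
      rfl
    | add x y hx hy =>
      rw [map_add, map_add, map_add, ← hx, ← hy]
      rfl
  constructor
  · rw [injective_iff_map_eq_zero]
    intro t ht
    have h1 : pm k k' K K' (LinearMap.rTensor K E.val.toLinearMap t) = 0 := by
      rw [← hid, ht]; rfl
    have h2 := (injective_iff_map_eq_zero _).mp h.1 _ h1
    have hinj : Function.Injective (LinearMap.rTensor K E.val.toLinearMap) :=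
      Module.Flat.rTensor_preserves_injective_linearMap _ E.val.injective
    exact (injective_iff_map_eq_zero _).mp hinj _ h2
  · intro y
    have hy := mid_mem_span (K := K) (K' := K') inferInstance E y
    rw [span_image_eq E (Module.finBasis k E), Finsupp.mem_span_range_iff_exists_finsupp] at hy
    obtain ⟨l, hl⟩ := hy
    refine ⟨l.sum fun i z => (Module.finBasis k E i) ⊗ₜ[k] z, ?_⟩
    apply Subtype.ext
    rw [hid, map_finsuppSum, map_finsuppSum, ← hl]
    refine Finsupp.sum_congr fun i _ => ?_
    rw [LinearMap.rTensor_tmul, Algebra.TensorProduct.productMap_apply_tmul, Algebra.smul_def,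
      mul_comm]
    rfl

/-- the subalgebra `K[E]` -/
def KE (E : IntermediateField k k') : Subalgebra K K' :=
  Algebra.adjoin K (Set.range fun c : E => algebraMap k' K' c)

omit [Algebra k K] [Algebra k K'] [IsScalarTower k k' K'] [IsScalarTower k K K'] in
lemma KE_mono {E E' : IntermediateField k k'} (hle : E ≤ E') : KE (K := K) (K' := K') E ≤ KE E' :=
  Algebra.adjoin_mono (by rintro _ ⟨c, rfl⟩; exact ⟨⟨c, hle c.2⟩, rfl⟩)

omit [Algebra k K] [Algebra k K'] [IsScalarTower k k' K'] [IsScalarTower k K K'] in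
lemma KE_le_mid (E : IntermediateField k k') :
    KE (K := K) (K' := K') E ≤ (midField K K' E).toSubalgebra := by
  apply Algebra.adjoin_le
  rintro _ ⟨c, rfl⟩
  exact IntermediateField.subset_adjoin _ _ ⟨c, c.2, rfl⟩

/-- every element lives at a finite level -/
theorem exists_finite_level [Algebra.IsAlgebraic k k'] (h : Function.Surjective (pm k k' K K'))
    (y : K') : ∃ E : IntermediateField k k', FiniteDimensional k E ∧ y ∈ KE (K := K) (K' := K') E := by
  obtain ⟨t, rfl⟩ := h y
  induction t using TensorProduct.induction_on with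
  | zero => exact ⟨⊥, inferInstance, by rw [map_zero]; exact Subalgebra.zero_mem _⟩
  | tmul c z =>
    refine ⟨IntermediateField.adjoin k {c},
      IntermediateField.adjoin.finiteDimensional (Algebra.IsIntegral.isIntegral c), ?_⟩
    rw [Algebra.TensorProduct.productMap_apply_tmul]
    refine Subalgebra.mul_mem _ (Algebra.subset_adjoin
      ⟨⟨c, IntermediateField.mem_adjoin_simple_self k c⟩, rfl⟩) ?_
    exact Subalgebra.algebraMap_mem _ z
  | add x y hx hy =>
    obtain ⟨E₁, hE₁, h₁⟩ := hx
    obtain ⟨E₂, hE₂, h₂⟩ := hy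
    refine ⟨E₁ ⊔ E₂, inferInstance, ?_⟩
    rw [map_add]
    exact Subalgebra.add_mem _ (KE_mono le_sup_left h₁) (KE_mono le_sup_right h₂)

theorem exists_finite_level_finset [Algebra.IsAlgebraic k k']
    (h : Function.Surjective (pm k k' K K')) (Y : Finset K') :
    ∃ E : IntermediateField k k', FiniteDimensional k E ∧ ∀ y ∈ Y, y ∈ KE (K := K) (K' := K') E := by
  classical
  induction Y using Finset.induction_on with
  | empty => exact ⟨⊥, inferInstance, fun y hy => absurd hy (Finset.notMem_empty y)⟩
  | insert y Y hy ih =>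
    obtain ⟨E₁, hE₁, h₁⟩ := ih
    obtain ⟨E₂, hE₂, h₂⟩ := exists_finite_level h y
    refine ⟨E₁ ⊔ E₂, inferInstance, fun z hz => ?_⟩
    rcases Finset.mem_insert.mp hz with rfl | hz
    · exact KE_mono le_sup_right h₂
    · exact KE_mono le_sup_left (h₁ z hz)

/-- `K'` is algebraic over `K` -/
theorem isAlgebraic_of_surj [Algebra.IsAlgebraic k k'] (h : Function.Surjective (pm k k' K K')) :
    Algebra.IsAlgebraic K K' := by
  refine ⟨fun y => ?_⟩
  apply IsIntegral.isAlgebraic
  obtain ⟨t, rfl⟩ := h y
  induction t using TensorProduct.induction_on with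
  | zero => rw [map_zero]; exact isIntegral_zero
  | tmul c z =>
    rw [Algebra.TensorProduct.productMap_apply_tmul]
    refine IsIntegral.mul ?_ isIntegral_algebraMap
    have h1 : IsIntegral k c := Algebra.IsIntegral.isIntegral c
    have h2 : IsIntegral k (algebraMap k' K' c) := h1.map (IsScalarTower.toAlgHom k k' K')
    exact h2.tower_top
  | add x y hx hy => rw [map_add]; exact hx.add hy

end MidAlg

section Count

universe u v

variable {k k' : Type u} {K K' : Type v} [Field k] [Field k'] [Field K] [Field K']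
  [Algebra k k'] [FiniteDimensional k k'] [Algebra k K] [Algebra K K'] [Algebra k' K'] [Algebra k K']
  [IsScalarTower k k' K'] [IsScalarTower k K K']

/-- in a finite constant field extension there are at most `deg P` places above `P` -/
theorem card_over_le (h : Function.Bijective (pm k k' K K')) (hK : IsFunctionField k K)
    (hg : IsGeometric k K) (P : Place k K) (S : Finset (Place k K'))
    (hS : ∀ Q ∈ S, IsOver Q P) : S.card ≤ P.deg := by
  classical
  haveI := finite_of_bij h
  obtain ⟨hK', -⟩ := Groth.Agent.S11006.result k k' K K' h hK hg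
  obtain ⟨hfin, hsum⟩ := sum_ramIdx_mul_deg_w (K' := K') hK.1 P
  have hsub : S ⊆ hfin.toFinset := fun Q hQ => hfin.mem_toFinset.mpr (hS Q hQ)
  have hsum' := hsum hfin.toFinset (fun Q => hfin.mem_toFinset)
  rw [finrank_of_bij h] at hsum'
  have hterm : ∀ Q ∈ hfin.toFinset, Module.finrank k k' ≤ ramIdx Q P * Q.deg := by
    intro Q hQ
    obtain ⟨e, he⟩ := hfin.mem_toFinset.mp hQ
    rw [ramIdx_eq he, deg_toK' (k' := k') Q]
    have h1 := ow_pos he
    have h2 := Place.deg_pos hK' (toK' (k' := k') Q)
    calc Module.finrank k k' = 1 * (Module.finrank k k' * 1) := by ring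
      _ ≤ e * (Module.finrank k k' * (toK' (k' := k') Q).deg) :=
        Nat.mul_le_mul h1 (Nat.mul_le_mul_left _ h2)
  have h3 : hfin.toFinset.card * Module.finrank k k' ≤ Module.finrank k k' * P.deg := by
    rw [← hsum', ← smul_eq_mul, ← Finset.sum_const]
    exact Finset.sum_le_sum hterm
  rw [mul_comm] at h3
  exact le_trans (Finset.card_le_card hsub) (Nat.le_of_mul_le_mul_left h3 Module.finrank_pos)

end Count

section Sep

variable {k K : Type*} [Field k] [Field K] [Algebra k K]

/-- distinct places are separated by an element -/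
lemma exists_sep {Q₁ Q₂ : Place k K} (hne : Q₁ ≠ Q₂) : ∃ y : K, Q₁.1 y < 1 ∧ 1 < Q₂.1 y := by
  by_contra hcon
  push Not at hcon
  exact hne (place_eq_of_forall Q₁ Q₂ hcon)

end Sep

section FiniteOver

universe u v

variable {k kbar : Type u} {K Kbar : Type v} [Field k] [Field kbar] [Field K] [Field Kbar]
  [Algebra k kbar] [Algebra.IsAlgebraic k kbar] [Algebra k K] [Algebra K Kbar] [Algebra kbar Kbar]
  [Algebra k Kbar] [IsScalarTower k kbar Kbar] [IsScalarTower k K Kbar]

/-- an algebraic constant field extension has finitely many places above a given place -/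
theorem finite_over_alg (h : Function.Bijective (pm k kbar K Kbar)) (hK : IsFunctionField k K)
    (hg : IsGeometric k K) (P : Place k K) : {Q : Place k Kbar | IsOver Q P}.Finite := by
  classical
  by_contra hinf
  obtain ⟨A, hA, hcard⟩ := Set.Infinite.exists_subset_card_eq hinf (P.deg + 1)
  have hsep : ∀ Q₁ Q₂ : Place k Kbar, ∃ y : Kbar, Q₁ ≠ Q₂ → Q₁.1 y < 1 ∧ 1 < Q₂.1 y := by
    intro Q₁ Q₂
    by_cases hne : Q₁ = Q₂
    · exact ⟨0, fun h => absurd hne h⟩
    · obtain ⟨y, hy⟩ := exists_sep hne
      exact ⟨y, fun _ => hy⟩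
  choose ysep hysep using hsep
  obtain ⟨E, hE, hY⟩ := exists_finite_level_finset h.2
    ((A ×ˢ A).image fun pq => ysep pq.1 pq.2)
  have hbij := bijective_mid_bot' h E
  haveI : Algebra.IsAlgebraic K Kbar := isAlgebraic_of_surj h.2
  haveI : Algebra.IsAlgebraic (midField K Kbar E) Kbar :=
    Algebra.IsAlgebraic.tower_top (K := K) (midField K Kbar E)
  haveI : FiniteDimensional K (midField K Kbar E) := finite_of_bij hbij
  have hR : ∀ Q : Place k Kbar, ∃ (R : Place k (midField K Kbar E)) (e : ℕ), IsOverWith Q R e :=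
    fun Q => exists_below' (K := midField K Kbar E) Q
  choose R eR hR using hR
  have hRP : ∀ Q ∈ A, IsOver (R Q) P := by
    intro Q hQ
    exact isOver_of_tower (hA hQ) ⟨eR Q, hR Q⟩
  have hinj : Set.InjOn R (A : Set (Place k Kbar)) := by
    intro Q₁ hQ₁ Q₂ hQ₂ hRR
    by_contra hne
    obtain ⟨h1, h2⟩ := hysep Q₁ Q₂ hne
    have hy : ysep Q₁ Q₂ ∈ midField K Kbar E := by
      apply KE_le_mid E
      apply hY
      exact Finset.mem_image.mpr ⟨(Q₁, Q₂), Finset.mem_product.mpr ⟨hQ₁, hQ₂⟩, rfl⟩
    have e1 := hR Q₁ ⟨ysep Q₁ Q₂, hy⟩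
    have e2 := hR Q₂ ⟨ysep Q₁ Q₂, hy⟩
    change Q₁.1 (ysep Q₁ Q₂) = _ at e1
    change Q₂.1 (ysep Q₁ Q₂) = _ at e2
    rw [e1] at h1
    rw [e2, ← hRR] at h2
    have h3 := (pow_lt_one_iff_of_nonneg zero_le (ow_pos (hR Q₁)).ne').mp h1
    have h4 : (R Q₁).1 ⟨ysep Q₁ Q₂, hy⟩ ^ eR Q₂ < 1 := pow_lt_one' h3 (ow_pos (hR Q₂)).ne'
    exact lt_asymm h2 h4
  have h5 := card_over_le hbij hK hg P (A.image R) (by
    intro Q' hQ'
    obtain ⟨Q, hQ, rfl⟩ := Finset.mem_image.mp hQ'
    exact hRP Q hQ)
  rw [Finset.card_image_of_injOn hinj, hcard] at h5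
  omega

end FiniteOver

end Groth.Agent.Helper9.AlgCl
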