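import Mathlib

namespace Groth.Agent.Helper9.FFExt

open Polynomial

/-- binomial independence: if `∑ β_r C(e_r, i) = 0` for all `i ≤ e_last - e_0` then `β = 0` -/
theorem binom_indep {k : Type*} [Field k] {d : ℕ} (e : Fin (d + 1) → ℕ) (he : StrictMono e)
    (β : Fin (d + 1) → k)
    (h : ∀ i, i ≤ e (Fin.last d) - e 0 → ∑ r, β r * ((e r).choose i : k) = 0) : β = 0 := by
  classical
  obtain ⟨m, hm⟩ : ∃ m, m = e (Fin.last d) - e 0 := ⟨_, rfl⟩
  have hle : ∀ r, e 0 ≤ e r := fun r => he.monotone (Fin.zero_le r)
  have hle' : ∀ r, e r ≤ e (Fin.last d) := fun r => he.monotone (Fin.le_last r)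
  let p : k[X] := ∑ r, C (β r) * (1 + X) ^ e r
  let q : k[X] := ∑ r, C (β r) * (1 + X) ^ (e r - e 0)
  have hpq : p = (1 + X) ^ e 0 * q := by
    simp only [p, q, Finset.mul_sum]
    apply Finset.sum_congr rfl
    intro r _
    rw [mul_left_comm, ← pow_add, Nat.add_sub_cancel' (hle r)]
  have hp : X ^ (m + 1) ∣ p := by
    rw [X_pow_dvd_iff]
    intro i hi
    simp only [p, finset_sum_coeff, coeff_C_mul, coeff_one_add_X_pow]
    exact h i (by omega)
  have hcop : IsCoprime (X ^ (m + 1) : k[X]) ((1 + X) ^ e 0) := by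
    apply IsCoprime.pow
    refine ⟨-1, 1, ?_⟩
    ring
  have hq : X ^ (m + 1) ∣ q := by
    rw [hpq] at hp
    exact hcop.dvd_of_dvd_mul_left hp
  have hdeg : q.natDegree < (X ^ (m + 1) : k[X]).natDegree := by
    rw [natDegree_X_pow]
    have : q.natDegree ≤ m := by
      apply natDegree_sum_le_of_forall_le
      intro r _
      refine (natDegree_C_mul_le _ _).trans ?_
      refine (natDegree_pow_le).trans ?_
      have h1 : (1 + X : k[X]).natDegree ≤ 1 := by
        rw [add_comm]
        exact natDegree_X_add_C (1 : k) |>.le |> fun h => by simpa using h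
      calc (e r - e 0) * (1 + X : k[X]).natDegree ≤ (e r - e 0) * 1 := Nat.mul_le_mul_left _ h1
        _ ≤ m := by
          have := hle' r
          omega
    omega
  have hq0 : q = 0 := eq_zero_of_dvd_of_natDegree_lt hq hdeg
  have hcomp : q.comp (X - 1) = ∑ r, C (β r) * X ^ (e r - e 0) := by
    simp only [q, sum_comp, mul_comp, C_comp, pow_comp, add_comp, one_comp, X_comp]
    apply Finset.sum_congr rfl
    intro r _
    congr 2
    ring
  rw [hq0, zero_comp] at hcomp
  funext r
  have h2 := congrArg (fun f => coeff f (e r - e 0)) hcomp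
  simp only [coeff_zero, finset_sum_coeff, coeff_C_mul, coeff_X_pow] at h2
  rw [Finset.sum_eq_single r] at h2
  · simpa using h2.symm
  · intro s _ hsr
    have : e r - e 0 ≠ e s - e 0 := by
      intro heq
      apply hsr
      apply he.injective
      have := hle r
      have := hle s
      omega
    rw [if_neg this, mul_zero]
  · intro h
    exact absurd (Finset.mem_univ r) h

end Groth.Agent.Helper9.FFExt
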