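import Mathlib
import Groth.Prelude.Def_W4bk4goldsch23Ext
import Groth.Agent.Lib.Helper9.FFExt.NormOrd2

/-!
# Trace duals, conductors and the different exponent (helper9)
-/

namespace Groth.Agent.Helper9.FFExt

open WithZero Polynomial FunFld IntermediateField
open Groth.Agent.Lib.Helper4.FF

section TD

variable {k K K' : Type*} [Field k] [Field K] [Field K'] [Algebra k K] [Algebra K K']
  [Algebra k K'] [IsScalarTower k K K'] [FiniteDimensional K K']

/-- **conductor unit**: for a semilocal uniformizer `s` at a place `Q | P` of residue degree one,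
some `c ∈ O_P[s]` which is a unit at `Q` multiplies the whole semilocal ring into `O_P[s]`. -/
theorem exists_conductor_unit (hK : IsFFw k K) (P : Place k K) [Algebra P.O K']
    [IsScalarTower P.O K K'] {Q : Place k K'} (hQ : IsOver Q P) (s : K')
    (hs : Q.1 s = exp (-1 : ℤ))
    (hs' : ∀ Q' : Place k K', IsOver Q' P → Q' ≠ Q → Q'.1 s = 1)
    (hres : ∀ z : K', Q.1 z ≤ 1 → ∃ c : K, P.1 c ≤ 1 ∧ Q.1 (z - algebraMap K K' c) < 1) :
    ∃ c ∈ Algebra.adjoin P.O ({s} : Set K'), Q.1 c = 1 ∧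
      ∀ z : K', (∀ Q' : Place k K', IsOver Q' P → Q'.1 z ≤ 1) →
        c * z ∈ Algebra.adjoin P.O ({s} : Set K') := by
  classical
  have hs0 : s ≠ 0 := by
    rw [← Valuation.ne_zero_iff Q.1, hs]; exact exp_ne_zero
  have hsS : s ∈ semilocal (K' := K') P := by
    intro Q' hQ'
    by_cases h : Q' = Q
    · subst h; rw [hs, ← exp_zero, exp_le_exp]; norm_num
    · rw [hs' Q' hQ' h]
  obtain ⟨R, hR⟩ : ∃ R : Subalgebra P.O K', R = Algebra.adjoin P.O ({s} : Set K') := ⟨_, rfl⟩
  have hRS : R ≤ semilocal (K' := K') P := by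
    rw [hR]
    apply Algebra.adjoin_le
    intro x hx
    rw [Set.mem_singleton_iff] at hx
    rw [hx]; exact hsS
  have hsR : s ∈ R := by rw [hR]; exact Algebra.subset_adjoin rfl
  -- the semilocal ring as an `R`-submodule of `K'`
  let SR : Submodule R K' :=
    { carrier := {z | ∀ Q' : Place k K', IsOver Q' P → Q'.1 z ≤ 1}
      add_mem' := fun {a b} ha hb => (semilocal (K' := K') P).add_mem ha hb
      zero_mem' := (semilocal (K' := K') P).zero_mem
      smul_mem' := fun r z hz => (semilocal (K' := K') P).mul_mem (hRS r.2) hz }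
  have hSRmem : ∀ z, z ∈ SR ↔ ∀ Q' : Place k K', IsOver Q' P → Q'.1 z ≤ 1 := fun z => Iff.rfl
  have hSRfg : SR.FG := by
    obtain ⟨B, hB⟩ := semilocal_eq_span (K' := K') hK P
    have : SR = Submodule.span R (Set.range B) := by
      apply le_antisymm
      · intro z hz
        have hz' : z ∈ Subalgebra.toSubmodule (semilocal (K' := K') P) := hz
        rw [hB] at hz'
        exact Submodule.span_le_restrictScalars P.O R _ hz'
      · rw [Submodule.span_le]
        rintro _ ⟨i, rfl⟩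
        have : B i ∈ Subalgebra.toSubmodule (semilocal (K' := K') P) := by
          rw [hB]; exact Submodule.subset_span ⟨i, rfl⟩
        exact this
    rw [this]
    exact Submodule.fg_span (Set.finite_range B)
  -- the quotient `K' / R`
  let one : Submodule R K' := 1
  let N : Submodule R (K' ⧸ one) := SR.map one.mkQ
  have hNfg : N.FG := hSRfg.map _
  let sR : R := ⟨s, hsR⟩
  have hNle : N ≤ (Ideal.span {sR} : Ideal R) • N := by
    rintro _ ⟨z, hz, rfl⟩
    have hzQ : Q.1 z ≤ 1 := hz Q hQ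
    obtain ⟨c₀, hc₀, hc₀z⟩ := hres z hzQ
    have hc₀S : algebraMap K K' c₀ ∈ SR := by
      intro Q' hQ'
      obtain ⟨e', he'⟩ := hQ'
      rw [ow_le_one_iff he']; exact hc₀
    have hz'S : (z - algebraMap K K' c₀) / s ∈ SR := by
      intro Q' hQ'
      rw [map_div₀]
      by_cases h : Q' = Q
      · subst h
        rw [hs]
        rw [lt_one_iff_le_exp_neg_one] at hc₀z
        exact div_le_one_of_le₀ hc₀z zero_le
      · rw [hs' Q' hQ' h, div_one]
        exact SR.sub_mem hz hc₀S Q' hQ'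
    have hzeq : z = algebraMap K K' c₀ + sR • ((z - algebraMap K K' c₀) / s) := by
      change z = algebraMap K K' c₀ + s * ((z - algebraMap K K' c₀) / s)
      field_simp
      ring
    have hc₀one : algebraMap K K' c₀ ∈ one := by
      rw [Submodule.mem_one]
      refine ⟨algebraMap P.O R ⟨c₀, (Place.mem_O_iff P).mpr hc₀⟩, ?_⟩
      change algebraMap P.O K' ⟨c₀, _⟩ = _
      rw [algebraMap_O_apply]
    rw [hzeq, map_add, map_smul]
    have h0 : one.mkQ (algebraMap K K' c₀) = 0 := (Submodule.Quotient.mk_eq_zero _).mpr hc₀one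
    rw [h0, zero_add]
    exact Submodule.smul_mem_smul (Ideal.subset_span rfl) (Submodule.mem_map_of_mem hz'S)
  obtain ⟨r, hr1, hr2⟩ := Submodule.exists_sub_one_mem_and_smul_eq_zero_of_fg_of_le_smul _ N hNfg hNle
  refine ⟨(r : K'), hR ▸ r.2, ?_, fun z hz => ?_⟩
  · obtain ⟨r', hr'⟩ := Ideal.mem_span_singleton'.mp hr1
    have h1 : (r : K') = 1 + (r' : K') * s := by
      have := congrArg (Subtype.val) hr'
      change (r' : K') * s = (r : K') - 1 at this
      rw [this]; ring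
    rw [h1]
    apply Valuation.map_one_add_of_lt
    rw [map_mul, hs]
    have hr'le : Q.1 (r' : K') ≤ 1 := hRS r'.2 Q hQ
    calc Q.1 (r' : K') * exp (-1 : ℤ) ≤ 1 * exp (-1 : ℤ) := by gcongr
      _ < 1 := by rw [one_mul, ← exp_zero, exp_lt_exp]; norm_num
  · have h1 := hr2 (one.mkQ z) (Submodule.mem_map_of_mem hz)
    rw [← map_smul, Submodule.mkQ_apply, Submodule.Quotient.mk_eq_zero, Submodule.mem_one] at h1
    obtain ⟨y, hy⟩ := h1
    rw [← hR]
    have : (r : K') * z = (y : K') := hy.symm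
    rw [this]
    exact y.2

variable [Algebra.IsSeparable K K']

/-- Euler's description of the trace dual of `O_P[x]` -/
theorem mem_dual_adjoin_iff (P : Place k K) [Algebra P.O K'] [IsScalarTower P.O K K']
    (x : K') (hgen : K⟮x⟯ = ⊤) (hint : IsIntegral P.O x) (y : K') :
    (∀ z ∈ Algebra.adjoin P.O ({x} : Set K'), P.1 (Algebra.trace K K' (y * z)) ≤ 1) ↔
      ∃ h ∈ Algebra.adjoin P.O ({x} : Set K'),
        y = (aeval x (derivative (minpoly K x)))⁻¹ * h := by
  have hKx : Algebra.adjoin K ({x} : Set K') = ⊤ := by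
    have h1 := IntermediateField.adjoin_simple_toSubalgebra_of_isAlgebraic
      (Algebra.IsAlgebraic.isAlgebraic (R := K) x)
    rw [← h1, hgen]; rfl
  have hE := traceForm_dualSubmodule_adjoin P.O K hKx hint
  have h1 : (∀ z ∈ Algebra.adjoin P.O ({x} : Set K'), P.1 (Algebra.trace K K' (y * z)) ≤ 1) ↔
      y ∈ (Algebra.traceForm K K').dualSubmodule
        (Subalgebra.toSubmodule (Algebra.adjoin P.O ({x} : Set K'))) := by
    rw [LinearMap.BilinForm.mem_dualSubmodule]
    refine forall₂_congr fun z hz => ?_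
    rw [Algebra.traceForm_apply, Submodule.mem_one]
    constructor
    · intro h
      exact ⟨⟨_, (Place.mem_O_iff P).mpr h⟩, rfl⟩
    · rintro ⟨c, hc⟩
      rw [← hc, ← Place.mem_O_iff]
      exact c.2
  rw [h1, hE, Submodule.mem_smul_pointwise_iff_exists]
  constructor
  · rintro ⟨h, hh, rfl⟩
    exact ⟨h, hh, rfl⟩
  · rintro ⟨h, hh, rfl⟩
    exact ⟨h, hh, rfl⟩

theorem aeval_derivative_minpoly_ne_zero (x : K') :
    aeval x (derivative (minpoly K x)) ≠ 0 :=
  (Algebra.IsSeparable.isSeparable K x).aeval_derivative_ne_zero (minpoly.aeval K x)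

theorem isIntegral_of_mem_adjoin (P : Place k K) [Algebra P.O K'] [IsScalarTower P.O K K']
    {x : K'} (hint : IsIntegral P.O x) {z : K'} (hz : z ∈ Algebra.adjoin P.O ({x} : Set K')) :
    IsIntegral P.O z := by
  have h1 : Algebra.adjoin P.O ({x} : Set K') ≤ integralClosure P.O K' := by
    apply Algebra.adjoin_le
    intro y hy
    rw [Set.mem_singleton_iff] at hy
    rw [hy]; exact hint
  exact h1 hz

/-- the trace dual of the integral closure has minimal `Q`-valuation `-v_Q(f'(s))` -/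
theorem traceDual_min_val (hK : IsFFw k K) (P : Place k K) [Algebra P.O K']
    [IsScalarTower P.O K K'] {Q : Place k K'} (hQ : IsOver Q P)
    (hres : ∀ z : K', Q.1 z ≤ 1 → ∃ c : K, P.1 c ≤ 1 ∧ Q.1 (z - algebraMap K K' c) < 1)
    (s : K') (hs : Q.1 s = exp (-1 : ℤ))
    (hs' : ∀ Q' : Place k K', IsOver Q' P → Q' ≠ Q → Q'.1 s = 1)
    (hgen : K⟮s⟯ = ⊤) (d : ℤ) (hd : Q.ord (aeval s (derivative (minpoly K s))) = d) :
    (∀ y : K', (∀ z : K', IsIntegral P.O z → P.1 (Algebra.trace K K' (y * z)) ≤ 1) →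
      Q.1 y ≤ exp d) ∧
    ∃ y : K', (∀ z : K', IsIntegral P.O z → P.1 (Algebra.trace K K' (y * z)) ≤ 1) ∧
      Q.1 y = exp d := by
  have hsS : ∀ Q' : Place k K', IsOver Q' P → Q'.1 s ≤ 1 := by
    intro Q' hQ'
    by_cases h : Q' = Q
    · subst h; rw [hs, ← exp_zero, exp_le_exp]; norm_num
    · rw [hs' Q' hQ' h]
  have hsint : IsIntegral P.O s := (isIntegral_iff hK P s).mpr hsS
  obtain ⟨w, hw⟩ : ∃ w, w = aeval s (derivative (minpoly K s)) := ⟨_, rfl⟩
  have hw0 : w ≠ 0 := hw ▸ aeval_derivative_minpoly_ne_zero s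
  have hwv : Q.1 w = exp (-d) := by
    rw [Place.val_eq_exp_neg_ord Q hw0, hw, hd]
  constructor
  · intro y hy
    obtain ⟨h, hh, rfl⟩ := (mem_dual_adjoin_iff P s hgen hsint y).mp
      (fun z hz => hy z (isIntegral_of_mem_adjoin P hsint hz))
    rw [map_mul, map_inv₀, ← hw, hwv, ← exp_neg, neg_neg]
    have hh1 : Q.1 h ≤ 1 :=
      (isIntegral_iff hK P h).mp (isIntegral_of_mem_adjoin P hsint hh) Q hQ
    calc exp d * Q.1 h ≤ exp d * 1 := by gcongr
      _ = exp d := mul_one _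
  · obtain ⟨c, hc, hc1, hc2⟩ := exists_conductor_unit hK P hQ s hs hs' hres
    refine ⟨w⁻¹ * c, fun z hz => ?_, ?_⟩
    · have hcz := hc2 z ((isIntegral_iff hK P z).mp hz)
      have h1 := (mem_dual_adjoin_iff P s hgen hsint (w⁻¹ * (c * z))).mpr ⟨c * z, hcz, by rw [hw]⟩
      have h2 := h1 1 (Subalgebra.one_mem _)
      rw [mul_one] at h2
      rw [mul_assoc]
      exact h2
    · rw [map_mul, map_inv₀, hwv, hc1, mul_one, ← exp_neg, neg_neg]

/-- every element of `O_Q` is a quotient of semilocal elements with denominator a `Q`-unit -/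
theorem exists_semilocal_denominator (hK : IsFFw k K) (P : Place k K) {Q : Place k K'}
    (hQ : IsOver Q P) (z : K') (hz : Q.1 z ≤ 1) :
    ∃ z₂ : K', Q.1 z₂ = 1 ∧ (∀ Q' : Place k K', IsOver Q' P → Q'.1 z₂ ≤ 1) ∧
      ∀ Q' : Place k K', IsOver Q' P → Q'.1 (z * z₂) ≤ 1 := by
  classical
  have hfin := (sum_ramIdx_mul_deg_w (K' := K') hK P).1
  have hQs : ∀ Q', Q' ∈ hfin.toFinset ↔ IsOver Q' P := fun Q' => by
    rw [Set.Finite.mem_toFinset]; rfl
  by_cases hz0 : z = 0
  · exact ⟨1, map_one _, fun Q' _ => by rw [map_one], fun Q' _ => by rw [hz0, zero_mul, map_zero]; exact zero_le⟩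
  obtain ⟨z₂, hz₂⟩ := weak_approximation hfin.toFinset (fun _ => (0 : K'))
    (fun Q' => if Q' = Q then 0 else max 0 (-(Q'.ord z)))
  simp only [sub_zero] at hz₂
  refine ⟨z₂, ?_, fun Q' hQ' => ?_, fun Q' hQ' => ?_⟩
  · have := hz₂ Q ((hQs Q).mpr hQ)
    simpa using this
  · rw [hz₂ Q' ((hQs Q').mpr hQ'), ← exp_zero, exp_le_exp]
    split_ifs
    · simp
    · simp
  · rw [map_mul, hz₂ Q' ((hQs Q').mpr hQ')]
    split_ifs with h
    · subst h; simpa using hz
    · rw [Place.val_eq_exp_neg_ord Q' hz0, ← exp_add, ← exp_zero, exp_le_exp]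
      have := le_max_right 0 (-(Q'.ord z))
      omega

/-- `d(Q|P) ≤ v_Q(g'(y))`, with equality only if `O_Q` is a localisation of `O_P[y]` -/
theorem le_ord_derivative_of_dual (hK : IsFFw k K) (P : Place k K) [Algebra P.O K']
    [IsScalarTower P.O K K'] {Q : Place k K'} (hQ : IsOver Q P)
    (d : ℤ) (t₀ : K')
    (ht₀ : ∀ z : K', IsIntegral P.O z → P.1 (Algebra.trace K K' (t₀ * z)) ≤ 1)
    (ht₀v : Q.1 t₀ = exp d)
    (y : K') (hy : K⟮y⟯ = ⊤) (hyi : IsIntegral P.O y) :
    d ≤ Q.ord (aeval y (derivative (minpoly K y))) ∧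
    (Q.ord (aeval y (derivative (minpoly K y))) = d →
      ∀ z : K', Q.1 z ≤ 1 → ∃ a ∈ Algebra.adjoin P.O ({y} : Set K'),
        ∃ b ∈ Algebra.adjoin P.O ({y} : Set K'), Q.1 b = 1 ∧ z * b = a) := by
  obtain ⟨w, hw⟩ : ∃ w, w = aeval y (derivative (minpoly K y)) := ⟨_, rfl⟩
  have hw0 : w ≠ 0 := hw ▸ aeval_derivative_minpoly_ne_zero y
  rw [← hw]
  -- multiplying `t₀` by a semilocal element stays in the dual
  have hdual : ∀ u : K', IsIntegral P.O u → ∃ h ∈ Algebra.adjoin P.O ({y} : Set K'),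
      t₀ * u = w⁻¹ * h := by
    intro u hu
    have := (mem_dual_adjoin_iff P y hy hyi (t₀ * u)).mp (fun z hz => by
      rw [mul_assoc]
      exact ht₀ (u * z) (hu.mul (isIntegral_of_mem_adjoin P hyi hz)))
    rwa [← hw] at this
  obtain ⟨h₀, hh₀, hth₀⟩ := hdual 1 isIntegral_one
  rw [mul_one] at hth₀
  have hh₀le : Q.1 h₀ ≤ 1 :=
    (isIntegral_iff hK P h₀).mp (isIntegral_of_mem_adjoin P hyi hh₀) Q hQ
  have hval : exp d = (Q.1 w)⁻¹ * Q.1 h₀ := by
    rw [← ht₀v, hth₀, map_mul, map_inv₀]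
  have hwv : Q.1 w = exp (-(Q.ord w)) := Place.val_eq_exp_neg_ord Q hw0
  rw [hwv, ← exp_neg, neg_neg] at hval
  constructor
  · have : exp d ≤ exp (Q.ord w) := by
      rw [hval]
      calc exp (Q.ord w) * Q.1 h₀ ≤ exp (Q.ord w) * 1 := by gcongr
        _ = exp (Q.ord w) := mul_one _
    exact exp_le_exp.mp this
  · intro heq z hz
    rw [heq] at hval
    have hh₀1 : Q.1 h₀ = 1 := by
      have h1 : exp d * 1 = exp d * Q.1 h₀ := by rw [mul_one]; exact hval
      exact (mul_left_cancel₀ exp_ne_zero h1).symm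
    obtain ⟨z₂, hz₂1, hz₂S, hzz₂S⟩ := exists_semilocal_denominator hK P hQ z hz
    obtain ⟨hb, hhb, hbeq⟩ := hdual z₂ ((isIntegral_iff hK P z₂).mpr hz₂S)
    obtain ⟨ha, hha, haeq⟩ := hdual (z * z₂) ((isIntegral_iff hK P _).mpr hzz₂S)
    have hb' : h₀ * z₂ = hb := by
      rw [hth₀, mul_assoc] at hbeq
      exact mul_left_cancel₀ (inv_ne_zero hw0) hbeq
    have ha' : h₀ * (z * z₂) = ha := by
      rw [hth₀, mul_assoc] at haeq
      exact mul_left_cancel₀ (inv_ne_zero hw0) haeq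
    refine ⟨ha, hha, hb, hhb, ?_, ?_⟩
    · rw [← hb', map_mul, hh₀1, hz₂1, mul_one]
    · rw [← hb', ← ha']; ring

end TD

end Groth.Agent.Helper9.FFExt
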