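import Mathlib
import Groth.Agent.Lib.Helper9.FFExt.DiffExp1
import Groth.Agent.Lib.Helper9.FFExt.DiffExp2
import Groth.Agent.Lib.Helper9.FFExt.TraceDual

/-!
# Common set-up for the different-exponent statements (helper9)
-/

namespace Groth.Agent.Helper9.FFExt

universe u v w
open FunFld WithZero Polynomial
open Groth.Agent.Lib.Helper4.FF

/-- residue degree one, in elementwise form -/
theorem hres_of_surjective {k : Type u} {K K' : Type v} [Field k] [Field K] [Field K'] [Algebra k K]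
    [Algebra K K'] [Algebra k K'] [IsScalarTower k K K']
    (P : FunFld.Place k K) (Q : FunFld.Place k K') [P.1.HasExtension Q.1]
    (hf : Function.Surjective (algebraMap (IsLocalRing.ResidueField P.O) (IsLocalRing.ResidueField Q.O)))
    (z : K') (hz : Q.1 z ≤ 1) : ∃ c : K, P.1 c ≤ 1 ∧ Q.1 (z - algebraMap K K' c) < 1 := by
  obtain ⟨ξ, hξ⟩ := hf (IsLocalRing.residue Q.O ⟨z, (Place.mem_O_iff Q).mpr hz⟩)
  obtain ⟨c, rfl⟩ := IsLocalRing.residue_surjective ξ
  refine ⟨(c : K), (Place.mem_O_iff P).mp c.2, ?_⟩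
  rw [Valuation.HasExtension.algebraMap_residue_eq_residue_algebraMap, ← sub_eq_zero, ← map_sub,
    IsLocalRing.residue_eq_zero_iff, mem_maximalIdeal_iff (k := k)] at hξ
  rw [← Valuation.map_neg, neg_sub]
  exact hξ

/-- the common set-up: a semilocal uniformizer, generating, with `v_Q(f'(s)) = d(Q|P)` -/
theorem diffExp_setup (k : Type u) (K K' : Type v) [Field k] [Field K] [Field K'] [Algebra k K] [Algebra K K'] [Algebra k K']
    [IsScalarTower k K K'] [FiniteDimensional K K'] [Algebra.IsSeparable K K']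
    (hK : FunFld.IsFunctionField k K) (hg : FunFld.IsGeometric k K)
    (F F' : Type w) [Field F] [Algebra k F] [Field F'] [Algebra k F']
    (P : FunFld.Place k K) (Q : FunFld.Place k K') (e : ℕ) (he : FunFld.IsOverWith Q P e)
    (φ : K →ₐ[k] LaurentSeries F) (hφ : LocRes.IsExpansionAt P.1 φ)
    (ψ : K' →ₐ[k] LaurentSeries F') (hψ : LocRes.IsExpansionAt Q.1 ψ)
    (x : K) (hx : LocRes.vDiff φ 1 x ≠ 0) (hx' : LocRes.vDiff ψ 1 (algebraMap K K' x) ≠ 0)
    [P.1.HasExtension Q.1]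
    (hf : Function.Surjective (algebraMap (IsLocalRing.ResidueField P.O) (IsLocalRing.ResidueField Q.O))) :
    ∃ s : K', Q.1 s = WithZero.exp (-1 : ℤ) ∧
      (∀ Q' : FunFld.Place k K', FunFld.IsOver Q' P → Q' ≠ Q → Q'.1 s = 1) ∧
      IntermediateField.adjoin K ({s} : Set K') = ⊤ ∧
      Q.ord (Polynomial.aeval s (Polynomial.derivative (minpoly K s))) = LocRes.diffExp φ ψ e x := by
  classical
  have hQ : IsOver Q P := ⟨e, he⟩
  have hfin := (sum_ramIdx_mul_deg_w (K' := K') hK.1 P).1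
  have hQs : ∀ Q', Q' ∈ hfin.toFinset ↔ IsOver Q' P := fun Q' => by
    rw [Set.Finite.mem_toFinset]; rfl
  obtain ⟨s, hs, hs'⟩ := exists_semilocal_uniformizer hfin.toFinset Q ((hQs Q).mpr hQ)
  have hs'' : ∀ Q' : FunFld.Place k K', FunFld.IsOver Q' P → Q' ≠ Q → Q'.1 s = 1 :=
    fun Q' hQ' hne => hs' Q' ((hQs Q').mpr hQ') hne
  have hdeg := deg_eq_of_residue_surjective hQ hf
  have hN := ord_norm_eq_one hK.1 hQ hdeg s hs hs''
  have hsint : ∀ Q' : Place k K', IsOver Q' P → Q'.1 s ≤ 1 := by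
    intro Q' hQ'
    by_cases h : Q' = Q
    · subst h; rw [hs, ← exp_zero, exp_le_exp]; norm_num
    · rw [hs'' Q' hQ' h]
  obtain ⟨h1, h2, h3⟩ := minpoly_of_ord_norm_eq_one hK.1 P s hsint hN
  refine ⟨s, hs, hs'', h1, ?_⟩
  exact ord_aeval_derivative_eq_diffExp hK.1 hg P Q e he φ hφ.1 ψ hψ.1 x hx hx' s hs (minpoly K s)
    (minpoly.aeval K s) h2 h3

end Groth.Agent.Helper9.FFExt
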