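import Mathlib
import Groth.Prelude.Def_W4bk4goldsch45p2
import Groth.Agent.Lib.Helper9.FFExt.MapDiv

/-! # Divisors of differentials `w dv` with a coefficient (helper9) -/

namespace Groth.Agent.Helper9.FFExt

open FunFld WithZero
open Groth.Agent.Lib.Helper4.FF

section DD2

universe u v
variable {k : Type u} {K : Type v} [Field k] [Field K] [Algebra k K]

/-- equal differentials have equal expansions -/
theorem vDiff_congr {F : Type*} [Field F] [Algebra k F] (φ : K →ₐ[k] LaurentSeries F) {w v w' v' : K}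
    (h : w • KaehlerDifferential.D k K v = w' • KaehlerDifferential.D k K v') :
    LocRes.vDiff φ w v = LocRes.vDiff φ w' v' := by
  let _ := φ.toRingHom.toAlgebra
  have _ : IsScalarTower k K (LaurentSeries F) := LocRes.isScalarTower_exp φ
  have h1 := congrArg ((LocRes.dExp φ).liftKaehlerDifferential) h
  rw [map_smul, map_smul, Derivation.liftKaehlerDifferential_comp_D,
    Derivation.liftKaehlerDifferential_comp_D] at h1
  unfold LocRes.vDiff
  exact congrArg Valued.v h1

theorem divDiff_congr (Φ : Place k K → (K →ₐ[k] LaurentSeries k)) {w v w' v' : K}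
    (h : w • KaehlerDifferential.D k K v = w' • KaehlerDifferential.D k K v') :
    divDiff Φ w v = divDiff Φ w' v' := by
  have h1 : (fun P : Place k K => LocRes.ordDiff (Φ P) w v) =
      fun P : Place k K => LocRes.ordDiff (Φ P) w' v' := by
    funext P
    unfold LocRes.ordDiff
    rw [vDiff_congr (Φ P) h]
  classical
  unfold FunFld.divDiff
  exact congrArg (fun g : Place k K → ℤ =>
    if h : (Function.support g).Finite then Finsupp.ofSupportFinite g h else 0) h1

theorem vDiff_mul {F : Type*} [Field F] [Algebra k F] (φ : K →ₐ[k] LaurentSeries F) (c w v : K) :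
    LocRes.vDiff φ (c * w) v = Valued.v (φ c) * LocRes.vDiff φ w v := by
  unfold LocRes.vDiff
  rw [map_mul φ, mul_assoc, Valuation.map_mul]

theorem ordDiff_mul (P : Place k K) (φ : K →ₐ[k] LaurentSeries k)
    (hφ : LocRes.IsExpansionAt P.1 φ) {c w v : K} (hc : c ≠ 0)
    (hwv : LocRes.vDiff φ w v ≠ 0) :
    LocRes.ordDiff φ (c * w) v = P.ord c + LocRes.ordDiff φ w v := by
  unfold LocRes.ordDiff
  rw [vDiff_mul, log_mul _ hwv]
  · unfold Place.ord
    rw [hφ.1]
    ring
  · rw [hφ.1]
    exact (Valuation.ne_zero_iff _).mpr hc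

theorem vDiff_ne_zero [IsAlgClosed k] (hK : IsFunctionField k K) (P : Place k K)
    (φ : K →ₐ[k] LaurentSeries k) (hφ : LocRes.IsExpansionAt P.1 φ) {w s : K} (hw : w ≠ 0)
    (hs : KaehlerDifferential.D k K s ≠ 0) : LocRes.vDiff φ w s ≠ 0 := by
  have h1 := vDiff_ne_zero_of_D_ne_zero (isFFw_of_isFunctionField hK)
    (isGeometric_of_isAlgClosed k K) P φ hφ hs
  have h2 := vDiff_mul φ w 1 s
  rw [mul_one] at h2
  rw [h2]
  apply mul_ne_zero _ h1
  rw [hφ.1]
  exact (Valuation.ne_zero_iff _).mpr hw

theorem divDiff_apply' [IsAlgClosed k] (hK : IsFunctionField k K) {w s : K} (hw : w ≠ 0)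
    (hs : KaehlerDifferential.D k K s ≠ 0)
    (Φ : Place k K → (K →ₐ[k] LaurentSeries k))
    (hΦ : ∀ P : Place k K, LocRes.IsExpansionAt P.1 (Φ P)) (P : Place k K) :
    divDiff Φ w s P = LocRes.ordDiff (Φ P) w s := by
  classical
  have hrel : ∀ Q : Place k K, LocRes.ordDiff (Φ Q) w s = Q.ord w + LocRes.ordDiff (Φ Q) 1 s := by
    intro Q
    have := ordDiff_mul Q (Φ Q) (hΦ Q) (c := w) (w := 1) (v := s) hw
      (vDiff_ne_zero hK Q (Φ Q) (hΦ Q) one_ne_zero hs)
    rwa [mul_one] at this
  have hfin : (Function.support fun Q : Place k K => LocRes.ordDiff (Φ Q) w s).Finite := by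
    apply ((finite_support_ord hK w).union (finite_support_ordDiff hK hs Φ hΦ)).subset
    intro Q hQ
    rw [Function.mem_support, hrel] at hQ
    rw [Set.mem_union, Function.mem_support, Function.mem_support]
    by_contra hcon
    push Not at hcon
    apply hQ
    rw [hcon.1, hcon.2, add_zero]
  unfold FunFld.divDiff
  rw [dif_pos hfin]
  rfl

end DD2

end Groth.Agent.Helper9.FFExt
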