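import Mathlib
import Groth.Agent.Lib.Helper9.FFExt.PlaneKer

namespace Groth.Agent.Helper9.Ell

open Polynomial Groth.Agent.Helper9.PlaneKer
open scoped Polynomial.Bivariate

variable {k K : Type*} [Field k] [Field K] [Algebra k K]

theorem ker_aevalAeval (s t : K) (hs : Transcendental k s) (f : k[X][Y]) (hf : Irreducible f)
    (hft : aevalAeval s t f = 0) :
    RingHom.ker (aevalAeval s t : k[X][Y] →ₐ[k] K) = Ideal.span {f} := by
  have hinj : Function.Injective
      (((aevalAeval s t : k[X][Y] →ₐ[k] K) : k[X][Y] →+* K).comp C) := by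
    intro p q hpq
    simp only [RingHom.coe_comp, RingHom.coe_coe, Function.comp_apply, aevalAeval_C] at hpq
    exact (transcendental_iff_injective.mp hs) hpq
  have hne : RingHom.ker ((aevalAeval s t : k[X][Y] →ₐ[k] K) : k[X][Y] →+* K) ≠ ⊥ := by
    intro h
    have : f ∈ (⊥ : Ideal k[X][Y]) := by rw [← h]; exact hft
    exact hf.ne_zero (by simpa using this)
  obtain ⟨p, hp, -, hker⟩ := ker_eq_span_irreducible (R := k[X]) (L := K) _ hinj hne
  have hmem : f ∈ Ideal.span {p} := by rw [← hker]; exact hft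
  rw [Ideal.mem_span_singleton] at hmem
  have hassoc : Associated p f := hp.associated_of_dvd hf hmem
  change RingHom.ker ((aevalAeval s t : k[X][Y] →ₐ[k] K) : k[X][Y] →+* K) = _
  rw [hker]
  exact Ideal.span_singleton_eq_span_singleton.mpr hassoc

/-- two generic points of the same irreducible plane curve in `K` give an endomorphism -/
theorem exists_algHom (x y x' y' : K) (hx : Transcendental k x) (hx' : Transcendental k x')
    (f : k[X][Y]) (hf : Irreducible f)
    (h1 : aevalAeval x y f = 0) (h2 : aevalAeval x' y' f = 0)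
    (hxy : IntermediateField.adjoin k ({x, y} : Set K) = ⊤) :
    ∃ σ : K →ₐ[k] K, σ x = x' ∧ σ y = y' := by
  classical
  set ψ : k[X][Y] →ₐ[k] K := aevalAeval x y with hψ
  set ψ' : k[X][Y] →ₐ[k] K := aevalAeval x' y' with hψ'
  have hk : RingHom.ker ψ = Ideal.span {f} := ker_aevalAeval x y hx f hf h1
  have hk' : RingHom.ker ψ' = Ideal.span {f} := ker_aevalAeval x' y' hx' f hf h2
  let A : Subalgebra k K := ψ.range
  let ψr : k[X][Y] →ₐ[k] A := ψ.rangeRestrict
  have hψr : Function.Surjective ψr := ψ.rangeRestrict_surjective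
  have hkerle : RingHom.ker (ψr : k[X][Y] →+* A) ≤ RingHom.ker (ψ' : k[X][Y] →+* K) := by
    intro G hG
    have h0 : ψ G = 0 := congrArg Subtype.val hG
    have h3 : G ∈ RingHom.ker ψ := h0
    rw [hk, ← hk'] at h3
    exact h3
  let g₀ : A →+* K := (ψr : k[X][Y] →+* A).liftOfSurjective hψr ⟨(ψ' : k[X][Y] →+* K), hkerle⟩
  have hg₀ : ∀ G, g₀ (ψr G) = ψ' G := fun G =>
    RingHom.liftOfRightInverse_comp_apply _ _ _ _ G
  let g : A →ₐ[k] K := { g₀ with
    commutes' := fun c => by
      have h3 : algebraMap k A c = ψr (algebraMap k _ c) := (ψr.commutes c).symm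
      change g₀ (algebraMap k A c) = _
      rw [h3]
      exact (hg₀ _).trans (ψ'.commutes c) }
  have hgA : ∀ G, g (ψr G) = ψ' G := hg₀
  have hginj : Function.Injective g := by
    rw [injective_iff_map_eq_zero]
    intro a ha
    obtain ⟨G, rfl⟩ := hψr a
    have h0 : ψ' G = 0 := (hgA G).symm.trans ha
    have h3 : G ∈ RingHom.ker ψ' := h0
    rw [hk', ← hk] at h3
    exact Subtype.ext h3
  have hxA : x ∈ A := ⟨C X, aevalAeval_X x y⟩
  have hyA : y ∈ A := ⟨Y, aevalAeval_Y x y⟩
  have hadj : Algebra.adjoin k ({x, y} : Set K) ≤ A := by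
    rw [Algebra.adjoin_le_iff]
    rintro z (rfl | rfl)
    · exact hxA
    · exact hyA
  have : IsFractionRing A K := by
    apply IsFractionRing.of_field
    intro z
    have hz : z ∈ IntermediateField.adjoin k ({x, y} : Set K) := by rw [hxy]; trivial
    obtain ⟨r, hr, s, hs, e⟩ := IntermediateField.mem_adjoin_iff_div.mp hz
    exact ⟨⟨r, hadj hr⟩, ⟨s, hadj hs⟩, e⟩
  refine ⟨IsFractionRing.liftAlgHom hginj, ?_, ?_⟩
  · have h3 : (IsFractionRing.liftAlgHom hginj : K →ₐ[k] K) (algebraMap A K (ψr (C X))) =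
        g (ψr (C X)) := IsFractionRing.lift_algebraMap hginj _
    rw [hgA] at h3
    have h4 : algebraMap A K (ψr (C X)) = x := aevalAeval_X x y
    rw [h4] at h3
    rw [h3]
    exact aevalAeval_X x' y'
  · have h3 : (IsFractionRing.liftAlgHom hginj : K →ₐ[k] K) (algebraMap A K (ψr Y)) =
        g (ψr Y) := IsFractionRing.lift_algebraMap hginj _
    rw [hgA] at h3
    have h4 : algebraMap A K (ψr Y) = y := aevalAeval_Y x y
    rw [h4] at h3
    rw [h3]
    exact aevalAeval_Y x' y'

theorem exists_algEquiv (x y x' y' : K) (hx : Transcendental k x) (hx' : Transcendental k x')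
    (f : k[X][Y]) (hf : Irreducible f)
    (h1 : aevalAeval x y f = 0) (h2 : aevalAeval x' y' f = 0)
    (hxy : IntermediateField.adjoin k ({x, y} : Set K) = ⊤)
    (hxy' : IntermediateField.adjoin k ({x', y'} : Set K) = ⊤) :
    ∃ σ : K ≃ₐ[k] K, σ x = x' ∧ σ y = y' := by
  obtain ⟨σ, hσx, hσy⟩ := exists_algHom x y x' y' hx hx' f hf h1 h2 hxy
  have hsurj : Function.Surjective σ := by
    have htop : σ.fieldRange = ⊤ := by
      rw [eq_top_iff, ← hxy', IntermediateField.adjoin_le_iff]
      rintro z (rfl | rfl)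
      · exact ⟨x, hσx⟩
      · exact ⟨y, hσy⟩
    intro z
    have : z ∈ σ.fieldRange := by rw [htop]; trivial
    exact this
  exact ⟨AlgEquiv.ofBijective σ ⟨σ.toRingHom.injective, hsurj⟩, hσx, hσy⟩

theorem algEquiv_ext (x y : K) (hxy : IntermediateField.adjoin k ({x, y} : Set K) = ⊤)
    (σ τ : K ≃ₐ[k] K) (hx : σ x = τ x) (hy : σ y = τ y) : σ = τ := by
  apply AlgEquiv.ext
  intro z
  have hz : z ∈ IntermediateField.adjoin k ({x, y} : Set K) := by rw [hxy]; trivial
  induction hz using IntermediateField.adjoin_induction with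
  | mem z hz =>
    rcases hz with rfl | rfl
    · exact hx
    · exact hy
  | algebraMap c => rw [σ.commutes, τ.commutes]
  | add a b _ _ ha hb => rw [map_add, map_add, ha, hb]
  | inv a _ ha => rw [map_inv₀, map_inv₀, ha]
  | mul a b _ _ ha hb => rw [map_mul, map_mul, ha, hb]

end Groth.Agent.Helper9.Ell
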