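import Mathlib
import Groth.Prelude.Def_W4bk4goldsch45p2
import Groth.Agent.Lib.Helper9.FFExt.HasseChain
import Groth.Agent.Lib.Helper9.FFExt.AlgClosed

namespace Groth.Agent.Helper9.FFExt

open FunFld
open Groth.Agent.Lib.Helper4.FF

section EH

universe u v
variable {k : Type u} {K : Type v} [Field k] [Field K] [Algebra k K]

open IntermediateField.algebraAdjoinAdjoin in
theorem formallySmooth_adjoin (hK : IsFFw k K) (hg : IsGeometric k K) {t : K}
    (ht : KaehlerDifferential.D k K t ≠ 0) (htt : Transcendental k t) :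
    Algebra.FormallySmooth (Algebra.adjoin k ({t} : Set K)) K := by
  have hsep := isSeparable_of_D_ne_zero hK hg ht htt
  have h1 : Algebra.FormallyEtale (IntermediateField.adjoin k ({t} : Set K)) K :=
    Algebra.FormallyEtale.of_isSeparable _ _
  have h2 : Algebra.FormallyEtale (Algebra.adjoin k ({t} : Set K))
      (IntermediateField.adjoin k ({t} : Set K)) :=
    Algebra.FormallyEtale.of_isLocalization (nonZeroDivisors (Algebra.adjoin k ({t} : Set K)))
  have h3 : Algebra.FormallyEtale (Algebra.adjoin k ({t} : Set K)) K :=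
    Algebra.FormallyEtale.comp (Algebra.adjoin k ({t} : Set K))
      (IntermediateField.adjoin k ({t} : Set K)) K
  infer_instance


/-- a copy of the power series ring, without its `K`-algebra structure -/
def PS (K : Type v) [Field K] : Type v := PowerSeries K

noncomputable instance : CommRing (PS K) := inferInstanceAs (CommRing (PowerSeries K))

/-- the identification of the copy -/
noncomputable def toPS : PowerSeries K ≃+* PS K := RingEquiv.refl _

instance : IsAdicComplete (Ideal.span {(toPS (PowerSeries.X : PowerSeries K) : PS K)}) (PS K) :=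
  inferInstanceAs (IsAdicComplete (Ideal.span {(PowerSeries.X : PowerSeries K)}) (PowerSeries K))

theorem mem_span_toPS_X (x : PS K) :
    x ∈ Ideal.span {(toPS (PowerSeries.X : PowerSeries K) : PS K)} ↔
      PowerSeries.constantCoeff (toPS.symm x) = 0 := by
  rw [Ideal.mem_span_singleton]
  constructor
  · rintro ⟨y, rfl⟩
    rw [map_mul, RingEquiv.symm_apply_apply, map_mul, PowerSeries.constantCoeff_X, zero_mul]
  · intro h
    obtain ⟨y, hy⟩ := PowerSeries.X_dvd_iff.mpr h
    refine ⟨toPS y, ?_⟩
    rw [← map_mul, ← hy, RingEquiv.apply_symm_apply]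

open Polynomial in
/-- **existence of the total Hasse derivative** with respect to a separating element -/
theorem exists_hasse (hK : IsFFw k K) (hg : IsGeometric k K) {t : K}
    (ht : KaehlerDifferential.D k K t ≠ 0) (htt : Transcendental k t) :
    ∃ H : K →ₐ[k] PowerSeries K, LocRes.IsHasseFamily t H := by
  have hsm := formallySmooth_adjoin hK hg ht htt
  obtain ⟨tA, htA⟩ : ∃ tA : Algebra.adjoin k ({t} : Set K), (tA : K) = t :=
    ⟨⟨t, Algebra.self_mem_adjoin_singleton k t⟩, rfl⟩
  have hcoe : ∀ p : k[X], ((aeval tA p : Algebra.adjoin k ({t} : Set K)) : K) = aeval t p := by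
    intro p
    have := (Subalgebra.aeval_coe (Algebra.adjoin k ({t} : Set K)) tA p).symm
    rw [htA] at this
    exact this
  have hinj : Function.Injective (aeval tA : k[X] →ₐ[k] Algebra.adjoin k ({t} : Set K)) := by
    rw [injective_iff_map_eq_zero]
    intro p hp
    by_contra hne
    apply htt
    refine ⟨p, hne, ?_⟩
    rw [← hcoe, hp]
    rfl
  have hsurj : Function.Surjective (aeval tA : k[X] →ₐ[k] Algebra.adjoin k ({t} : Set K)) := by
    rintro ⟨a, ha⟩
    have ha' := ha
    rw [Algebra.adjoin_singleton_eq_range_aeval] at ha'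
    obtain ⟨p, hp⟩ := ha'
    exact ⟨p, Subtype.ext ((hcoe p).trans hp)⟩
  let e : k[X] ≃ₐ[k] Algebra.adjoin k ({t} : Set K) := AlgEquiv.ofBijective _ ⟨hinj, hsurj⟩
  let ρ₀ : Algebra.adjoin k ({t} : Set K) →+* PowerSeries K :=
    ((aeval (PowerSeries.C t + PowerSeries.X : PowerSeries K) : k[X] →ₐ[k] PowerSeries K) :
      k[X] →+* PowerSeries K).comp (e.symm : Algebra.adjoin k ({t} : Set K) →+* k[X])
  have hρ : ∀ p : k[X], ρ₀ (aeval tA p) =
      aeval (PowerSeries.C t + PowerSeries.X : PowerSeries K) p := by
    intro p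
    change aeval (PowerSeries.C t + PowerSeries.X : PowerSeries K) (e.symm (e p)) = _
    rw [AlgEquiv.symm_apply_apply]
  have hcc : ∀ p : k[X], PowerSeries.constantCoeff
      (aeval (PowerSeries.C t + PowerSeries.X : PowerSeries K) p) = aeval t p := by
    intro p
    induction p using Polynomial.induction_on with
    | C c =>
      rw [aeval_C, aeval_C, PowerSeries.algebraMap_apply, PowerSeries.constantCoeff_C]
    | add p q hp hq => rw [map_add, map_add, map_add, hp, hq]
    | monomial n c h =>
      simp only [map_mul, map_pow, aeval_C, aeval_X, map_add, PowerSeries.constantCoeff_C,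
        PowerSeries.constantCoeff_X, add_zero, PowerSeries.algebraMap_apply]
  have hρcc : ∀ a : Algebra.adjoin k ({t} : Set K),
      PowerSeries.constantCoeff (ρ₀ a) = (a : K) := by
    intro a
    obtain ⟨p, rfl⟩ := hsurj a
    rw [hρ, hcc, hcoe]
  let ρ : Algebra.adjoin k ({t} : Set K) →+* PS K := ((toPS : PowerSeries K ≃+* PS K) : PowerSeries K →+* PS K).comp ρ₀
  let _ : Algebra (Algebra.adjoin k ({t} : Set K)) (PS K) := ρ.toAlgebra
  let Cc : K →+* PS K := ((toPS : PowerSeries K ≃+* PS K) : PowerSeries K →+* PS K).comp (PowerSeries.C : K →+* PowerSeries K)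
  let f : K →ₐ[Algebra.adjoin k ({t} : Set K)]
      PS K ⧸ (Ideal.span {(toPS (PowerSeries.X : PowerSeries K) : PS K)} : Ideal (PS K)) :=
    { toRingHom := (Ideal.Quotient.mk _).comp Cc
      commutes' := fun a => by
        change Ideal.Quotient.mk _ (Cc (a : K)) = Ideal.Quotient.mk _ (ρ a)
        rw [Ideal.Quotient.eq, mem_span_toPS_X, map_sub]
        change PowerSeries.constantCoeff (toPS.symm (toPS (PowerSeries.C (a : K))) -
          toPS.symm (toPS (ρ₀ a))) = 0
        rw [RingEquiv.symm_apply_apply, RingEquiv.symm_apply_apply, map_sub,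
          PowerSeries.constantCoeff_C, hρcc, sub_self] }
  obtain ⟨g, hg'⟩ := Algebra.FormallySmooth.exists_mkₐ_comp_eq_of_isAdicComplete f
  have hgk : ∀ a : Algebra.adjoin k ({t} : Set K), g (a : K) = toPS (ρ₀ a) := fun a => g.commutes a
  let gR : K →+* PowerSeries K := ((toPS.symm : PS K ≃+* PowerSeries K) : PS K →+* PowerSeries K).comp g.toRingHom
  have hgR : ∀ y, gR y = toPS.symm (g y) := fun y => rfl
  refine ⟨{ toRingHom := gR
            commutes' := fun c => ?_ }, ?_, ?_⟩
  · change gR (algebraMap k K c) = algebraMap k (PowerSeries K) c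
    have h1 : algebraMap k K c = ((aeval tA (C c) : Algebra.adjoin k ({t} : Set K)) : K) := by
      rw [hcoe, aeval_C]
    rw [hgR, h1, hgk, RingEquiv.symm_apply_apply, hρ, aeval_C]
  · change gR t = _
    have h1 : t = ((aeval tA (X : k[X]) : Algebra.adjoin k ({t} : Set K)) : K) := by
      rw [hcoe, aeval_X]
    have h2 : gR t = gR ((aeval tA (X : k[X]) : Algebra.adjoin k ({t} : Set K)) : K) :=
      congrArg gR h1
    rw [h2, hgR, hgk, RingEquiv.symm_apply_apply, hρ, aeval_X]
  · intro y
    change PowerSeries.constantCoeff (gR y) = y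
    have h1 := DFunLike.congr_fun hg' y
    change Ideal.Quotient.mk _ (g y) = Ideal.Quotient.mk _ (Cc y) at h1
    rw [Ideal.Quotient.eq, mem_span_toPS_X, map_sub] at h1
    change PowerSeries.constantCoeff (toPS.symm (g y) - toPS.symm (toPS (PowerSeries.C y))) = 0 at h1
    rw [RingEquiv.symm_apply_apply, map_sub, PowerSeries.constantCoeff_C, sub_eq_zero] at h1
    rw [hgR]
    exact h1

end EH

end Groth.Agent.Helper9.FFExt
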