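import Mathlib
import Groth.Prelude.Def_W4bk4goldsch45p2
import Groth.Agent.Lib.Helper9.FFExt.LocalOrd4

namespace Groth.Agent.Helper9.FFExt

open FunFld WithZero
open Groth.Agent.Lib.Helper4.FF

section LO7

universe u v
variable {k : Type u} {K : Type v} [Field k] [Field K] [Algebra k K]
variable {P : Place k K} {t : K} {Ht : K →ₐ[k] PowerSeries K} (E : HasseExp P t Ht)

include E in
theorem t_ne_zero' : t ≠ 0 := by
  intro h
  have ht := val_t E
  rw [h, map_zero] at ht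
  exact exp_ne_zero ht.symm

include E in
theorem val_t_pow (j : ℕ) : P.1 (t ^ j) = exp (-(j : ℤ)) := by
  rw [map_pow, val_t E, ← exp_nsmul]
  congr 1
  simp

theorem eps_t_pow (j : ℕ) : E.ε (t ^ j) = HahnSeries.single (j : ℤ) (1 : k) := by
  rw [map_pow, E.ht, HahnSeries.single_pow, one_pow]
  simp

/-- coefficients of a rescaled element -/
theorem coeff_scaled (z : K) (i j : ℕ) (m : ℤ) :
    (E.ε (z * t ^ i / t ^ j)).coeff m = (E.ε z).coeff (m + j - i) := by
  have ht0 := t_ne_zero' E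
  have h1 : E.ε (z * t ^ i / t ^ j) * HahnSeries.single (j : ℤ) (1 : k) =
      E.ε z * HahnSeries.single (i : ℤ) (1 : k) := by
    rw [← eps_t_pow E j, ← eps_t_pow E i, ← map_mul, ← map_mul,
      div_mul_cancel₀ _ (pow_ne_zero j ht0)]
  have h2 : (E.ε (z * t ^ i / t ^ j) * HahnSeries.single (j : ℤ) (1 : k)).coeff (m + (j : ℤ)) =
      (E.ε (z * t ^ i / t ^ j)).coeff m * 1 := HahnSeries.coeff_mul_single_add
  rw [h1, HahnSeries.coeff_mul_single, mul_one, mul_one] at h2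
  exact h2.symm

theorem coeff_eq_zero_of_val_le {f : K} {j : ℤ} (hv : P.1 f ≤ exp (-j)) {m : ℤ} (hm : m < j) :
    (E.ε f).coeff m = 0 := by
  rw [← E.val, LaurentSeries.valuation_le_iff_coeff_lt_eq_zero] at hv
  exact hv m hm

theorem val_le_of_coeff {f : K} (h : ∀ m : ℤ, m < 0 → (E.ε f).coeff m = 0) : P.1 f ≤ 1 := by
  have h0 : (1 : ℤᵐ⁰) = exp (-(0 : ℤ)) := by simp
  rw [← E.val, h0, LaurentSeries.valuation_le_iff_coeff_lt_eq_zero]
  exact h

/-- the rescaled Hasse derivatives of a function of order `≥ j` -/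
theorem scaled_hasseD {f : K} {j : ℕ} (hv : P.1 f ≤ exp (-(j : ℤ))) (i : ℕ) :
    P.1 (LocRes.hasseD Ht i f * t ^ i / t ^ j) ≤ 1 ∧
      (E.ε (LocRes.hasseD Ht i f * t ^ i / t ^ j)).coeff 0 =
        (j.choose i : k) * (E.ε f).coeff (j : ℤ) := by
  have hc : ∀ m : ℤ, (E.ε (LocRes.hasseD Ht i f * t ^ i / t ^ j)).coeff m =
      Ring.choose (m + j) i • (E.ε f).coeff (m + j) := by
    intro m
    rw [coeff_scaled, E.coeff_hasseD]
    have : m + (j : ℤ) - i + i = m + j := by ring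
    rw [this]
  refine ⟨val_le_of_coeff E fun m hm => ?_, ?_⟩
  · rw [hc, coeff_eq_zero_of_val_le E hv (by omega), smul_zero]
  · rw [hc, zero_add, Ring.choose_natCast, zsmul_eq_mul]
    simp

variable {τ : K →ₐ[k] K}

include E in
theorem fixedPt_integral (hP : IsFixedPt τ P) {w : K} (hw : P.1 w ≤ 1) :
    P.1 (τ w) ≤ 1 ∧ P.1 (τ w - w) < 1 := by
  obtain ⟨c, hc⟩ : ∃ c : k, c = (E.ε w).coeff 0 := ⟨_, rfl⟩
  have hm : P.1 (w - algebraMap k K c) < 1 := by
    rw [hc]
    exact E.hres w hw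
  have hτm := hP _ hm
  have h1 : τ w - w = τ (w - algebraMap k K c) - (w - algebraMap k K c) := by
    rw [map_sub, AlgHom.commutes]
    ring
  have h2 : P.1 (τ w - w) < 1 := by
    rw [h1]
    exact lt_of_le_of_lt (Valuation.map_sub _ _ _) (max_lt hτm hm)
  refine ⟨?_, h2⟩
  have h3 : τ w = w + (τ w - w) := by ring
  rw [h3]
  exact le_trans (Valuation.map_add _ _ _) (max_le hw h2.le)

include E in
theorem evalP_fixedPt (hP : IsFixedPt τ P) {w : K} (hw : P.1 w ≤ 1) :
    evalP P (τ w) = evalP P w := by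
  obtain ⟨h1, h2⟩ := fixedPt_integral E hP hw
  rw [evalP_of_le h1, evalP_of_le hw, ← sub_eq_zero, ← map_sub, IsLocalRing.residue_eq_zero_iff]
  exact (Valuation.mem_maximalIdeal_iff _ _).mpr h2

theorem isFixedPt_of_strong (hP : IsStrongFixedPt τ P) : IsFixedPt τ P := by
  intro z hz
  exact lt_of_le_of_lt (hP z hz) (by
    rw [← exp_zero, exp_lt_exp]
    norm_num)

include E in
/-- an endomorphism fixing `P` does not lower orders; at a strong fixed point it doubles them -/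
theorem fixedPt_val_pow_le (hP : IsFixedPt τ P) {e : ℕ} (he : P.1 (τ t) ≤ exp (-(e : ℤ)))
    {z : K} {j : ℕ} (hz : P.1 z ≤ exp (-(j : ℤ))) :
    P.1 (τ z) ≤ exp (-((e * j : ℕ) : ℤ)) := by
  have ht0 := t_ne_zero' E
  have hw : P.1 (z / t ^ j) ≤ 1 := by
    rw [map_div₀, val_t_pow E]
    exact div_le_one_of_le₀ hz zero_le'
  have h1 : z = t ^ j * (z / t ^ j) := by
    rw [mul_div_cancel₀ _ (pow_ne_zero j ht0)]
  rw [h1, map_mul, map_mul, map_pow, map_pow]
  have h2 := (fixedPt_integral E hP hw).1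
  calc P.1 (τ t) ^ j * P.1 (τ (z / t ^ j)) ≤ (exp (-(e : ℤ))) ^ j * 1 :=
        mul_le_mul' (pow_le_pow_left' he j) h2
    _ = exp (-((e * j : ℕ) : ℤ)) := by
        rw [mul_one, ← exp_nsmul]
        congr 1
        simp
        ring

end LO7

end Groth.Agent.Helper9.FFExt
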