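import Mathlib
import Groth.Prelude.Def_W4bk4goldsch45p2
import Groth.Agent.Lib.Helper9.FFExt.LocalOrd5

namespace Groth.Agent.Helper9.FFExt

open FunFld WithZero
open Groth.Agent.Lib.Helper4.FF

section LO8

universe u v
variable {k : Type u} {K : Type v} [Field k] [Field K] [Algebra k K]
variable {P : Place k K} {t : K} {Ht : K →ₐ[k] PowerSeries K} (E : HasseExp P t Ht)
variable {τ : K →ₐ[k] K} {n : ℕ}

theorem exp_sum {ι : Type*} (s : Finset ι) (f : ι → ℤ) :
    (exp (∑ i ∈ s, f i) : ℤᵐ⁰) = ∏ i ∈ s, exp (f i) := by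
  classical
  induction s using Finset.induction_on with
  | empty => simp
  | insert a s ha ih => rw [Finset.sum_insert ha, Finset.prod_insert ha, exp_add, ih]

theorem exp_lt_one_iff {a : ℤ} : (exp a : ℤᵐ⁰) < 1 ↔ a < 0 := by
  rw [← exp_zero, exp_lt_exp]

/-- the local computation of the order of a generalized Wronskian of an adapted tuple -/
theorem local_det (hP : IsFixedPt τ P) (ψ : Fin (n + 1) → K) (jj : Fin (n + 1) → ℕ)
    (hjj0 : jj 0 = 0) (hjjpos : ∀ l : Fin n, 0 < jj l.succ)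
    (hv : ∀ l, P.1 (ψ l) = exp (-(jj l : ℤ))) (hc : ∀ l, (E.ε (ψ l)).coeff (jj l : ℤ) = 1)
    (I : Fin n → ℕ) :
    P.1 (wrMat τ Ht ψ I).det ≤ exp (-((∑ l, (jj l : ℤ)) - ∑ s, (I s : ℤ))) ∧
    (((∀ s, 0 < I s) ∨ IsStrongFixedPt τ P) →
      (P.1 (wrMat τ Ht ψ I).det = exp (-((∑ l, (jj l : ℤ)) - ∑ s, (I s : ℤ))) ↔
        (Matrix.of fun (r : Fin n) (s : Fin n) => (((jj r.succ).choose (I s) : ℕ) : k)).det ≠ 0)) := by
  classical
  have ht0 := t_ne_zero' E
  obtain ⟨ii, hii⟩ : ∃ ii : Fin (n + 1) → ℕ, ii = jseq I := ⟨_, rfl⟩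
  obtain ⟨W, hW⟩ : ∃ W : Matrix (Fin (n + 1)) (Fin (n + 1)) K, W = wrMat τ Ht ψ I := ⟨_, rfl⟩
  rw [← hW]
  have hW0 : ∀ l, W l 0 = τ (ψ l) := fun l => by rw [hW]; rfl
  have hWs : ∀ l (s : Fin n), W l s.succ = LocRes.hasseD Ht (I s) (ψ l) := fun l s => by
    rw [hW]; rfl
  obtain ⟨M, hM⟩ : ∃ M : Matrix (Fin (n + 1)) (Fin (n + 1)) K,
      M = Matrix.of fun l c => W l c * t ^ ii c / t ^ jj l := ⟨_, rfl⟩
  have hMap : ∀ l c, M l c = W l c * t ^ ii c / t ^ jj l := fun l c => by rw [hM]; rfl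
  -- determinant of the rescaled matrix
  have hdetM : M.det = (∏ l, (t ^ jj l)⁻¹) * ((∏ c, t ^ ii c) * W.det) := by
    rw [← Matrix.det_mul_row, ← Matrix.det_mul_column]
    congr 1
    ext l c
    rw [hMap, Matrix.of_apply, Matrix.of_apply]
    field_simp
  have hprod1 : P.1 (∏ l, (t ^ jj l)⁻¹) = exp (∑ l, (jj l : ℤ)) := by
    rw [map_prod, exp_sum]
    apply Finset.prod_congr rfl
    intro l _
    rw [map_inv₀, val_t_pow E, ← exp_neg, neg_neg]
  have hprod2 : P.1 (∏ c, t ^ ii c) = exp (-∑ c, (ii c : ℤ)) := by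
    rw [map_prod, ← Finset.sum_neg_distrib, exp_sum]
    apply Finset.prod_congr rfl
    intro c _
    rw [val_t_pow E]
  have hsumii : ∑ c, (ii c : ℤ) = ∑ s, (I s : ℤ) := by
    rw [hii, Fin.sum_univ_succ]
    simp
  have hvalM : P.1 M.det = exp ((∑ l, (jj l : ℤ)) - ∑ s, (I s : ℤ)) * P.1 W.det := by
    rw [hdetM, map_mul, map_mul, hprod1, hprod2, hsumii, ← mul_assoc, ← exp_add]
    congr 2
  have hvalW : P.1 W.det = exp (-((∑ l, (jj l : ℤ)) - ∑ s, (I s : ℤ))) * P.1 M.det := by
    rw [hvalM, ← mul_assoc, ← exp_add]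
    simp
  -- integrality of the entries
  have hτle : ∀ l, P.1 (τ (ψ l)) ≤ exp (-(jj l : ℤ)) := by
    intro l
    have he : P.1 (τ t) ≤ exp (-((1 : ℕ) : ℤ)) := by
      have := hP t (by rw [val_t E]; exact exp_lt_one_iff.mpr (by norm_num))
      rw [lt_one_iff_le_exp_neg_one] at this
      exact this
    have := fixedPt_val_pow_le E hP he (hv l).le
    rwa [one_mul] at this
  have hii0 : ii 0 = 0 := by rw [hii]; rfl
  have hiis : ∀ s : Fin n, ii s.succ = I s := fun s => by rw [hii]; rfl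
  have hint : ∀ l c, P.1 (M l c) ≤ 1 := by
    intro l c
    refine Fin.cases ?_ (fun s => ?_) c
    · rw [hMap, hW0, hii0, pow_zero, mul_one, map_div₀, val_t_pow E]
      exact div_le_one_of_le₀ (hτle l) zero_le
    · rw [hMap, hWs, hiis]
      exact (scaled_hasseD E (hv l).le (I s)).1
  have hevs : ∀ l (s : Fin n), evalP P (M l s.succ) =
      algebraMap k (IsLocalRing.ResidueField P.O) (((jj l).choose (I s) : ℕ) : k) := by
    intro l s
    rw [E.evalP_eq (hint l s.succ), hMap, hWs, hiis, (scaled_hasseD E (hv l).le (I s)).2, hc l,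
      mul_one]
  have hev0 : evalP P (M 0 0) = 1 := by
    have h1 : M 0 0 = τ (ψ 0) := by
      rw [hMap, hW0, hii0, hjj0, pow_zero, mul_one, div_one]
    have hψ0 : P.1 (ψ 0) ≤ 1 := by
      rw [hv 0, hjj0]
      simp
    rw [h1, evalP_fixedPt E hP hψ0, E.evalP_eq hψ0]
    have := hc 0
    rw [hjj0] at this
    rw [show ((0 : ℕ) : ℤ) = 0 from rfl] at this
    rw [this, map_one]
  obtain ⟨N, hN⟩ : ∃ N : Matrix (Fin (n + 1)) (Fin (n + 1)) (IsLocalRing.ResidueField P.O),
      N = Matrix.of fun l c => evalP P (M l c) := ⟨_, rfl⟩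
  obtain ⟨hdle, hdev⟩ := evalP_det M hint
  rw [← hN] at hdev
  refine ⟨?_, fun hcase => ?_⟩
  · rw [hvalW]
    calc exp (-((∑ l, (jj l : ℤ)) - ∑ s, (I s : ℤ))) * P.1 M.det
        ≤ exp (-((∑ l, (jj l : ℤ)) - ∑ s, (I s : ℤ))) * 1 := mul_le_mul_right hdle _
      _ = _ := mul_one _
  · obtain ⟨B, hB⟩ : ∃ B : Matrix (Fin n) (Fin n) k,
        B = Matrix.of fun (r : Fin n) (s : Fin n) => (((jj r.succ).choose (I s) : ℕ) : k) :=
      ⟨_, rfl⟩
    rw [← hB]
    have hsub : N.submatrix Fin.succ Fin.succ =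
        B.map (algebraMap k (IsLocalRing.ResidueField P.O)) := by
      ext r s
      rw [Matrix.submatrix_apply, hN, Matrix.of_apply, hevs, hB]
      rfl
    have hdetN : N.det = algebraMap k (IsLocalRing.ResidueField P.O) B.det := by
      have hN00 : N 0 0 = 1 := by rw [hN, Matrix.of_apply, hev0]
      rcases hcase with hpos | hstrong
      · rw [Matrix.det_succ_row_zero, Fin.sum_univ_succ]
        have hrest : ∀ s : Fin n, N 0 s.succ = 0 := by
          intro s
          rw [hN, Matrix.of_apply, hevs, hjj0, Nat.choose_eq_zero_of_lt (hpos s)]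
          simp
        simp only [hrest, mul_zero, zero_mul, Finset.sum_const_zero, add_zero, Fin.val_zero,
          pow_zero, one_mul, hN00, Fin.succAbove_zero]
        rw [hsub, RingHom.map_det]
        rfl
      · rw [Matrix.det_succ_column_zero, Fin.sum_univ_succ]
        have hrest : ∀ l : Fin n, N l.succ 0 = 0 := by
          intro l
          rw [hN, Matrix.of_apply, evalP_eq_zero_iff (hint l.succ 0), hMap, hW0, hii0, pow_zero,
            mul_one, map_div₀, val_t_pow E]
          have he : P.1 (τ t) ≤ exp (-((2 : ℕ) : ℤ)) :=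
            hstrong t (by rw [val_t E]; exact exp_lt_one_iff.mpr (by norm_num))
          have h2 := fixedPt_val_pow_le E hP he (hv l.succ).le
          have h3 : P.1 (τ (ψ l.succ)) / exp (-(jj l.succ : ℤ)) ≤ exp (-(jj l.succ : ℤ)) := by
            rw [div_le_iff₀ (by exact exp_pos), ← exp_add]
            refine h2.trans (le_of_eq ?_)
            congr 1
            push_cast
            ring
          refine lt_of_le_of_lt h3 ?_
          rw [exp_lt_one_iff]
          have := hjjpos l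
          omega
        simp only [hrest, mul_zero, zero_mul, Finset.sum_const_zero, add_zero, Fin.val_zero,
          pow_zero, one_mul, hN00, Fin.succAbove_zero]
        rw [hsub, RingHom.map_det]
        rfl
    rw [hvalW]
    constructor
    · intro h
      have h1 : P.1 M.det = 1 := by
        have h2 : exp (-((∑ l, (jj l : ℤ)) - ∑ s, (I s : ℤ))) * P.1 M.det =
            exp (-((∑ l, (jj l : ℤ)) - ∑ s, (I s : ℤ))) * 1 := by rw [h, mul_one]
        exact mul_left_cancel₀ exp_ne_zero h2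
      have h3 := (evalP_ne_zero_iff hdle).mpr h1
      rw [hdev, hdetN] at h3
      intro h0
      apply h3
      rw [h0, map_zero]
    · intro h
      have h3 : evalP P M.det ≠ 0 := by
        rw [hdev, hdetN]
        intro h0
        exact h ((map_eq_zero_iff _ (residue_bijective E).injective).mp h0)
      rw [(evalP_ne_zero_iff hdle).mp h3, mul_one]

end LO8

end Groth.Agent.Helper9.FFExt
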