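import Mathlib
import Groth.Prelude.Def_W4bk4goldsch45p2
import Groth.Agent.Lib.Helper9.FFExt.LocalOrd6
import Groth.Agent.Lib.Helper9.FFExt.BinomIndep

namespace Groth.Agent.Helper9.FFExt

open FunFld WithZero
open Groth.Agent.Lib.Helper4.FF

section LO9

universe u v
variable {k : Type u} {K : Type v} [Field k] [Field K] [Algebra k K]
variable {P : Place k K}

theorem evalP_sub {x y : K} (hx : P.1 x ≤ 1) (hy : P.1 y ≤ 1) :
    evalP P (x - y) = evalP P x - evalP P y := by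
  have hxy : P.1 (x - y) ≤ 1 := (Valuation.map_sub _ _ _).trans (max_le hx hy)
  rw [evalP_of_le hxy, evalP_of_le hx, evalP_of_le hy, ← map_sub]
  rfl

theorem evalP_one : evalP P (1 : K) = 1 := by
  rw [evalP_of_le (by rw [map_one])]
  exact map_one _

theorem evalP_sum_mul {ι : Type*} (s : Finset ι) (x y : ι → K) (hx : ∀ r, P.1 (x r) ≤ 1)
    (hy : ∀ r, P.1 (y r) ≤ 1) :
    evalP P (∑ r ∈ s, x r * y r) = ∑ r ∈ s, evalP P (x r) * evalP P (y r) := by
  let xo : ι → P.O := fun r => ⟨x r, (Valuation.mem_valuationSubring_iff P.1 _).mpr (hx r)⟩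
  let yo : ι → P.O := fun r => ⟨y r, (Valuation.mem_valuationSubring_iff P.1 _).mpr (hy r)⟩
  have h1 : (∑ r ∈ s, x r * y r) = ((∑ r ∈ s, xo r * yo r : P.O) : K) := by
    push_cast
    rfl
  have hle : P.1 (∑ r ∈ s, x r * y r) ≤ 1 := by
    rw [h1]
    exact (Valuation.mem_valuationSubring_iff P.1 _).mp (∑ r ∈ s, xo r * yo r : P.O).2
  rw [evalP_of_le hle]
  have h2 : (⟨∑ r ∈ s, x r * y r, (Valuation.mem_valuationSubring_iff P.1 _).mpr hle⟩ : P.O) =
      ∑ r ∈ s, xo r * yo r := Subtype.ext h1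
  rw [h2, map_sum]
  apply Finset.sum_congr rfl
  intro r _
  rw [map_mul, evalP_of_le (hx r), evalP_of_le (hy r)]

end LO9


section Strong

universe u v
variable {k : Type u} {K : Type v} [Field k] [Field K] [Algebra k K]
variable {P : Place k K} {t : K} {Ht : K →ₐ[k] PowerSeries K} (E : HasseExp P t Ht)
variable {τ : K →ₐ[k] K} {n : ℕ}

include E in
theorem HasseExp.hasseD_zero' (x : K) : LocRes.hasseD Ht 0 x = x := by
  apply (E.ε : K →+* LaurentSeries k).injective
  change E.ε (LocRes.hasseD Ht 0 x) = E.ε x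
  rw [E.hD, LaurentSeries.hasseDeriv_zero]
  rfl

/-- at a strong fixed point, the first columns of the `τ`-Hasse matrix of an adapted tuple span a
space of large dimension -/
theorem strong_core (hP : IsStrongFixedPt τ P) (ψ : Fin (n + 1) → K) {d : ℕ}
    (ι : Fin (d + 2) → Fin (n + 1)) (jr : Fin (d + 2) → ℕ) (hjr0 : jr 0 = 0)
    (hmono : StrictMono jr)
    (hv : ∀ r, P.1 (ψ (ι r)) = exp (-(jr r : ℤ)))
    (hc : ∀ r, (E.ε (ψ (ι r))).coeff (jr r : ℤ) = 1)
    (m : ℕ) (hm : m = jr (Fin.last (d + 1)) - jr (Fin.succ 0)) :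
    d + 2 ≤ Module.finrank K (Jump.V K (hcol τ Ht ψ) (m + 2)) := by
  classical
  have hfix := isFixedPt_of_strong hP
  have ht0 := t_ne_zero' E
  obtain ⟨c, hcdef⟩ : ∃ c : ℕ → Fin (n + 1) → K, c = hcol τ Ht ψ := ⟨_, rfl⟩
  rw [← hcdef]
  have hfd : FiniteDimensional K (Jump.V K c (m + 2)) :=
    FiniteDimensional.span_of_finite K ((Set.finite_Iio (m + 2)).image c)
  let π : (Fin (n + 1) → K) →ₗ[K] (Fin (d + 2) → K) := LinearMap.funLeft K K ι
  have hπ : ∀ v r, π v r = v (ι r) := fun v r => rfl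
  suffices hmap : (Jump.V K c (m + 2)).map π = ⊤ by
    have h1 := Submodule.finrank_map_le π (Jump.V K c (m + 2))
    rw [hmap, finrank_top, Module.finrank_fin_fun] at h1
    exact h1
  by_contra hne
  obtain ⟨f, hf0, hf⟩ := Submodule.exists_le_ker_of_lt_top _ (lt_top_iff_ne_top.mpr hne)
  obtain ⟨a, ha⟩ : ∃ a : Fin (d + 2) → K, a = fun r => f (fun r' => if r = r' then 1 else 0) :=
    ⟨_, rfl⟩
  have hfa : ∀ w : Fin (d + 2) → K, f w = ∑ r, w r * a r := by
    intro w
    rw [LinearMap.pi_apply_eq_sum_univ, ha]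
    rfl
  have ha0 : a ≠ 0 := by
    intro h
    apply hf0
    refine LinearMap.ext fun w => ?_
    rw [hfa, h]
    simp
  have hrel : ∀ v ∈ Jump.V K c (m + 2), ∑ r, v (ι r) * a r = 0 := by
    intro v hvS
    have : π v ∈ LinearMap.ker f := hf (Submodule.mem_map_of_mem hvS)
    rw [LinearMap.mem_ker, hfa] at this
    exact this
  -- rescale the relation
  obtain ⟨b, hb⟩ : ∃ b : Fin (d + 2) → K, b = fun r => a r * t ^ jr r := ⟨_, rfl⟩
  obtain ⟨r₀, -, hr₀⟩ := Finset.exists_max_image Finset.univ (fun r => P.1 (b r))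
    Finset.univ_nonempty
  have hbr₀ : b r₀ ≠ 0 := by
    obtain ⟨r₁, hr₁⟩ : ∃ r, a r ≠ 0 := by
      by_contra hcon
      push Not at hcon
      exact ha0 (funext hcon)
    have h1 : b r₁ ≠ 0 := by
      rw [hb]
      exact mul_ne_zero hr₁ (pow_ne_zero _ ht0)
    intro h0
    have h2 := hr₀ r₁ (Finset.mem_univ _)
    rw [h0, map_zero] at h2
    exact h1 ((Valuation.zero_iff _).mp (le_antisymm h2 zero_le))
  obtain ⟨b', hb'⟩ : ∃ b' : Fin (d + 2) → K, b' = fun r => b r / b r₀ := ⟨_, rfl⟩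
  have hb'le : ∀ r, P.1 (b' r) ≤ 1 := by
    intro r
    rw [hb', map_div₀]
    exact div_le_one_of_le₀ (hr₀ r (Finset.mem_univ _)) zero_le
  have hb'r₀ : b' r₀ = 1 := by
    rw [hb']
    exact div_self hbr₀
  have hrel' : ∀ (v : Fin (n + 1) → K) (i : ℕ), v ∈ Jump.V K c (m + 2) →
      ∑ r, b' r * (v (ι r) * t ^ i / t ^ jr r) = 0 := by
    intro v i hvS
    have h1 : ∀ r, b' r * (v (ι r) * t ^ i / t ^ jr r) = (t ^ i / b r₀) * (v (ι r) * a r) := by
      intro r
      rw [hb', hb]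
      field_simp
    rw [Finset.sum_congr rfl fun r _ => h1 r, ← Finset.mul_sum, hrel v hvS, mul_zero]
  -- the columns
  have hc0 : c 0 ∈ Jump.V K c (m + 2) := Jump.mem_V c (by omega)
  have hci : ∀ i, i ≤ m → c (i + 1) ∈ Jump.V K c (m + 2) := fun i hi => Jump.mem_V c (by omega)
  have hg : c 0 - c 1 ∈ Jump.V K c (m + 2) := Submodule.sub_mem _ hc0 (hci 0 (Nat.zero_le m))
  have hc0v : ∀ l, c 0 l = τ (ψ l) := fun l => by rw [hcdef]; rfl
  have hc1v : ∀ i l, c (i + 1) l = LocRes.hasseD Ht i (ψ l) := fun i l => by rw [hcdef]; rfl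
  have hjrpos : ∀ s : Fin (d + 1), 0 < jr s.succ := by
    intro s
    have := hmono (Fin.succ_pos s)
    omega
  -- reductions of the rescaled entries
  have hDint : ∀ i r, P.1 (c (i + 1) (ι r) * t ^ i / t ^ jr r) ≤ 1 := fun i r => by
    rw [hc1v]
    exact (scaled_hasseD E (hv r).le i).1
  have hDev : ∀ i r, evalP P (c (i + 1) (ι r) * t ^ i / t ^ jr r) =
      (((jr r).choose i : ℕ) : IsLocalRing.ResidueField P.O) := fun i r => by
    rw [E.evalP_eq (hDint i r), hc1v, (scaled_hasseD E (hv r).le i).2, hc r, mul_one, map_natCast]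
  have hψint : ∀ r, P.1 (ψ (ι r) / t ^ jr r) ≤ 1 := by
    intro r
    rw [map_div₀, val_t_pow E, hv r, div_self exp_ne_zero]
  have hτle : ∀ r, P.1 (τ (ψ (ι r))) ≤ exp (-((2 * jr r : ℕ) : ℤ)) := by
    intro r
    have he : P.1 (τ t) ≤ exp (-((2 : ℕ) : ℤ)) :=
      hP t (by rw [val_t E]; exact exp_lt_one_iff.mpr (by norm_num))
    exact fixedPt_val_pow_le E hfix he (hv r).le
  have hτint : ∀ r, P.1 (τ (ψ (ι r)) / t ^ jr r) ≤ exp (-(jr r : ℤ)) := by
    intro r
    rw [map_div₀, val_t_pow E, div_le_iff₀ (by exact exp_pos), ← exp_add]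
    refine (hτle r).trans (le_of_eq ?_)
    congr 1
    push_cast
    ring
  have hgint : ∀ r, P.1 ((c 0 - c 1) (ι r) * t ^ 0 / t ^ jr r) ≤ 1 := by
    intro r
    rw [pow_zero, mul_one, Pi.sub_apply, hc0v, hc1v, E.hasseD_zero', sub_div]
    refine (Valuation.map_sub _ _ _).trans (max_le ((hτint r).trans ?_) (hψint r))
    rw [← exp_zero, exp_le_exp]
    omega
  have hgev0 : evalP P ((c 0 - c 1) (ι 0) * t ^ 0 / t ^ jr 0) = 0 := by
    rw [evalP_eq_zero_iff (hgint 0), pow_zero, mul_one, hjr0, pow_zero, div_one, Pi.sub_apply,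
      hc0v, hc1v, E.hasseD_zero']
    have hψ0 : P.1 (ψ (ι 0)) ≤ 1 := by
      rw [hv 0, hjr0]
      simp
    exact (fixedPt_integral E hfix hψ0).2
  have hgevs : ∀ s : Fin (d + 1),
      evalP P ((c 0 - c 1) (ι s.succ) * t ^ 0 / t ^ jr s.succ) = -1 := by
    intro s
    rw [pow_zero, mul_one, Pi.sub_apply, hc0v, hc1v, E.hasseD_zero', sub_div]
    have h1 : P.1 (τ (ψ (ι s.succ)) / t ^ jr s.succ) ≤ 1 := (hτint _).trans (by
      rw [← exp_zero, exp_le_exp]
      omega)
    rw [evalP_sub h1 (hψint _)]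
    have h2 : evalP P (τ (ψ (ι s.succ)) / t ^ jr s.succ) = 0 := by
      rw [evalP_eq_zero_iff h1]
      refine lt_of_le_of_lt (hτint _) ?_
      rw [exp_lt_one_iff]
      have := hjrpos s
      omega
    rw [h2, evalP_div_pow E (hv _) (hc _), zero_sub]
  have hev0 : evalP P (0 : K) = 0 := by
    rw [evalP_of_le (by rw [map_zero]; exact zero_le_one)]
    exact map_zero _
  obtain ⟨β, hβ⟩ : ∃ β : Fin (d + 2) → IsLocalRing.ResidueField P.O,
      β = fun r => evalP P (b' r) := ⟨_, rfl⟩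
  have hβr₀ : β r₀ = 1 := by
    rw [hβ]
    simp only
    rw [hb'r₀, evalP_one]
  have hR0 : ∑ r, β r * evalP P ((c 0 - c 1) (ι r) * t ^ 0 / t ^ jr r) = 0 := by
    have h1 := congrArg (evalP P) (hrel' (c 0 - c 1) 0 hg)
    rw [evalP_sum_mul _ _ _ hb'le hgint, hev0] at h1
    rw [hβ]
    exact h1
  have hRi : ∀ i, i ≤ m →
      ∑ r, β r * (((jr r).choose i : ℕ) : IsLocalRing.ResidueField P.O) = 0 := by
    intro i hi
    have h1 := congrArg (evalP P) (hrel' (c (i + 1)) i (hci i hi))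
    rw [evalP_sum_mul _ _ _ hb'le (hDint i), hev0] at h1
    simp only [hDev] at h1
    rw [hβ]
    exact h1
  rw [Fin.sum_univ_succ, hgev0, mul_zero, zero_add] at hR0
  simp only [hgevs, mul_neg, mul_one, Finset.sum_neg_distrib, neg_eq_zero] at hR0
  have hβ0 : β 0 = 0 := by
    have h1 := hRi 0 (Nat.zero_le m)
    simp only [Nat.choose_zero_right, Nat.cast_one, mul_one] at h1
    rw [Fin.sum_univ_succ, hR0, add_zero] at h1
    exact h1
  have hβs : (fun s : Fin (d + 1) => β s.succ) = 0 := by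
    apply binom_indep (fun s : Fin (d + 1) => jr s.succ) (hmono.comp (Fin.strictMono_succ))
    intro i hi
    have hi' : i ≤ m := by
      rw [hm]
      simpa [Fin.succ_last] using hi
    have h1 := hRi i hi'
    rw [Fin.sum_univ_succ, hβ0, zero_mul, zero_add] at h1
    exact h1
  have hcontra : β r₀ = 0 := by
    induction r₀ using Fin.cases with
    | zero => exact hβ0
    | succ s => exact congrFun hβs s
  rw [hβr₀] at hcontra
  exact one_ne_zero hcontra

end Strong

end Groth.Agent.Helper9.FFExt
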