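import Mathlib
import Groth.Prelude.Def_W4bk4goldsch45p2
import Groth.Agent.Lib.Helper9.FFExt.LocalOrd7
import Groth.Agent.Lib.Helper9.FFExt.MapDiv
import Groth.Agent.Lib.Helper9.FFExt.HasseExist

namespace Groth.Agent.Helper9.FFExt

open FunFld WithZero
open Groth.Agent.Lib.Helper4.FF

section LO10

universe u v
variable {k : Type u} {K : Type v} [Field k] [Field K] [Algebra k K]
variable {P : Place k K} {t : K} {Ht : K →ₐ[k] PowerSeries K} (E : HasseExp P t Ht)
variable {n : ℕ} (φ : Fin (n + 1) → K)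

theorem span_acol_eq_top (hφ : LinearIndependent k φ) (hnorm : ∀ i, P.1 (φ i) ≤ 1) :
    Submodule.span k (Set.range (acol E φ)) = ⊤ := by
  classical
  by_contra hne
  obtain ⟨f, hf0, hf⟩ := Submodule.exists_le_ker_of_lt_top _ (lt_top_iff_ne_top.mpr hne)
  apply hf0
  obtain ⟨x, hx⟩ : ∃ x : Fin (n + 1) → k, x = fun i => f (fun j => if i = j then 1 else 0) :=
    ⟨_, rfl⟩
  have hfx : ∀ v : Fin (n + 1) → k, f v = ∑ i, x i * v i := by
    intro v
    rw [LinearMap.pi_apply_eq_sum_univ, hx]
    apply Finset.sum_congr rfl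
    intro i _
    rw [smul_eq_mul, mul_comm]
  have hrel : ∀ j, ∑ i, x i * acol E φ j i = 0 := by
    intro j
    have h1 : acol E φ j ∈ LinearMap.ker f := hf (Submodule.subset_span ⟨j, rfl⟩)
    rw [LinearMap.mem_ker, hfx] at h1
    exact h1
  have hint : P.1 (∑ i, x i • φ i) ≤ 1 := by
    apply Valuation.map_sum_le
    intro i _
    rw [Algebra.smul_def, map_mul]
    exact mul_le_one' (Place.val_k_le P (x i)) (hnorm i)
  have hzero : E.ε (∑ i, x i • φ i) = 0 := by
    ext m
    rw [HahnSeries.coeff_zero]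
    rcases lt_or_ge m 0 with hneg | hpos
    · exact E.coeff_eq_zero_of_lt hint hneg
    · obtain ⟨m', rfl⟩ := Int.eq_ofNat_of_zero_le hpos
      rw [coeff_sum_smul]
      exact hrel m'
  have hsum : ∑ i, x i • φ i = 0 := by
    apply (E.ε : K →+* LaurentSeries k).injective
    rw [map_zero]
    exact hzero
  have hx0 := Fintype.linearIndependent_iff.mp hφ x hsum
  refine LinearMap.ext fun v => ?_
  rw [hfx, LinearMap.zero_apply]
  apply Finset.sum_eq_zero
  intro i _
  rw [hx0 i, zero_mul]

include E in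
/-- the order sequence at a place exists -/
theorem exists_local_orders (hφ : LinearIndependent k φ)
    (heff : (1 : K) ∈ Submodule.span k (Set.range φ)) (hnorm : ∀ i, P.1 (φ i) ≤ 1) :
    ∃ J' : Fin n → ℕ, IsOrders (IsLocalRing.ResidueField P.O) (hcolAt P Ht φ) J' := by
  have hdim : Module.finrank k (Fin (n + 1) → k) = n + 1 := by simp
  have h0 : Jump.cons (acol E φ 0) (acol E φ) 0 ≠ 0 := acol_zero_ne_zero E φ heff
  have htop : Submodule.span k (Set.range (Jump.cons (acol E φ 0) (acol E φ))) = ⊤ := by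
    rw [eq_top_iff, ← span_acol_eq_top E φ hφ hnorm]
    apply Submodule.span_mono
    rintro _ ⟨j, rfl⟩
    exact ⟨j + 1, rfl⟩
  obtain ⟨J', hJ'⟩ := Jump.exists_isOrders _ hdim h0 htop
  exact ⟨J', (isOrders_hcolAt_iff E φ hnorm J').mpr hJ'⟩

end LO10

section Binom

theorem det_binomMat_self (k : Type*) [Field k] {n : ℕ} (J : Fin n → ℕ) (hJ : StrictMono J) :
    (binomMat k J J).det = 1 := by
  have htri : (binomMat k J J).IsLowerTriangular := by
    intro r s hrs
    have hlt : r < s := hrs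
    change (((J r).choose (J s) : ℕ) : k) = 0
    rw [Nat.choose_eq_zero_of_lt (hJ hlt)]
    simp
  rw [Matrix.det_of_isLowerTriangular _ htri]
  apply Finset.prod_eq_one
  intro r _
  change (((J r).choose (J r) : ℕ) : k) = 1
  rw [Nat.choose_self]
  simp

end Binom

end Groth.Agent.Helper9.FFExt
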