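import Mathlib
import Groth.Prelude.Def_W4bk4goldsch23Ext
import Groth.Prelude.Def_W4bk4goldsch45
import Groth.Agent.Lib.Helper9.FFExt.Conorm
import Groth.Agent.Lib.Helper9.FFExt.MapDiv

/-! # A function field as an extension of itself through an endomorphism (helper9) -/

namespace Groth.Agent.Helper9.FFExt

open FunFld WithZero
open Groth.Agent.Lib.Helper4.FF

section Twist

universe u v
variable {k : Type u} {K : Type v} [Field k] [Field K] [Algebra k K]

/-- `K` as an extension of itself through `τ` -/
def Tw (_τ : K →ₐ[k] K) : Type v := K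

variable (τ : K →ₐ[k] K)

instance : Field (Tw τ) := inferInstanceAs (Field K)
instance : Algebra k (Tw τ) := inferInstanceAs (Algebra k K)
instance twAlg : Algebra K (Tw τ) := τ.toRingHom.toAlgebra
instance : IsScalarTower k K (Tw τ) :=
  IsScalarTower.of_algebraMap_eq (fun c => (τ.commutes c).symm)

theorem tw_algebraMap (x : K) : algebraMap K (Tw τ) x = τ x := rfl

/-- `K` is finite over the image of an endomorphism -/
theorem finiteDimensional_fieldRange (hK : IsFunctionField k K) :
    FiniteDimensional τ.fieldRange K := by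
  classical
  obtain ⟨x, hxt, -⟩ := hK.1
  have hxt' : Transcendental k (τ x) := by
    intro halg
    apply hxt
    exact (isAlgebraic_algHom_iff τ (τ : K →+* K).injective).mp halg
  have hfin := finiteDimensional_adjoin hK hxt'
  have hle : IntermediateField.adjoin k ({τ x} : Set K) ≤ τ.fieldRange := by
    rw [IntermediateField.adjoin_le_iff]
    rintro _ rfl
    exact ⟨x, rfl⟩
  let b := Module.finBasis (IntermediateField.adjoin k ({τ x} : Set K)) K
  refine Module.finite_def.2 ⟨Finset.univ.image b, ?_⟩
  rw [eq_top_iff]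
  intro z _
  have hz := b.sum_repr z
  rw [← hz]
  apply Submodule.sum_mem
  intro i _
  have h1 : (b.repr z i) • b i = (⟨(b.repr z i : K), hle (b.repr z i).2⟩ : τ.fieldRange) • b i := rfl
  rw [h1]
  apply Submodule.smul_mem
  apply Submodule.subset_span
  rw [Finset.coe_image]
  exact ⟨i, Finset.mem_coe.mpr (Finset.mem_univ i), rfl⟩

/-- the isomorphism of `K` onto the image of an endomorphism -/
noncomputable def toRange : K ≃+* τ.fieldRange :=
  RingEquiv.ofBijective (τ.toRingHom.codRestrict τ.fieldRange.toSubfield.toSubring (fun x => ⟨x, rfl⟩))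
    ⟨fun _ _ h => (τ : K →+* K).injective (congrArg Subtype.val h), fun ⟨_, x, hx⟩ =>
      ⟨x, Subtype.ext hx⟩⟩

theorem finrank_tw : Module.finrank K (Tw τ) = Module.finrank τ.fieldRange K := by
  refine Algebra.finrank_eq_of_equiv_equiv (toRange τ) (RingEquiv.refl K) ?_
  ext x
  rfl

theorem finiteDimensional_tw (hK : IsFunctionField k K) : FiniteDimensional K (Tw τ) := by
  have := finiteDimensional_fieldRange τ hK
  apply Module.finite_of_finrank_pos
  rw [finrank_tw]
  exact Module.finrank_pos

end Twist

section MapConorm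

variable {k K K' : Type*} [Field k] [Field K] [Field K'] [Algebra k K] [Algebra K K']
  [Algebra k K'] [IsScalarTower k K K'] [FiniteDimensional K K']

theorem inf'_nat_mul {ι : Type*} [Fintype ι] [Nonempty ι] (e : ℕ) (he : 0 < e) (f : ι → ℤ) :
    Finset.univ.inf' Finset.univ_nonempty (fun i => (e : ℤ) * f i) =
      (e : ℤ) * Finset.univ.inf' Finset.univ_nonempty f := by
  have he' : (0 : ℤ) < e := by exact_mod_cast he
  apply le_antisymm
  · obtain ⟨i, -, hi⟩ := Finset.exists_mem_eq_inf' Finset.univ_nonempty f
    rw [hi]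
    exact Finset.inf'_le _ (Finset.mem_univ i)
  · rw [Finset.le_inf'_iff]
    intro i _
    exact mul_le_mul_of_nonneg_left (Finset.inf'_le _ (Finset.mem_univ i)) he'.le

/-- `[φ]_{K'} = N*([φ]_K)` -/
theorem mapDiv_algebraMap (hK : IsFunctionField k K) (hK' : IsFunctionField k K')
    {ι : Type*} [Fintype ι] [Nonempty ι] (φ : ι → K) :
    mapDiv k (fun i => algebraMap K K' (φ i)) = conorm K' (mapDiv k φ) := by
  ext Q
  obtain ⟨P, e, he⟩ := exists_below' (K := K) Q
  rw [mapDiv_apply hK', conorm_apply _ he (finite_over hK P), mapDiv_apply hK]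
  simp only [ow_ord_eq he]
  rw [inf'_nat_mul e (ow_pos he)]
  ring

end MapConorm

section TwistDeg

universe u v
variable {k : Type u} {K : Type v} [Field k] [Field K] [Algebra k K]

/-- **the degree of a projective map composed with an endomorphism** -/
theorem deg_mapDiv_comp (hK : IsFunctionField k K) (τ : K →ₐ[k] K)
    {ι : Type*} [Fintype ι] [Nonempty ι] (φ : ι → K) :
    (mapDiv k (⇑τ ∘ φ)).deg = Module.finrank τ.fieldRange K * (mapDiv k φ).deg := by
  have := finiteDimensional_tw τ hK
  have hK' : IsFunctionField k (Tw τ) := hK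
  have h1 := mapDiv_algebraMap (K' := Tw τ) hK hK' φ
  have h2 := deg_conorm (K' := Tw τ) hK (mapDiv k φ)
  rw [← h1, finrank_tw] at h2
  exact h2

end TwistDeg

end Groth.Agent.Helper9.FFExt
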