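import Mathlib
import Groth.Prelude.Def_W4bk4goldsch45p2
import Groth.Agent.Lib.Helper9.FFExt.LocalOrd8
import Groth.Agent.Lib.Helper9.FFExt.Classical1
import Groth.Agent.S12603
import Groth.Agent.S12605
import Groth.Agent.S12607
import Groth.Agent.S12609
import Groth.Agent.S12610
import Groth.Agent.S12611
import Groth.Agent.S12614
import Groth.Agent.S12615
import Groth.Agent.Lib.Helper4.FF.Exist
import Groth.Agent.Lib.Helper4.FF.Gaps2
import Groth.Agent.Lib.Helper4.FF.Aut

/-! Weierstrass points of the canonical map: base point freeness, classical orders, the local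
formula for the Weierstrass divisor in terms of gaps. -/

namespace Groth.Agent.Helper9.FFExt

open FunFld Groth.Agent.Lib.Helper4.FF WithZero

section

variable {k K : Type*} [Field k] [IsAlgClosed k] [Field K] [Algebra k K]

theorem genus_eq_of_canonical_basis (hK : IsFunctionField k K) {C : Divisor k K}
    (hC : IsCanonical k K C) {n : ℕ} (φ : Fin (n + 1) → K) (hφ : LinearIndependent k φ)
    (hspan : Submodule.span k (Set.range φ) = L C) : genus k K = n + 1 := by
  rw [← ell_canonical hK hC]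
  unfold FunFld.ell
  rw [← hspan, finrank_span_eq_card hφ]
  simp

/-- the canonical system has no base points -/
theorem mapDiv_canonical (hK : IsFunctionField k K) {C : Divisor k K}
    (hC : IsCanonical k K C) {n : ℕ} (φ : Fin (n + 1) → K) (hφ : LinearIndependent k φ)
    (hspan : Submodule.span k (Set.range φ) = L C) : mapDiv k φ = C := by
  classical
  have hgen : 0 < genus k K := by
    rw [genus_eq_of_canonical_basis hK hC φ hφ hspan]; omega
  ext P
  rw [mapDiv_apply hK]
  have hmem : ∀ i, φ i ∈ L C := fun i => by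
    rw [← hspan]; exact Submodule.subset_span ⟨i, rfl⟩
  have h1 : -(C P) ≤ Finset.univ.inf' Finset.univ_nonempty (fun i => P.ord (φ i)) := by
    rw [Finset.le_inf'_iff]
    intro i _
    have h := hmem i P
    rw [Place.val_eq_exp_neg_ord P (hφ.ne_zero i), exp_le_exp] at h
    omega
  -- a function of exact order `-C P`
  have h2 : ¬ (L (C - Finsupp.single P (0 : ℤ)) ≤ L (C - Finsupp.single P ((0 : ℤ) + 1))) := by
    intro hle
    have h1' := ell_sub_single_lt hK hgen C (Or.inr hC) P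
    rw [Finsupp.single_zero, sub_zero, zero_add] at hle
    have h3 : L C = L (C - Finsupp.single P 1) := by
      apply le_antisymm hle
      apply L_mono
      intro Q
      rw [Finsupp.sub_apply, Finsupp.single_apply]
      split_ifs <;> omega
    unfold FunFld.ell at h1'
    rw [← h3] at h1'
    exact lt_irrefl _ h1'
  obtain ⟨h, hh, hv⟩ := (Groth.Agent.S12609.Aux.exists_ord_iff C P 0 le_rfl).mpr h2
  rw [sub_zero] at hv
  have hh0 : h ≠ 0 := by
    rintro rfl
    rw [map_zero] at hv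
    exact exp_ne_zero hv.symm
  have h3 := inf_ord_le_of_mem_span φ (fun i => hφ.ne_zero i) hh0 (by rw [hspan]; exact hh) P
  have h4 : P.ord h = -(C P) := by
    rw [Place.val_eq_exp_neg_ord P hh0] at hv
    have := exp_injective hv
    omega
  omega

/-- under the characteristic hypothesis the orders (with respect to the identity) are classical -/
theorem orders_eq_classical (hK : IsFunctionField k K) {n : ℕ} (φ : Fin (n + 1) → K)
    (hφ : LinearIndependent k φ)
    (hchar : ringChar k = 0 ∨ (mapDiv k φ).deg < ringChar k)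
    (s : K) (H : K →ₐ[k] PowerSeries K) (hH : LocRes.IsHasseFamily s H)
    (J : Fin n → ℕ) (hJ : IsOrders K (hcol (AlgHom.id k K) H φ) J) :
    J = fun l : Fin n => (l : ℕ) + 1 := by
  obtain ⟨x, hxt, -⟩ := hK.1
  obtain ⟨P, -⟩ := exists_zero hK hxt
  have hP : IsFixedPt (AlgHom.id k K) P := fun z hz => hz
  have hI : StrictMono (fun l : Fin n => (l : ℕ) + 1) := by
    intro a b hab
    have : (a : ℕ) < b := hab
    simp only
    omega
  have hle := Groth.Agent.S12611.Aux.core k K hK φ hφ hchar (AlgHom.id k K) P hP s H hH _ hI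
    (Or.inl rfl) J hJ
  have h0J : ∀ l, J l ≠ 0 := by
    intro l hl
    have hjump := (hJ.2 0).mp ⟨l, hl⟩
    apply hjump
    apply Submodule.subset_span
    refine ⟨0, by simp, ?_⟩
    funext i
    change (AlgHom.id k K) (φ i) = LocRes.hasseD H 0 (φ i)
    rw [hasseD_zero hH]
    rfl
  funext l
  have hn : 0 < n := by
    have := l.2
    omega
  have h1 := Groth.Agent.S12611.Aux.strictMono_add_le J hJ.1 hn l
  have h2 := h0J ⟨0, hn⟩
  have h3 := hle l
  omega

/-- the coefficient of the Weierstrass divisor at `P`, through the local orders of a normalized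
multiple of `φ` -/
theorem exists_wDiv_apply (hK : IsFunctionField k K) {n : ℕ} (φ : Fin (n + 1) → K)
    (hφ : LinearIndependent k φ)
    (hchar : ringChar k = 0 ∨ (mapDiv k φ).deg < ringChar k)
    (s : K) (H : K →ₐ[k] PowerSeries K) (hH : LocRes.IsHasseFamily s H)
    (J : Fin n → ℕ) (hJ : IsOrders K (hcol (AlgHom.id k K) H φ) J)
    (Φ : Place k K → (K →ₐ[k] LaurentSeries k))
    (hΦ : ∀ P : Place k K, LocRes.IsExpansionAt P.1 (Φ P)) (P : Place k K) :
    ∃ (y t : K) (Ht : K →ₐ[k] PowerSeries K) (J' : Fin n → ℕ), y ≠ 0 ∧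
      (1 : K) ∈ Submodule.span k (Set.range (y • φ)) ∧ (∀ i, P.1 (y * φ i) ≤ 1) ∧
      P.1 t = exp (-1 : ℤ) ∧ LocRes.IsHasseFamily t Ht ∧
      IsOrders (IsLocalRing.ResidueField P.O) (hcolAt P Ht (y • φ)) J' ∧ (∀ l, 0 < J' l) ∧
      wDiv (AlgHom.id k K) H Φ s φ J P = ∑ l : Fin n, ((J' l : ℤ) - ((l : ℕ) + 1)) := by
  classical
  have hKw := isFFw_of_isFunctionField hK
  have hg := isGeometric_of_isAlgClosed k K
  have hJeq := orders_eq_classical hK φ hφ hchar s H hH J hJ
  have hdeg := Place.deg_eq_one hK P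
  have hP : IsFixedPt (AlgHom.id k K) P := fun z hz => hz
  obtain ⟨t, ht⟩ := Place.exists_uniformizer P
  have hDt : KaehlerDifferential.D k K t ≠ 0 :=
    D_ne_zero_of_vDiff (Φ P) (Groth.Agent.S12610.Aux.vDiff_param P (Φ P) (hΦ P) t ht)
  have htt := transcendental_of_D_ne_zero hK hDt
  obtain ⟨Ht, hHt⟩ := exists_hasse hKw hg hDt htt
  obtain ⟨E⟩ := exists_hasseExp hK hg P hdeg t ht Ht hHt
  -- normalization
  obtain ⟨i₀, -, hi₀⟩ := Finset.exists_max_image Finset.univ (fun i => P.1 (φ i)) Finset.univ_nonempty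
  have hφi₀ : φ i₀ ≠ 0 := hφ.ne_zero i₀
  obtain ⟨y, hy⟩ : ∃ y : K, y = (φ i₀)⁻¹ := ⟨_, rfl⟩
  have hy0 : y ≠ 0 := by rw [hy]; exact inv_ne_zero hφi₀
  obtain ⟨φ', hφ'⟩ : ∃ φ' : Fin (n + 1) → K, φ' = y • φ := ⟨_, rfl⟩
  have hφ'i : ∀ i, φ' i = y * φ i := fun i => by rw [hφ']; rfl
  have hφ'def : ∀ i, φ' i = y * ∑ j, (1 : Matrix (Fin (n + 1)) (Fin (n + 1)) k) i j • φ j := by
    intro i
    rw [hφ'i]
    congr 1
    simp only [Matrix.one_apply, ite_smul, one_smul, zero_smul]
    rw [Finset.sum_ite_eq]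
    simp
  have hW := Groth.Agent.S12614.Aux.main k K hK φ hφ (AlgHom.id k K) s H hH t Ht hHt J hJ 1
    (by simp) y hy0 φ' hφ'def Φ hΦ
  have hφ'li : LinearIndependent k φ' := by
    have := hφ.map' (LinearMap.mulLeft k y) (by
      rw [LinearMap.ker_eq_bot]
      intro a b hab
      exact mul_left_cancel₀ hy0 hab)
    rw [hφ']
    exact this
  have hnorm : ∀ i, P.1 (φ' i) ≤ 1 := by
    intro i
    rw [hφ'i, hy, map_mul, map_inv₀, inv_mul_le_iff₀ (by
      rw [pos_iff_ne_zero, Valuation.ne_zero_iff]; exact hφi₀), mul_one]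
    exact hi₀ i (Finset.mem_univ i)
  have heff : (1 : K) ∈ Submodule.span k (Set.range φ') := by
    apply Submodule.subset_span
    refine ⟨i₀, ?_⟩
    rw [hφ'i, hy, inv_mul_cancel₀ hφi₀]
  have hJ't : IsOrders K (hcol (AlgHom.id k K) Ht φ') J := by
    have h1 : IsOrders K (hcol (AlgHom.id k K) H (y • φ)) J :=
      ((smul_change hH (AlgHom.id k K) φ hφ y hy0).1 J).mpr hJ
    rw [hφ']
    have hli : LinearIndependent k (y • φ) := by rw [← hφ']; exact hφ'li
    exact ((var_change hKw hg hH hHt (AlgHom.id k K) (y • φ) hli).1 J).mpr h1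
  obtain ⟨J', hJ'⟩ := exists_local_orders E φ' hφ'li heff hnorm
  have h15 := Groth.Agent.S12615.Aux.main k K hK (AlgHom.id k K) P hP φ' hφ'li heff hnorm t ht Ht hHt
    J hJ't J' hJ' Φ hΦ
  -- local orders are positive
  have hJ'k := (isOrders_hcolAt_iff E φ' hnorm J').mp hJ'
  have hJ'pos : ∀ l, 0 < J' l := fun l =>
    Nat.pos_of_ne_zero ((mem_range_iff_isJump_acol E φ' heff hJ'k (J' l)).mp ⟨l, rfl⟩).2
  -- local orders are at most the degree
  have hdegφ' : (mapDiv k φ').deg = (mapDiv k φ).deg := by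
    rw [hφ']
    exact deg_mapDiv_smul hK φ (fun i => hφ.ne_zero i) y hy0
  have hJ'le : ∀ l, (J' l : ℤ) ≤ (mapDiv k φ).deg := by
    intro l
    obtain ⟨f, hf, hfv⟩ := ((Groth.Agent.S12607.result k K hK P φ' hφ'li heff hnorm t ht Ht hHt J' hJ').2
      (J' l)).mp (Or.inr ⟨l, rfl⟩)
    have hf0 : f ≠ 0 := by
      rintro rfl
      rw [map_zero] at hfv
      exact exp_ne_zero hfv.symm
    have h1 := ord_le_deg_mapDiv hK φ' (fun i => hφ'li.ne_zero i) heff hf0 hf P hdeg
    have h2 : P.ord f = J' l := by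
      unfold Place.ord
      rw [hfv, log_exp, neg_neg]
    rw [h2, hdegφ'] at h1
    exact h1
  have hp : ∀ l, ringChar k = 0 ∨ J' l < ringChar k := by
    intro l
    rcases hchar with h | h
    · exact Or.inl h
    · right
      have := hJ'le l
      omega
  have hdet : (binomMat k J' J).det ≠ 0 := by
    rw [hJeq]
    exact det_binomMat_ne_zero1 k J' hJ'.1 hJ'pos hp
  have heq := (h15.2 (Or.inl rfl)).mpr hdet
  refine ⟨y, t, Ht, J', hy0, ?_, ?_, ht, hHt, ?_, hJ'pos, ?_⟩
  · rw [← hφ']; exact heff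
  · intro i; rw [← hφ'i]; exact hnorm i
  · rw [← hφ']; exact hJ'
  · rw [← hW, heq]
    apply Finset.sum_congr rfl
    intro l _
    rw [hJeq]
    push_cast
    ring

/-- for the canonical map: the coefficient of the Weierstrass divisor at `P` through the gap
sequence at `P` -/
theorem exists_gap_orders (hK : IsFunctionField k K) {C : Divisor k K}
    (hC : IsCanonical k K C) {n : ℕ} (φ : Fin (n + 1) → K) (hφ : LinearIndependent k φ)
    (hspan : Submodule.span k (Set.range φ) = L C)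
    (hchar : ringChar k = 0 ∨ 2 * genus k K - 2 < ringChar k)
    (s : K) (H : K →ₐ[k] PowerSeries K) (hH : LocRes.IsHasseFamily s H)
    (J : Fin n → ℕ) (hJ : IsOrders K (hcol (AlgHom.id k K) H φ) J)
    (Φ : Place k K → (K →ₐ[k] LaurentSeries k))
    (hΦ : ∀ P : Place k K, LocRes.IsExpansionAt P.1 (Φ P)) (P : Place k K) :
    ∃ J' : Fin n → ℕ, StrictMono J' ∧ (∀ l, 0 < J' l) ∧
      (∀ j : ℕ, 1 ≤ j → (j ∈ Set.range J' ↔ IsGap P (j + 1))) ∧
      wDiv (AlgHom.id k K) H Φ s φ J P = ∑ l : Fin n, ((J' l : ℤ) - ((l : ℕ) + 1)) := by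
  have hgen := genus_eq_of_canonical_basis hK hC φ hφ hspan
  have hchar' : ringChar k = 0 ∨ (mapDiv k φ).deg < ringChar k := by
    rcases hchar with h | h
    · exact Or.inl h
    · right
      rw [mapDiv_canonical hK hC φ hφ hspan, deg_canonical hK hC]
      omega
  obtain ⟨y, t, Ht, J', hy0, heff, hnorm, ht, hHt, hJ', hJ'pos, hW⟩ :=
    exists_wDiv_apply hK φ hφ hchar' s H hH J hJ Φ hΦ P
  refine ⟨J', hJ'.1, hJ'pos, ?_, hW⟩
  intro j hj
  rw [hJ'.2 j, Groth.Agent.S12609.Aux.main k K hK C hC φ hφ hspan P y hy0 heff hnorm t ht Ht hHt j hj]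
  unfold IsGap
  have e1 : ((j + 1 : ℕ) : ℤ) = (j : ℤ) + 1 := by push_cast; ring
  rw [e1, add_sub_cancel_right]

omit [IsAlgClosed k] in
/-- the bound `J' l ≤ 2 (l + 1)` for the gap orders -/
theorem gap_orders_le (hK : IsFunctionField k K) {n : ℕ} (hgen : genus k K = n + 1)
    (P : Place k K) (hP : P.deg = 1) (J' : Fin n → ℕ) (hmono : StrictMono J')
    (hgap : ∀ j : ℕ, 1 ≤ j → (j ∈ Set.range J' ↔ IsGap P (j + 1))) (l : Fin n) :
    J' l ≤ 2 * ((l : ℕ) + 1) := by
  classical
  by_contra hcon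
  push Not at hcon
  have hl := l.2
  have h1 := gap_bound hK P hP (l := (l : ℕ) + 2) (by omega) (by omega)
  have e : 2 * ((l : ℕ) + 2) - 1 = 2 * (l : ℕ) + 3 := by omega
  rw [e] at h1
  unfold gapCount at h1
  have hsub : (Finset.Icc 1 (2 * (l : ℕ) + 3)).filter (IsGap P) ⊆
      insert 1 ((Finset.range l).image (fun i => if h : i < n then J' ⟨i, h⟩ + 1 else 0)) := by
    intro m hm
    rw [Finset.mem_filter, Finset.mem_Icc] at hm
    obtain ⟨⟨hm1, hm2⟩, hmg⟩ := hm
    rw [Finset.mem_insert]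
    by_cases hm' : m = 1
    · exact Or.inl hm'
    · right
      obtain ⟨j, rfl⟩ : ∃ j, m = j + 1 := ⟨m - 1, by omega⟩
      obtain ⟨i, hi⟩ := (hgap j (by omega)).mpr hmg
      rw [Finset.mem_image]
      have hil : i < l := by
        rw [← hmono.lt_iff_lt, hi]
        omega
      refine ⟨(i : ℕ), Finset.mem_range.mpr hil, ?_⟩
      rw [dif_pos i.2, Fin.eta, hi]
  have h2 := Finset.card_le_card hsub
  have h3 := Finset.card_insert_le 1
    ((Finset.range l).image (fun i => if h : i < n then J' ⟨i, h⟩ + 1 else 0))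
  have h4 := Finset.card_image_le (s := Finset.range l)
    (f := fun i => if h : i < n then J' ⟨i, h⟩ + 1 else 0)
  rw [Finset.card_range] at h4
  omega

/-- a strictly increasing sequence of `n` positive integers whose values cover `1, …, n` -/
theorem orders_eq_of_cover {n : ℕ} (J' : Fin n → ℕ) (hmono : StrictMono J') (hpos : ∀ l, 0 < J' l)
    (h : ∀ j : ℕ, 1 ≤ j → j ≤ n → j ∈ Set.range J') : J' = fun l : Fin n => (l : ℕ) + 1 := by
  classical
  have hI : StrictMono (fun l : Fin n => (l : ℕ) + 1) := by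
    intro a b hab
    have : (a : ℕ) < b := hab
    simp only
    omega
  rw [← StrictMono.range_inj hmono hI]
  have h1 : Finset.Icc 1 n ⊆ Finset.univ.image J' := by
    intro j hj
    rw [Finset.mem_Icc] at hj
    obtain ⟨l, hl⟩ := h j hj.1 hj.2
    rw [Finset.mem_image]
    exact ⟨l, Finset.mem_univ _, hl⟩
  have h2 : Finset.Icc 1 n = Finset.univ.image J' := by
    apply Finset.eq_of_subset_of_card_le h1
    refine Finset.card_image_le.trans ?_
    simp
  ext j
  constructor
  · rintro ⟨l, rfl⟩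
    have : J' l ∈ Finset.Icc 1 n := by
      rw [h2, Finset.mem_image]
      exact ⟨l, Finset.mem_univ _, rfl⟩
    rw [Finset.mem_Icc] at this
    refine ⟨⟨J' l - 1, by omega⟩, ?_⟩
    simp only
    omega
  · rintro ⟨l, rfl⟩
    have hl := l.2
    exact h ((l : ℕ) + 1) (by omega) (by omega)

/-- a place at which `1, …, g` are gaps is not a Weierstrass point -/
theorem wDiv_apply_eq_zero_of_gaps (hK : IsFunctionField k K) {C : Divisor k K}
    (hC : IsCanonical k K C) {n : ℕ} (φ : Fin (n + 1) → K) (hφ : LinearIndependent k φ)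
    (hspan : Submodule.span k (Set.range φ) = L C)
    (hchar : ringChar k = 0 ∨ 2 * genus k K - 2 < ringChar k)
    (s : K) (H : K →ₐ[k] PowerSeries K) (hH : LocRes.IsHasseFamily s H)
    (J : Fin n → ℕ) (hJ : IsOrders K (hcol (AlgHom.id k K) H φ) J)
    (Φ : Place k K → (K →ₐ[k] LaurentSeries k))
    (hΦ : ∀ P : Place k K, LocRes.IsExpansionAt P.1 (Φ P)) (P : Place k K)
    (hgaps : ∀ m : ℕ, 1 ≤ m → m ≤ genus k K → IsGap P m) :
    wDiv (AlgHom.id k K) H Φ s φ J P = 0 := by
  have hgen := genus_eq_of_canonical_basis hK hC φ hφ hspan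
  obtain ⟨J', hmono, hpos, hgap, hW⟩ := exists_gap_orders hK hC φ hφ hspan hchar s H hH J hJ Φ hΦ P
  have hJ' := orders_eq_of_cover J' hmono hpos (fun j hj1 hjn =>
    (hgap j hj1).mpr (hgaps (j + 1) (by omega) (by omega)))
  rw [hW]
  apply Finset.sum_eq_zero
  intro l _
  rw [hJ']
  push_cast
  ring

/-- the weight bound, and the extremal case -/
theorem wDiv_apply_le (hK : IsFunctionField k K) {C : Divisor k K}
    (hC : IsCanonical k K C) {n : ℕ} (φ : Fin (n + 1) → K) (hφ : LinearIndependent k φ)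
    (hspan : Submodule.span k (Set.range φ) = L C)
    (hchar : ringChar k = 0 ∨ 2 * genus k K - 2 < ringChar k)
    (s : K) (H : K →ₐ[k] PowerSeries K) (hH : LocRes.IsHasseFamily s H)
    (J : Fin n → ℕ) (hJ : IsOrders K (hcol (AlgHom.id k K) H φ) J)
    (Φ : Place k K → (K →ₐ[k] LaurentSeries k))
    (hΦ : ∀ P : Place k K, LocRes.IsExpansionAt P.1 (Φ P)) (P : Place k K) :
    wDiv (AlgHom.id k K) H Φ s φ J P ≤ ∑ l : Fin n, (((l : ℕ) : ℤ) + 1) ∧
    (0 < n → wDiv (AlgHom.id k K) H Φ s φ J P = ∑ l : Fin n, (((l : ℕ) : ℤ) + 1) → ¬ IsGap P 2) := by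
  have hgen := genus_eq_of_canonical_basis hK hC φ hφ hspan
  obtain ⟨J', hmono, hpos, hgap, hW⟩ := exists_gap_orders hK hC φ hφ hspan hchar s H hH J hJ Φ hΦ P
  have hle := gap_orders_le hK hgen P (Place.deg_eq_one hK P) J' hmono hgap
  have hterm : ∀ l ∈ Finset.univ, ((J' l : ℤ) - ((l : ℕ) + 1)) ≤ (((l : ℕ) : ℤ) + 1) := by
    intro l _
    have := hle l
    have h' : (J' l : ℤ) ≤ 2 * (((l : ℕ) : ℤ) + 1) := by exact_mod_cast this
    linarith
  refine ⟨by rw [hW]; exact Finset.sum_le_sum hterm, ?_⟩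
  intro hn heq hgap2
  rw [hW] at heq
  have h1 := (Finset.sum_eq_sum_iff_of_le hterm).mp heq ⟨0, hn⟩ (Finset.mem_univ _)
  have h2 : J' ⟨0, hn⟩ = 2 := by
    simp only at h1
    push_cast at h1
    omega
  obtain ⟨l, hl⟩ := (hgap 1 le_rfl).mpr hgap2
  have h3 : J' ⟨0, hn⟩ ≤ J' l := hmono.monotone (Fin.mk_le_of_le_val (Nat.zero_le _))
  omega

end

end Groth.Agent.Helper9.FFExt
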