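import Mathlib
import Groth.Agent.Lib.Helper4.FF.Exist
import Groth.Agent.Lib.Helper4.FF.Gaps2
import Groth.Agent.Lib.Helper4.FF.Aut
import Groth.Agent.Lib.Helper9.FFExt.AlgClosed

/-! Functions with a double pole at one place: the structure of `L(2g P₀)` and the zeros of
`u - c`. -/

namespace Groth.Agent.Helper9.FFExt

open FunFld Groth.Agent.Lib.Helper4.FF WithZero Polynomial

section

variable {k K : Type*} [Field k] [Field K] [Algebra k K]

/-- valuation bound for a polynomial in `u` at a pole of `u` -/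
theorem val_aeval_le_exp (P : Place k K) {u : K} {d : ℤ} (hd : 0 ≤ d) (hu : P.1 u ≤ exp d)
    (p : k[X]) {m : ℕ} (hp : p.natDegree ≤ m) : P.1 (aeval u p) ≤ exp ((m : ℤ) * d) := by
  rw [aeval_eq_sum_range]
  apply Valuation.map_sum_le
  intro i hi
  rw [Finset.mem_range] at hi
  rw [Algebra.smul_def, map_mul, map_pow]
  have h1 : P.1 (algebraMap k K (p.coeff i)) ≤ 1 := Place.val_k_le P _
  have h2 : P.1 u ^ i ≤ exp ((m : ℤ) * d) := by
    refine (pow_le_pow_left₀ zero_le hu i).trans ?_
    rw [← exp_nsmul, exp_le_exp, nsmul_eq_mul]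
    have : (i : ℤ) ≤ m := by exact_mod_cast (by omega : i ≤ m)
    exact mul_le_mul_of_nonneg_right this hd
  calc P.1 (algebraMap k K (p.coeff i)) * P.1 u ^ i ≤ 1 * exp ((m : ℤ) * d) :=
        mul_le_mul' h1 h2
    _ = exp ((m : ℤ) * d) := one_mul _

/-- if `u` has its only pole at `P₀`, of order at most `2`, then `L(2g P₀)` consists of the
polynomials of degree `≤ g` in `u` -/
theorem exists_poly_of_mem_L (hK : IsFunctionField k K) (P₀ : Place k K) (hP₀ : P₀.deg = 1)
    {u : K} (hut : Transcendental k u) (hu : u ∈ L (Finsupp.single P₀ 2 : Divisor k K))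
    {f : K} (hf : f ∈ L (Finsupp.single P₀ (2 * (genus k K : ℤ)) : Divisor k K)) :
    ∃ p : k[X], p.natDegree ≤ genus k K ∧ aeval u p = f := by
  classical
  set g := genus k K with hg
  set D : Divisor k K := Finsupp.single P₀ (2 * (g : ℤ)) with hD
  set V : Submodule k K := (degreeLT k (g + 1)).map (aeval (R := k) u).toLinearMap with hV
  have hinj : Function.Injective (aeval (R := k) u).toLinearMap :=
    transcendental_iff_injective.mp hut
  have hVle : V ≤ L D := by
    rintro _ ⟨p, hp, rfl⟩
    have hp' : p.natDegree ≤ g := by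
      rw [SetLike.mem_coe, degreeLT_succ_eq_degreeLE, mem_degreeLE] at hp
      exact natDegree_le_iff_degree_le.mpr hp
    intro R
    change R.1 (aeval u p) ≤ _
    rw [hD, Finsupp.single_apply]
    have huR := hu R
    rw [Finsupp.single_apply] at huR
    split_ifs with h
    · rw [if_pos h] at huR
      have := val_aeval_le_exp R (by norm_num) huR p hp'
      rwa [mul_comm] at this
    · rw [if_neg h, exp_zero] at huR
      rw [exp_zero]
      exact val_aeval_le_one R.1 (fun c => Place.val_k_le R c) huR p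
  have hfin := L_finite hK D
  have hdim : Module.finrank k V = Module.finrank k (L D) := by
    have h1 : Module.finrank k V = g + 1 := by
      rw [hV, ← (Submodule.equivMapOfInjective _ hinj (degreeLT k (g + 1))).finrank_eq,
        (degreeLTEquiv k (g + 1)).finrank_eq, Module.finrank_fin_fun]
    have hdegD : D.deg = 2 * (g : ℤ) := by
      rw [hD, Divisor.deg_single, hP₀]
      push_cast
      ring
    have h2 := ell_eq_of_deg_ge hK (D := D) (by rw [hdegD]; omega)
    rw [hdegD] at h2
    unfold FunFld.ell at h2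
    rw [h1]
    omega
  have hVeq : V = L D := Submodule.eq_of_le_of_finrank_eq hVle hdim
  rw [← hVeq] at hf
  obtain ⟨p, hp, rfl⟩ := hf
  refine ⟨p, ?_, rfl⟩
  rw [SetLike.mem_coe, degreeLT_succ_eq_degreeLE, mem_degreeLE] at hp
  exact natDegree_le_iff_degree_le.mpr hp

/-- an element all of whose valuations are `≤ 1` is a constant -/
theorem exists_const_of_forall_le (hK : IsFunctionField k K) {x : K}
    (h : ∀ R : Place k K, R.1 x ≤ 1) : ∃ c : k, x = algebraMap k K c := by
  have hx : x ∈ L (0 : Divisor k K) := by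
    intro R
    rw [Finsupp.zero_apply, exp_zero]
    exact h R
  rw [L_zero hK, Submodule.mem_one] at hx
  obtain ⟨c, hc⟩ := hx
  exact ⟨c, hc.symm⟩

/-- if `u ≠ 0` has poles only at `P₀`, of order at most `2`, and two distinct zeros `P'`, `Q`,
then `L(g P')` consists of constants -/
theorem exists_const_of_two_zeros (hK : IsFunctionField k K) (P₀ : Place k K) (hP₀ : P₀.deg = 1)
    {u : K} (hu0 : u ≠ 0) (hu : u ∈ L (Finsupp.single P₀ 2 : Divisor k K))
    {P' Q : Place k K} (hne : Q ≠ P') (hP' : P'.1 u < 1) (hQ : Q.1 u < 1) {f : K}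
    (hf : f ∈ L (Finsupp.single P' (genus k K : ℤ) : Divisor k K)) :
    ∃ c : k, f = algebraMap k K c := by
  classical
  have hut : Transcendental k u :=
    transcendental_of_val_lt_one hK P'.1 (fun c => Place.val_k_le P' c) hu0 hP'
  -- `P₀` is a pole of `u`
  have hpole : ∀ R : Place k K, R.1 u < 1 → R ≠ P₀ := by
    intro R hR hRP
    subst hRP
    obtain ⟨c, hc⟩ := exists_const_of_forall_le hK (x := u) (by
      intro S
      by_cases hS : S = R
      · rw [hS]; exact hR.le
      · have := hu S
        rwa [Finsupp.single_apply, if_neg (Ne.symm hS), exp_zero] at this)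
    rw [hc] at hut
    exact hut (isAlgebraic_algebraMap c)
  have hP'0 := hpole P' hP'
  have hQ0 := hpole Q hQ
  set g := genus k K with hg
  -- `f u^g ∈ L(2g P₀)`
  have hF : f * u ^ g ∈ L (Finsupp.single P₀ (2 * (g : ℤ)) : Divisor k K) := by
    intro R
    rw [Finsupp.single_apply, map_mul, map_pow]
    have huR := hu R
    have hfR := hf R
    rw [Finsupp.single_apply] at huR hfR
    by_cases h0 : R = P₀
    · rw [if_pos h0.symm]
      rw [if_pos h0.symm] at huR
      rw [if_neg (fun h => hP'0 (h.trans h0)), exp_zero] at hfR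
      have h2 : R.1 u ^ g ≤ exp (2 * (g : ℤ)) := by
        refine (pow_le_pow_left₀ zero_le huR g).trans ?_
        rw [← exp_nsmul, exp_le_exp, nsmul_eq_mul]
        linarith
      calc R.1 f * R.1 u ^ g ≤ 1 * exp (2 * (g : ℤ)) := mul_le_mul' hfR h2
        _ = _ := one_mul _
    · rw [if_neg (Ne.symm h0), exp_zero]
      rw [if_neg (Ne.symm h0), exp_zero] at huR
      by_cases h1 : R = P'
      · rw [if_pos h1.symm] at hfR
        have h2 : R.1 u ^ g ≤ exp (-(g : ℤ)) := by
          have h3 : R.1 u ≤ exp (-1 : ℤ) := by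
            rw [h1]; exact lt_one_iff_le_exp_neg_one.mp hP'
          refine (pow_le_pow_left₀ zero_le h3 g).trans ?_
          rw [← exp_nsmul, exp_le_exp, nsmul_eq_mul]
          linarith
        calc R.1 f * R.1 u ^ g ≤ exp (g : ℤ) * exp (-(g : ℤ)) := mul_le_mul' hfR h2
          _ = 1 := by rw [← exp_add, add_neg_cancel, exp_zero]
      · rw [if_neg (Ne.symm h1), exp_zero] at hfR
        exact mul_le_one' hfR (pow_le_one' huR g)
  obtain ⟨p, hpdeg, hp⟩ := exists_poly_of_mem_L hK P₀ hP₀ hut hu hF
  -- `f` is regular at `Q`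
  have hfQ : Q.1 f ≤ 1 := by
    have := hf Q
    rwa [Finsupp.single_apply, if_neg (Ne.symm hne), exp_zero] at this
  have huQ0 : Q.1 u ≠ 0 := (Valuation.ne_zero_iff _).mpr hu0
  -- `X^m ∣ p` for `m ≤ g`
  have hdvd : ∀ m : ℕ, m ≤ g → (X : k[X]) ^ m ∣ p := by
    intro m
    induction m with
    | zero => intro _; simp
    | succ m ih =>
      intro hm
      obtain ⟨q, hq⟩ := ih (by omega)
      have h1 : aeval u q = f * u ^ (g - m) := by
        have h2 : aeval u q * u ^ m = f * u ^ (g - m) * u ^ m := by
          rw [mul_assoc, ← pow_add, Nat.sub_add_cancel (by omega), ← hp, hq, map_mul, map_pow,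
            aeval_X, mul_comm]
        exact mul_right_cancel₀ (pow_ne_zero m hu0) h2
      have h3 : Q.1 (aeval u q) < 1 := by
        rw [h1, map_mul, map_pow]
        have h4 : Q.1 u ^ (g - m) < 1 := pow_lt_one₀ zero_le hQ (by omega)
        calc Q.1 f * Q.1 u ^ (g - m) ≤ 1 * Q.1 u ^ (g - m) := mul_le_mul' hfQ le_rfl
          _ < 1 := by rw [one_mul]; exact h4
      -- constant coefficient vanishes
      have h5 : q.coeff 0 = 0 := by
        by_contra hc
        obtain ⟨q', hq'⟩ : ∃ q' : k[X], q = q' * X + C (q.coeff 0) := by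
          refine ⟨q.divX, ?_⟩
          rw [divX_mul_X_add]
        have h6 : aeval u q = aeval u q' * u + algebraMap k K (q.coeff 0) := by
          conv_lhs => rw [hq']
          rw [map_add, map_mul, aeval_X, aeval_C]
        have h7 : Q.1 (aeval u q' * u) < 1 := by
          rw [map_mul]
          have := val_aeval_le_one Q.1 (fun c => Place.val_k_le Q c) hQ.le q'
          calc Q.1 (aeval u q') * Q.1 u ≤ 1 * Q.1 u := mul_le_mul' this le_rfl
            _ < 1 := by rw [one_mul]; exact hQ
        have h8 : algebraMap k K (q.coeff 0) = aeval u q - aeval u q' * u := by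
          rw [h6]; ring
        have h9 : Q.1 (algebraMap k K (q.coeff 0)) < 1 := by
          rw [h8]
          exact lt_of_le_of_lt (Valuation.map_sub _ _ _) (max_lt h3 h7)
        rw [Place.val_k Q hc] at h9
        exact lt_irrefl _ h9
      obtain ⟨q'', hq''⟩ := X_dvd_iff.mpr h5
      refine ⟨q'', ?_⟩
      rw [hq, hq'', pow_succ, mul_assoc]
  obtain ⟨q, hq⟩ := hdvd g le_rfl
  by_cases hq0 : q = 0
  · refine ⟨0, ?_⟩
    rw [hq0, mul_zero] at hq
    rw [hq, map_zero] at hp
    rw [map_zero]
    rcases mul_eq_zero.mp hp.symm with h | h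
    · exact h
    · exact absurd h (pow_ne_zero g hu0)
  · have h1 : p.natDegree = g + q.natDegree := by
      rw [hq, natDegree_mul (pow_ne_zero g X_ne_zero) hq0, natDegree_X_pow]
    have h2 : q.natDegree = 0 := by omega
    obtain ⟨a, ha⟩ := natDegree_eq_zero.mp h2
    refine ⟨a, ?_⟩
    have h3 : f * u ^ g = algebraMap k K a * u ^ g := by
      rw [← hp, hq, ← ha, map_mul, map_pow, aeval_X, aeval_C, mul_comm]
    exact mul_right_cancel₀ (pow_ne_zero g hu0) h3

end

end Groth.Agent.Helper9.FFExt
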