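import Mathlib
import Groth.Agent.Lib.Helper9.FFExt.Weier2
import Groth.Agent.Lib.Helper4.FF.Gaps3

/-! Automorphisms and a function with a double pole. -/

namespace Groth.Agent.Helper9.FFExt

open FunFld Groth.Agent.Lib.Helper4.FF WithZero Polynomial

section

variable {k K : Type*} [Field k] [Field K] [Algebra k K]

theorem comapPlace_injective (σ : K ≃ₐ[k] K) : Function.Injective (comapPlace σ) := by
  intro P Q h
  have h1 := congrArg (comapPlace σ.symm) h
  have e : ∀ R : Place k K, comapPlace σ.symm (comapPlace σ R) = R := by
    intro R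
    apply Subtype.ext
    ext z
    change R.1 (σ (σ.symm z)) = R.1 z
    rw [σ.apply_symm_apply]
  rwa [e, e] at h1

/-- constants lie in `L(D)` for `D ≥ 0` -/
theorem algebraMap_mem_L {D : Divisor k K} (hD : 0 ≤ D) (c : k) : algebraMap k K c ∈ L D := by
  intro R
  refine (Place.val_k_le R c).trans ?_
  rw [← exp_zero, exp_le_exp]
  exact hD R

/-- if `L(g P)` consists of constants, then `1, …, g` are gaps at `P` -/
theorem isGap_of_const (P : Place k K) {g : ℕ}
    (h : ∀ f ∈ L (Finsupp.single P (g : ℤ) : Divisor k K), ∃ c : k, f = algebraMap k K c)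
    (m : ℕ) (hm1 : 1 ≤ m) (hmg : m ≤ g) : IsGap P m := by
  classical
  unfold IsGap
  apply le_antisymm
  · intro f hf
    have hf' : f ∈ L (Finsupp.single P (g : ℤ) : Divisor k K) :=
      L_single_mono P (by exact_mod_cast hmg) hf
    obtain ⟨c, rfl⟩ := h f hf'
    apply algebraMap_mem_L
    intro R
    rw [Finsupp.zero_apply, Finsupp.single_apply]
    split_ifs
    · have : (1 : ℤ) ≤ m := by exact_mod_cast hm1
      omega
    · exact le_rfl
  · exact L_single_mono P (by omega)

variable [IsAlgClosed k]

/-- with a function `x` having a double pole at `P₀` and no other pole, and a set `S ∋ P₀` of at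
least three places such that every `P' ∈ S` other than `P₀` is the only zero of `x - x(P')`:
an automorphism fixes all places in `S` exactly when it fixes `x`. -/
theorem fixes_iff_of_double_pole (hK : IsFunctionField k K) (hg : 0 < genus k K)
    (P₀ : Place k K) {x : K} (hxL : x ∈ L (Finsupp.single P₀ 2 : Divisor k K))
    (hxnot : x ∉ L (Finsupp.single P₀ 1 : Divisor k K))
    (S : Finset (Place k K)) (hP₀ : P₀ ∈ S) (hcard : 3 ≤ S.card)
    (hS : ∀ P' ∈ S, P' ≠ P₀ → ∀ c : k, P'.1 (x - algebraMap k K c) < 1 →
      ∀ Q : Place k K, Q.1 (x - algebraMap k K c) < 1 → Q = P')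
    (σ : K ≃ₐ[k] K) : (∀ P ∈ S, comapPlace σ P = P) ↔ σ x = x := by
  classical
  have hx0 : x ≠ 0 := by
    rintro rfl
    exact hxnot (Submodule.zero_mem _)
  have hord : P₀.ord x = -2 := by
    have := ord_eq_of_mem_of_not_mem (n := 1) (by norm_num; exact hxL) hxnot
    rw [this]; norm_num
  have hpole : 1 < P₀.1 x := by
    rw [← Place.ord_neg_iff P₀ hx0, hord]; norm_num
  have hreg : ∀ R : Place k K, R ≠ P₀ → R.1 x ≤ 1 := by
    intro R hR
    have := hxL R
    rwa [Finsupp.single_apply, if_neg (Ne.symm hR), exp_zero] at this
  constructor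
  · -- fixes `S` implies fixes `x`
    intro hfix
    have hfix0 := hfix P₀ hP₀
    -- `σ x ∈ L(2 P₀)`
    have hσx : σ x ∈ L (Finsupp.single P₀ 2 : Divisor k K) := by
      intro R
      rw [Finsupp.single_apply]
      have e : R.1 (σ x) = (comapPlace σ R).1 x := rfl
      rw [e]
      split_ifs with h
      · rw [← h, hfix0]
        have := hxL P₀
        rwa [Finsupp.single_apply, if_pos rfl] at this
      · rw [exp_zero]
        apply hreg
        intro h'
        apply h
        rw [← hfix0] at h'
        exact (comapPlace_injective σ h').symm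
    -- `σ x = a + b x`
    have hell1 := ell_single_one_of_pos_genus hK hg P₀
    have hle : (Finsupp.single P₀ 1 : Divisor k K) ≤ Finsupp.single P₀ 2 :=
      single_le_single P₀ (by norm_num)
    have hell2 : ell (Finsupp.single P₀ 2 : Divisor k K) = ell (Finsupp.single P₀ 1 : Divisor k K) + 1 := by
      have h1 := ell_single_succ_le hK P₀ (Place.deg_eq_one hK P₀) 1
      have h2 : ell (Finsupp.single P₀ 1 : Divisor k K) < ell (Finsupp.single P₀ 2 : Divisor k K) := by
        have hfin := L_finite hK (Finsupp.single P₀ 2 : Divisor k K)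
        apply Submodule.finrank_lt_finrank_of_lt
        refine lt_of_le_of_ne (L_mono hle) ?_
        intro heq
        apply hxnot
        rw [heq]
        exact hxL
      norm_num at h1
      omega
    obtain ⟨b, hb⟩ := exists_sub_smul_mem hK hle hell2 hxL hxnot hσx
    have hL1 : L (Finsupp.single P₀ 1 : Divisor k K) = L (0 : Divisor k K) := by
      have hfin := L_finite hK (Finsupp.single P₀ 1 : Divisor k K)
      symm
      apply Submodule.eq_of_le_of_finrank_eq
      · apply L_mono
        rw [← Finsupp.single_zero P₀]
        exact single_le_single P₀ (by norm_num)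
      · change ell _ = ell _
        rw [ell_zero hK, hell1]
    rw [hL1, L_zero hK, Submodule.mem_one] at hb
    obtain ⟨a, ha⟩ := hb
    have hσ : σ x = algebraMap k K a + b • x := by
      rw [ha]; ring
    -- two further points of `S`
    obtain ⟨P', hP'S, hP'0⟩ : ∃ P' ∈ S, P' ≠ P₀ := by
      by_contra hcon
      push Not at hcon
      have : S ⊆ {P₀} := fun R hR => Finset.mem_singleton.mpr (hcon R hR)
      have := Finset.card_le_card this
      rw [Finset.card_singleton] at this
      omega
    obtain ⟨P'', hP''S, hP''0, hP''P'⟩ : ∃ P'' ∈ S, P'' ≠ P₀ ∧ P'' ≠ P' := by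
      by_contra hcon
      push Not at hcon
      have : S ⊆ {P₀, P'} := by
        intro R hR
        rw [Finset.mem_insert, Finset.mem_singleton]
        by_cases h : R = P₀
        · exact Or.inl h
        · exact Or.inr (hcon R hR h)
      have := Finset.card_le_card this
      have h2 := Finset.card_insert_le P₀ ({P'} : Finset (Place k K))
      rw [Finset.card_singleton] at h2
      omega
    obtain ⟨c', hc'⟩ := Place.exists_const_sub_lt P' (Place.deg_eq_one hK P') (hreg P' hP'0)
    obtain ⟨c'', hc''⟩ := Place.exists_const_sub_lt P'' (Place.deg_eq_one hK P'') (hreg P'' hP''0)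
    have hcne : c' ≠ c'' := by
      intro h
      rw [← h] at hc''
      exact hP''P' (hS P' hP'S hP'0 c' hc' P'' hc'')
    -- the relation at a fixed point
    have hrel : ∀ R : Place k K, comapPlace σ R = R → ∀ c : k, R.1 (x - algebraMap k K c) < 1 →
        a + b * c = c := by
      intro R hR c hc
      have h1 : R.1 (σ (x - algebraMap k K c)) < 1 := by
        have e : R.1 (σ (x - algebraMap k K c)) = (comapPlace σ R).1 (x - algebraMap k K c) := rfl
        rw [e, hR]
        exact hc
      rw [map_sub, σ.commutes, hσ] at h1
      have h2 : R.1 (b • (x - algebraMap k K c)) < 1 := by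
        rw [Algebra.smul_def, map_mul]
        calc R.1 (algebraMap k K b) * R.1 (x - algebraMap k K c) ≤ 1 * R.1 (x - algebraMap k K c) :=
              mul_le_mul' (Place.val_k_le R b) le_rfl
          _ < 1 := by rw [one_mul]; exact hc
      have h3 : algebraMap k K (a + b * c - c) =
          (algebraMap k K a + b • x - algebraMap k K c) - b • (x - algebraMap k K c) := by
        rw [map_sub, map_add, map_mul, Algebra.smul_def, Algebra.smul_def]
        ring
      have h4 : R.1 (algebraMap k K (a + b * c - c)) < 1 := by
        rw [h3]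
        exact lt_of_le_of_lt (Valuation.map_sub _ _ _) (max_lt h1 h2)
      by_contra hne
      rw [Place.val_k R (sub_ne_zero.mpr hne)] at h4
      exact lt_irrefl _ h4
    have h1 := hrel P' (hfix P' hP'S) c' hc'
    have h2 := hrel P'' (hfix P'' hP''S) c'' hc''
    have hb1 : b = 1 := by
      have h3 : (b - 1) * (c' - c'') = 0 := by linear_combination h1 - h2
      rcases mul_eq_zero.mp h3 with h | h
      · exact sub_eq_zero.mp h
      · exact absurd (sub_eq_zero.mp h) hcne
    have ha0 : a = 0 := by
      rw [hb1] at h1
      linear_combination h1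
    rw [hσ, ha0, hb1, map_zero, zero_add, one_smul]
  · -- fixes `x` implies fixes `S`
    intro hσx P hP
    by_cases h0 : P = P₀
    · rw [h0]
      by_contra hne
      have := hreg _ hne
      have e : (comapPlace σ P₀).1 x = P₀.1 (σ x) := rfl
      rw [e, hσx] at this
      exact absurd hpole (not_lt.mpr this)
    · obtain ⟨c, hc⟩ := Place.exists_const_sub_lt P (Place.deg_eq_one hK P) (hreg P h0)
      apply hS P hP h0 c hc
      have e : (comapPlace σ P).1 (x - algebraMap k K c) = P.1 (σ (x - algebraMap k K c)) := rfl
      rw [e, map_sub, σ.commutes, hσx]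
      exact hc

end

end Groth.Agent.Helper9.FFExt
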