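import Mathlib
import Groth.Agent.Lib.Helper9.FFExt.Weier1
import Groth.Agent.Lib.Helper9.FFExt.Weier3

/-! Invariance of gaps under automorphisms; the support of the Weierstrass divisor. -/

namespace Groth.Agent.Helper9.FFExt

open FunFld Groth.Agent.Lib.Helper4.FF WithZero

section

variable {k K : Type*} [Field k] [Field K] [Algebra k K]

theorem comapPlace_comapPlace_symm (σ : K ≃ₐ[k] K) (R : Place k K) :
    comapPlace σ.symm (comapPlace σ R) = R := by
  apply Subtype.ext
  ext z
  change R.1 (σ (σ.symm z)) = R.1 z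
  rw [σ.apply_symm_apply]

theorem comapPlace_mul (σ τ : K ≃ₐ[k] K) (R : Place k K) :
    comapPlace (σ * τ) R = comapPlace τ (comapPlace σ R) := rfl

theorem comapPlace_one (R : Place k K) : comapPlace (1 : K ≃ₐ[k] K) R = R := rfl

theorem mem_L_comapPlace_iff (σ : K ≃ₐ[k] K) (P : Place k K) (a : ℤ) (f : K) :
    f ∈ L (Finsupp.single (comapPlace σ P) a : Divisor k K) ↔
      σ f ∈ L (Finsupp.single P a : Divisor k K) := by
  classical
  constructor
  · intro h R
    have h1 := h (comapPlace σ R)
    rw [Finsupp.single_apply] at h1 ⊢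
    have e : (comapPlace σ P = comapPlace σ R) ↔ P = R :=
      ⟨fun h => comapPlace_injective σ h, fun h => by rw [h]⟩
    simp only [e] at h1
    exact h1
  · intro h R
    have h1 := h (comapPlace σ.symm R)
    rw [Finsupp.single_apply] at h1 ⊢
    have e : (comapPlace σ P = R) ↔ P = comapPlace σ.symm R := by
      constructor
      · intro h; rw [← h, comapPlace_comapPlace_symm]
      · intro h; rw [h, comapPlace_symm]
    simp only [e]
    have e2 : (comapPlace σ.symm R).1 (σ f) = R.1 f := by
      change R.1 (σ.symm (σ f)) = R.1 f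
      rw [σ.symm_apply_apply]
    rw [e2] at h1
    exact h1

theorem isGap_comapPlace (σ : K ≃ₐ[k] K) (P : Place k K) (m : ℕ) :
    IsGap (comapPlace σ P) m ↔ IsGap P m := by
  unfold IsGap
  constructor
  · intro h
    ext f
    have h1 := mem_L_comapPlace_iff σ P (m : ℤ) (σ.symm f)
    have h2 := mem_L_comapPlace_iff σ P ((m : ℤ) - 1) (σ.symm f)
    rw [σ.apply_symm_apply] at h1 h2
    rw [← h1, ← h2, h]
  · intro h
    ext f
    rw [mem_L_comapPlace_iff, mem_L_comapPlace_iff, h]

variable [IsAlgClosed k]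

/-- the support of the Weierstrass divisor of the canonical map: the places at which `1, …, g`
are not all gaps -/
theorem wDiv_apply_eq_zero_iff (hK : IsFunctionField k K) {C : Divisor k K}
    (hC : IsCanonical k K C) {n : ℕ} (φ : Fin (n + 1) → K) (hφ : LinearIndependent k φ)
    (hspan : Submodule.span k (Set.range φ) = L C)
    (hchar : ringChar k = 0 ∨ 2 * genus k K - 2 < ringChar k)
    (s : K) (H : K →ₐ[k] PowerSeries K) (hH : LocRes.IsHasseFamily s H)
    (J : Fin n → ℕ) (hJ : IsOrders K (hcol (AlgHom.id k K) H φ) J)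
    (Φ : Place k K → (K →ₐ[k] LaurentSeries k))
    (hΦ : ∀ P : Place k K, LocRes.IsExpansionAt P.1 (Φ P)) (P : Place k K) :
    wDiv (AlgHom.id k K) H Φ s φ J P = 0 ↔ ∀ m : ℕ, 1 ≤ m → m ≤ genus k K → IsGap P m := by
  constructor
  · intro h0 m hm1 hmg
    have hgen := genus_eq_of_canonical_basis hK hC φ hφ hspan
    obtain ⟨J', hmono, hpos, hgap, hW⟩ := exists_gap_orders hK hC φ hφ hspan hchar s H hH J hJ Φ hΦ P
    rw [hW] at h0
    have hge : ∀ l : Fin n, (l : ℕ) + 1 ≤ J' l := by
      intro l
      have hn : 0 < n := by have := l.2; omega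
      have h1 := Groth.Agent.S12611.Aux.strictMono_add_le J' hmono hn l
      have h2 := hpos ⟨0, hn⟩
      omega
    have hterm : ∀ l ∈ Finset.univ, (0 : ℤ) ≤ (J' l : ℤ) - ((l : ℕ) + 1) := by
      intro l _
      have := hge l
      have h' : (((l : ℕ) : ℤ) + 1) ≤ (J' l : ℤ) := by exact_mod_cast this
      linarith
    have heq := (Finset.sum_eq_zero_iff_of_nonneg hterm).mp h0
    by_cases hm : m = 1
    · subst hm
      rw [isGap_succ_iff hK P 0]
      have h1 := ell_single_one_of_pos_genus hK (by omega : 0 < genus k K) P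
      have e : ((0 + 1 : ℕ) : ℤ) = 1 := by norm_num
      rw [e, h1]
      have : (Finsupp.single P ((0 : ℕ) : ℤ) : Divisor k K) = 0 := by simp
      rw [this, ell_zero hK]
    · obtain ⟨j, rfl⟩ : ∃ j, m = j + 1 := ⟨m - 1, by omega⟩
      rw [← hgap j (by omega)]
      refine ⟨⟨j - 1, by omega⟩, ?_⟩
      have := heq ⟨j - 1, by omega⟩ (Finset.mem_univ _)
      simp only at this
      have hj : 1 ≤ j := by omega
      push_cast [hj] at this
      omega
  · exact wDiv_apply_eq_zero_of_gaps hK hC φ hφ hspan hchar s H hH J hJ Φ hΦ P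

end

end Groth.Agent.Helper9.FFExt
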