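import Mathlib
import Groth.Agent.Lib.Helper9.FFExt.Ell1
import Groth.Agent.Lib.Helper9.FFExt.Weier4
import Groth.Agent.Lib.Helper4.FF.Genus1Basis
import Groth.Agent.Lib.Helper4.FF.Aut

namespace Groth.Agent.Helper9.Ell

open FunFld WithZero Groth.Agent.Lib.Helper4.FF Groth.Agent.Helper9.FFExt

section W

variable {k K : Type*} [Field k] [Field K] [Algebra k K]

lemma transcendental_of_ord_ne_zero (hK : IsFunctionField k K) (P : Place k K) {z : K}
    (h : P.ord z ≠ 0) : Transcendental k z := by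
  intro halg
  obtain ⟨c, rfl⟩ := hK.2 z halg
  exact h (Place.ord_k P c)

lemma comapPlace_eq_of_forall (σ : K ≃ₐ[k] K) (P : Place k K) (h : ∀ z : K, P.1 (σ z) = P.1 z) :
    comapPlace σ P = P := by
  apply Subtype.ext
  ext z
  exact h z

variable [IsAlgClosed k] (hK : IsFunctionField k K) (hgen : genus k K = 1) (P : Place k K)
  (x y : K) (hx : x ∈ L (Finsupp.single P 2 : Divisor k K)) (hx2 : P.ord x = -2)
  (hy : y ∈ L (Finsupp.single P 3 : Divisor k K)) (hy3 : P.ord y = -3)

include hK hgen hx hx2 hy hy3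

lemma mem_L_two {z : K} (hz : z ∈ L (Finsupp.single P 2 : Divisor k K)) :
    ∃ α β : k, z = algebraMap k K α * x + algebraMap k K β := by
  have hP := Place.deg_eq_one hK P
  have h := (basis_L_genus_one hK hgen P hP x y hx hx2 hy hy3 2 le_rfl).2
  have hz' : z ∈ Submodule.span k (Set.range
      (Sum.elim (fun i : Fin 2 => x ^ (i : ℕ)) (fun i : Fin 0 => x ^ (i : ℕ) * y))) := by
    have e : (Finsupp.single P ((2 : ℕ) : ℤ) : Divisor k K) = Finsupp.single P 2 := by norm_num
    rw [← e, ← h] at hz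
    exact hz
  obtain ⟨c, hc⟩ := (Submodule.mem_span_range_iff_exists_fun k).mp hz'
  rw [Fintype.sum_sum_type, Fin.sum_univ_two] at hc
  refine ⟨c (Sum.inl 1), c (Sum.inl 0), ?_⟩
  rw [← hc]
  simp [Algebra.smul_def]
  ring

lemma mem_L_three {z : K} (hz : z ∈ L (Finsupp.single P 3 : Divisor k K)) :
    ∃ γ δ ε : k, z = algebraMap k K γ * y + algebraMap k K δ * x + algebraMap k K ε := by
  have hP := Place.deg_eq_one hK P
  have h := (basis_L_genus_one hK hgen P hP x y hx hx2 hy hy3 3 (by norm_num)).2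
  have hz' : z ∈ Submodule.span k (Set.range
      (Sum.elim (fun i : Fin 2 => x ^ (i : ℕ)) (fun i : Fin 1 => x ^ (i : ℕ) * y))) := by
    have e : (Finsupp.single P ((3 : ℕ) : ℤ) : Divisor k K) = Finsupp.single P 3 := by norm_num
    rw [← e, ← h] at hz
    exact hz
  obtain ⟨c, hc⟩ := (Submodule.mem_span_range_iff_exists_fun k).mp hz'
  rw [Fintype.sum_sum_type, Fin.sum_univ_two, Fin.sum_univ_one] at hc
  refine ⟨c (Sum.inr 0), c (Sum.inl 1), c (Sum.inl 0), ?_⟩
  rw [← hc]
  simp [Algebra.smul_def]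
  ring

omit hK hgen hx hy in
lemma indep6 (c : Fin 6 → k)
    (h : algebraMap k K (c 0) + algebraMap k K (c 1) * x + algebraMap k K (c 2) * x ^ 2 +
      algebraMap k K (c 3) * x ^ 3 + algebraMap k K (c 4) * y + algebraMap k K (c 5) * (x * y) = 0) :
    ∀ i, c i = 0 := by
  have hx0 : x ≠ 0 := by
    rintro rfl
    simp [FunFld.Place.ord] at hx2
  have hy0 : y ≠ 0 := by
    rintro rfl
    simp [FunFld.Place.ord] at hy3
  set v : Fin 6 → K := ![1, x, x ^ 2, x ^ 3, y, x * y] with hv
  have hv0 : ∀ i, v i ≠ 0 := by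
    intro i
    fin_cases i <;> simp [hv, hx0, hy0]
  have hord : ∀ i, P.ord (v i) = ![0, -2, -4, -6, -3, -5] i := by
    intro i
    fin_cases i
    · exact Place.ord_one P
    · exact hx2
    · change P.ord (x ^ 2) = -4
      rw [Place.ord_pow, hx2]; norm_num
    · change P.ord (x ^ 3) = -6
      rw [Place.ord_pow, hx2]; norm_num
    · exact hy3
    · change P.ord (x * y) = -5
      rw [Place.ord_mul P hx0 hy0, hx2, hy3]; norm_num
  have hinj : Function.Injective (fun i => P.ord (v i)) := by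
    intro i j hij
    simp only [hord] at hij
    revert i j
    decide
  have hli := linearIndependent_of_ord_injective P v hv0 hinj
  have hsum : ∑ i, c i • v i = 0 := by
    rw [Fin.sum_univ_six]
    simp only [Algebra.smul_def, hv]
    rw [← h]
    simp
  exact Fintype.linearIndependent_iff.mp hli c hsum

end W

end Groth.Agent.Helper9.Ell
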