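import Mathlib

namespace Groth.Agent.Helper9.Geo2

open TensorProduct

universe u v

section KerT

variable {k k' K : Type*} [Field k] [Field k'] [Field K] [Algebra k k'] [Algebra k K]

/-- the evaluation of polynomials over `k'` at the point `(1 ⊗ x, 1 ⊗ y)` of `k' ⊗ K` -/
noncomputable def evT (x y : K) : MvPolynomial (Fin 2) k' →ₐ[k'] k' ⊗[k] K :=
  MvPolynomial.aeval ![(1 : k') ⊗ₜ[k] x, (1 : k') ⊗ₜ[k] y]

lemma evT_map (x y : K) (G : MvPolynomial (Fin 2) k) :
    evT (k' := k') x y (MvPolynomial.map (algebraMap k k') G) =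
      (1 : k') ⊗ₜ[k] (MvPolynomial.aeval ![x, y] G) := by
  unfold evT
  rw [MvPolynomial.aeval_map_algebraMap]
  have h := MvPolynomial.comp_aeval_apply (f := ![x, y])
    (Algebra.TensorProduct.includeRight : K →ₐ[k] k' ⊗[k] K) G
  rw [Algebra.TensorProduct.includeRight_apply] at h
  rw [h]
  have e : (fun i => (Algebra.TensorProduct.includeRight : K →ₐ[k] k' ⊗[k] K) (![x, y] i)) =
      ![(1 : k') ⊗ₜ[k] x, (1 : k') ⊗ₜ[k] y] := by
    funext i
    fin_cases i <;> rfl
  rw [e]

lemma evT_C (x y : K) (c : k') :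
    evT (k := k) x y (MvPolynomial.C c) = c ⊗ₜ[k] (1 : K) := by
  unfold evT
  rw [MvPolynomial.aeval_C]
  rfl

/-- coefficientwise decomposition along a basis -/
lemma exists_decomp {ι : Type*} [Fintype ι] (b : Module.Basis ι k k')
    (G : MvPolynomial (Fin 2) k') :
    ∃ g : ι → MvPolynomial (Fin 2) k,
      G = ∑ i, MvPolynomial.C (b i) * MvPolynomial.map (algebraMap k k') (g i) := by
  classical
  induction G using MvPolynomial.induction_on with
  | C c =>
    refine ⟨fun i => MvPolynomial.C (b.repr c i), ?_⟩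
    simp only [MvPolynomial.map_C, ← map_mul, ← map_sum]
    congr 1
    conv_lhs => rw [← b.sum_repr c]
    refine Finset.sum_congr rfl fun i _ => ?_
    rw [Algebra.smul_def, mul_comm]
  | add p q hp hq =>
    obtain ⟨gp, hgp⟩ := hp
    obtain ⟨gq, hgq⟩ := hq
    refine ⟨fun i => gp i + gq i, ?_⟩
    conv_lhs => rw [hgp, hgq]
    rw [← Finset.sum_add_distrib]
    refine Finset.sum_congr rfl fun i _ => ?_
    rw [map_add, mul_add]
  | mul_X p j hp =>
    obtain ⟨gp, hgp⟩ := hp
    refine ⟨fun i => gp i * MvPolynomial.X j, ?_⟩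
    conv_lhs => rw [hgp]
    rw [Finset.sum_mul]
    refine Finset.sum_congr rfl fun i _ => ?_
    rw [map_mul, MvPolynomial.map_X, mul_assoc]

theorem ker_evT {ι : Type*} [Fintype ι] (b : Module.Basis ι k k') (x y : K)
    (f : MvPolynomial (Fin 2) k)
    (hker : RingHom.ker (MvPolynomial.aeval ![x, y] : MvPolynomial (Fin 2) k →ₐ[k] K) =
      Ideal.span {f}) :
    RingHom.ker (evT (k := k) (k' := k') x y) =
      Ideal.span {MvPolynomial.map (algebraMap k k') f} := by
  classical
  apply le_antisymm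
  · intro G hG
    obtain ⟨g, hg⟩ := exists_decomp b G
    have h1 : evT (k := k) (k' := k') x y G =
        ∑ i, b i ⊗ₜ[k] (MvPolynomial.aeval ![x, y] (g i)) := by
      rw [hg, map_sum]
      refine Finset.sum_congr rfl fun i _ => ?_
      rw [map_mul, evT_C, evT_map, Algebra.TensorProduct.tmul_mul_tmul, mul_one, one_mul]
    have h2 : ∑ i, b i ⊗ₜ[k] (MvPolynomial.aeval ![x, y] (g i)) = 0 := by
      rw [← h1]; exact hG
    have h3 : ∀ i, MvPolynomial.aeval ![x, y] (g i) = 0 := by
      set l : ι →₀ K := Finsupp.equivFunOnFinite.symm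
        (fun i => MvPolynomial.aeval ![x, y] (g i)) with hl
      have hl0 : l = 0 := by
        apply TensorProduct.sum_tmul_basis_left_eq_zero b l
        rw [Finsupp.sum_fintype _ _ (fun i => by rw [tmul_zero])]
        exact h2
      intro i
      have := DFunLike.congr_fun hl0 i
      exact this
    have h4 : ∀ i, f ∣ g i := by
      intro i
      have : g i ∈ RingHom.ker
          (MvPolynomial.aeval ![x, y] : MvPolynomial (Fin 2) k →ₐ[k] K) := h3 i
      rw [hker, Ideal.mem_span_singleton] at this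
      exact this
    rw [Ideal.mem_span_singleton, hg]
    apply Finset.dvd_sum
    intro i _
    obtain ⟨h, hh⟩ := h4 i
    rw [hh, map_mul]
    exact ⟨MvPolynomial.C (b i) * MvPolynomial.map (algebraMap k k') h, by ring⟩
  · rw [Ideal.span_le]
    rintro _ rfl
    change evT x y _ = 0
    rw [evT_map]
    have : f ∈ RingHom.ker
        (MvPolynomial.aeval ![x, y] : MvPolynomial (Fin 2) k →ₐ[k] K) := by
      rw [hker]; exact Ideal.subset_span rfl
    rw [show MvPolynomial.aeval ![x, y] f = 0 from this, tmul_zero]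

end KerT

end Groth.Agent.Helper9.Geo2
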