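import Mathlib
import Groth.Prelude.Def_W4bk4goldsch23FF
import Groth.Agent.Lib.Helper9.FFExt.Geo2

namespace Groth.Agent.Helper9.Geo2

open TensorProduct FunFld

universe u v

section Geometric

variable {k : Type u} {K : Type v} [Field k] [Field K] [Algebra k K]

/-- a plane model with absolutely irreducible equation is geometric -/
theorem isGeometric_of_absIrred (x y : K) (f : MvPolynomial (Fin 2) k)
    (hxy : IntermediateField.adjoin k ({x, y} : Set K) = ⊤)
    (habs : ∀ (k' : Type u) [Field k'] [Algebra k k'], FiniteDimensional k k' →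
      Irreducible (MvPolynomial.map (algebraMap k k') f))
    (hker : RingHom.ker (MvPolynomial.aeval ![x, y] : MvPolynomial (Fin 2) k →ₐ[k] K) =
      Ideal.span {f}) : IsGeometric k K := by
  intro k' _ _ hfin'
  classical
  let b := Module.finBasis k k'
  have hf' := habs k' hfin'
  have hk := ker_evT b x y f hker
  set Ψ := evT (k := k) (k' := k') x y with hΨ
  have hprime : Prime (MvPolynomial.map (algebraMap k k') f) := hf'.prime
  have hmem : ∀ G, Ψ G = 0 ↔ MvPolynomial.map (algebraMap k k') f ∣ G := by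
    intro G
    rw [← Ideal.mem_span_singleton, ← hk, RingHom.mem_ker]
  have hmul : ∀ G H, Ψ G * Ψ H = 0 → Ψ G = 0 ∨ Ψ H = 0 := by
    intro G H h
    rw [← map_mul, hmem] at h
    rcases hprime.dvd_or_dvd h with h1 | h1
    · exact Or.inl ((hmem G).mpr h1)
    · exact Or.inr ((hmem H).mpr h1)
  -- the affine coordinate ring
  set φ : MvPolynomial (Fin 2) k →ₐ[k] K := MvPolynomial.aeval ![x, y] with hφ
  let A : Subalgebra k K := φ.range
  have hxA : x ∈ A := ⟨MvPolynomial.X 0, by simp [hφ]⟩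
  have hyA : y ∈ A := ⟨MvPolynomial.X 1, by simp [hφ]⟩
  have hadj : Algebra.adjoin k ({x, y} : Set K) ≤ A := by
    rw [Algebra.adjoin_le_iff]
    rintro z (rfl | rfl)
    · exact hxA
    · exact hyA
  have hfrac : ∀ z : K, ∃ u ∈ A, ∃ w ∈ A, w ≠ 0 ∧ z * w = u := by
    intro z
    have hz : z ∈ IntermediateField.adjoin k ({x, y} : Set K) := by rw [hxy]; trivial
    obtain ⟨r, hr, s, hs, e⟩ := IntermediateField.mem_adjoin_iff_div.mp hz
    by_cases hs0 : s = 0
    · refine ⟨0, A.zero_mem, 1, A.one_mem, one_ne_zero, ?_⟩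
      rw [e, hs0, div_zero, zero_mul]
    · exact ⟨r, hadj hr, s, hadj hs, hs0, by rw [e]; field_simp⟩
  have hcd : ∀ s : Finset K, ∃ w₀ ∈ A, w₀ ≠ 0 ∧ ∀ z ∈ s, w₀ * z ∈ A := by
    intro s
    induction s using Finset.induction_on with
    | empty => exact ⟨1, A.one_mem, one_ne_zero, by simp⟩
    | insert c s _ ih =>
      obtain ⟨w₀, hw₀, hw₀0, h⟩ := ih
      obtain ⟨u, hu, w, hw, hw0, e⟩ := hfrac c
      refine ⟨w₀ * w, A.mul_mem hw₀ hw, mul_ne_zero hw₀0 hw0, ?_⟩
      intro z hz
      rcases Finset.mem_insert.mp hz with rfl | hz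
      · have : w₀ * w * z = w₀ * u := by rw [← e]; ring
        rw [this]
        exact A.mul_mem hw₀ hu
      · have : w₀ * w * z = w * (w₀ * z) := by ring
        rw [this]
        exact A.mul_mem hw (h z hz)
  have hden : ∀ t : k' ⊗[k] K, ∃ w : K, w ≠ 0 ∧ ∃ G, ((1 : k') ⊗ₜ[k] w) * t = Ψ G := by
    intro t
    obtain ⟨l, rfl⟩ := TensorProduct.eq_repr_basis_left b t
    obtain ⟨w₀, -, hw₀0, hw₀⟩ := hcd (Finset.univ.image l)
    have hG : ∀ i, ∃ G : MvPolynomial (Fin 2) k, φ G = w₀ * l i := fun i =>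
      hw₀ (l i) (Finset.mem_image_of_mem l (Finset.mem_univ i))
    choose G hG using hG
    refine ⟨w₀, hw₀0, ∑ i, MvPolynomial.C (b i) * MvPolynomial.map (algebraMap k k') (G i), ?_⟩
    rw [Finsupp.sum_fintype _ _ (fun i => by rw [tmul_zero]), Finset.mul_sum, map_sum]
    refine Finset.sum_congr rfl fun i _ => ?_
    rw [map_mul, hΨ, evT_C, evT_map, Algebra.TensorProduct.tmul_mul_tmul,
      Algebra.TensorProduct.tmul_mul_tmul, mul_one, one_mul, one_mul]
    rw [← hφ, hG]
  have hunit : ∀ w : K, w ≠ 0 → ∀ t : k' ⊗[k] K, ((1 : k') ⊗ₜ[k] w) * t = 0 → t = 0 := by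
    intro w hw t ht
    have : ((1 : k') ⊗ₜ[k] w⁻¹) * (((1 : k') ⊗ₜ[k] w) * t) = t := by
      rw [← mul_assoc, Algebra.TensorProduct.tmul_mul_tmul, one_mul, inv_mul_cancel₀ hw,
        ← Algebra.TensorProduct.one_def, one_mul]
    rw [← this, ht, mul_zero]
  have hnzd : NoZeroDivisors (k' ⊗[k] K) := by
    refine ⟨fun {t₁ t₂} h => ?_⟩
    obtain ⟨w₁, hw₁, G₁, e₁⟩ := hden t₁
    obtain ⟨w₂, hw₂, G₂, e₂⟩ := hden t₂
    have : Ψ G₁ * Ψ G₂ = 0 := by
      rw [← e₁, ← e₂]
      calc (1 ⊗ₜ[k] w₁ * t₁) * (1 ⊗ₜ[k] w₂ * t₂) = (1 ⊗ₜ[k] w₁) * (1 ⊗ₜ[k] w₂) * (t₁ * t₂) := by ring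
        _ = 0 := by rw [h, mul_zero]
    rcases hmul G₁ G₂ this with h1 | h1
    · left
      rw [h1] at e₁
      exact hunit w₁ hw₁ t₁ e₁
    · right
      rw [h1] at e₂
      exact hunit w₂ hw₂ t₂ e₂
  have hnt : Nontrivial (k' ⊗[k] K) := inferInstance
  have hdom : IsDomain (k' ⊗[k] K) := NoZeroDivisors.to_isDomain _
  let e := Algebra.TensorProduct.comm k k' K
  have hdom' : IsDomain (K ⊗[k] k') := e.symm.toMulEquiv.isDomain
  have hfld : IsField (K ⊗[k] k') :=
    isField_of_isIntegral_of_isField' (R := K) (Field.toIsField _)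
  exact e.toMulEquiv.isField hfld

/-- the constant field of a geometric extension is algebraically closed in it -/
theorem mem_range_of_isGeometric (hg : IsGeometric k K) (α : K) (hα : IsAlgebraic k α) :
    α ∈ Set.range (algebraMap k K) := by
  classical
  have hint : IsIntegral k α := hα.isIntegral
  set p := minpoly k α with hp
  have hirr : Irreducible p := minpoly.irreducible hint
  haveI : Fact (Irreducible p) := ⟨hirr⟩
  have hp0 : p ≠ 0 := minpoly.ne_zero hint
  have hfin' : FiniteDimensional k (AdjoinRoot p) := (AdjoinRoot.powerBasis hp0).finite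
  have hT : IsField (AdjoinRoot p ⊗[k] K) := hg (AdjoinRoot p) hfin'
  let ι : AdjoinRoot p →ₐ[k] K := AdjoinRoot.liftAlgHom p (Algebra.ofId k K) α (by
    have := minpoly.aeval k α
    rw [Polynomial.aeval_def] at this
    exact this)
  have hι : ι (AdjoinRoot.root p) = α := AdjoinRoot.liftAlgHom_root _ _ _ _
  let μ : AdjoinRoot p ⊗[k] K →ₐ[k] K := Algebra.TensorProduct.productMap ι (AlgHom.id k K)
  have hμinj : ∀ t, μ t = 0 → t = 0 := by
    intro t ht
    by_contra ht0
    obtain ⟨t', ht'⟩ := hT.mul_inv_cancel ht0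
    have := congrArg μ ht'
    rw [map_mul, ht, zero_mul, map_one] at this
    exact zero_ne_one this
  have h0 : (AdjoinRoot.root p) ⊗ₜ[k] (1 : K) - (1 : AdjoinRoot p) ⊗ₜ[k] α = 0 := by
    apply hμinj
    rw [map_sub, Algebra.TensorProduct.productMap_apply_tmul,
      Algebra.TensorProduct.productMap_apply_tmul, hι, map_one, map_one]
    simp
  by_contra hnot
  have hdeg : 2 ≤ p.natDegree := (minpoly.two_le_natDegree_iff hint).mpr hnot
  let pb := AdjoinRoot.powerBasis hp0
  have hdim : pb.dim = p.natDegree := rfl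
  let i0 : Fin pb.dim := ⟨0, by rw [hdim]; omega⟩
  let i1 : Fin pb.dim := ⟨1, by rw [hdim]; omega⟩
  have hb0 : pb.basis i0 = 1 := by rw [pb.basis_eq_pow]; exact pow_zero _
  have hb1 : pb.basis i1 = AdjoinRoot.root p := by
    rw [pb.basis_eq_pow]
    change AdjoinRoot.root p ^ 1 = _
    rw [pow_one]
  set l : Fin pb.dim →₀ K := Finsupp.single i1 1 + Finsupp.single i0 (-α) with hl
  have hl0 : l = 0 := by
    apply TensorProduct.sum_tmul_basis_left_eq_zero pb.basis l
    rw [hl, Finsupp.sum_add_index' (fun i => by rw [tmul_zero]) (fun i a c => by rw [tmul_add]),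
      Finsupp.sum_single_index (by rw [tmul_zero]), Finsupp.sum_single_index (by rw [tmul_zero]),
      hb0, hb1, tmul_neg, ← sub_eq_add_neg]
    exact h0
  have h1 := DFunLike.congr_fun hl0 i1
  rw [hl, Finsupp.add_apply, Finsupp.single_eq_same, Finsupp.single_eq_of_ne, add_zero,
    Finsupp.zero_apply] at h1
  · exact one_ne_zero h1
  · intro h
    have := congrArg Fin.val h
    exact absurd this (by simp [i0, i1])

end Geometric

end Groth.Agent.Helper9.Geo2
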