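import Mathlib
import Groth.Agent.Lib.Helper9.FFExt.Weak

namespace Groth.Agent.Helper9.Geo2

open Polynomial Groth.Agent.Helper9.FFExt
open scoped Polynomial.Bivariate

section Transc

variable {k K : Type*} [Field k] [Field K] [Algebra k K]

lemma aevalAeval_eq_eval₂ (x y : K) (F : k[X][Y]) :
    aevalAeval x y F = Polynomial.eval₂ ((aeval x : k[X] →ₐ[k] K) : k[X] →+* K) y F := by
  have : ((aevalAeval x y : k[X][Y] →ₐ[k] K) : k[X][Y] →+* K) =
      Polynomial.eval₂RingHom ((aeval x : k[X] →ₐ[k] K) : k[X] →+* K) y := by
    apply Polynomial.ringHom_ext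
    · intro a
      simp only [RingHom.coe_coe, aevalAeval_C, coe_eval₂RingHom, eval₂_C]
    · simp only [RingHom.coe_coe, aevalAeval_Y, coe_eval₂RingHom, eval₂_X]
  exact congrArg (fun g : k[X][Y] →+* K => g F) this

lemma aevalAeval_map_C (x y : K) (p : k[X]) :
    aevalAeval x y (p.map (C : k →+* k[X])) = aeval y p := by
  rw [aevalAeval_eq_eval₂, eval₂_map, aeval_def]
  congr 1
  ext c
  simp

/-- if `s` is transcendental and `F(s, t) = 0` with `F ≠ 0`, then `t` is algebraic over `k(s)` -/
lemma isAlgebraic_of_aevalAeval (s t : K) (hs : Transcendental k s) (F : k[X][Y]) (hF0 : F ≠ 0)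
    (hF : aevalAeval s t F = 0) :
    IsAlgebraic (IntermediateField.adjoin k ({s} : Set K)) t := by
  set E := IntermediateField.adjoin k ({s} : Set K) with hE
  let sE : E := ⟨s, IntermediateField.mem_adjoin_simple_self k s⟩
  let j : k[X] →+* E := ((aeval sE : k[X] →ₐ[k] E) : k[X] →+* E)
  have hcomp : (algebraMap E K).comp j = ((aeval s : k[X] →ₐ[k] K) : k[X] →+* K) := by
    apply Polynomial.ringHom_ext
    · intro a
      simp only [RingHom.coe_comp, RingHom.coe_coe, Function.comp_apply, aeval_C, j]
      rfl
    · simp only [RingHom.coe_comp, RingHom.coe_coe, Function.comp_apply, aeval_X, j]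
      rfl
  have hj : Function.Injective j := by
    have h1 : Function.Injective ((algebraMap E K).comp j) := by
      rw [hcomp]
      exact transcendental_iff_injective.mp hs
    have h2 : Function.Injective ((algebraMap E K) ∘ j) := h1
    exact Function.Injective.of_comp h2
  refine ⟨F.map j, (Polynomial.map_ne_zero_iff hj).mpr hF0, ?_⟩
  rw [aeval_def, eval₂_map, hcomp, ← aevalAeval_eq_eval₂]
  exact hF

/-- a plane model with a principal relation ideal generated by an irreducible polynomial has
transcendence degree one -/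
theorem isFFw_of_ker (x y : K) (F : k[X][Y]) (hirr : Irreducible F)
    (hxy : IntermediateField.adjoin k ({x, y} : Set K) = ⊤)
    (hker : RingHom.ker (aevalAeval x y : k[X][Y] →ₐ[k] K) = Ideal.span {F}) : IsFFw k K := by
  have hF0 : F ≠ 0 := hirr.ne_zero
  have hFxy : aevalAeval x y F = 0 := by
    have : F ∈ RingHom.ker (aevalAeval x y : k[X][Y] →ₐ[k] K) := by
      rw [hker]; exact Ideal.subset_span rfl
    exact this
  have hfin : ∀ (s t : K), IntermediateField.adjoin k ({s, t} : Set K) = ⊤ →
      IsAlgebraic (IntermediateField.adjoin k ({s} : Set K)) t →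
      FiniteDimensional (IntermediateField.adjoin k ({s} : Set K)) K := by
    intro s t hst halg
    have h1 := IntermediateField.adjoin_adjoin_left k ({s} : Set K) ({t} : Set K)
    have h2 : ({s} : Set K) ∪ {t} = {s, t} := rfl
    rw [h2, hst, IntermediateField.restrictScalars_eq_top_iff] at h1
    have h3 := IntermediateField.adjoin.finiteDimensional halg.isIntegral
    rw [h1] at h3
    exact Module.Finite.equiv (IntermediateField.topEquiv
      (F := IntermediateField.adjoin k ({s} : Set K)) (E := K)).toLinearEquiv
  by_cases hx : Transcendental k x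
  · exact ⟨x, hx, hfin x y hxy (isAlgebraic_of_aevalAeval x y hx F hF0 hFxy)⟩
  · have hxalg : IsAlgebraic k x := by
      by_contra h; exact hx h
    have hyt : Transcendental k y := by
      intro hyalg
      -- both algebraic: contradiction
      have h1 : (C (minpoly k x) : k[X][Y]) ∈ RingHom.ker (aevalAeval x y : k[X][Y] →ₐ[k] K) := by
        rw [RingHom.mem_ker, aevalAeval_C, minpoly.aeval]
      rw [hker, Ideal.mem_span_singleton] at h1
      have hC0 : (C (minpoly k x) : k[X][Y]) ≠ 0 := by
        rw [Ne, C_eq_zero]; exact minpoly.ne_zero hxalg.isIntegral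
      have hdeg := Polynomial.natDegree_le_of_dvd h1 hC0
      rw [natDegree_C, Nat.le_zero] at hdeg
      obtain ⟨r, hr⟩ : ∃ r : k[X], F = C r := ⟨F.coeff 0, Polynomial.eq_C_of_natDegree_eq_zero hdeg⟩
      have h2 : ((minpoly k y).map (C : k →+* k[X])) ∈
          RingHom.ker (aevalAeval x y : k[X][Y] →ₐ[k] K) := by
        rw [RingHom.mem_ker, aevalAeval_map_C, minpoly.aeval]
      rw [hker, Ideal.mem_span_singleton, hr] at h2
      have hmonic : ((minpoly k y).map (C : k →+* k[X])).Monic :=
        (minpoly.monic hyalg.isIntegral).map _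
      have hunit : IsUnit r := hmonic.C_dvd_iff_isUnit.mp h2
      apply hirr.not_isUnit
      rw [hr]
      exact hunit.map C
    have hyx : IntermediateField.adjoin k ({y, x} : Set K) = ⊤ := by
      rw [Set.pair_comm]; exact hxy
    refine ⟨y, hyt, hfin y x hyx ?_⟩
    exact hxalg.extendScalars (algebraMap k (IntermediateField.adjoin k ({y} : Set K))).injective

end Transc

end Groth.Agent.Helper9.Geo2
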