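import Mathlib
import Groth.Prelude.Def_LocRes
import Groth.Agent.Lib.Helper9.FFExt.LocRes1
import Groth.Agent.Lib.Helper9.FFExt.DiffExp1
import Groth.Agent.Lib.Helper9.FFExt.InertiaField

namespace Groth.Agent.Helper9.HilbA

open LaurentSeries HahnSeries WithZero Groth.Agent.Helper9.FFExt
open Groth.Agent.Lib.Helper4.FF

universe u v w

section CoeffDer

variable {k : Type*} [Field k] {F : Type*} [Field F] [Algebra k F]

/-- the zero-preserving map underlying a derivation -/
def dz (δ : Derivation k F F) : ZeroHom F F := ⟨δ, map_zero δ⟩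

theorem map_mul_leibniz (δ : Derivation k F F) (f g : F⸨X⸩) :
    (f * g).map (dz δ) = f * g.map (dz δ) + g * f.map (dz δ) := by
  ext n
  rw [map_coeff, coeff_add, coeff_mul,
    coeff_mul_right' g.isPWO_support (support_map_subset g (dz δ)),
    mul_comm g (f.map (dz δ)),
    coeff_mul_left' f.isPWO_support (support_map_subset f (dz δ))]
  change δ _ = _
  rw [map_sum, ← Finset.sum_add_distrib]
  refine Finset.sum_congr rfl fun ij _ => ?_
  rw [map_coeff, map_coeff, Derivation.leibniz]
  change _ = _ * δ _ + δ _ * _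
  rw [smul_eq_mul, smul_eq_mul]
  ring

theorem map_add' (δ : Derivation k F F) (f g : F⸨X⸩) :
    (f + g).map (dz δ) = f.map (dz δ) + g.map (dz δ) := by
  ext n
  rw [map_coeff, coeff_add, coeff_add, map_coeff, map_coeff]
  change δ _ = δ _ + δ _
  rw [map_add]

theorem map_C (δ : Derivation k F F) (c : k) :
    (HahnSeries.C (algebraMap k F c) : F⸨X⸩).map (dz δ) = 0 := by
  ext n
  rw [map_coeff, coeff_zero]
  change δ _ = 0
  rw [HahnSeries.C_apply]
  by_cases hn : n = 0
  · subst hn
    rw [HahnSeries.coeff_single_same, Derivation.map_algebraMap]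
  · rw [HahnSeries.coeff_single_of_ne hn, map_zero]

variable {K : Type*} [Field K] [Algebra k K]

/-- the derivation `z ↦ δ̃ (φ z)` of `K` into Laurent series -/
noncomputable def cExp (φ : K →ₐ[k] F⸨X⸩) (δ : Derivation k F F) :
    letI := φ.toRingHom.toAlgebra
    Derivation k K F⸨X⸩ :=
  letI := φ.toRingHom.toAlgebra
  { toFun := fun a => (φ a).map (dz δ)
    map_add' := fun a b => show (φ (a + b)).map (dz δ) = (φ a).map (dz δ) + (φ b).map (dz δ) by
      rw [map_add, map_add']
    map_smul' := fun c a => show (φ (c • a)).map (dz δ) = c • (φ a).map (dz δ) by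
      rw [Algebra.smul_def, map_mul, map_mul_leibniz, LocRes.map_algebraMap, map_C, mul_zero,
        add_zero, HahnSeries.C_mul_eq_smul, algebraMap_smul]
    map_one_eq_zero' := show (φ 1).map (dz δ) = 0 by
      rw [← map_one (algebraMap k K), LocRes.map_algebraMap, map_C]
    leibniz' := fun a b => show (φ (a * b)).map (dz δ) =
        φ a * (φ b).map (dz δ) + φ b * (φ a).map (dz δ) by
      rw [map_mul, map_mul_leibniz] }

theorem cExp_rel (φ : K →ₐ[k] F⸨X⸩) (δ : Derivation k F F) {x x' u : K}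
    (h : KaehlerDifferential.D k K x' = u • KaehlerDifferential.D k K x) :
    (φ x').map (dz δ) = φ u * (φ x).map (dz δ) := by
  let _ := φ.toRingHom.toAlgebra
  have _ : IsScalarTower k K F⸨X⸩ := LocRes.isScalarTower_exp φ
  have h1 := congrArg ((cExp φ δ).liftKaehlerDifferential) h
  rw [map_smul, Derivation.liftKaehlerDifferential_comp_D,
    Derivation.liftKaehlerDifferential_comp_D] at h1
  exact h1

end CoeffDer

section Sep

open FunFld

variable {k : Type u} {K : Type v} [Field k] [Field K] [Algebra k K] {F : Type w} [Field F]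
  [Algebra k F]

/-- coefficient zero is multiplicative on integral series -/
lemma coeff_zero_mul {f g : F⸨X⸩} (hf : Valued.v f ≤ 1) (hg : Valued.v g ≤ 1) :
    (f * g).coeff 0 = f.coeff 0 * g.coeff 0 := by
  obtain ⟨f₀, rfl⟩ := (LaurentSeries.val_le_one_iff_eq_coe F f).mp hf
  obtain ⟨g₀, rfl⟩ := (LaurentSeries.val_le_one_iff_eq_coe F g).mp hg
  have h0 : ∀ p : PowerSeries F, ((p : F⸨X⸩)).coeff 0 = PowerSeries.constantCoeff p := by
    intro p
    have := LaurentSeries.coeff_coe_powerSeries p 0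
    rw [Nat.cast_zero] at this
    rw [this, PowerSeries.coeff_zero_eq_constantCoeff]
  change ((HahnSeries.ofPowerSeries ℤ F f₀) * (HahnSeries.ofPowerSeries ℤ F g₀)).coeff 0 = _
  rw [← map_mul]
  change ((f₀ * g₀ : PowerSeries F) : F⸨X⸩).coeff 0 = _
  rw [h0, h0, h0, map_mul]

/-- the residue field of a place with an expansion embeds in the coefficient field -/
theorem exists_algHom_residue (Q : Place k K) (ψ : K →ₐ[k] F⸨X⸩)
    (hψ : LocRes.IsExpansionAt Q.1 ψ) :
    ∃ θ : IsLocalRing.ResidueField Q.O →ₐ[k] F, Function.Surjective θ ∧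
      ∀ z : Q.O, θ (IsLocalRing.residue Q.O z) = (ψ (z : K)).coeff 0 := by
  have hv : ∀ z : Q.O, Valued.v (ψ (z : K)) ≤ 1 := by
    intro z
    rw [hψ.1]
    exact (Place.mem_O_iff Q).mp z.2
  let c0 : Q.O →+* F :=
    { toFun := fun z => (ψ (z : K)).coeff 0
      map_one' := by
        change (ψ 1).coeff 0 = 1
        rw [map_one, HahnSeries.coeff_one, if_pos rfl]
      map_mul' := fun a b => by
        change (ψ ((a : K) * (b : K))).coeff 0 = _
        rw [map_mul, coeff_zero_mul (hv a) (hv b)]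
      map_zero' := by
        change (ψ 0).coeff 0 = 0
        rw [map_zero, HahnSeries.coeff_zero]
      map_add' := fun a b => by
        change (ψ ((a : K) + (b : K))).coeff 0 = _
        rw [map_add, HahnSeries.coeff_add] }
  have hker : ∀ a : Q.O, a ∈ IsLocalRing.maximalIdeal Q.O → c0 a = 0 := by
    intro a ha
    rw [mem_maximalIdeal_iff (k := k) Q] at ha
    have h1 : Valued.v (ψ (a : K)) ≤ exp (-(1 : ℤ)) := by
      rw [hψ.1]
      exact lt_one_iff_le_exp_neg_one.mp ha
    exact (LaurentSeries.valuation_le_iff_coeff_lt_eq_zero F).mp h1 0 (by norm_num)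
  let θ₀ : IsLocalRing.ResidueField Q.O →+* F := Ideal.Quotient.lift _ c0 hker
  have hθ₀ : ∀ z : Q.O, θ₀ (IsLocalRing.residue Q.O z) = (ψ (z : K)).coeff 0 := fun z =>
    Ideal.Quotient.lift_mk _ _ _
  let θ : IsLocalRing.ResidueField Q.O →ₐ[k] F :=
    { θ₀ with
      commutes' := fun c => by
        change θ₀ (IsLocalRing.residue Q.O (algebraMap k Q.O c)) = _
        rw [hθ₀]
        change (ψ (algebraMap k K c)).coeff 0 = _
        rw [LocRes.map_algebraMap, HahnSeries.C_apply, HahnSeries.coeff_single_same] }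
  refine ⟨θ, ?_, hθ₀⟩
  intro a
  obtain ⟨f, hf, hfa⟩ := hψ.2.1 a
  refine ⟨IsLocalRing.residue Q.O ⟨f, (Place.mem_O_iff Q).mpr hf⟩, ?_⟩
  change θ₀ _ = a
  rw [hθ₀]
  exact hfa

/-- every `k`-derivation of the coefficient field of an expansion vanishes, provided the
differentials of `K` are spanned by a differential which is nonzero through the expansion -/
theorem derivation_eq_zero (Q : Place k K) (ψ : K →ₐ[k] F⸨X⸩)
    (hψ : LocRes.IsExpansionAt Q.1 ψ) {x : K}
    (hΩ : ∀ z : K, ∃ u : K, KaehlerDifferential.D k K z = u • KaehlerDifferential.D k K x)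
    (δ : Derivation k F F) (a : F) : δ a = 0 := by
  obtain ⟨t, ht⟩ := hψ.2.2
  obtain ⟨z, hz, hza⟩ := hψ.2.1 a
  obtain ⟨u, hu⟩ := hΩ z
  obtain ⟨w, hw⟩ := hΩ t
  have h1 := D_exp_rel ψ hu
  have h2 := D_exp_rel ψ hw
  have h3 := cExp_rel ψ δ hu
  have h4 := cExp_rel ψ δ hw
  have hvt : Valued.v (ψ t) = exp (-1 : ℤ) := by rw [hψ.1, ht]
  have hvz : Valued.v (ψ z) ≤ 1 := by rw [hψ.1]; exact hz
  have h5 : Valued.v (LocRes.D F (ψ t)) = 1 := val_D_eq_one _ hvt
  have h6 : Valued.v (LocRes.D F (ψ z)) ≤ 1 := val_D_le_one _ hvz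
  rw [h2, map_mul] at h5
  rw [h1, map_mul] at h6
  have hw0 : ψ w ≠ 0 := by
    intro h0
    rw [h0, map_zero, zero_mul] at h5
    exact zero_ne_one h5
  have h7 : (ψ z).map (dz δ) = ψ u * (ψ w)⁻¹ * (ψ t).map (dz δ) := by
    rw [h3, h4]
    field_simp
  have h8 : Valued.v ((ψ t).map (dz δ)) ≤ exp (-1 : ℤ) := by
    rw [LaurentSeries.valuation_le_iff_coeff_lt_eq_zero]
    intro n hn
    rw [map_coeff, (LaurentSeries.valuation_le_iff_coeff_lt_eq_zero F).mp hvt.le n hn]
    exact map_zero _
  have h9 : Valued.v (ψ u * (ψ w)⁻¹) ≤ 1 := by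
    rw [map_mul, map_inv₀]
    have e : (Valued.v (ψ w))⁻¹ = Valued.v (LocRes.D F (ψ x)) :=
      (eq_inv_of_mul_eq_one_right h5).symm
    rw [e]
    exact h6
  have h10 : Valued.v ((ψ z).map (dz δ)) ≤ exp (-1 : ℤ) := by
    rw [h7, map_mul]
    calc _ ≤ 1 * exp (-1 : ℤ) := mul_le_mul' h9 h8
      _ = _ := one_mul _
  have h11 := (LaurentSeries.valuation_le_iff_coeff_lt_eq_zero F).mp h10 0 (by norm_num)
  rw [map_coeff, hza] at h11
  exact h11

/-- the coefficient field of such an expansion is separable over the base -/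
theorem isSeparable_of_expansion [FiniteDimensional k F] (Q : Place k K) (ψ : K →ₐ[k] F⸨X⸩)
    (hψ : LocRes.IsExpansionAt Q.1 ψ) {x : K}
    (hΩ : ∀ z : K, ∃ u : K, KaehlerDifferential.D k K z = u • KaehlerDifferential.D k K x) :
    Algebra.IsSeparable k F := by
  have hsub : Subsingleton Ω[F⁄k] := by
    refine ⟨fun a b => ?_⟩
    rw [← sub_eq_zero, ← Module.forall_dual_apply_eq_zero_iff F]
    intro f
    have hδ : ∀ c : F, (f.compDer (KaehlerDifferential.D k F)) c = 0 :=
      fun c => derivation_eq_zero Q ψ hψ hΩ _ c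
    have hf : f = 0 := by
      apply LinearMap.ext_on_range (KaehlerDifferential.span_range_derivation k F)
      intro c
      rw [LinearMap.zero_apply]
      exact hδ c
    rw [hf, LinearMap.zero_apply]
  have : Algebra.FormallyUnramified k F := ⟨hsub⟩
  exact Algebra.FormallyUnramified.isSeparable k F

/-- the residue field at a place with such an expansion is separable over the base -/
theorem isSeparable_residue_of_expansion (Q : Place k K)
    (hfin : Module.Finite k (IsLocalRing.ResidueField Q.O)) (ψ : K →ₐ[k] F⸨X⸩)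
    (hψ : LocRes.IsExpansionAt Q.1 ψ) {x : K}
    (hΩ : ∀ z : K, ∃ u : K, KaehlerDifferential.D k K z = u • KaehlerDifferential.D k K x) :
    Algebra.IsSeparable k (IsLocalRing.ResidueField Q.O) := by
  obtain ⟨θ, hθ, -⟩ := exists_algHom_residue Q ψ hψ
  have : FiniteDimensional k F := Module.Finite.of_surjective (hM := hfin) θ.toLinearMap hθ
  have := isSeparable_of_expansion Q ψ hψ hΩ
  exact Algebra.IsSeparable.of_algHom k F θ

end Sep

end Groth.Agent.Helper9.HilbA
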