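import Mathlib
import Groth.Prelude.Def_W4bk4goldsch23Ext
import Groth.Prelude.Def_LocRes
import Groth.Agent.Lib.Helper9.FFExt.DiffExp1
import Groth.Agent.Lib.Helper9.FFExt.DiffExp2
import Groth.Agent.Lib.Helper9.FFExt.DiffExpU
import Groth.Agent.Lib.Helper9.FFExt.GeoKaehler
import Groth.Agent.Lib.Helper9.FFExt.ExpSep
import Groth.Agent.Lib.Helper9.FFExt.Const

/-!
# Hilbert's different formula, part B: the key lemma over a base with spanning differential,
differentials of separable extensions, expansions over a non-full constant field (helper9)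
-/

namespace Groth.Agent.Helper9.HilbB

open LaurentSeries HahnSeries WithZero Polynomial FunFld
open Groth.Agent.Lib.Helper4.FF Groth.Agent.Helper9.FFExt

universe u v v' w w'

/-- **different exponent from the derivative of an Eisenstein-type equation** -/
theorem ord_aeval_derivative_eq_diffExp_of_span {k : Type u} {K : Type v} {K' : Type v'} [Field k] [Field K] [Field K']
    [Algebra k K] [Algebra K K'] [Algebra k K'] [IsScalarTower k K K']
    {F : Type w} {F' : Type w'} [Field F] [Algebra k F] [Field F'] [Algebra k F']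
    (P : Place k K) (Q : Place k K') (e : ℕ) (he : IsOverWith Q P e)
    (φ : K →ₐ[k] LaurentSeries F) (hφ : ∀ f : K, Valued.v (φ f) = P.1 f)
    (ψ : K' →ₐ[k] LaurentSeries F') (hψ : ∀ f : K', Valued.v (ψ f) = Q.1 f)
    (x : K) (hx : LocRes.vDiff φ 1 x ≠ 0) (hx' : LocRes.vDiff ψ 1 (algebraMap K K' x) ≠ 0)
    (hΩ : ∀ z : K, ∃ u : K, KaehlerDifferential.D k K z = u • KaehlerDifferential.D k K x)
    (s : K') (hs : Q.1 s = exp (-1 : ℤ)) (f : K[X]) (hf0 : aeval s f = 0)
    (hint : ∀ i, P.1 (f.coeff i) ≤ 1) (h0 : P.1 (f.coeff 0) = exp (-1 : ℤ)) :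
    aeval s (derivative f) ≠ 0 ∧ Q.ord (aeval s (derivative f)) = LocRes.diffExp φ ψ e x := by
  classical
  choose U hU using fun i : ℕ => hΩ (f.coeff i)
  -- relations through φ and ψ
  have hφU : ∀ i, LocRes.D F (φ (f.coeff i)) = φ (U i) * LocRes.D F (φ x) := fun i =>
    D_exp_rel φ (hU i)
  have hψU : ∀ i, LocRes.D F' (ψ (algebraMap K K' (f.coeff i))) =
      ψ (algebraMap K K' (U i)) * LocRes.D F' (ψ (algebraMap K K' x)) := fun i =>
    D_exp_rel (ψ.comp (IsScalarTower.toAlgHom k K K')) (hU i)
  rw [vDiff_one] at hx hx'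
  -- δ_P, δ_Q
  obtain ⟨δP, hδP⟩ : ∃ m : ℤ, Valued.v (LocRes.D F (φ x)) = exp m := ⟨_, (exp_log hx).symm⟩
  obtain ⟨δQ, hδQ⟩ : ∃ m : ℤ, Valued.v (LocRes.D F' (ψ (algebraMap K K' x))) = exp m :=
    ⟨_, (exp_log hx').symm⟩
  -- valuations of U i
  have hUle : ∀ i, P.1 (U i) ≤ exp (-δP) := by
    intro i
    have h1 := congrArg Valued.v (hφU i)
    rw [map_mul, hφ, hδP] at h1
    have h2 : Valued.v (LocRes.D F (φ (f.coeff i))) ≤ 1 :=
      val_D_le_one _ (by rw [hφ]; exact hint i)
    rw [h1] at h2
    calc P.1 (U i) = P.1 (U i) * exp δP * exp (-δP) := by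
          rw [mul_assoc, ← exp_add, add_neg_cancel, exp_zero, mul_one]
      _ ≤ 1 * exp (-δP) := by gcongr
      _ = exp (-δP) := one_mul _
  have hU0 : P.1 (U 0) = exp (-δP) := by
    have h1 := congrArg Valued.v (hφU 0)
    rw [map_mul, hφ, hδP] at h1
    have h2 : Valued.v (LocRes.D F (φ (f.coeff 0))) = 1 :=
      val_D_eq_one _ (by rw [hφ]; exact h0)
    rw [h2] at h1
    calc P.1 (U 0) = P.1 (U 0) * exp δP * exp (-δP) := by
          rw [mul_assoc, ← exp_add, add_neg_cancel, exp_zero, mul_one]
      _ = exp (-δP) := by rw [← h1, one_mul]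
  -- the sum `∑ u_i s^i`
  obtain ⟨E, hE⟩ : ∃ E : ℤᵐ⁰, E = exp (-((e : ℤ) * δP)) := ⟨_, rfl⟩
  have hE0 : E ≠ 0 := by rw [hE]; exact exp_ne_zero
  have hEpow : (exp (-δP) : ℤᵐ⁰) ^ e = E := by
    rw [hE, ← exp_nsmul]; congr 1; simp
  have hterm : ∀ i, Q.1 (algebraMap K K' (U i) * s ^ i) ≤ E * exp (-(i : ℤ)) := by
    intro i
    rw [map_mul, map_pow, he, hs, ← hEpow, ← exp_nsmul]
    have h1 : (i • (-1 : ℤ)) = -(i : ℤ) := by simp
    rw [h1]
    gcongr
    exact hUle i
  have hterm0 : Q.1 (algebraMap K K' (U 0) * s ^ 0) = E := by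
    rw [pow_zero, mul_one, he, hU0, hEpow]
  have h0supp : 0 ∈ f.support := by
    rw [mem_support_iff]
    intro h
    rw [h, map_zero] at h0
    exact exp_ne_zero h0.symm
  obtain ⟨S, hS⟩ : ∃ S : K', S = ∑ i ∈ f.support, algebraMap K K' (U i) * s ^ i := ⟨_, rfl⟩
  have hSval : Q.1 S = E := by
    rw [hS, ← Finset.add_sum_erase _ _ h0supp, add_comm]
    have hlt : Q.1 (∑ i ∈ f.support.erase 0, algebraMap K K' (U i) * s ^ i) < E := by
      apply Valuation.map_sum_lt _ hE0
      intro i hi
      have hi0 : i ≠ 0 := (Finset.mem_erase.mp hi).1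
      refine lt_of_le_of_lt (hterm i) ?_
      calc E * exp (-(i : ℤ)) < E * 1 := by
            apply mul_lt_mul_of_pos_left _ (pos_iff_ne_zero.mpr hE0)
            rw [← exp_zero, exp_lt_exp]
            have : 0 < i := Nat.pos_of_ne_zero hi0
            omega
        _ = E := mul_one _
    rw [← hterm0] at hlt ⊢
    exact Valuation.map_add_eq_of_lt_right _ hlt
  -- the identity
  have hid := D_map_aeval (ψ : K' →+* LaurentSeries F')
    ({ toFun := fun g => LocRes.D F' g
       map_zero' := map_zero _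
       map_add' := map_add _ } : LaurentSeries F' →+ LaurentSeries F')
    (fun a b => by
      change LocRes.D F' (a * b) = a * LocRes.D F' b + b * LocRes.D F' a
      rw [Derivation.leibniz]; rfl) s f
  simp only [AddMonoidHom.coe_mk, ZeroHom.coe_mk] at hid
  rw [hf0, map_zero, map_zero, Polynomial.sum_def] at hid
  have hsum : ∑ i ∈ f.support, LocRes.D F' ((ψ : K' →+* LaurentSeries F') (algebraMap K K' (f.coeff i))) *
      (ψ : K' →+* LaurentSeries F') s ^ i = LocRes.D F' (ψ (algebraMap K K' x)) * ψ S := by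
    rw [hS, map_sum, Finset.mul_sum]
    refine Finset.sum_congr rfl fun i _ => ?_
    rw [RingHom.coe_coe, hψU i, map_mul, map_pow]
    ring
  rw [hsum] at hid
  have hid2 : ψ (aeval s (derivative f)) * LocRes.D F' (ψ s) =
      -(LocRes.D F' (ψ (algebraMap K K' x)) * ψ S) := by
    rw [eq_neg_iff_add_eq_zero, add_comm]
    exact hid.symm
  have hval := congrArg Valued.v hid2
  rw [map_mul, Valuation.map_neg, map_mul, hψ, hψ, hSval, hδQ,
    val_D_eq_one _ (by rw [hψ]; exact hs), mul_one] at hval
  refine ⟨?_, ?_⟩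
  · intro h0
    rw [h0, map_zero] at hval
    rw [hE, ← exp_add] at hval
    exact exp_ne_zero hval.symm
  unfold LocRes.diffExp LocRes.ordDiff FunFld.Place.ord
  rw [vDiff_one, vDiff_one, hval, hδP, hδQ, hE, ← exp_add, log_exp, log_exp, log_exp]
  ring



/-- a separating element of `K` stays separating in a separable extension -/
theorem isSeparable_adjoin_map {k K L : Type*} [Field k] [Field K] [Field L] [Algebra k K]
    [Algebra K L] [Algebra k L] [IsScalarTower k K L] [Algebra.IsSeparable K L] {t : K}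
    [Algebra.IsSeparable (IntermediateField.adjoin k ({t} : Set K)) K] :
    Algebra.IsSeparable (IntermediateField.adjoin k ({algebraMap K L t} : Set L)) L := by
  let f : K →ₐ[k] L := IsScalarTower.toAlgHom k K L
  have hmap : (IntermediateField.adjoin k ({t} : Set K)).map f =
      IntermediateField.adjoin k ({algebraMap K L t} : Set L) := by
    rw [IntermediateField.adjoin_map, Set.image_singleton]; rfl
  have : Algebra.IsSeparable (IntermediateField.adjoin k ({t} : Set K)) L :=
    Algebra.IsSeparable.trans (IntermediateField.adjoin k ({t} : Set K)) K L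
  let e₁ : (IntermediateField.adjoin k ({t} : Set K)) ≃ₐ[k]
      IntermediateField.adjoin k ({algebraMap K L t} : Set L) :=
    (IntermediateField.equivMap _ f).trans (IntermediateField.equivOfEq hmap)
  refine Algebra.IsSeparable.of_equiv_equiv e₁.toRingEquiv (RingEquiv.refl L) ?_
  ext x
  rfl

/-- in a separable extension `L` of a geometric function field `K`, the differentials over `k`
are spanned by `dx` for any `x ∈ K` with `dx ≠ 0` in `K` -/
theorem exists_eq_smul_D_ext {k : Type u} {K : Type v} {L : Type v'} [Field k] [Field K] [Field L]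
    [Algebra k K] [Algebra K L] [Algebra k L] [IsScalarTower k K L] [Algebra.IsSeparable K L]
    (hK : IsFFw k K) (hg : IsGeometric k K) {x : K} (hx : KaehlerDifferential.D k K x ≠ 0)
    (ω : Ω[L⁄k]) : ∃ u : L, ω = u • KaehlerDifferential.D k L (algebraMap K L x) := by
  obtain ⟨t, htr, hsep⟩ := exists_separating_of_isGeometric hK hg
  have := isSeparable_adjoin_map (k := k) (K := K) (L := L) (t := t)
  obtain ⟨a, ha⟩ := exists_eq_smul_D k K (x := t) (KaehlerDifferential.D k K x)
  obtain ⟨b, hb⟩ := exists_eq_smul_D k L (x := algebraMap K L t) ω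
  have ha0 : a ≠ 0 := by
    rintro rfl
    rw [zero_smul] at ha
    exact hx ha
  have ha' : KaehlerDifferential.D k L (algebraMap K L x) =
      algebraMap K L a • KaehlerDifferential.D k L (algebraMap K L t) := by
    have h1 := congrArg (KaehlerDifferential.map k k K L) ha
    rw [KaehlerDifferential.map_D, map_smul, KaehlerDifferential.map_D] at h1
    rw [h1, algebraMap_smul]
  have ha0' : algebraMap K L a ≠ 0 := by
    rw [Ne, map_eq_zero_iff _ (algebraMap K L).injective]
    exact ha0
  refine ⟨b * (algebraMap K L a)⁻¹, ?_⟩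
  rw [hb, ha', smul_smul, mul_assoc, inv_mul_cancel₀ ha0', mul_one]

theorem algebraMap_LS' {A B F : Type*} [CommSemiring A] [CommSemiring B] [Field F] [Algebra A B]
    [Algebra A F] [Algebra B F] [IsScalarTower A B F] (c : A) :
    algebraMap B (LaurentSeries F) (algebraMap A B c) = algebraMap A (LaurentSeries F) c := by
  rw [HahnSeries.algebraMap_apply', HahnSeries.algebraMap_apply', PowerSeries.algebraMap_apply,
    PowerSeries.algebraMap_apply, ← IsScalarTower.algebraMap_apply]

/-- an expansion over `k` at a separable place of a field `T` of transcendence degree one over `k`,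
finite over `k(x)`, possibly with new constants -/
theorem exists_expansion_over (k : Type u) (T : Type v) [Field k] [Field T] [Algebra k T]
    {x : T} (hxt : Transcendental k x)
    [FiniteDimensional (IntermediateField.adjoin k ({x} : Set T)) T]
    (Q₁ : Place k T) [Algebra.IsSeparable k (IsLocalRing.ResidueField Q₁.O)] :
    ∃ (F : Type v) (_ : Field F) (_ : Algebra k F) (φ : T →ₐ[k] LaurentSeries F),
      LocRes.IsExpansionAt Q₁.1 φ := by
  have hT : IsFunctionField (kc k T) T := isFunctionField_kc hxt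
  have htower : @IsScalarTower k (kc k T) (IsLocalRing.ResidueField Q₁.O) _
      (Place.algRes (up Q₁)).toSMul _ :=
    @IsScalarTower.of_algebraMap_eq k (kc k T) (IsLocalRing.ResidueField Q₁.O) _ _ _ _
      (Place.algRes (up Q₁)) (Place.algRes Q₁) fun _ => rfl
  have hsep : @Algebra.IsSeparable (kc k T) (IsLocalRing.ResidueField (up Q₁).O) _ _
      (Place.algRes (up Q₁)) :=
    @Algebra.isSeparable_tower_top_of_isSeparable k (kc k T) _ (IsLocalRing.ResidueField Q₁.O) _ _
      _ (Place.algRes Q₁) (Place.algRes (up Q₁)) htower _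
  obtain ⟨F, iF, iA, -, φ₀, hφ₀⟩ := exists_expansion_of_separable (kc k T) T hT (up Q₁)
  let _ : Algebra k F := ((algebraMap (kc k T) F).comp (algebraMap k (kc k T))).toAlgebra
  have _ : IsScalarTower k (kc k T) F := IsScalarTower.of_algebraMap_eq fun _ => rfl
  refine ⟨F, iF, inferInstance, { φ₀.toRingHom with commutes' := ?_ }, ?_⟩
  · intro c
    change φ₀ (algebraMap k T c) = _
    rw [IsScalarTower.algebraMap_apply k (kc k T) T, φ₀.commutes, algebraMap_LS']
  · exact hφ₀

end Groth.Agent.Helper9.HilbB
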