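import Mathlib
import Groth.Prelude.Def_W4bk4goldsch23Ext
import Groth.Prelude.Def_LocRes
import Groth.Agent.Lib.Helper9.FFExt.HilbA
import Groth.Agent.Lib.Helper9.FFExt.HilbB
import Groth.Agent.Lib.Helper9.FFExt.InertiaField
import Groth.Agent.Lib.Helper9.FFExt.IntCl1
import Groth.Agent.Lib.Helper9.FFExt.Conorm

/-!
# Hilbert's different formula, part C: the inertia field (helper9)
-/

namespace Groth.Agent.Helper9.HilbC

open LaurentSeries HahnSeries WithZero Polynomial FunFld
open Groth.Agent.Lib.Helper4.FF Groth.Agent.Helper9.FFExt Groth.Agent.Helper9.HilbA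
  Groth.Agent.Helper9.HilbB

universe u v w

section Gen

variable {k : Type*} {K : Type*} {K' : Type*} [Field k] [Field K] [Field K'] [Algebra k K]
  [Algebra K K'] [Algebra k K'] [IsScalarTower k K K']

/-- the inertia group of `Q` as a subgroup of the Galois group -/
noncomputable abbrev Iner (Q : Place k K') : Subgroup (K' ≃ₐ[K] K') :=
  ((Q.O).inertiaSubgroup K).map ((Q.O).decompositionSubgroup K).subtype

theorem mem_Iner_iff (Q : Place k K') (σ : K' ≃ₐ[K] K') :
    σ ∈ Iner (K := K) Q ↔ ∀ b : K', Q.1 b ≤ 1 → Q.1 (σ b - b) < 1 := by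
  constructor
  · rintro ⟨i, hi, rfl⟩
    exact (mem_inertia_iff Q i).mp hi
  · intro h
    have hd : σ ∈ (Q.O).decompositionSubgroup K := by
      rw [mem_decomposition_iff (k := k)]
      symm
      apply place_eq_of_forall
      intro z hz
      rw [conj_apply]
      have h1 := h z hz.le
      have : σ z = (σ z - z) + z := by ring
      rw [this]
      exact (Q.1.map_add _ _).trans (max_le h1.le hz.le)
    exact ⟨⟨σ, hd⟩, (mem_inertia_iff Q _).mpr h, rfl⟩

theorem val_Iner {Q : Place k K'} {σ : K' ≃ₐ[K] K'} (hσ : σ ∈ Iner (K := K) Q) (z : K') :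
    Q.1 (σ z) = Q.1 z := by
  obtain ⟨i, -, rfl⟩ := hσ
  have h1 := (mem_decomposition_iff (k := k) (i : K' ≃ₐ[K] K') Q).mp i.2
  have h2 := congrArg (fun R : Place k K' => R.1 z) h1
  exact h2

end Gen

section Poly

variable {K : Type*} {K' : Type*} [Field K] [Field K'] [Algebra K K']

/-- the polynomial `∏_{σ ∈ S} (X - σ s)` -/
noncomputable def fS (S : Finset (K' ≃ₐ[K] K')) (s : K') : K'[X] := ∏ σ ∈ S, (Polynomial.X - Polynomial.C (σ s))

theorem fS_map (H : Subgroup (K' ≃ₐ[K] K')) (S : Finset (K' ≃ₐ[K] K'))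
    (hS : ∀ σ, σ ∈ S ↔ σ ∈ H) (s : K') {τ : K' ≃ₐ[K] K'} (hτ : τ ∈ H) :
    (fS S s).map (τ : K' →+* K') = fS S s := by
  unfold fS
  rw [Polynomial.map_prod]
  refine Finset.prod_equiv (Equiv.mulLeft τ) ?_ ?_
  · intro σ
    rw [hS, hS, Equiv.coe_mulLeft]
    exact ⟨fun h => H.mul_mem hτ h, fun h => by
      have := H.mul_mem (H.inv_mem hτ) h
      rwa [inv_mul_cancel_left] at this⟩
  · intro σ _
    rw [Polynomial.map_sub, Polynomial.map_X, Polynomial.map_C, Equiv.coe_mulLeft]
    rfl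

theorem exists_descent [FiniteDimensional K K'] (H : Subgroup (K' ≃ₐ[K] K'))
    (S : Finset (K' ≃ₐ[K] K')) (hS : ∀ σ, σ ∈ S ↔ σ ∈ H) (s : K') :
    ∃ f₀ : (IntermediateField.fixedField H)[X],
      f₀.map (algebraMap (IntermediateField.fixedField H) K') = fS S s := by
  have h1 : fS S s ∈ Polynomial.lifts (algebraMap (IntermediateField.fixedField H) K') := by
    rw [Polynomial.lifts_iff_coeff_lifts]
    intro n
    have hmem : (fS S s).coeff n ∈ IntermediateField.fixedField H := by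
      rw [IntermediateField.mem_fixedField_iff]
      intro τ hτ
      have h2 := congrArg (fun p => Polynomial.coeff p n) (fS_map H S hS s hτ)
      simp only [Polynomial.coeff_map] at h2
      exact h2
    exact ⟨⟨_, hmem⟩, rfl⟩
  exact (Polynomial.mem_lifts _).mp h1

theorem eval_fS {S : Finset (K' ≃ₐ[K] K')} (h1 : (1 : K' ≃ₐ[K] K') ∈ S) (s : K') :
    eval s (fS S s) = 0 := by
  unfold fS
  rw [Polynomial.eval_prod]
  apply Finset.prod_eq_zero h1
  simp

open Classical in
theorem eval_derivative_fS {S : Finset (K' ≃ₐ[K] K')} (h1 : (1 : K' ≃ₐ[K] K') ∈ S) (s : K') :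
    eval s (derivative (fS S s)) = ∏ σ ∈ S.erase 1, (s - σ s) := by
  unfold fS
  rw [Polynomial.derivative_prod_finset, Polynomial.eval_finsetSum,
    Finset.sum_eq_single_of_mem 1 h1]
  · rw [Polynomial.eval_mul, Polynomial.eval_prod]
    simp
  · intro b hb hb1
    rw [Polynomial.eval_mul, Polynomial.eval_prod]
    have : (1 : K' ≃ₐ[K] K') ∈ S.erase b := Finset.mem_erase.mpr ⟨Ne.symm hb1, h1⟩
    rw [Finset.prod_eq_zero this (by simp), zero_mul]

theorem coeff_zero_fS (S : Finset (K' ≃ₐ[K] K')) (s : K') :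
    (fS S s).coeff 0 = ∏ σ ∈ S, (-(σ s)) := by
  rw [Polynomial.coeff_zero_eq_eval_zero]
  unfold fS
  rw [Polynomial.eval_prod]
  simp

theorem val_coeff_fS_le (v : Valuation K' ℤᵐ⁰) (S : Finset (K' ≃ₐ[K] K')) (s : K')
    (h : ∀ σ ∈ S, v (σ s) ≤ 1) (i : ℕ) : v ((fS S s).coeff i) ≤ 1 := by
  have h1 : fS S s ∈ Polynomial.lifts (v.valuationSubring.subtype) := by
    unfold fS
    apply Subsemiring.prod_mem
    intro σ hσ
    rw [Polynomial.mem_lifts]
    refine ⟨Polynomial.X - Polynomial.C ⟨σ s, (Valuation.mem_valuationSubring_iff _ _).mpr (h σ hσ)⟩, ?_⟩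
    rw [Polynomial.map_sub, Polynomial.map_X, Polynomial.map_C]
    rfl
  rw [Polynomial.lifts_iff_coeff_lifts] at h1
  obtain ⟨c, hc⟩ := h1 i
  rw [← hc]
  exact (Valuation.mem_valuationSubring_iff _ _).mp c.2

end Poly

section Gal

variable {k : Type u} {K K' : Type v} [Field k] [Field K] [Field K'] [Algebra k K]
  [Algebra K K'] [Algebra k K'] [IsScalarTower k K K'] [FiniteDimensional K K'] [IsGalois K K']

/-- a place of `K'` with an expansion over `k` has separable residue field -/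
theorem isSeparable_residue (hK : IsFunctionField k K) (hg : IsGeometric k K)
    {F' : Type w} [Field F'] [Algebra k F'] (Q : Place k K') (ψ : K' →ₐ[k] F'⸨X⸩)
    (hψ : LocRes.IsExpansionAt Q.1 ψ) {x : K} (hx : KaehlerDifferential.D k K x ≠ 0) :
    Algebra.IsSeparable k (IsLocalRing.ResidueField Q.O) := by
  have hK' : IsFFw k K' := isFFw_of_finite K' hK.1
  have hfin : Module.Finite k (IsLocalRing.ResidueField Q.O) :=
    Module.finite_of_finrank_pos (deg_pos_w hK' Q)
  exact isSeparable_residue_of_expansion Q hfin ψ hψ (x := algebraMap K K' x)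
    (fun z => exists_eq_smul_D_ext hK.1 hg hx _)

/-- the place of the inertia field below `Q`: totally ramified above, unramified below -/
theorem exists_inertia_place (hK : IsFunctionField k K) {P : Place k K} {Q : Place k K'} {e : ℕ}
    (he : IsOverWith Q P e) [Algebra.IsSeparable k (IsLocalRing.ResidueField Q.O)] :
    ∃ Q₁ : Place k (IntermediateField.fixedField (Iner (K := K) Q)),
      IsOverWith Q Q₁ e ∧ IsOverWith Q₁ P 1 ∧
      Module.finrank (IntermediateField.fixedField (Iner (K := K) Q)) K' = e ∧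
      Nat.card (Iner (K := K) Q) = e := by
  obtain ⟨Q₁, h₁⟩ := totallyRamified_inertiaField hK.1 Q
  have hn : Module.finrank (IntermediateField.fixedField (Iner (K := K) Q)) K' =
      Nat.card (Iner (K := K) Q) := IntermediateField.finrank_fixedField_eq_card _
  have hcard : Nat.card (Iner (K := K) Q) = e := by
    rw [← card_inertia_eq hK.1 he]
    exact Nat.card_congr
      (Subgroup.equivMapOfInjective _ _ (Subgroup.subtype_injective _)).symm.toEquiv
  rw [hn, hcard] at h₁
  obtain ⟨P', e', he'⟩ := exists_below' (K := K) Q₁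
  have htr := isOverWith_trans h₁ he'
  have hP' : P' = P := isOver_unique ⟨_, htr⟩ ⟨e, he⟩
  subst hP'
  have hee : e = e' * e := ow_unique he htr
  have hpos : 0 < e := ow_pos he
  have he1 : e' = 1 := by
    have : 1 * e = e' * e := by rw [one_mul]; exact hee
    exact (Nat.eq_of_mul_eq_mul_right hpos this).symm
  rw [he1] at he'
  exact ⟨Q₁, h₁, he', hn.trans hcard, hcard⟩

theorem ord_prod {k K : Type*} [Field k] [Field K] [Algebra k K] (Q : Place k K) {ι : Type*}
    (S : Finset ι) (f : ι → K) (h : ∀ i ∈ S, f i ≠ 0) :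
    Q.ord (∏ i ∈ S, f i) = ∑ i ∈ S, Q.ord (f i) := by
  classical
  induction S using Finset.induction_on with
  | empty => simp [Place.ord_one]
  | insert a S ha ih =>
    rw [Finset.prod_insert ha, Finset.sum_insert ha, Place.ord_mul, ih]
    · intro i hi
      exact h i (Finset.mem_insert_of_mem hi)
    · exact h a (Finset.mem_insert_self a S)
    · rw [Finset.prod_ne_zero_iff]
      intro i hi
      exact h i (Finset.mem_insert_of_mem hi)

theorem pow_eq_exp_neg {a : ℤᵐ⁰} {n : ℕ} (hn : 0 < n) (h : a ^ n = exp (-(n : ℤ))) :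
    a = exp (-1 : ℤ) := by
  have ha0 : a ≠ 0 := by
    rintro rfl
    rw [zero_pow hn.ne'] at h
    exact exp_ne_zero h.symm
  obtain ⟨m, rfl⟩ : ∃ m : ℤ, a = exp m := ⟨log a, (exp_log ha0).symm⟩
  rw [← exp_nsmul, exp_inj, nsmul_eq_mul] at h
  have : m = -1 := by
    have hn' : (0 : ℤ) < n := by exact_mod_cast hn
    nlinarith
  rw [this]

open Classical in
/-- **the different exponent as a sum over the inertia group** -/
theorem diffExp_eq_sum (hK : IsFunctionField k K) (hg : IsGeometric k K)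
    {F F' : Type w} [Field F] [Algebra k F] [Field F'] [Algebra k F']
    {P : Place k K} {Q : Place k K'} {e : ℕ} (he : IsOverWith Q P e)
    (φ : K →ₐ[k] F⸨X⸩) (hφ : LocRes.IsExpansionAt P.1 φ)
    (ψ : K' →ₐ[k] F'⸨X⸩) (hψ : LocRes.IsExpansionAt Q.1 ψ)
    (x : K) (hx : LocRes.vDiff φ 1 x ≠ 0) (hx' : LocRes.vDiff ψ 1 (algebraMap K K' x) ≠ 0)
    (S : Finset (K' ≃ₐ[K] K')) (hS : ∀ σ, σ ∈ S ↔ σ ∈ Iner (K := K) Q)
    (s : K') (hs : Q.1 s = exp (-1 : ℤ)) :
    (∀ σ ∈ S.erase 1, s - σ s ≠ 0) ∧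
      LocRes.diffExp φ ψ e x = ∑ σ ∈ S.erase 1, Q.ord (s - σ s) := by
  have hDx : KaehlerDifferential.D k K x ≠ 0 := D_ne_zero_of_vDiff φ hx
  have hsepQ := isSeparable_residue hK hg Q ψ hψ hDx
  obtain ⟨Q₁, h₁, h₂, hn, hcard⟩ := exists_inertia_place hK he
  have hpos : 0 < e := ow_pos he
  -- separable residue field at `Q₁`
  have hsepQ₁ : Algebra.IsSeparable k (IsLocalRing.ResidueField Q₁.O) := by
    let _ := resAlg (⟨e, h₁⟩ : IsOver Q Q₁)
    have := resAlg_tower (⟨e, h₁⟩ : IsOver Q Q₁)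
    exact Algebra.isSeparable_tower_bot_of_isSeparable k (IsLocalRing.ResidueField Q₁.O)
      (IsLocalRing.ResidueField Q.O)
  have hT : IsFFw k (IntermediateField.fixedField (Iner (K := K) Q)) :=
    isFFw_of_finite _ hK.1
  obtain ⟨y, hyt, hyfin⟩ := hT
  obtain ⟨FT, _, _, φT, hφT⟩ := exists_expansion_over k _ hyt Q₁
  have hsepT : Algebra.IsSeparable K (IntermediateField.fixedField (Iner (K := K) Q)) :=
    Algebra.isSeparable_tower_bot_of_isSeparable K _ K'
  have hΩT : ∀ z : IntermediateField.fixedField (Iner (K := K) Q), ∃ u,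
      KaehlerDifferential.D k _ z = u • KaehlerDifferential.D k _
        (algebraMap K (IntermediateField.fixedField (Iner (K := K) Q)) x) :=
    fun z => exists_eq_smul_D_ext hK.1 hg hDx _
  -- `dx` is nonzero through `φT`
  have hxT : LocRes.vDiff φT 1 (algebraMap K (IntermediateField.fixedField (Iner (K := K) Q)) x)
      ≠ 0 := by
    obtain ⟨t₁, ht₁⟩ := hφT.2.2
    obtain ⟨u, hu⟩ := hΩT t₁
    have h3 := D_exp_rel φT hu
    have h4 : Valued.v (LocRes.D FT (φT t₁)) = 1 := val_D_eq_one _ (by rw [hφT.1, ht₁])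
    rw [vDiff_one]
    intro h0
    rw [map_eq_zero] at h0
    rw [h3, h0, mul_zero, map_zero] at h4
    exact zero_ne_one h4
  -- the tame part
  have htame := (diffExp_tame k K _ hK hg F FT P Q₁ 1 h₂ φ hφ φT hφT x hx hxT).1 (by
    intro hdvd
    have h1 : ringChar K = 1 := Nat.dvd_one.mp hdvd
    exact CharP.ringChar_ne_one h1)
  -- the polynomial
  have h1S : (1 : K' ≃ₐ[K] K') ∈ S := (hS 1).mpr (Subgroup.one_mem _)
  obtain ⟨f₀, hf₀⟩ := exists_descent (Iner (K := K) Q) S hS s
  have hvσ : ∀ σ ∈ S, Q.1 (σ s) = Q.1 s := fun σ hσ => val_Iner ((hS σ).mp hσ) s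
  have hf0 : aeval s f₀ = 0 := by
    rw [Polynomial.aeval_def, Polynomial.eval₂_eq_eval_map, hf₀]
    exact eval_fS h1S s
  have hcoeff : ∀ i, algebraMap (IntermediateField.fixedField (Iner (K := K) Q)) K' (f₀.coeff i) =
      (fS S s).coeff i := by
    intro i
    rw [← hf₀, Polynomial.coeff_map]
  have hint : ∀ i, Q₁.1 (f₀.coeff i) ≤ 1 := by
    intro i
    rw [← ow_le_one_iff h₁, hcoeff]
    apply val_coeff_fS_le
    intro σ hσ
    rw [hvσ σ hσ, hs, ← exp_zero, exp_le_exp]
    norm_num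
  have h0 : Q₁.1 (f₀.coeff 0) = exp (-1 : ℤ) := by
    apply pow_eq_exp_neg hpos
    rw [← h₁, hcoeff, coeff_zero_fS, map_prod]
    have : ∀ σ ∈ S, Q.1 (-(σ s)) = exp (-1 : ℤ) := by
      intro σ hσ
      rw [Valuation.map_neg, hvσ σ hσ, hs]
    rw [Finset.prod_congr rfl this, Finset.prod_const, ← exp_nsmul]
    congr 1
    have hSc : S.card = e := by
      rw [← hcard, ← Fintype.card_coe S, ← Nat.card_eq_fintype_card]
      exact Nat.card_congr (Equiv.subtypeEquivRight hS)
    rw [hSc]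
    simp
  have hx'' : LocRes.vDiff ψ 1 (algebraMap (IntermediateField.fixedField (Iner (K := K) Q)) K'
      (algebraMap K (IntermediateField.fixedField (Iner (K := K) Q)) x)) ≠ 0 := hx'
  obtain ⟨hne, hord⟩ := ord_aeval_derivative_eq_diffExp_of_span Q₁ Q e h₁ φT hφT.1 ψ hψ.1 _ hxT hx''
    hΩT s hs f₀ hf0 hint h0
  have hder : aeval s (derivative f₀) = ∏ σ ∈ S.erase 1, (s - σ s) := by
    rw [Polynomial.aeval_def, Polynomial.eval₂_eq_eval_map, ← Polynomial.derivative_map, hf₀]
    exact eval_derivative_fS h1S s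
  rw [hder] at hne hord
  have hne' : ∀ σ ∈ S.erase 1, s - σ s ≠ 0 := fun σ hσ => (Finset.prod_ne_zero_iff.mp hne) σ hσ
  refine ⟨hne', ?_⟩
  rw [ord_prod Q _ _ hne'] at hord
  rw [hord]
  unfold LocRes.diffExp at htame ⊢
  have e1 : algebraMap (IntermediateField.fixedField (Iner (K := K) Q)) K'
      (algebraMap K (IntermediateField.fixedField (Iner (K := K) Q)) x) = algebraMap K K' x := rfl
  rw [e1]
  push_cast at htame
  linear_combination (e : ℤ) * htame

end Gal

end Groth.Agent.Helper9.HilbC
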