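import Mathlib
import Groth.Prelude.Def_W4bk4goldsch23Ext
import Groth.Prelude.Def_LocRes
import Groth.Agent.Lib.Helper9.FFExt.HilbC

/-!
# Hilbert's different formula, part D: ramification groups through a uniformizer (helper9)
-/

namespace Groth.Agent.Helper9.HilbD

open WithZero FunFld
open Groth.Agent.Lib.Helper4.FF Groth.Agent.Helper9.FFExt Groth.Agent.Helper9.HilbC

universe u v w

section Val

/-- a sum of terms with pairwise distinct valuations dominates each term -/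
theorem val_le_sum_of_distinct {R Γ₀ : Type*} [Ring R] [LinearOrderedCommGroupWithZero Γ₀]
    (v : Valuation R Γ₀) {ι : Type*} (S : Finset ι) (f : ι → R)
    (hd : ∀ i ∈ S, ∀ j ∈ S, i ≠ j → v (f i) ≠ 0 → v (f i) ≠ v (f j)) :
    ∀ i ∈ S, v (f i) ≤ v (∑ j ∈ S, f j) := by
  classical
  rcases S.eq_empty_or_nonempty with rfl | hne
  · simp
  obtain ⟨i₀, hi₀, hmax⟩ := Finset.exists_max_image S (fun i => v (f i)) hne
  by_cases h0 : v (f i₀) = 0
  · intro i hi
    have := hmax i hi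
    rw [h0] at this
    exact this.trans zero_le
  · have hlt : v (∑ j ∈ S.erase i₀, f j) < v (f i₀) := by
      apply Valuation.map_sum_lt v h0
      intro j hj
      obtain ⟨hji, hjS⟩ := Finset.mem_erase.mp hj
      exact lt_of_le_of_ne (hmax j hjS) (fun heq => hd i₀ hi₀ j hjS (Ne.symm hji) h0 heq.symm)
    have hsum : v (∑ j ∈ S, f j) = v (f i₀) := by
      rw [← Finset.add_sum_erase S f hi₀]
      exact Valuation.map_add_eq_of_lt_left v hlt
    intro i hi
    rw [hsum]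
    exact hmax i hi

end Val

section TR

variable {k T K' : Type*} [Field k] [Field T] [Field K'] [Algebra k T] [Algebra T K'] [Algebra k K']
  [IsScalarTower k T K'] {Q : Place k K'} {Q₁ : Place k T} {n : ℕ}

omit [IsScalarTower k T K'] in
theorem val_term (h₁ : IsOverWith Q Q₁ n) {s : K'} (hs : Q.1 s = exp (-1 : ℤ)) {a : T}
    (ha : a ≠ 0) (i : ℕ) :
    Q.1 (algebraMap T K' a * s ^ i) = exp (-((n : ℤ) * Q₁.ord a + i)) := by
  rw [map_mul, map_pow, h₁ a, hs, Place.val_eq_exp_neg_ord Q₁ ha, ← exp_nsmul, ← exp_nsmul,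
    ← exp_add]
  congr 1
  simp only [nsmul_eq_mul]
  ring

omit [IsScalarTower k T K'] in
theorem val_term_ne (h₁ : IsOverWith Q Q₁ n) {s : K'} (hs : Q.1 s = exp (-1 : ℤ)) {a b : T}
    {i j : ℕ} (hi : i < n) (hj : j < n) (hij : i ≠ j)
    (h0 : Q.1 (algebraMap T K' a * s ^ i) ≠ 0) :
    Q.1 (algebraMap T K' a * s ^ i) ≠ Q.1 (algebraMap T K' b * s ^ j) := by
  have ha : a ≠ 0 := by
    rintro rfl
    simp at h0
  by_cases hb : b = 0
  · subst hb
    rw [map_zero, zero_mul, map_zero]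
    exact h0
  · rw [val_term h₁ hs ha, val_term h₁ hs hb, Ne, exp_inj]
    intro h
    have h2 : (n : ℤ) * (Q₁.ord a - Q₁.ord b) = (j : ℤ) - i := by linarith
    have hi' : (i : ℤ) < n := by exact_mod_cast hi
    have hj' : (j : ℤ) < n := by exact_mod_cast hj
    have hn0 : (0 : ℤ) < n := by omega
    rcases lt_trichotomy (Q₁.ord a - Q₁.ord b) 0 with hd | hd | hd
    · have : (n : ℤ) * (Q₁.ord a - Q₁.ord b) ≤ (n : ℤ) * (-1) :=
        mul_le_mul_of_nonneg_left (by omega) hn0.le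
      omega
    · rw [hd, mul_zero] at h2
      apply hij
      omega
    · have : (n : ℤ) * 1 ≤ (n : ℤ) * (Q₁.ord a - Q₁.ord b) :=
        mul_le_mul_of_nonneg_left (by omega) hn0.le
      omega

omit [IsScalarTower k T K'] in
/-- every term of `∑ a_j s^j` is dominated by the sum -/
theorem val_term_le_sum (h₁ : IsOverWith Q Q₁ n) {s : K'} (hs : Q.1 s = exp (-1 : ℤ))
    (a : Fin n → T) (i : Fin n) :
    Q.1 (algebraMap T K' (a i) * s ^ (i : ℕ)) ≤
      Q.1 (∑ j : Fin n, algebraMap T K' (a j) * s ^ (j : ℕ)) := by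
  apply val_le_sum_of_distinct Q.1 Finset.univ (fun j : Fin n => algebraMap T K' (a j) * s ^ (j : ℕ))
    _ i (Finset.mem_univ i)
  intro i _ j _ hij h0
  exact val_term_ne h₁ hs i.2 j.2 (fun h => hij (Fin.ext h)) h0

omit [IsScalarTower k T K'] in
theorem linearIndependent_pow (h₁ : IsOverWith Q Q₁ n) {s : K'} (hs : Q.1 s = exp (-1 : ℤ)) :
    LinearIndependent T (fun j : Fin n => s ^ (j : ℕ)) := by
  rw [Fintype.linearIndependent_iff]
  intro g hg i
  have hs0 : s ≠ 0 := by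
    rintro rfl
    rw [map_zero] at hs
    exact exp_ne_zero hs.symm
  have h2 := val_term_le_sum h₁ hs g i
  have h3 : (∑ j : Fin n, algebraMap T K' (g j) * s ^ (j : ℕ)) = 0 := by
    rw [← hg]
    exact Finset.sum_congr rfl fun j _ => (Algebra.smul_def _ _).symm
  rw [h3, map_zero, le_zero_iff, map_eq_zero] at h2
  rcases mul_eq_zero.mp h2 with h4 | h4
  · exact (map_eq_zero_iff _ (algebraMap T K').injective).mp h4
  · exact absurd h4 (pow_ne_zero _ hs0)

/-- integral elements are integral combinations of powers of a uniformizer in a totally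
ramified extension -/
theorem exists_integral_expansion [FiniteDimensional T K'] (h₁ : IsOverWith Q Q₁ n)
    (hn : Module.finrank T K' = n) {s : K'} (hs : Q.1 s = exp (-1 : ℤ)) (z : K')
    (hz : Q.1 z ≤ 1) :
    ∃ a : Fin n → T, (∀ j, Q₁.1 (a j) ≤ 1) ∧
      z = ∑ j : Fin n, algebraMap T K' (a j) * s ^ (j : ℕ) := by
  have hli := linearIndependent_pow h₁ hs
  have : Nonempty (Fin n) := ⟨⟨0, ow_pos h₁⟩⟩
  let b := basisOfLinearIndependentOfCardEqFinrank hli (by rw [Fintype.card_fin, hn])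
  have hb : ∀ j, b j = s ^ (j : ℕ) := fun j => by
    rw [coe_basisOfLinearIndependentOfCardEqFinrank]
  have hsum : z = ∑ j : Fin n, algebraMap T K' (b.repr z j) * s ^ (j : ℕ) := by
    conv_lhs => rw [← b.sum_repr z]
    exact Finset.sum_congr rfl fun j _ => by rw [hb, Algebra.smul_def]
  refine ⟨fun j => b.repr z j, ?_, hsum⟩
  intro j
  change Q₁.1 (b.repr z j) ≤ 1
  by_cases h0 : b.repr z j = 0
  · rw [h0, map_zero]; exact zero_le_one
  have h2 := val_term_le_sum h₁ hs (fun j => b.repr z j) j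
  rw [← hsum] at h2
  have h3 := h2.trans hz
  rw [val_term h₁ hs h0, ← exp_zero, exp_le_exp] at h3
  rw [← Place.ord_nonneg_iff Q₁ h0]
  have hj : ((j : ℕ) : ℤ) < n := by exact_mod_cast j.2
  by_contra hneg
  push Not at hneg
  have : (n : ℤ) * Q₁.ord (b.repr z j) ≤ (n : ℤ) * (-1) :=
    mul_le_mul_of_nonneg_left (by omega) (by omega)
  omega

/-- in a totally ramified extension an automorphism moves integral elements at most as much as
it moves a uniformizer -/
theorem val_sub_le [FiniteDimensional T K'] (h₁ : IsOverWith Q Q₁ n)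
    (hn : Module.finrank T K' = n) {s : K'} (hs : Q.1 s = exp (-1 : ℤ)) (σ : K' →+* K')
    (hfix : ∀ a : T, σ (algebraMap T K' a) = algebraMap T K' a) (hσ : Q.1 (σ s) ≤ 1)
    (z : K') (hz : Q.1 z ≤ 1) : Q.1 (σ z - z) ≤ Q.1 (σ s - s) := by
  obtain ⟨a, ha, rfl⟩ := exists_integral_expansion h₁ hn hs z hz
  have hs1 : Q.1 s ≤ 1 := by
    rw [hs, ← exp_zero, exp_le_exp]; norm_num
  rw [map_sum, ← Finset.sum_sub_distrib]
  apply Valuation.map_sum_le
  intro j _
  rw [map_mul, hfix, map_pow, ← mul_sub, map_mul]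
  have h2 : Q.1 (algebraMap T K' (a j)) ≤ 1 := (ow_le_one_iff h₁ _).mpr (ha j)
  have h3 : Q.1 (σ s ^ (j : ℕ) - s ^ (j : ℕ)) ≤ Q.1 (σ s - s) := by
    rw [← geom_sum₂_mul, map_mul]
    have : Q.1 (∑ i ∈ Finset.range (j : ℕ), σ s ^ i * s ^ ((j : ℕ) - 1 - i)) ≤ 1 := by
      apply Valuation.map_sum_le
      intro i _
      rw [map_mul, map_pow, map_pow]
      exact mul_le_one' (pow_le_one' hσ _) (pow_le_one' hs1 _)
    calc _ ≤ 1 * Q.1 (σ s - s) := mul_le_mul' this le_rfl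
      _ = _ := one_mul _
  calc _ ≤ 1 * Q.1 (σ s - s) := mul_le_mul' h2 h3
    _ = _ := one_mul _

end TR

section Final

open LaurentSeries

variable {k : Type u} {K K' : Type v} [Field k] [Field K] [Field K'] [Algebra k K]
  [Algebra K K'] [Algebra k K'] [IsScalarTower k K K'] [FiniteDimensional K K'] [IsGalois K K']

/-- the higher ramification groups are cut out of the inertia group by a uniformizer -/
theorem mem_ramificationGroup_iff (hK : IsFunctionField k K) {P : Place k K} {Q : Place k K'}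
    {e : ℕ} (he : IsOverWith Q P e) [Algebra.IsSeparable k (IsLocalRing.ResidueField Q.O)]
    {s : K'} (hs : Q.1 s = exp (-1 : ℤ)) {i : ℕ} (hi : 1 ≤ i) (σ : K' ≃ₐ[K] K') :
    (∀ z : K', Q.1 z ≤ 1 → Q.1 (σ z - z) ≤ exp (-(i : ℤ))) ↔
      σ ∈ Iner (K := K) Q ∧ Q.1 (σ s - s) ≤ exp (-(i : ℤ)) := by
  have hs1 : Q.1 s ≤ 1 := by
    rw [hs, ← exp_zero, exp_le_exp]; norm_num
  constructor
  · intro h
    refine ⟨?_, h s hs1⟩
    rw [mem_Iner_iff]
    intro b hb
    refine lt_of_le_of_lt (h b hb) ?_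
    rw [← exp_zero, exp_lt_exp]
    omega
  · rintro ⟨hσ, h⟩ z hz
    obtain ⟨Q₁, h₁, -, hn, -⟩ := exists_inertia_place hK he
    refine (val_sub_le h₁ hn hs (σ : K' →+* K') ?_ ?_ z hz).trans h
    · intro a
      exact (IntermediateField.mem_fixedField_iff _ _).mp a.2 σ hσ
    · change Q.1 (σ s) ≤ 1
      rw [val_Iner hσ]
      exact hs1

theorem sum_card_filter_le {ι : Type*} (S : Finset ι) (m : ι → ℤ) (N : ℕ)
    (h1 : ∀ σ ∈ S, 1 ≤ m σ) (hN : ∀ σ ∈ S, m σ ≤ N) :
    ∑ i ∈ Finset.Icc 1 N, ((S.filter (fun σ => (i : ℤ) ≤ m σ)).card : ℤ) = ∑ σ ∈ S, m σ := by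
  simp_rw [Finset.card_filter]
  push_cast
  rw [Finset.sum_comm]
  refine Finset.sum_congr rfl fun σ hσ => ?_
  rw [← Finset.sum_filter, Finset.sum_const]
  have h2 : (Finset.Icc 1 N).filter (fun i : ℕ => (i : ℤ) ≤ m σ) = Finset.Icc 1 (m σ).toNat := by
    ext i
    simp only [Finset.mem_filter, Finset.mem_Icc]
    have := h1 σ hσ
    have := hN σ hσ
    omega
  rw [h2]
  have := h1 σ hσ
  simp
  omega

open Classical in
/-- **Hilbert's different formula** -/
theorem hilbert_formula (hK : IsFunctionField k K) (hg : IsGeometric k K)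
    {F F' : Type w} [Field F] [Algebra k F] [Field F'] [Algebra k F']
    {P : Place k K} {Q : Place k K'} {e : ℕ} (he : IsOverWith Q P e)
    (φ : K →ₐ[k] F⸨X⸩) (hφ : LocRes.IsExpansionAt P.1 φ)
    (ψ : K' →ₐ[k] F'⸨X⸩) (hψ : LocRes.IsExpansionAt Q.1 ψ)
    (x : K) (hx : LocRes.vDiff φ 1 x ≠ 0) (hx' : LocRes.vDiff ψ 1 (algebraMap K K' x) ≠ 0) :
    (Function.support fun i : ℕ => (Nat.card {σ : K' ≃ₐ[K] K' //
        ∀ z : K', Q.1 z ≤ 1 → Q.1 (σ z - z) ≤ WithZero.exp (-(i : ℤ))} : ℤ) - 1).Finite ∧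
    LocRes.diffExp φ ψ e x = ∑ᶠ i : ℕ, if 1 ≤ i then
      (Nat.card {σ : K' ≃ₐ[K] K' //
        ∀ z : K', Q.1 z ≤ 1 → Q.1 (σ z - z) ≤ WithZero.exp (-(i : ℤ))} : ℤ) - 1
      else 0 := by
  have hDx := D_ne_zero_of_vDiff φ hx
  have hsepQ := isSeparable_residue hK hg Q ψ hψ hDx
  obtain ⟨s, hs⟩ := hψ.2.2
  have hs1 : Q.1 s ≤ 1 := by
    rw [hs, ← exp_zero, exp_le_exp]; norm_num
  obtain ⟨S, hSdef⟩ : ∃ S : Finset (K' ≃ₐ[K] K'),
      S = Finset.univ.filter (fun σ => σ ∈ Iner (K := K) Q) := ⟨_, rfl⟩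
  have hS : ∀ σ, σ ∈ S ↔ σ ∈ Iner (K := K) Q := fun σ => by
    rw [hSdef, Finset.mem_filter]; simp
  obtain ⟨hne, hsum⟩ := diffExp_eq_sum hK hg he φ hφ ψ hψ x hx hx' S hS s hs
  obtain ⟨m, hm⟩ : ∃ m : (K' ≃ₐ[K] K') → ℤ, m = fun σ => Q.ord (s - σ s) := ⟨_, rfl⟩
  have hm' : ∀ σ, Q.ord (s - σ s) = m σ := fun σ => by rw [hm]
  simp only [hm'] at hsum
  have hm1 : ∀ σ ∈ S.erase 1, 1 ≤ m σ := by
    intro σ hσ
    have hσS := (hS σ).mp (Finset.mem_of_mem_erase hσ)
    have h2 : Q.1 (σ s - s) < 1 := (mem_Iner_iff Q σ).mp hσS s hs1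
    have h3 : 0 < Q.ord (s - σ s) :=
      (Place.ord_pos_iff Q (hne σ hσ)).mpr (by rwa [← Valuation.map_neg, neg_sub])
    rw [hm' σ] at h3
    omega
  obtain ⟨N, hN⟩ : ∃ N : ℕ, ∀ σ ∈ S.erase 1, m σ ≤ N :=
    ⟨(∑ σ ∈ S.erase 1, m σ).toNat, fun σ hσ => by
      have h3 : m σ ≤ ∑ τ ∈ S.erase 1, m τ :=
        Finset.single_le_sum (fun τ hτ => by have := hm1 τ hτ; omega) hσ
      omega⟩
  have key : ∀ i : ℕ, 1 ≤ i → (Nat.card {σ : K' ≃ₐ[K] K' //
        ∀ z : K', Q.1 z ≤ 1 → Q.1 (σ z - z) ≤ exp (-(i : ℤ))} : ℤ) - 1 =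
      (((S.erase 1).filter (fun σ => (i : ℤ) ≤ m σ)).card : ℤ) := by
    intro i hi
    have hA : ∀ σ : K' ≃ₐ[K] K', (∀ z : K', Q.1 z ≤ 1 → Q.1 (σ z - z) ≤ exp (-(i : ℤ))) ↔
        σ ∈ insert 1 ((S.erase 1).filter (fun σ => (i : ℤ) ≤ m σ)) := by
      intro σ
      rw [mem_ramificationGroup_iff hK he hs hi, Finset.mem_insert, Finset.mem_filter,
        Finset.mem_erase, hS]
      by_cases h1 : σ = 1
      · subst h1
        simp
      · simp only [h1, false_or, ne_eq, not_false_eq_true, true_and]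
        apply and_congr_right
        intro hσ
        have hσ' : σ ∈ S.erase 1 := Finset.mem_erase.mpr ⟨h1, (hS σ).mpr hσ⟩
        rw [← neg_sub, Valuation.map_neg, Place.val_eq_exp_neg_ord Q (hne σ hσ'), exp_le_exp,
          hm' σ]
        omega
    rw [Nat.card_congr (Equiv.subtypeEquivRight hA), Nat.card_eq_fintype_card, Fintype.card_coe,
      Finset.card_insert_of_notMem (by simp)]
    push_cast
    ring
  have hzero : ∀ i : ℕ, N < i → (Nat.card {σ : K' ≃ₐ[K] K' //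
        ∀ z : K', Q.1 z ≤ 1 → Q.1 (σ z - z) ≤ exp (-(i : ℤ))} : ℤ) - 1 = 0 := by
    intro i hi
    rw [key i (by omega), Nat.cast_eq_zero, Finset.card_eq_zero, Finset.filter_eq_empty_iff]
    intro σ hσ
    have := hN σ hσ
    omega
  constructor
  · apply (Finset.range (N + 1)).finite_toSet.subset
    intro i hi
    rw [Function.mem_support] at hi
    rw [Finset.coe_range, Set.mem_Iio]
    by_contra hlt
    exact hi (hzero i (by omega))
  · rw [hsum, finsum_eq_sum_of_support_subset (s := Finset.Icc 1 N)]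
    · rw [← sum_card_filter_le (S.erase 1) m N hm1 hN]
      refine Finset.sum_congr rfl fun i hi => ?_
      rw [if_pos (Finset.mem_Icc.mp hi).1, key i (Finset.mem_Icc.mp hi).1]
    · intro i hi
      rw [Function.mem_support] at hi
      rw [Finset.coe_Icc, Set.mem_Icc]
      by_cases h1 : 1 ≤ i
      · refine ⟨h1, ?_⟩
        by_contra hlt
        rw [if_pos h1] at hi
        exact hi (hzero i (by omega))
      · rw [if_neg h1] at hi
        exact absurd rfl hi

end Final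

end Groth.Agent.Helper9.HilbD
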