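import Mathlib
import Groth.Prelude.Def_W4bk4goldsch23Ext
import Groth.Agent.Lib.Helper9.FFExt.IntCl4

/-! The trace of a semilocally integral element is integral (helper9). -/

namespace Groth.Agent.Helper9.FFExt

open FunFld WithZero
open Groth.Agent.Lib.Helper4.FF

variable {k K K' : Type*} [Field k] [Field K] [Field K'] [Algebra k K] [Algebra K K']
  [Algebra k K'] [IsScalarTower k K K'] [FiniteDimensional K K']

theorem val_trace_le_one (hK : IsFFw k K) (P : Place k K) (w : K')
    (hw : ∀ Q : Place k K', IsOver Q P → Q.1 w ≤ 1) : P.1 (Algebra.trace K K' w) ≤ 1 := by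
  let _ : Algebra P.O K' := ((algebraMap K K').comp P.O.subtype).toAlgebra
  have : IsScalarTower P.O K K' := IsScalarTower.of_algebraMap_eq fun _ => rfl
  have hint : IsIntegral P.O w := (isIntegral_iff hK P w).mpr hw
  have h1 : IsIntegral P.O (Algebra.trace K K' w) := Algebra.isIntegral_trace hint
  obtain ⟨z, hz⟩ := IsIntegrallyClosed.isIntegral_iff.mp h1
  rw [← hz]
  exact (Place.mem_O_iff P).mp z.2

end Groth.Agent.Helper9.FFExt
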