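import Mathlib
import Groth.Prelude.Def_W4bk4goldsch23Ext
import Groth.Agent.Lib.Helper4.FF.Riemann
import Groth.Agent.Lib.Helper9.FFExt.RatLin
import Groth.Agent.Lib.Helper9.FFExt.TraceInt
import Groth.Agent.Lib.Helper9.FFExt.Deg

/-! Hyperelliptic function fields `y² = f(x)` in characteristic `≠ 2`: the spaces `L(n (x)_∞)` and
the genus (helper9). -/

namespace Groth.Agent.Helper9.Hyper

open FunFld WithZero Polynomial IntermediateField
open Groth.Agent.Lib.Helper4.FF Groth.Agent.Helper9.FFExt

section Rat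

variable {k : Type*} [Field k]

/-- a rational function regular at all finite places is a polynomial -/
theorem poly_of_regular (r : RatFunc k)
    (hr : ∀ p : Place k (RatFunc k), p.1 RatFunc.X ≤ 1 → p.1 r ≤ 1) :
    ∃ q : k[X], r = algebraMap k[X] (RatFunc k) q := by
  have hE : IsFunctionField k (RatFunc k) := isFunctionField_ratFunc
  by_cases hd : r.denom.natDegree = 0
  · have h1 : r.denom = 1 := Polynomial.eq_one_of_monic_natDegree_zero (RatFunc.monic_denom r) hd
    refine ⟨r.num, ?_⟩
    have := RatFunc.num_div_denom r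
    rw [h1, map_one, div_one] at this
    exact this.symm
  · exfalso
    have hnu : ¬ IsUnit r.denom := by
      intro hu
      exact hd (natDegree_eq_zero_of_isUnit hu)
    obtain ⟨π, hπ, hπd⟩ := WfDvdMonoid.exists_irreducible_factor hnu (RatFunc.denom_ne_zero r)
    -- a place at `π`
    have htr : Transcendental k (algebraMap k[X] (RatFunc k) π) := by
      intro halg
      obtain ⟨c, hc⟩ := hE.2 _ halg
      have : π = C c := by
        apply IsFractionRing.injective k[X] (RatFunc k)
        rw [← hc, RatFunc.algebraMap_C, RatFunc.algebraMap_eq_C]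
      rw [this] at hπ
      by_cases hc0 : c = 0
      · rw [hc0, map_zero] at hπ
        exact hπ.ne_zero rfl
      · exact hπ.not_isUnit (Polynomial.isUnit_C.mpr (Ne.isUnit hc0))
    obtain ⟨p, hp⟩ := exists_zero hE htr
    have hX : p.1 RatFunc.X ≤ 1 := val_X_le_one_of_lt_one p hπ.ne_zero hp
    have h1 := hr p hX
    obtain ⟨s, hs⟩ := hπd
    have hden : p.1 (algebraMap k[X] (RatFunc k) r.denom) < 1 := by
      rw [hs, map_mul, map_mul]
      calc p.1 (algebraMap k[X] (RatFunc k) π) * p.1 (algebraMap k[X] (RatFunc k) s)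
          ≤ p.1 (algebraMap k[X] (RatFunc k) π) * 1 := mul_le_mul' le_rfl (val_poly_le_one p hX s)
        _ < 1 := by rw [mul_one]; exact hp
    have hnum : p.1 (algebraMap k[X] (RatFunc k) r.num) = 1 := by
      apply val_poly_eq_one_of_not_dvd p hπ hp
      intro hdvd
      have hcop := RatFunc.isCoprime_num_denom r
      exact hπ.not_isUnit (hcop.isUnit_of_dvd' hdvd ⟨s, hs⟩)
    have h3 : p.1 (algebraMap k[X] (RatFunc k) r.num) =
        p.1 r * p.1 (algebraMap k[X] (RatFunc k) r.denom) := by
      rw [← map_mul]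
      congr 1
      have := RatFunc.num_div_denom r
      have hd0 : algebraMap k[X] (RatFunc k) r.denom ≠ 0 :=
        algebraMap_poly_ne_zero (RatFunc.denom_ne_zero r)
      field_simp at this
      rw [this, mul_comm]
    rw [hnum] at h3
    have : p.1 r * p.1 (algebraMap k[X] (RatFunc k) r.denom) < 1 :=
      lt_of_le_of_lt (mul_le_mul' h1 le_rfl) (by rw [one_mul]; exact hden)
    rw [← h3] at this
    exact lt_irrefl _ this

end Rat


section Quad

variable {E K : Type*} [Field E] [Field K] [Algebra E K]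

theorem adjoin_eq_top_quad (hdeg : Module.finrank E K = 2) (y : K)
    (hy : y ∉ Set.range (algebraMap E K)) : E⟮y⟯ = ⊤ := by
  have hfin : FiniteDimensional E K := Module.finite_of_finrank_pos (by rw [hdeg]; norm_num)
  have h1 : Module.finrank E E⟮y⟯ ∣ 2 := by
    rw [← hdeg]
    exact IntermediateField.finrank_dvd_of_le_right le_top |>.trans (by
      rw [IntermediateField.finrank_top'])
  have h3 : Module.finrank E E⟮y⟯ ≠ 1 := by
    rw [Ne, IntermediateField.finrank_adjoin_simple_eq_one_iff, IntermediateField.mem_bot]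
    exact hy
  have h4 : Module.finrank E E⟮y⟯ = 2 := by
    rcases (Nat.dvd_prime Nat.prime_two).mp h1 with h | h
    · exact absurd h h3
    · exact h
  apply IntermediateField.eq_of_le_of_finrank_eq le_top
  rw [h4, IntermediateField.finrank_top', hdeg]

/-- the trace of a square root -/
theorem trace_sqrt (hdeg : Module.finrank E K = 2) (y : K)
    (hy : y ∉ Set.range (algebraMap E K)) (f : E) (heq : y ^ 2 = algebraMap E K f) :
    Algebra.trace E K y = 0 := by
  have hfin : FiniteDimensional E K := Module.finite_of_finrank_pos (by rw [hdeg]; norm_num)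
  set g : E[X] := X ^ 2 - C f with hg
  have hgm : g.Monic := by
    rw [hg]
    monicity!
  have hgdeg : g.natDegree = 2 := by
    rw [hg]
    compute_degree!
  have hroot : aeval y g = 0 := by
    rw [hg]
    simp only [map_sub, map_pow, aeval_X, aeval_C]
    rw [heq, sub_self]
  have hyint : IsIntegral E y := ⟨g, hgm, hroot⟩
  have hmin2 : 2 ≤ (minpoly E y).natDegree := (minpoly.two_le_natDegree_iff hyint).mpr hy
  have hdvd : minpoly E y ∣ g := minpoly.dvd _ _ hroot
  have hmeq : minpoly E y = g :=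
    (Polynomial.eq_of_monic_of_dvd_of_natDegree_le (minpoly.monic hyint) hgm hdvd (by
      rw [hgdeg]; exact hmin2)).symm
  have hnc : g.nextCoeff = 0 := by
    rw [Polynomial.nextCoeff_of_natDegree_pos (by rw [hgdeg]; norm_num), hgdeg, hg]
    simp [coeff_X]
  rw [trace_eq_finrank_mul_minpoly_nextCoeff, hmeq, hnc, neg_zero, mul_zero]

/-- `K = E ⊕ E y` -/
theorem decomp_quad (hdeg : Module.finrank E K = 2) (y : K)
    (hy : y ∉ Set.range (algebraMap E K)) (w : K) :
    ∃ u v : E, w = algebraMap E K u + algebraMap E K v * y := by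
  have hli : LinearIndependent E ![(1 : K), y] := by
    rw [LinearIndependent.pair_iff]
    intro s t hst
    have ht : t = 0 := by
      by_contra ht
      apply hy
      refine ⟨-s / t, ?_⟩
      rw [Algebra.smul_def, Algebra.smul_def, mul_one] at hst
      have ht' : algebraMap E K t ≠ 0 := (map_ne_zero_iff _ (algebraMap E K).injective).mpr ht
      rw [map_div₀, map_neg]
      field_simp
      linear_combination (-1 : K) * hst
    rw [ht, zero_smul, add_zero, Algebra.smul_def, mul_one,
      map_eq_zero_iff _ (algebraMap E K).injective] at hst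
    exact ⟨hst, ht⟩
  let b := basisOfLinearIndependentOfCardEqFinrank hli (by rw [hdeg]; rfl)
  have hw := b.sum_repr w
  rw [Fin.sum_univ_two] at hw
  simp only [b, coe_basisOfLinearIndependentOfCardEqFinrank, Matrix.cons_val_zero,
    Matrix.cons_val_one] at hw
  obtain ⟨c0, hc0⟩ : ∃ c : E, c = (basisOfLinearIndependentOfCardEqFinrank hli
    (by rw [hdeg]; rfl)).repr w 0 := ⟨_, rfl⟩
  obtain ⟨c1, hc1⟩ : ∃ c : E, c = (basisOfLinearIndependentOfCardEqFinrank hli
    (by rw [hdeg]; rfl)).repr w 1 := ⟨_, rfl⟩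
  rw [← hc0, ← hc1, Algebra.smul_def, Algebra.smul_def, mul_one] at hw
  exact ⟨c0, c1, hw.symm⟩

/-- uniqueness of the decomposition -/
theorem decomp_unique (y : K) (hy : y ∉ Set.range (algebraMap E K)) {u v u' v' : E}
    (h : algebraMap E K u + algebraMap E K v * y = algebraMap E K u' + algebraMap E K v' * y) :
    u = u' ∧ v = v' := by
  have hv : v = v' := by
    by_contra hne
    apply hy
    have hne' : algebraMap E K (v - v') ≠ 0 :=
      (map_ne_zero_iff _ (algebraMap E K).injective).mpr (sub_ne_zero.mpr hne)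
    refine ⟨(u' - u) / (v - v'), ?_⟩
    rw [map_div₀, div_eq_iff hne', map_sub, map_sub]
    linear_combination (-1 : K) * h
  subst hv
  refine ⟨?_, rfl⟩
  apply (algebraMap E K).injective
  linear_combination h

theorem trace_decomp (hdeg : Module.finrank E K = 2) (y : K)
    (hy : y ∉ Set.range (algebraMap E K)) (f : E) (heq : y ^ 2 = algebraMap E K f) (u v : E) :
    Algebra.trace E K (algebraMap E K u + algebraMap E K v * y) = 2 * u := by
  rw [map_add, Algebra.trace_algebraMap, hdeg, ← Algebra.smul_def, map_smul,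
    trace_sqrt hdeg y hy f heq, smul_zero, add_zero, nsmul_eq_mul]
  norm_num

end Quad

section Parts

variable {k E K : Type*} [Field k] [Field E] [Field K] [Algebra k E] [Algebra k K] [Algebra E K]
  [IsScalarTower k E K]

/-- local integrality of `a + b y` gives integrality of `a` and of `b² f` -/
theorem reg_parts (hE : IsFunctionField k E) (h2 : (2 : k) ≠ 0) (hdeg : Module.finrank E K = 2)
    (y : K) (hy : y ∉ Set.range (algebraMap E K)) (f : E) (heq : y ^ 2 = algebraMap E K f)
    (p : Place k E) (a b : E)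
    (hz : ∀ Q : Place k K, IsOver Q p → Q.1 (algebraMap E K a + algebraMap E K b * y) ≤ 1) :
    p.1 a ≤ 1 ∧ p.1 (b ^ 2 * f) ≤ 1 := by
  have hfin : FiniteDimensional E K := Module.finite_of_finrank_pos (by rw [hdeg]; norm_num)
  have h1 := val_trace_le_one (isFFw_of_isFunctionField hE) p _ hz
  rw [trace_decomp hdeg y hy f heq, map_mul] at h1
  have h2' : p.1 (2 : E) = 1 := by
    have : (2 : E) = algebraMap k E 2 := by rw [map_ofNat]
    rw [this]
    exact Place.val_k p h2
  rw [h2', one_mul] at h1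
  refine ⟨h1, ?_⟩
  obtain ⟨Q, e, hQ⟩ := exists_over (K' := K) hE p
  have h3 : Q.1 (algebraMap E K b * y) ≤ 1 := by
    have : algebraMap E K b * y = (algebraMap E K a + algebraMap E K b * y) - algebraMap E K a := by
      ring
    rw [this]
    exact (Q.1.map_sub _ _).trans (max_le (hz Q ⟨e, hQ⟩) ((ow_le_one_iff hQ a).mpr h1))
  rw [← ow_le_one_iff hQ]
  have h4 : algebraMap E K (b ^ 2 * f) = (algebraMap E K b * y) ^ 2 := by
    rw [map_mul, map_pow, mul_pow, heq]
  rw [h4, map_pow]
  exact pow_le_one₀ zero_le h3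

end Parts


section Main

variable {k K : Type*} [Field k] [Field K] [Algebra k K] [Algebra (RatFunc k) K]
  [IsScalarTower k (RatFunc k) K]

theorem transcendental_x : Transcendental k (algebraMap (RatFunc k) K RatFunc.X) := by
  rw [transcendental_algebraMap_iff (algebraMap (RatFunc k) K).injective]
  exact RatFunc.transcendental_X

theorem finrank_adjoin_x :
    Module.finrank k⟮algebraMap (RatFunc k) K RatFunc.X⟯ K = Module.finrank (RatFunc k) K := by
  set f := IsScalarTower.toAlgHom k (RatFunc k) K with hf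
  have h1 : k⟮algebraMap (RatFunc k) K RatFunc.X⟯ = f.fieldRange := by
    rw [AlgHom.fieldRange_eq_map, ← RatFunc.adjoin_X, IntermediateField.adjoin_map,
      Set.image_singleton]
    rfl
  rw [h1]
  symm
  exact Algebra.finrank_eq_of_equiv_equiv (AlgEquiv.ofInjectiveField f).toRingEquiv
    (RingEquiv.refl K) (by ext z; rfl)

theorem aeval_x (q : k[X]) : aeval (algebraMap (RatFunc k) K RatFunc.X) q =
    algebraMap (RatFunc k) K (algebraMap k[X] (RatFunc k) q) := by
  rw [algebraMap_eq_aeval, ← Polynomial.aeval_algebraMap_apply]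

/-- a squarefree polynomial of positive degree is not a square in `k(x)` -/
lemma not_sq (f : Polynomial k) (hf : Squarefree f) (hd : 1 ≤ f.natDegree) (g : RatFunc k)
    (hg : g ^ 2 = algebraMap (Polynomial k) (RatFunc k) f) : False := by
  have hint : IsIntegral (Polynomial k) g := by
    refine ⟨Polynomial.X ^ 2 - Polynomial.C f, Polynomial.monic_X_pow_sub_C f (by norm_num), ?_⟩
    simp [hg]
  obtain ⟨q, hq⟩ := IsIntegrallyClosed.isIntegral_iff.mp hint
  rw [← hq, ← map_pow] at hg
  have hqf : q ^ 2 = f := IsFractionRing.injective (Polynomial k) (RatFunc k) hg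
  have hu : IsUnit q := hf q ⟨1, by rw [mul_one, ← hqf, sq]⟩
  have : f.natDegree = 0 := by
    rw [← hqf]
    exact Polynomial.natDegree_eq_zero_of_isUnit (hu.pow 2)
  omega

theorem y_notMem (y : K) (f : k[X]) (hf : Squarefree f) (hd : 1 ≤ f.natDegree)
    (heq : y ^ 2 = algebraMap (RatFunc k) K (algebraMap k[X] (RatFunc k) f)) :
    y ∉ Set.range (algebraMap (RatFunc k) K) := by
  rintro ⟨r, rfl⟩
  rw [← map_pow] at heq
  exact not_sq f hf hd r ((algebraMap (RatFunc k) K).injective heq)

/-- the order of a squarefree polynomial at a finite place is `0` or `1` -/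
theorem ord_squarefree_le_one (p : Place k (RatFunc k)) (hX : p.1 RatFunc.X ≤ 1) (f : k[X])
    (hf : Squarefree f) : p.ord (algebraMap k[X] (RatFunc k) f) ≤ 1 := by
  obtain ⟨π, hπ, hπv⟩ := exists_irreducible_of_finite p hX
  by_cases hdvd : π ∣ f
  · rw [ord_squarefree p hπ hπv hf hdvd]
  · have h1 := val_poly_eq_one_of_not_dvd p hπ hπv hdvd
    have hf0 : algebraMap k[X] (RatFunc k) f ≠ 0 := algebraMap_poly_ne_zero hf.ne_zero
    rw [Place.val_eq_exp_neg_ord p hf0, ← exp_zero, exp_inj] at h1
    omega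


/-- `a(x) + b(x) y ∈ L(n (x)_∞)` under the degree bounds -/
theorem mem_L_of_bounds (hK : IsFunctionField k K) (y : K) (f : k[X]) (hf0 : f ≠ 0)
    (heq : y ^ 2 = algebraMap (RatFunc k) K (algebraMap k[X] (RatFunc k) f))
    (n : ℕ) (a b : k[X]) (ha : a.natDegree ≤ n)
    (hb : b = 0 ∨ 2 * b.natDegree + f.natDegree ≤ 2 * n) :
    algebraMap (RatFunc k) K (algebraMap k[X] (RatFunc k) a) +
      algebraMap (RatFunc k) K (algebraMap k[X] (RatFunc k) b) * y ∈
      L ((n : ℤ) • (poleDiv (algebraMap (RatFunc k) K RatFunc.X) : Divisor k K)) := by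
  obtain ⟨x, hx⟩ : ∃ x : K, x = algebraMap (RatFunc k) K RatFunc.X := ⟨_, rfl⟩
  rw [← hx, ← aeval_x, ← aeval_x, ← hx]
  rw [← aeval_x, ← hx] at heq
  have hx0 : x ≠ 0 := by
    rw [hx]
    exact (map_ne_zero_iff _ (algebraMap (RatFunc k) K).injective).mpr RatFunc.X_ne_zero
  intro Q
  rw [Finsupp.smul_apply, poleDiv_apply hK]
  by_cases hQ : Q.1 x ≤ 1
  · have h0 : max (-(Q.ord x)) 0 = 0 := by
      have := (Place.ord_nonneg_iff Q hx0).mpr hQ
      exact max_eq_right (by omega)
    rw [h0, smul_zero, exp_zero]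
    have hy1 : Q.1 y ≤ 1 := by
      have h1 : Q.1 (y ^ 2) ≤ 1 := by
        rw [heq]
        exact val_aeval_le_one Q.1 (Place.val_k_le Q) hQ f
      rw [map_pow] at h1
      exact (pow_le_one_iff_of_nonneg zero_le (by norm_num)).mp h1
    exact (Q.1.map_add _ _).trans (max_le (val_aeval_le_one Q.1 (Place.val_k_le Q) hQ a)
      (by
        rw [map_mul]
        exact mul_le_one' (val_aeval_le_one Q.1 (Place.val_k_le Q) hQ b) hy1))
  · push Not at hQ
    obtain ⟨m, hm⟩ : ∃ m : ℤ, m = -(Q.ord x) := ⟨_, rfl⟩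
    have hmpos : 0 < m := by
      have := (Place.ord_neg_iff Q hx0).mpr hQ
      omega
    have hvx : Q.1 x = exp m := by rw [Place.val_eq_exp_neg_ord Q hx0, hm]
    rw [← hm, max_eq_left hmpos.le]
    refine (Q.1.map_add _ _).trans (max_le ?_ ?_)
    · by_cases ha0 : a = 0
      · rw [ha0, map_zero, map_zero]
        exact zero_le
      · rw [val_aeval_of_one_lt Q.1 (Place.val_k_le Q) hQ ha0, hvx, ← exp_nsmul, exp_le_exp]
        simp only [nsmul_eq_mul, smul_eq_mul]
        exact mul_le_mul_of_nonneg_right (by exact_mod_cast ha) hmpos.le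
    · rcases hb with hb | hb
      · rw [hb, map_zero, zero_mul, map_zero]
        exact zero_le
      · by_cases hb0 : b = 0
        · rw [hb0, map_zero, zero_mul, map_zero]
          exact zero_le
        by_contra hlt
        push Not at hlt
        have h1 : exp ((n : ℤ) • m) ^ 2 < Q.1 (aeval x b * y) ^ 2 :=
          pow_lt_pow_left₀ hlt zero_le (by norm_num)
        rw [← map_pow, mul_pow, heq, map_mul, map_pow, val_aeval_of_one_lt Q.1 (Place.val_k_le Q) hQ hb0,
          val_aeval_of_one_lt Q.1 (Place.val_k_le Q) hQ hf0, hvx, ← exp_nsmul, ← exp_nsmul, ← exp_nsmul, ← exp_nsmul,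
          ← exp_add, exp_lt_exp] at h1
        simp only [nsmul_eq_mul, smul_eq_mul] at h1
        have h2 : ((2 * b.natDegree + f.natDegree : ℕ) : ℤ) * m ≤ ((2 * n : ℕ) : ℤ) * m :=
          mul_le_mul_of_nonneg_right (by exact_mod_cast hb) hmpos.le
        push_cast at h1 h2
        nlinarith


/-- elements of `L(n (x)_∞)` are of the form `a(x) + b(x) y` with degree bounds -/
theorem bounds_of_mem_L (hK : IsFunctionField k K) (h2 : (2 : k) ≠ 0)
    (hdeg : Module.finrank (RatFunc k) K = 2) (y : K) (f : k[X]) (hf : Squarefree f)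
    (hd : 1 ≤ f.natDegree)
    (heq : y ^ 2 = algebraMap (RatFunc k) K (algebraMap k[X] (RatFunc k) f))
    (n : ℕ) (z : K)
    (hz : z ∈ L ((n : ℤ) • (poleDiv (algebraMap (RatFunc k) K RatFunc.X) : Divisor k K))) :
    ∃ a b : k[X], a.natDegree ≤ n ∧ (b = 0 ∨ 2 * b.natDegree + f.natDegree ≤ 2 * n) ∧
      z = algebraMap (RatFunc k) K (algebraMap k[X] (RatFunc k) a) +
        algebraMap (RatFunc k) K (algebraMap k[X] (RatFunc k) b) * y := by
  have hE : IsFunctionField k (RatFunc k) := isFunctionField_ratFunc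
  have hy := y_notMem y f hf hd heq
  have hf0 : f ≠ 0 := hf.ne_zero
  have hfE0 : algebraMap k[X] (RatFunc k) f ≠ 0 := algebraMap_poly_ne_zero hf0
  obtain ⟨x, hx⟩ : ∃ x : K, x = algebraMap (RatFunc k) K RatFunc.X := ⟨_, rfl⟩
  rw [← hx] at hz
  have hx0 : x ≠ 0 := by
    rw [hx]
    exact (map_ne_zero_iff _ (algebraMap (RatFunc k) K).injective).mpr RatFunc.X_ne_zero
  obtain ⟨a', b', hzab⟩ := decomp_quad hdeg y hy z
  -- finite places
  have hfinite : ∀ p : Place k (RatFunc k), p.1 RatFunc.X ≤ 1 →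
      p.1 a' ≤ 1 ∧ p.1 (b' ^ 2 * algebraMap k[X] (RatFunc k) f) ≤ 1 := by
    intro p hp
    apply reg_parts hE h2 hdeg y hy _ heq p a' b'
    rintro Q ⟨e, hQ⟩
    rw [← hzab]
    have h1 := hz Q
    rw [Finsupp.smul_apply, poleDiv_apply hK] at h1
    have hQx : Q.1 x ≤ 1 := by
      rw [hx]
      exact (ow_le_one_iff hQ _).mpr hp
    have h0 : max (-(Q.ord x)) 0 = 0 := by
      have := (Place.ord_nonneg_iff Q hx0).mpr hQx
      exact max_eq_right (by omega)
    rwa [h0, smul_zero, exp_zero] at h1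
  obtain ⟨a, ha⟩ := poly_of_regular a' (fun p hp => (hfinite p hp).1)
  obtain ⟨b, hb⟩ := poly_of_regular b' (fun p hp => by
    by_cases hb0 : b' = 0
    · rw [hb0, map_zero]
      exact zero_le
    have h1 := (hfinite p hp).2
    rw [← Place.ord_nonneg_iff p (mul_ne_zero (pow_ne_zero 2 hb0) hfE0),
      Place.ord_mul p (pow_ne_zero 2 hb0) hfE0, Place.ord_pow] at h1
    have h3 := ord_squarefree_le_one p hp f hf
    rw [← Place.ord_nonneg_iff p hb0]
    push_cast at h1
    omega)
  obtain ⟨Pinf, -, hXinf, -⟩ := exists_infty (k := k)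
  obtain ⟨u, hu⟩ : ∃ u : RatFunc k, u = (RatFunc.X)⁻¹ ^ n := ⟨_, rfl⟩
  have hu0 : u ≠ 0 := by
    rw [hu]
    exact pow_ne_zero _ (inv_ne_zero RatFunc.X_ne_zero)
  have hordu : Pinf.ord u = n := by
    rw [hu, Place.ord_pow, Place.ord_inv, ord_X_infty Pinf hXinf]
    ring
  have hinf : Pinf.1 (a' * u) ≤ 1 ∧
      Pinf.1 ((b' * u) ^ 2 * algebraMap k[X] (RatFunc k) f) ≤ 1 := by
    apply reg_parts hE h2 hdeg y hy _ heq Pinf (a' * u) (b' * u)
    rintro Q ⟨e, hQ⟩
    have h1 := hz Q
    rw [Finsupp.smul_apply, poleDiv_apply hK] at h1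
    have hQx : 1 < Q.1 x := by
      rw [hx]
      exact (ow_one_lt_iff hQ _).mpr hXinf
    obtain ⟨m, hm⟩ : ∃ m : ℤ, m = -(Q.ord x) := ⟨_, rfl⟩
    have hmpos : 0 < m := by
      have := (Place.ord_neg_iff Q hx0).mpr hQx
      omega
    rw [← hm, max_eq_left hmpos.le] at h1
    have h3 : algebraMap (RatFunc k) K (a' * u) + algebraMap (RatFunc k) K (b' * u) * y =
        z * algebraMap (RatFunc k) K u := by
      rw [hzab, map_mul, map_mul]
      ring
    have h4 : Q.1 (algebraMap (RatFunc k) K u) = exp (-((n : ℤ) • m)) := by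
      rw [hu, map_pow, map_inv₀, ← hx, map_pow, map_inv₀, Place.val_eq_exp_neg_ord Q hx0, ← hm,
        ← exp_neg, ← exp_nsmul]
      congr 1
      simp
    rw [h3, map_mul, h4]
    calc Q.1 z * exp (-((n : ℤ) • m)) ≤ exp ((n : ℤ) • m) * exp (-((n : ℤ) • m)) :=
          mul_le_mul' h1 le_rfl
      _ = 1 := by rw [← exp_add, add_neg_cancel, exp_zero]
  refine ⟨a, b, ?_, ?_, by rw [hzab, ha, hb]⟩
  · by_cases ha0 : a = 0
    · rw [ha0, natDegree_zero]
      exact Nat.zero_le _
    have ha0' : a' ≠ 0 := by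
      rw [ha]
      exact algebraMap_poly_ne_zero ha0
    have h1 := hinf.1
    rw [← Place.ord_nonneg_iff Pinf (mul_ne_zero ha0' hu0), Place.ord_mul Pinf ha0' hu0, hordu, ha,
      ord_poly_infty Pinf hXinf ha0] at h1
    omega
  · by_cases hb0 : b = 0
    · exact Or.inl hb0
    right
    have hb0' : b' ≠ 0 := by
      rw [hb]
      exact algebraMap_poly_ne_zero hb0
    have h1 := hinf.2
    have hbu0 : b' * u ≠ 0 := mul_ne_zero hb0' hu0
    rw [← Place.ord_nonneg_iff Pinf (mul_ne_zero (pow_ne_zero 2 hbu0) hfE0),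
      Place.ord_mul Pinf (pow_ne_zero 2 hbu0) hfE0, Place.ord_pow, Place.ord_mul Pinf hb0' hu0, hordu,
      hb, ord_poly_infty Pinf hXinf hb0, ord_poly_infty Pinf hXinf hf0] at h1
    push_cast at h1
    omega


/-- `a ↦ a(x)` as a `k`-linear map `k[X] → K` -/
noncomputable def T0 (k K : Type*) [Field k] [Field K] [Algebra k K] [Algebra (RatFunc k) K]
    [IsScalarTower k (RatFunc k) K] : k[X] →ₗ[k] K :=
  ((IsScalarTower.toAlgHom k (RatFunc k) K).comp (IsScalarTower.toAlgHom k k[X] (RatFunc k))).toLinearMap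

theorem T0_apply (a : k[X]) :
    T0 k K a = algebraMap (RatFunc k) K (algebraMap k[X] (RatFunc k) a) := rfl

/-- `(a, b) ↦ a(x) + b(x) y` -/
noncomputable def Φ (y : K) (n m : ℕ) : (degreeLT k n × degreeLT k m) →ₗ[k] K :=
  ((T0 k K).comp (degreeLT k n).subtype).coprod
    (((LinearMap.mulRight k y).comp (T0 k K)).comp (degreeLT k m).subtype)

theorem Φ_apply (y : K) (n m : ℕ) (ab : degreeLT k n × degreeLT k m) :
    Φ y n m ab = algebraMap (RatFunc k) K (algebraMap k[X] (RatFunc k) ab.1.1) +
      algebraMap (RatFunc k) K (algebraMap k[X] (RatFunc k) ab.2.1) * y := rfl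

theorem Φ_injective (y : K) (hy : y ∉ Set.range (algebraMap (RatFunc k) K)) (n m : ℕ) :
    Function.Injective (Φ (k := k) y n m) := by
  rw [← LinearMap.ker_eq_bot, LinearMap.ker_eq_bot']
  rintro ⟨a, b⟩ hab
  rw [Φ_apply] at hab
  have h0 : algebraMap (RatFunc k) K (algebraMap k[X] (RatFunc k) a.1) +
      algebraMap (RatFunc k) K (algebraMap k[X] (RatFunc k) b.1) * y =
      algebraMap (RatFunc k) K 0 + algebraMap (RatFunc k) K 0 * y := by
    rw [hab, map_zero, zero_mul, add_zero]
  obtain ⟨h1, h2⟩ := decomp_unique y hy h0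
  have ha : a.1 = 0 := (map_eq_zero_iff _ (IsFractionRing.injective k[X] (RatFunc k))).mp h1
  have hb : b.1 = 0 := (map_eq_zero_iff _ (IsFractionRing.injective k[X] (RatFunc k))).mp h2
  exact Prod.ext (Subtype.ext ha) (Subtype.ext hb)

theorem finrank_degreeLT (m : ℕ) : Module.finrank k (degreeLT k m) = m := by
  rw [LinearEquiv.finrank_eq (degreeLTEquiv k m), Module.finrank_fin_fun]

theorem ell_eq (hK : IsFunctionField k K) (h2 : (2 : k) ≠ 0)
    (hdeg : Module.finrank (RatFunc k) K = 2) (y : K) (f : k[X]) (hf : Squarefree f)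
    (hd : 1 ≤ f.natDegree)
    (heq : y ^ 2 = algebraMap (RatFunc k) K (algebraMap k[X] (RatFunc k) f))
    (n : ℕ) (hn : (f.natDegree + 1) / 2 ≤ n + 1) :
    ell ((n : ℤ) • (poleDiv (algebraMap (RatFunc k) K RatFunc.X) : Divisor k K)) =
      (n + 1) + (n + 1 - (f.natDegree + 1) / 2) := by
  have hy := y_notMem y f hf hd heq
  have hrange : LinearMap.range (Φ (k := k) y (n + 1) (n + 1 - (f.natDegree + 1) / 2)) =
      L ((n : ℤ) • (poleDiv (algebraMap (RatFunc k) K RatFunc.X) : Divisor k K)) := by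
    apply le_antisymm
    · rintro _ ⟨⟨a, b⟩, rfl⟩
      rw [Φ_apply]
      apply mem_L_of_bounds hK y f hf.ne_zero heq n a.1 b.1
      · have h1 := mem_degreeLT.mp a.2
        by_cases ha0 : a.1 = 0
        · rw [ha0, natDegree_zero]
          exact Nat.zero_le _
        rw [degree_eq_natDegree ha0] at h1
        have : a.1.natDegree < n + 1 := by exact_mod_cast h1
        omega
      · by_cases hb0 : b.1 = 0
        · exact Or.inl hb0
        right
        have h1 := mem_degreeLT.mp b.2
        rw [degree_eq_natDegree hb0] at h1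
        have : b.1.natDegree < n + 1 - (f.natDegree + 1) / 2 := by exact_mod_cast h1
        omega
    · intro z hz
      obtain ⟨a, b, ha, hb, hzab⟩ := bounds_of_mem_L hK h2 hdeg y f hf hd heq n z hz
      have ha' : a ∈ degreeLT k (n + 1) := by
        rw [mem_degreeLT]
        by_cases ha0 : a = 0
        · rw [ha0, degree_zero]
          exact WithBot.bot_lt_coe _
        rw [degree_eq_natDegree ha0]
        exact_mod_cast Nat.lt_succ_of_le ha
      have hb' : b ∈ degreeLT k (n + 1 - (f.natDegree + 1) / 2) := by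
        rw [mem_degreeLT]
        by_cases hb0 : b = 0
        · rw [hb0, degree_zero]
          exact WithBot.bot_lt_coe _
        rw [degree_eq_natDegree hb0]
        rcases hb with hb | hb
        · exact absurd hb hb0
        have : b.natDegree < n + 1 - (f.natDegree + 1) / 2 := by omega
        exact_mod_cast this
      exact ⟨(⟨a, ha'⟩, ⟨b, hb'⟩), by rw [Φ_apply, hzab]⟩
  unfold ell
  rw [← hrange, LinearMap.finrank_range_of_inj (Φ_injective y hy _ _), Module.finrank_prod,
    finrank_degreeLT, finrank_degreeLT]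

/-- the genus of a hyperelliptic function field in characteristic `≠ 2` -/
theorem genus_eq (hK : IsFunctionField k K) (h2 : (2 : k) ≠ 0)
    (hdeg : Module.finrank (RatFunc k) K = 2) (y : K) (f : k[X]) (hf : Squarefree f)
    (hd : 1 ≤ f.natDegree)
    (heq : y ^ 2 = algebraMap (RatFunc k) K (algebraMap k[X] (RatFunc k) f)) :
    genus k K = (f.natDegree - 1) / 2 := by
  obtain ⟨N, hN⟩ := eq_genus_of_deg_ge hK
  obtain ⟨n, hn⟩ : ∃ n : ℕ, n = N.toNat + f.natDegree := ⟨_, rfl⟩
  have hdegD : ((n : ℤ) • (poleDiv (algebraMap (RatFunc k) K RatFunc.X) : Divisor k K)).deg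
      = 2 * n := by
    rw [Divisor.deg_zsmul_natCast, deg_poleDiv hK transcendental_x, finrank_adjoin_x, hdeg]
    push_cast
    ring
  have h1 := hN _ (by rw [hdegD]; omega)
  rw [hdegD, ell_eq hK h2 hdeg y f hf hd heq n (by omega)] at h1
  have h3 : (genus k K : ℤ) = ((f.natDegree - 1) / 2 : ℕ) := by
    rw [← h1]
    push_cast
    omega
  exact_mod_cast h3

end Main

end Groth.Agent.Helper9.Hyper
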