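import Mathlib
import Groth.Prelude.Def_W4bk4goldsch23Ext
import Groth.Prelude.Def_LocRes
import Groth.Agent.Lib.Helper9.FFExt.Hyper
import Groth.Agent.Lib.Helper9.FFExt.AS2

/-! Differentials on hyperelliptic function fields in characteristic `≠ 2` (helper9). -/

universe u v w w'

namespace Groth.Agent.Helper9.HyperDiff

open FunFld WithZero Polynomial IntermediateField
open Groth.Agent.Lib.Helper4.FF Groth.Agent.Helper9.FFExt Groth.Agent.Helper9.Tate
open Groth.Agent.Helper9.AS2 Groth.Agent.Helper9.Hyper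

/-- a Laurent series with vanishing derivative has order divisible by the characteristic -/
theorem natCast_eq_zero_of_D_eq_zero {F : Type*} [Field F] (g : LaurentSeries F)
    (hD : LocRes.D F g = 0) (n : ℤ) (hg : Valued.v g = exp (-n)) : (n : F) = 0 := by
  have h1 := (val_eq_exp_iff g n).mp hg
  have h2 : (LocRes.D F g).coeff (n - 1) = 0 := by rw [hD]; rfl
  rw [LocRes.D_coeff, sub_add_cancel, zsmul_eq_mul] at h2
  rcases mul_eq_zero.mp h2 with h | h
  · exact h
  · exact absurd h h1.2

section Perf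

variable {k : Type u} {K : Type v} [Field k] [Field K] [Algebra k K]
  [Algebra (RatFunc k) K] [IsScalarTower k (RatFunc k) K]

/-- if every place of a double cover of the line (char `≠ 2`) has an expansion over `k`, then `k`
is perfect -/
theorem perfect_of_expansions
    (hdeg : Module.finrank (RatFunc k) K = 2) (h2 : ringChar k ≠ 2)
    (hexp : ∀ P : Place k K, ∃ (F : Type w) (_ : Field F) (_ : Algebra k F)
      (φ : K →ₐ[k] LaurentSeries F), LocRes.IsExpansionAt P.1 φ) : PerfectField k := by
  have hE : IsFunctionField k (RatFunc k) := isFunctionField_ratFunc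
  have hfin : FiniteDimensional (RatFunc k) K :=
    Module.finite_of_finrank_pos (by rw [hdeg]; norm_num)
  obtain ⟨p, hpdef⟩ : ∃ p : ℕ, p = ringChar k := ⟨_, rfl⟩
  have hcp : CharP k p := by rw [hpdef]; exact ringChar.charP k
  rcases CharP.char_is_prime_or_zero k p with hp | hp0
  · have hfp : Fact p.Prime := ⟨hp⟩
    have hexpc : ExpChar k p := ExpChar.prime hp
    have hsurj : Function.Surjective (frobenius k p) := by
      intro a
      by_contra hne
      push Not at hne
      have ha : ∀ b : k, b ^ p ≠ a := fun b => by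
        have := hne b
        rwa [frobenius_def] at this
      have hπ : Irreducible ((X : k[X]) ^ p - C a) := X_pow_sub_C_irreducible_of_prime hp ha
      obtain ⟨π, hπdef⟩ : ∃ π : k[X], π = X ^ p - C a := ⟨_, rfl⟩
      rw [← hπdef] at hπ
      have htr : Transcendental k (algebraMap k[X] (RatFunc k) π) := by
        intro halg
        obtain ⟨c, hc⟩ := hE.2 _ halg
        have : π = C c := by
          apply IsFractionRing.injective k[X] (RatFunc k)
          rw [← hc, RatFunc.algebraMap_C, RatFunc.algebraMap_eq_C]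
        rw [this] at hπ
        by_cases hc0 : c = 0
        · rw [hc0, map_zero] at hπ
          exact hπ.ne_zero rfl
        · exact hπ.not_isUnit (Polynomial.isUnit_C.mpr (Ne.isUnit hc0))
      obtain ⟨p₀, hp₀⟩ := exists_zero hE htr
      obtain ⟨Q, e, hQ⟩ := exists_over (K' := K) hE p₀
      have hepos : 0 < e := ow_pos hQ
      have he2 : e ≤ 2 := by
        have h1 := ramIdx_mul_deg_le hE (K' := K) ⟨e, hQ⟩
        rw [ramIdx_eq hQ, hdeg] at h1
        have h3 : p₀.deg ∣ Q.deg := deg_dvd_of_isOver ⟨e, hQ⟩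
        have h4 : 0 < Q.deg := deg_pos' hE Q
        have h5 : 0 < p₀.deg := Place.deg_pos hE p₀
        have h6 : p₀.deg ≤ Q.deg := Nat.le_of_dvd h4 h3
        by_contra hlt
        push Not at hlt
        have : 3 * p₀.deg ≤ e * Q.deg := Nat.mul_le_mul hlt h6
        omega
      have hord : p₀.ord (algebraMap k[X] (RatFunc k) π) = 1 := ord_irreducible p₀ hπ hp₀
      obtain ⟨F, _, _, φ, hφ⟩ := hexp Q
      have hcpF : CharP F p := charP_of_injective_algebraMap (algebraMap k F).injective p
      obtain ⟨g, hg⟩ : ∃ g : LaurentSeries F,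
          g = φ (algebraMap (RatFunc k) K (algebraMap k[X] (RatFunc k) π)) := ⟨_, rfl⟩
      have hπ0 : algebraMap (RatFunc k) K (algebraMap k[X] (RatFunc k) π) ≠ 0 :=
        (map_ne_zero_iff _ (algebraMap (RatFunc k) K).injective).mpr
          (algebraMap_poly_ne_zero hπ.ne_zero)
      have hvg : Valued.v g = exp (-(e : ℤ)) := by
        rw [hg, hφ.1, Place.val_eq_exp_neg_ord Q hπ0, ow_ord_eq hQ, hord, mul_one]
      have hDg : LocRes.D F g = 0 := by
        have h1 : g = φ (algebraMap (RatFunc k) K RatFunc.X) ^ p -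
            algebraMap F (LaurentSeries F) (algebraMap k F a) := by
          rw [hg, hπdef, map_sub, map_pow, RatFunc.algebraMap_X, RatFunc.algebraMap_C,
            ← RatFunc.algebraMap_eq_C, map_sub, map_pow, map_sub, map_pow,
            ← IsScalarTower.algebraMap_apply k (RatFunc k) K, LocRes.map_algebraMap,
            LocRes.algebraMap_eq_C]
        rw [h1, map_sub, Derivation.leibniz_pow, Derivation.map_algebraMap, sub_zero]
        have : (p : LaurentSeries F) = 0 := by
          have : CharP (LaurentSeries F) p :=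
            charP_of_injective_algebraMap (algebraMap F (LaurentSeries F)).injective p
          exact CharP.cast_eq_zero _ p
        rw [← Nat.cast_smul_eq_nsmul (LaurentSeries F), this, zero_smul]
      have h0 := natCast_eq_zero_of_D_eq_zero g hDg e hvg
      have h0' : ((e : ℕ) : F) = 0 := by exact_mod_cast h0
      have hdvd : p ∣ e := (CharP.cast_eq_zero_iff F p e).mp h0'
      have hple : p ≤ e := Nat.le_of_dvd hepos hdvd
      have hp2 : p ≠ 2 := by rw [hpdef]; exact h2
      have := hp.two_le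
      omega
    have := PerfectRing.ofSurjective k p hsurj
    exact PerfectRing.toPerfectField k p
  · have hc0 : CharP k 0 := by rw [← hp0]; exact hcp
    have : CharZero k := CharP.charP_to_charZero k
    exact PerfectField.ofCharZero

end Perf


section Sep

variable {E K : Type*} [Field E] [Field K] [Algebra E K]

/-- a quadratic extension in characteristic `≠ 2` is separable -/
theorem isSeparable_of_finrank_two (h2 : (2 : E) ≠ 0) (hdeg : Module.finrank E K = 2) :
    Algebra.IsSeparable E K := by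
  have hfin : FiniteDimensional E K := Module.finite_of_finrank_pos (by rw [hdeg]; norm_num)
  refine ⟨fun z => ?_⟩
  have hint : IsIntegral E z := Algebra.IsIntegral.isIntegral z
  change (minpoly E z).Separable
  rw [Polynomial.separable_iff_derivative_ne_zero (minpoly.irreducible hint)]
  have hle : (minpoly E z).natDegree ≤ 2 := by
    rw [← hdeg]
    exact minpoly.natDegree_le z
  have hpos : 0 < (minpoly E z).natDegree := minpoly.natDegree_pos hint
  intro h0
  have h1 : (derivative (minpoly E z)).coeff ((minpoly E z).natDegree - 1) = 0 := by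
    rw [h0, coeff_zero]
  rw [coeff_derivative, Nat.sub_add_cancel hpos, coeff_natDegree, (minpoly.monic hint).leadingCoeff,
    one_mul] at h1
  have h3 : (minpoly E z).natDegree = 1 ∨ (minpoly E z).natDegree = 2 := by omega
  rcases h3 with h3 | h3
  · rw [h3] at h1
    simp at h1
  · rw [h3] at h1
    apply h2
    have : ((2 - 1 : ℕ) : E) + 1 = 2 := by norm_num
    rw [← this]
    exact h1

end Sep

section Diff

variable {k : Type u} {K : Type v} [Field k] [Field K] [PerfectField k] [Algebra k K]
  [Algebra (RatFunc k) K] [IsScalarTower k (RatFunc k) K]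

omit [PerfectField k] in
theorem two_ne_zero_ratFunc (h2 : ringChar k ≠ 2) : (2 : RatFunc k) ≠ 0 := by
  have h : (2 : k) ≠ 0 := Ring.two_ne_zero h2
  intro h0
  apply h
  apply (algebraMap k (RatFunc k)).injective
  rw [map_ofNat, h0, map_zero]

/-- **the divisor of `dx` on a double cover of the line, characteristic `≠ 2`** -/
theorem hyp_ordDiff (h2 : ringChar k ≠ 2) (hK : IsFunctionField k K)
    (hdeg : Module.finrank (RatFunc k) K = 2)
    (Q : Place k K) (p : Place k (RatFunc k)) (e : ℕ) (he : IsOverWith Q p e)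
    {F' : Type w'} [Field F'] [Algebra k F'] (ψ : K →ₐ[k] LaurentSeries F')
    (hψ : LocRes.IsExpansionAt Q.1 ψ) :
    0 < e ∧ e ≤ 2 ∧
    LocRes.ordDiff ψ 1 (algebraMap (RatFunc k) K RatFunc.X) =
      ((e : ℤ) - 1) + (e : ℤ) * (if 1 < p.1 RatFunc.X then -2 else 0) := by
  classical
  have hfin : FiniteDimensional (RatFunc k) K :=
    Module.finite_of_finrank_pos (by rw [hdeg]; norm_num)
  have hE : IsFunctionField k (RatFunc k) := isFunctionField_ratFunc
  have hgE : IsGeometric k (RatFunc k) := isGeometric_ratFunc k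
  have hgK : IsGeometric k K := isGeometric_of_perfect k K hK.2
  have h2E := two_ne_zero_ratFunc h2
  have hsep : Algebra.IsSeparable (RatFunc k) K := isSeparable_of_finrank_two h2E hdeg
  obtain ⟨F, _, _, _, φ, hφ⟩ := exists_expansion_of_perfect k (RatFunc k) hE p
  have hx : LocRes.vDiff φ 1 (RatFunc.X : RatFunc k) ≠ 0 :=
    vDiff_ne_zero_gen (isFFw_of_isFunctionField hE) hgE hφ one_ne_zero D_X_ne_zero
  have hx' : LocRes.vDiff ψ 1 (algebraMap (RatFunc k) K RatFunc.X) ≠ 0 :=
    vDiff_ne_zero_gen (isFFw_of_isFunctionField hK) hgK hψ one_ne_zero D_algebraMap_X_ne_zero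
  have hdE : LocRes.diffExp φ ψ e (RatFunc.X : RatFunc k) =
      LocRes.ordDiff ψ 1 (algebraMap (RatFunc k) K RatFunc.X) -
        e * LocRes.ordDiff φ 1 (RatFunc.X : RatFunc k) := rfl
  have hoE : LocRes.ordDiff φ 1 (RatFunc.X : RatFunc k) =
      if 1 < p.1 RatFunc.X then -2 else 0 := by
    split_ifs with h
    · exact ordDiff_X_infty p h φ hφ
    · exact ordDiff_X_finite p (not_lt.mp h) φ hφ
  have hepos : 0 < e := ow_pos he
  have he2 : e ≤ 2 := by
    have h1 := ramIdx_mul_deg_le hE (K' := K) ⟨e, he⟩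
    rw [ramIdx_eq he, hdeg] at h1
    have h3 : p.deg ∣ Q.deg := deg_dvd_of_isOver ⟨e, he⟩
    have h4 : 0 < Q.deg := deg_pos' hE Q
    have h5 : 0 < p.deg := Place.deg_pos hE p
    have h6 : p.deg ≤ Q.deg := Nat.le_of_dvd h4 h3
    by_contra hlt
    push Not at hlt
    have : 3 * p.deg ≤ e * Q.deg := Nat.mul_le_mul hlt h6
    omega
  refine ⟨hepos, he2, ?_⟩
  have hrc : ringChar (RatFunc k) = ringChar k := (Algebra.ringChar_eq k (RatFunc k)).symm
  have hnd : ¬ (ringChar (RatFunc k) ∣ e) := by
    rw [hrc]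
    intro hd
    have hle := Nat.le_of_dvd hepos hd
    have h1 : ringChar k ≠ 1 := by
      intro h
      have := ringChar.spec k 1
      rw [h] at this
      simp at this
    have h0 : ringChar k ≠ 0 := by
      intro h
      rw [h, zero_dvd_iff] at hd
      omega
    omega
  have h3 := (diffExp_tame k (RatFunc k) K hE hgE F F' p Q e he φ hφ ψ hψ RatFunc.X hx hx').1 hnd
  rw [hdE] at h3
  rw [← hoE]
  linarith


/-- the forms `x^i dx / y`, `i < g`, are regular -/
theorem regular_monomial (h2 : ringChar k ≠ 2) (hK : IsFunctionField k K)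
    (hdeg : Module.finrank (RatFunc k) K = 2) (y : K) (f : k[X]) (hf : Squarefree f)
    (hd : 1 ≤ f.natDegree)
    (heq : y ^ 2 = algebraMap (RatFunc k) K (algebraMap k[X] (RatFunc k) f))
    {F' : Type w'} [Field F'] [Algebra k F'] (Q : Place k K) (ψ : K →ₐ[k] LaurentSeries F')
    (hψ : LocRes.IsExpansionAt Q.1 ψ) (i : ℕ) (hi : i < genus k K) :
    LocRes.vDiff ψ (algebraMap (RatFunc k) K RatFunc.X ^ i / y)
      (algebraMap (RatFunc k) K RatFunc.X) ≤ 1 := by
  classical
  have hfin : FiniteDimensional (RatFunc k) K :=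
    Module.finite_of_finrank_pos (by rw [hdeg]; norm_num)
  have hgK : IsGeometric k K := isGeometric_of_perfect k K hK.2
  have h2E := two_ne_zero_ratFunc h2
  have hsep : Algebra.IsSeparable (RatFunc k) K := isSeparable_of_finrank_two h2E hdeg
  have hgen := genus_eq hK (Ring.two_ne_zero h2) hdeg y f hf hd heq
  obtain ⟨p, e, he⟩ := exists_below' (K := RatFunc k) Q
  obtain ⟨hepos, he2, hoD⟩ := hyp_ordDiff h2 hK hdeg Q p e he ψ hψ
  have hx' : LocRes.vDiff ψ 1 (algebraMap (RatFunc k) K RatFunc.X) ≠ 0 :=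
    vDiff_ne_zero_gen (isFFw_of_isFunctionField hK) hgK hψ one_ne_zero D_algebraMap_X_ne_zero
  have hX0 : (RatFunc.X : RatFunc k) ≠ 0 := RatFunc.X_ne_zero
  have hx0 : algebraMap (RatFunc k) K RatFunc.X ≠ 0 :=
    (map_ne_zero_iff _ (algebraMap (RatFunc k) K).injective).mpr hX0
  have hf0 : f ≠ 0 := hf.ne_zero
  have hfE0 : algebraMap k[X] (RatFunc k) f ≠ 0 := algebraMap_poly_ne_zero hf0
  have hy0 : y ≠ 0 := by
    rintro rfl
    rw [zero_pow (by norm_num)] at heq
    exact (map_ne_zero_iff _ (algebraMap (RatFunc k) K).injective).mpr hfE0 heq.symm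
  have hu0 : algebraMap (RatFunc k) K RatFunc.X ^ i / y ≠ 0 :=
    div_ne_zero (pow_ne_zero _ hx0) hy0
  have hoy : 2 * Q.ord y = e * p.ord (algebraMap k[X] (RatFunc k) f) := by
    rw [← ow_ord_eq he, ← heq, Place.ord_pow]
    push_cast
    ring
  rw [vDiff_le_one_iff Q hψ hu0 hx', hoD, div_eq_mul_inv,
    Place.ord_mul Q (pow_ne_zero _ hx0) (inv_ne_zero hy0), Place.ord_inv, Place.ord_pow,
    ow_ord_eq he]
  obtain ⟨oy, hoydef⟩ : ∃ oy : ℤ, oy = Q.ord y := ⟨_, rfl⟩
  rw [← hoydef] at hoy ⊢
  have hi' : 2 * i + 3 ≤ f.natDegree := by omega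
  by_cases hX : 1 < p.1 RatFunc.X
  · rw [if_pos hX, ord_X_infty p hX]
    rw [ord_poly_infty p hX hf0] at hoy
    have : e = 1 ∨ e = 2 := by omega
    rcases this with rfl | rfl
    · push_cast at hoy ⊢
      omega
    · push_cast at hoy ⊢
      omega
  · rw [if_neg hX]
    push Not at hX
    have hA0 : 0 ≤ (i : ℤ) * ((e : ℤ) * p.ord (RatFunc.X : RatFunc k)) :=
      mul_nonneg (Int.natCast_nonneg i)
        (mul_nonneg (Int.natCast_nonneg e) ((Place.ord_nonneg_iff p hX0).mpr hX))
    obtain ⟨A, hA⟩ : ∃ A : ℤ, A = (i : ℤ) * ((e : ℤ) * p.ord (RatFunc.X : RatFunc k)) := ⟨_, rfl⟩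
    rw [← hA] at hA0 ⊢
    have h1 : p.ord (algebraMap k[X] (RatFunc k) f) ≤ 1 := ord_squarefree_le_one p hX f hf
    have h0 : 0 ≤ p.ord (algebraMap k[X] (RatFunc k) f) :=
      (Place.ord_nonneg_iff p hfE0).mpr (val_poly_le_one p hX f)
    obtain ⟨of, hofdef⟩ : ∃ of : ℤ, of = p.ord (algebraMap k[X] (RatFunc k) f) := ⟨_, rfl⟩
    rw [← hofdef] at hoy h0 h1
    have : e = 1 ∨ e = 2 := by omega
    have hof : of = 0 ∨ of = 1 := by omega
    rcases this with rfl | rfl <;> rcases hof with rfl | rfl <;> push_cast at hoy ⊢ <;> omega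

/-- `a ↦ a(x)/y` as a `k`-linear map into `K` -/
noncomputable def Ty (y : K) : k[X] →ₗ[k] K :=
  (LinearMap.mulRight k y⁻¹).comp (T0 k K)

omit [PerfectField k] in
theorem Ty_apply (y : K) (a : k[X]) :
    Ty y a = algebraMap (RatFunc k) K (algebraMap k[X] (RatFunc k) a) / y := by
  rw [div_eq_mul_inv]
  rfl

omit [PerfectField k] in
theorem Ty_injective (y : K) (hy0 : y ≠ 0) : Function.Injective (Ty (k := k) y) := by
  rw [← LinearMap.ker_eq_bot, LinearMap.ker_eq_bot']
  intro a ha
  rw [Ty_apply, div_eq_zero_iff] at ha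
  rcases ha with ha | ha
  · rw [map_eq_zero_iff _ (algebraMap (RatFunc k) K).injective] at ha
    exact (map_eq_zero_iff _ (IsFractionRing.injective k[X] (RatFunc k))).mp ha
  · exact absurd ha hy0

end Diff

end Groth.Agent.Helper9.HyperDiff
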