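import Mathlib
import Groth.Agent.Lib.Helper4.FF.RelDim
import Groth.Agent.Lib.Helper4.FF.Approx
import Groth.Agent.Lib.Helper4.FF.LLS
import Groth.Agent.Lib.Helper4.FF.ProjMap2

namespace Groth.Agent.Helper9.IntA

open FunFld WithZero Groth.Agent.Lib.Helper4.FF

section RelDim

variable {k V : Type*} [Field k] [AddCommGroup V] [Module k V]

theorem IsRelDim.unique {A C : Submodule k V} {d d' : ℕ} (h : IsRelDim A C d)
    (h' : IsRelDim A C d') : d = d' := by
  rw [← h.quotient.2, ← h'.quotient.2]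

theorem IsRelDim.of_le_le {A B C : Submodule k V} {n : ℕ} (h : IsRelDim A C n)
    (hAB : A ≤ B) (hBC : B ≤ C) :
    ∃ a b : ℕ, a + b = n ∧ IsRelDim A B a ∧ IsRelDim B C b := by
  obtain ⟨W, hWfin, hWdim, hi, hs⟩ := h
  set W₁ := W ⊓ B with hW₁
  have hW₁W : W₁ ≤ W := inf_le_left
  obtain ⟨W₂, hi₂, hs₂⟩ := exists_compl_in hW₁W
  have hW₂W : W₂ ≤ W := hs₂ ▸ le_sup_right
  have hW₁fin : Module.Finite k W₁ := Submodule.finiteDimensional_of_le hW₁W
  have hW₂fin : Module.Finite k W₂ := Submodule.finiteDimensional_of_le hW₂W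
  have hdim : Module.finrank k W₁ + Module.finrank k W₂ = n := by
    have := Submodule.finrank_sup_add_finrank_inf_eq W₁ W₂
    rw [hi₂, hs₂, finrank_bot, add_zero, hWdim] at this
    exact this.symm
  have hAW₁ : A ⊓ W₁ = ⊥ := by
    rw [eq_bot_iff, ← hi]
    exact inf_le_inf_left _ hW₁W
  have hAW₁s : A ⊔ W₁ = B := by
    rw [hW₁, ← sup_inf_assoc_of_le _ hAB, hs]
    exact inf_eq_right.mpr hBC
  refine ⟨Module.finrank k W₁, Module.finrank k W₂, hdim, ⟨W₁, hW₁fin, rfl, hAW₁, hAW₁s⟩,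
    ⟨W₂, hW₂fin, rfl, ?_, ?_⟩⟩
  · rw [eq_bot_iff, ← hi₂]
    intro v hv
    exact ⟨⟨hW₂W hv.2, hv.1⟩, hv.2⟩
  · rw [← hAW₁s, sup_assoc, hs₂, hs]

theorem IsRelDim.map {V' : Type*} [AddCommGroup V'] [Module k V'] (e : V →ₗ[k] V')
    (he : Function.Injective e) {A C : Submodule k V} {d : ℕ} (h : IsRelDim A C d) :
    IsRelDim (A.map e) (C.map e) d := by
  obtain ⟨W, hWfin, hWdim, hi, hs⟩ := h
  refine ⟨W.map e, inferInstance, ?_, ?_, ?_⟩
  · rw [← hWdim]
    exact (Submodule.equivMapOfInjective e he W).finrank_eq.symm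
  · rw [← Submodule.map_inf e he, hi, Submodule.map_bot]
  · rw [← Submodule.map_sup, hs]

end RelDim

section Lam

variable {k K : Type*} [Field k] [Field K] [Algebra k K]

/-- the lattice of functions with prescribed orders at finitely many places -/
def Lam (S : Finset (Place k K)) (n : Place k K → ℤ) : Submodule k K where
  carrier := {z | ∀ Q ∈ S, Q.1 z ≤ exp (-(n Q))}
  add_mem' := by
    intro a b ha hb Q hQ
    exact (Q.1.map_add _ _).trans (max_le (ha Q hQ) (hb Q hQ))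
  zero_mem' := by
    intro Q _
    rw [map_zero]; exact zero_le
  smul_mem' := by
    intro c z hz Q hQ
    rw [Algebra.smul_def, map_mul]
    calc Q.1 (algebraMap k K c) * Q.1 z ≤ 1 * exp (-(n Q)) :=
          mul_le_mul' (Place.val_k_le Q c) (hz Q hQ)
      _ = _ := one_mul _

lemma mem_Lam {S : Finset (Place k K)} {n : Place k K → ℤ} {z : K} :
    z ∈ Lam S n ↔ ∀ Q ∈ S, Q.1 z ≤ exp (-(n Q)) := Iff.rfl

lemma Lam_congr {S : Finset (Place k K)} {n n' : Place k K → ℤ} (h : ∀ Q ∈ S, n Q = n' Q) :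
    Lam S n = Lam S n' := by
  ext z
  simp only [mem_Lam]
  exact forall₂_congr fun Q hQ => by rw [h Q hQ]

lemma Lam_anti {S : Finset (Place k K)} {n n' : Place k K → ℤ} (h : ∀ Q ∈ S, n Q ≤ n' Q) :
    Lam S n' ≤ Lam S n := by
  intro z hz Q hQ
  exact (hz Q hQ).trans (exp_le_exp.mpr (neg_le_neg (h Q hQ)))

theorem isRelDim_step [IsAlgClosed k] (hK : IsFunctionField k K) (S : Finset (Place k K))
    (n n' : Place k K → ℤ) (Q₀ : Place k K) (hQ₀ : Q₀ ∈ S) (h0 : n' Q₀ = n Q₀ + 1)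
    (h1 : ∀ Q ∈ S, Q ≠ Q₀ → n' Q = n Q) : IsRelDim (Lam S n') (Lam S n) 1 := by
  classical
  obtain ⟨t, ht⟩ := weak_approximation S (fun _ => (0 : K)) n
  simp only [sub_zero] at ht
  have ht0 : t ≠ 0 := by
    rw [← Valuation.ne_zero_iff Q₀.1, ht Q₀ hQ₀]; exact exp_ne_zero
  have hle : ∀ Q ∈ S, n Q ≤ n' Q := by
    intro Q hQ
    by_cases hQQ : Q = Q₀
    · subst hQQ; rw [h0]; exact (lt_add_one _).le
    · rw [h1 Q hQ hQQ]
  refine ⟨Submodule.span k {t}, inferInstance, finrank_span_singleton ht0, ?_, ?_⟩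
  · rw [eq_bot_iff]
    intro z hz
    obtain ⟨hz1, hz2⟩ := Submodule.mem_inf.mp hz
    obtain ⟨c, rfl⟩ := Submodule.mem_span_singleton.mp hz2
    by_cases hc : c = 0
    · subst hc; simp
    · exfalso
      have := hz1 Q₀ hQ₀
      rw [Algebra.smul_def, map_mul, Place.val_k Q₀ hc, one_mul, ht Q₀ hQ₀, exp_le_exp, h0] at this
      linarith
  · apply le_antisymm
    · apply sup_le (Lam_anti hle)
      rw [Submodule.span_singleton_le_iff_mem]
      intro Q hQ
      exact (ht Q hQ).le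
    · intro z hz
      have hzt : Q₀.1 (z / t) ≤ 1 := by
        rw [map_div₀, div_le_one₀ (zero_lt_iff.mpr ((Valuation.ne_zero_iff _).mpr ht0))]
        rw [ht Q₀ hQ₀]; exact hz Q₀ hQ₀
      obtain ⟨c, hc⟩ := Place.exists_const_sub_lt Q₀ (Place.deg_eq_one hK Q₀) hzt
      have hzc : z - c • t ∈ Lam S n' := by
        intro Q hQ
        by_cases hQQ : Q = Q₀
        · subst hQQ
          have e : z - c • t = (z / t - algebraMap k K c) * t := by
            rw [Algebra.smul_def]; field_simp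
          rw [e, map_mul, ht Q hQ₀, h0, neg_add, ← sub_eq_add_neg]
          rw [← lt_exp_iff_le_exp_sub_one]
          calc Q.1 (z / t - algebraMap k K c) * exp (-(n Q)) < 1 * exp (-(n Q)) := by
                exact mul_lt_mul_of_pos_right hc (zero_lt_iff.mpr exp_ne_zero)
            _ = _ := one_mul _
        · rw [h1 Q hQ hQQ]
          exact (Lam S n).sub_mem hz ((Lam S n).smul_mem c (fun Q hQ => (ht Q hQ).le)) Q hQ
      have : z = (z - c • t) + c • t := by abel
      rw [this]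
      exact Submodule.add_mem_sup hzc (Submodule.smul_mem _ c (Submodule.mem_span_singleton_self t))

theorem isRelDim_Lam [IsAlgClosed k] (hK : IsFunctionField k K) (S : Finset (Place k K))
    (n : Place k K → ℤ) : ∀ (N : ℕ) (n' : Place k K → ℤ), (∀ Q ∈ S, n Q ≤ n' Q) →
      ∑ Q ∈ S, (n' Q - n Q) = N → IsRelDim (Lam S n') (Lam S n) N := by
  classical
  intro N
  induction N with
  | zero =>
    intro n' hle hsum
    have : ∀ Q ∈ S, n' Q = n Q := by
      intro Q hQ
      have h0 := (Finset.sum_eq_zero_iff_of_nonneg (fun Q hQ => sub_nonneg.mpr (hle Q hQ))).mp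
        (by exact_mod_cast hsum) Q hQ
      linarith
    rw [Lam_congr this]
    exact IsRelDim.refl _
  | succ N ih =>
    intro n' hle hsum
    have : ∃ Q₀ ∈ S, n Q₀ < n' Q₀ := by
      by_contra hcon
      push Not at hcon
      have : ∑ Q ∈ S, (n' Q - n Q) = 0 :=
        Finset.sum_eq_zero fun Q hQ => by have := hcon Q hQ; have := hle Q hQ; omega
      rw [this] at hsum
      have : (0 : ℤ) < ((N + 1 : ℕ) : ℤ) := by positivity
      omega
    obtain ⟨Q₀, hQ₀, hlt⟩ := this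
    set n'' : Place k K → ℤ := Function.update n' Q₀ (n' Q₀ - 1) with hn''
    have hn''0 : n'' Q₀ = n' Q₀ - 1 := Function.update_self _ _ _
    have hn''1 : ∀ Q, Q ≠ Q₀ → n'' Q = n' Q := fun Q hQ => Function.update_of_ne hQ _ _
    have hle'' : ∀ Q ∈ S, n Q ≤ n'' Q := by
      intro Q hQ
      by_cases hQQ : Q = Q₀
      · subst hQQ; rw [hn''0]; omega
      · rw [hn''1 Q hQQ]; exact hle Q hQ
    have hsum'' : ∑ Q ∈ S, (n'' Q - n Q) = N := by
      have e1 : ∑ Q ∈ S, (n' Q - n Q) = ∑ Q ∈ S, (n'' Q - n Q) + 1 := by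
        rw [← Finset.add_sum_erase S _ hQ₀, ← Finset.add_sum_erase S (fun Q => n'' Q - n Q) hQ₀]
        have : ∑ Q ∈ S.erase Q₀, (n'' Q - n Q) = ∑ Q ∈ S.erase Q₀, (n' Q - n Q) :=
          Finset.sum_congr rfl fun Q hQ => by rw [hn''1 Q (Finset.ne_of_mem_erase hQ)]
        rw [this, hn''0]; ring
      rw [e1] at hsum
      push_cast at hsum
      linarith
    have h2 := ih n'' hle'' hsum''
    have h3 : IsRelDim (Lam S n') (Lam S n'') 1 :=
      isRelDim_step hK S n'' n' Q₀ hQ₀ (by rw [hn''0]; ring)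
        (fun Q _ hQQ => (hn''1 Q hQQ).symm)
    have := h3.trans h2
    rwa [add_comm] at this

/-- multiplication by a nonzero element shifts the lattice -/
theorem map_mulLeft_Lam (S : Finset (Place k K)) (n : Place k K → ℤ) {γ : K} (hγ : γ ≠ 0) :
    (Lam S n).map (LinearMap.mulLeft k γ) = Lam S (fun Q => n Q + Q.ord γ) := by
  ext z
  simp only [Submodule.mem_map, mem_Lam, LinearMap.mulLeft_apply]
  constructor
  · rintro ⟨w, hw, rfl⟩ Q hQ
    rw [map_mul, Place.val_eq_exp_neg_ord Q hγ, neg_add, add_comm, exp_add]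
    exact mul_le_mul' le_rfl (hw Q hQ)
  · intro hz
    refine ⟨γ⁻¹ * z, fun Q hQ => ?_, by field_simp⟩
    have := hz Q hQ
    rw [neg_add, add_comm, exp_add, ← Place.val_eq_exp_neg_ord Q hγ] at this
    rw [map_mul, map_inv₀]
    have hγpos : 0 < Q.1 γ := zero_lt_iff.mpr ((Valuation.ne_zero_iff _).mpr hγ)
    rw [inv_mul_le_iff₀ hγpos]
    exact this

end Lam

end Groth.Agent.Helper9.IntA
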