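import Mathlib
import Groth.Agent.Lib.Helper4.FF.Plane4

/-! generic coordinates avoiding the kernel of a linear map (adapted from helper4's Plane1) -/

namespace Groth.Agent.Helper9.PlaneGen

open FunFld WithZero Polynomial Groth.Agent.Lib.Helper4.FF

variable {k K : Type*} [Field k] [Field K] [Algebra k K]

/-- a generic element of `W ⊆ L(D)` has exact order `-D(Q)` at finitely many places where some
element of `W` has -/
lemma exists_exact_of_le' [Infinite k] (W : Submodule k K) (D : Divisor k K) (hWD : W ≤ L D)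
    (T : Finset (Place k K))
    (hT : ∀ Q ∈ T, ∃ v ∈ W, v ∉ L (D - Finsupp.single Q 1))
    {M : Type*} [AddCommGroup M] [Module k M] (ℓ : K →ₗ[k] M) (hℓ : ∃ w ∈ W, ℓ w ≠ 0) :
    ∃ t ∈ W, (∀ Q ∈ T, Q.1 t = exp (D Q)) ∧ ℓ t ≠ 0 := by
  classical
  let Wf : Place k K → Submodule k W := fun Q => (L (D - Finsupp.single Q 1)).comap W.subtype
  have hW : ∀ Q ∈ T, Wf Q ≠ ⊤ := by
    intro Q hQ h
    obtain ⟨x, hx, hx'⟩ := hT Q hQ
    have : (⟨x, hx⟩ : W) ∈ Wf Q := h ▸ Submodule.mem_top
    exact hx' this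
  let V₀ : Submodule k W := LinearMap.ker (ℓ.comp W.subtype)
  have hV₀ : V₀ ≠ ⊤ := by
    intro h
    obtain ⟨w, hw, hw'⟩ := hℓ
    have : (⟨w, hw⟩ : W) ∈ V₀ := h ▸ Submodule.mem_top
    exact hw' this
  let s : Finset (Submodule k W) := insert V₀ (T.image Wf)
  have hs : (⊤ : Submodule k W) ∉ s := by
    intro h
    rcases Finset.mem_insert.mp h with h | h
    · exact hV₀ h.symm
    · obtain ⟨Q, hQ, hQW⟩ := Finset.mem_image.mp h
      exact hW Q hQ hQW
  have hne := Subspace.biUnion_ne_univ_of_top_notMem hs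
  obtain ⟨f, hf⟩ := (Set.ne_univ_iff_exists_notMem _).mp hne
  simp only [Set.mem_iUnion, not_exists] at hf
  refine ⟨f.1, f.2, fun Q hQ => ?_, ?_⟩
  · have hfQ : f ∉ Wf Q := fun h =>
      hf (Wf Q) (Finset.mem_insert_of_mem (Finset.mem_image_of_mem _ hQ)) h
    exact val_eq_of_mem_of_notMem (hWD f.2) hfQ
  · intro h0
    exact hf V₀ (Finset.mem_insert_self _ _) h0

/-- generic coordinates for a plane model `(1 : x : y)` -/
theorem exists_generic_coords' [IsAlgClosed k] (hK : IsFunctionField k K) (x y : K)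
    (hxy : IntermediateField.adjoin k ({x, y} : Set K) = ⊤)
    {M : Type*} [AddCommGroup M] [Module k M] (ℓ : K →ₗ[k] M)
    (hℓ : ∃ w ∈ Submodule.span k (Set.range ![(1 : K), x, y]), ℓ w ≠ 0) :
    ∃ x' y' : K, ℓ x' ≠ 0 ∧ x' ∈ Submodule.span k (Set.range ![(1 : K), x, y]) ∧
      y' ∈ Submodule.span k (Set.range ![(1 : K), x, y]) ∧ Transcendental k x' ∧
      (poleDiv x' : Divisor k K) = mapDiv k ![(1 : K), x, y] ∧
      y' ∈ L (poleDiv x' : Divisor k K) ∧ IntermediateField.adjoin k ({x', y'} : Set K) = ⊤ ∧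
      Submodule.span k (Set.range ![(1 : K), x', y']) =
        Submodule.span k (Set.range ![(1 : K), x, y]) := by
  classical
  set φ : Fin 3 → K := ![(1 : K), x, y] with hφ
  set W := Submodule.span k (Set.range φ) with hW
  set D := mapDiv k φ with hD
  have h1 : ∃ i, φ i = 1 := ⟨0, rfl⟩
  have hφW : ∀ i, φ i ∈ W := fun i => Submodule.subset_span ⟨i, rfl⟩
  have hexp : ∀ (Q : Place k K) (j : Fin 3), (∀ i, Q.1 (φ i) ≤ Q.1 (φ j)) →
      exp (D Q) = Q.1 (φ j) := fun Q j h => exp_mapDiv_of_one hK φ h1 Q h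
  have hφL : ∀ i, φ i ∈ L D := by
    intro i Q
    obtain ⟨j, hj⟩ := exists_least φ Q
    rw [hexp Q j hj]
    exact hj i
  have hWD : W ≤ L D := by
    rw [hW, Submodule.span_le]
    rintro _ ⟨i, rfl⟩
    exact hφL i
  have hD0 : 0 ≤ D := by
    intro Q
    have := hφL 0 Q
    have h0 : φ 0 = 1 := rfl
    rw [h0, map_one, ← exp_zero, exp_le_exp] at this
    exact this
  have hT : ∀ Q ∈ D.support, ∃ v ∈ W, v ∉ L (D - Finsupp.single Q 1) := by
    intro Q _
    obtain ⟨j, hj⟩ := exists_least φ Q
    refine ⟨φ j, hφW j, ?_⟩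
    rw [mem_L_sub_single_iff (hφL j), hexp Q j hj]
    exact lt_irrefl _
  obtain ⟨x', hx'W, hx'T, hℓx'⟩ := exists_exact_of_le' W D hWD D.support hT ℓ hℓ
  have hx'L : x' ∈ L D := hWD hx'W
  have hDpos : ∀ Q : Place k K, D Q ≠ 0 → 0 < D Q := fun Q h => lt_of_le_of_ne (hD0 Q) (Ne.symm h)
  -- `x'` is not constant
  have hxt : Transcendental k x' := by
    -- one of `x`, `y` has a pole
    have hpole : ∃ (Q₀ : Place k K) (i : Fin 3), 1 < Q₀.1 (φ i) := by
      by_contra hcon
      push Not at hcon
      have hxk : x ∈ Set.range (algebraMap k K) :=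
        mem_range_of_forall_le_one hK (fun Q => hcon Q 1)
      have hyk : y ∈ Set.range (algebraMap k K) :=
        mem_range_of_forall_le_one hK (fun Q => hcon Q 2)
      have hbot : IntermediateField.adjoin k ({x, y} : Set K) ≤ ⊥ := by
        rw [IntermediateField.adjoin_le_iff]
        rintro z (rfl | rfl)
        · exact IntermediateField.mem_bot.mpr hxk
        · exact IntermediateField.mem_bot.mpr hyk
      rw [hxy] at hbot
      obtain ⟨⟨z, hzt, -⟩, -⟩ := hK
      have hz : z ∈ (⊥ : IntermediateField k K) := hbot trivial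
      obtain ⟨c, rfl⟩ := IntermediateField.mem_bot.mp hz
      exact hzt (isAlgebraic_algebraMap c)
    obtain ⟨Q₀, i, hi⟩ := hpole
    have hDQ₀ : 0 < D Q₀ := by
      have := hφL i Q₀
      have h2 := lt_of_lt_of_le hi this
      rwa [← exp_zero, exp_lt_exp] at h2
    have hQ₀ : Q₀ ∈ D.support := Finsupp.mem_support_iff.mpr hDQ₀.ne'
    apply transcendental_of_notMem hK
    rintro ⟨c, hc⟩
    have h3 := hx'T Q₀ hQ₀
    rw [← hc] at h3
    have h4 := Place.val_k_le Q₀ c
    rw [h3, ← exp_zero, exp_le_exp] at h4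
    omega
  have hx'0 : x' ≠ 0 := by
    rintro rfl
    exact hxt isAlgebraic_zero
  have hpd : (poleDiv x' : Divisor k K) = D := by
    ext Q
    rw [poleDiv_apply hK]
    by_cases hQ : D Q = 0
    · have := hx'L Q
      rw [hQ, exp_zero] at this
      have := (Place.ord_nonneg_iff Q hx'0).mpr this
      rw [hQ, max_eq_right]; omega
    · have hQs : Q ∈ D.support := Finsupp.mem_support_iff.mpr hQ
      have := hx'T Q hQs
      rw [Place.val_eq_exp_neg_ord Q hx'0, exp_inj] at this
      rw [this, max_eq_left (hDpos Q hQ).le]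
  -- coordinates of `x'`
  obtain ⟨c, hc⟩ := (Submodule.mem_span_range_iff_exists_fun k).mp hx'W
  rw [Fin.sum_univ_three] at hc
  have hφ0 : φ 0 = 1 := rfl
  have hφ1 : φ 1 = x := rfl
  have hφ2 : φ 2 = y := rfl
  rw [hφ0, hφ1, hφ2] at hc
  by_cases hc2 : c 2 = 0
  · -- `x' = c₀ + c₁ x`
    rw [hc2, zero_smul, add_zero] at hc
    have hc1 : c 1 ≠ 0 := by
      intro h0
      rw [h0, zero_smul, add_zero] at hc
      apply hxt
      rw [← hc, Algebra.smul_def, mul_one]
      exact isAlgebraic_algebraMap _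
    have hx : x = (c 1)⁻¹ • (x' - c 0 • (1 : K)) := by
      rw [← hc, add_sub_cancel_left, smul_smul, inv_mul_cancel₀ hc1, one_smul]
    refine ⟨x', y, hℓx', hx'W, hφW 2, hxt, hpd, ?_, ?_, ?_⟩
    · rw [hpd]; exact hφL 2
    · rw [eq_top_iff, ← hxy, IntermediateField.adjoin_le_iff]
      rintro z (rfl | rfl)
      · rw [hx]
        have hx'm : x' ∈ IntermediateField.adjoin k ({x', y} : Set K) :=
          IntermediateField.subset_adjoin k _ (by simp)
        exact (IntermediateField.adjoin k ({x', y} : Set K)).smul_mem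
          (sub_mem hx'm ((IntermediateField.adjoin k ({x', y} : Set K)).smul_mem (one_mem _)))
      · exact IntermediateField.subset_adjoin k _ (by simp)
    · apply le_antisymm
      · rw [Submodule.span_le]
        rintro _ ⟨i, rfl⟩
        fin_cases i
        · exact hφW 0
        · exact hx'W
        · exact hφW 2
      · rw [hW, Submodule.span_le]
        rintro _ ⟨i, rfl⟩
        have h1m : (1 : K) ∈ Submodule.span k (Set.range ![(1 : K), x', y]) :=
          Submodule.subset_span ⟨0, rfl⟩
        have hx'm : x' ∈ Submodule.span k (Set.range ![(1 : K), x', y]) :=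
          Submodule.subset_span ⟨1, rfl⟩
        fin_cases i
        · exact h1m
        · change x ∈ _
          rw [hx]
          exact Submodule.smul_mem _ _ (Submodule.sub_mem _ hx'm (Submodule.smul_mem _ _ h1m))
        · exact Submodule.subset_span ⟨2, rfl⟩
  · -- `y` is recovered from `x'` and `x`
    have hy : y = (c 2)⁻¹ • (x' - c 0 • (1 : K) - c 1 • x) := by
      rw [← hc]
      have : c 0 • (1 : K) + c 1 • x + c 2 • y - c 0 • (1 : K) - c 1 • x = c 2 • y := by ring
      rw [this, smul_smul, inv_mul_cancel₀ hc2, one_smul]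
    refine ⟨x', x, hℓx', hx'W, hφW 1, hxt, hpd, ?_, ?_, ?_⟩
    · rw [hpd]; exact hφL 1
    · rw [eq_top_iff, ← hxy, IntermediateField.adjoin_le_iff]
      have hx'm : x' ∈ IntermediateField.adjoin k ({x', x} : Set K) :=
        IntermediateField.subset_adjoin k _ (by simp)
      have hxm : x ∈ IntermediateField.adjoin k ({x', x} : Set K) :=
        IntermediateField.subset_adjoin k _ (by simp)
      rintro z (rfl | rfl)
      · exact hxm
      · rw [hy]
        exact (IntermediateField.adjoin k ({x', x} : Set K)).smul_mem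
          (sub_mem (sub_mem hx'm ((IntermediateField.adjoin k ({x', x} : Set K)).smul_mem
            (one_mem _))) ((IntermediateField.adjoin k ({x', x} : Set K)).smul_mem hxm))
    · apply le_antisymm
      · rw [Submodule.span_le]
        rintro _ ⟨i, rfl⟩
        fin_cases i
        · exact hφW 0
        · exact hx'W
        · exact hφW 1
      · rw [hW, Submodule.span_le]
        rintro _ ⟨i, rfl⟩
        have h1m : (1 : K) ∈ Submodule.span k (Set.range ![(1 : K), x', x]) :=
          Submodule.subset_span ⟨0, rfl⟩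
        have hx'm : x' ∈ Submodule.span k (Set.range ![(1 : K), x', x]) :=
          Submodule.subset_span ⟨1, rfl⟩
        have hxm : x ∈ Submodule.span k (Set.range ![(1 : K), x', x]) :=
          Submodule.subset_span ⟨2, rfl⟩
        fin_cases i
        · exact h1m
        · exact hxm
        · change y ∈ _
          rw [hy]
          exact Submodule.smul_mem _ _ (Submodule.sub_mem _ (Submodule.sub_mem _ hx'm
            (Submodule.smul_mem _ _ h1m)) (Submodule.smul_mem _ _ hxm))


end Groth.Agent.Helper9.PlaneGen
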