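import Mathlib
import Groth.Agent.Lib.Helper9.FFExt.PlaneKer

namespace Groth.Agent.Helper9.PlaneHom

open Polynomial

variable {k K σ : Type*} [Field k] [CommRing K] [Algebra k K]

/-- the graded evaluation `X_i ↦ φ_i T` -/
noncomputable def gradedEval (φ : σ → K) : MvPolynomial σ k →ₐ[k] K[X] :=
  MvPolynomial.aeval fun i => C (φ i) * X

lemma gradedEval_monomial (φ : σ → K) (m : σ →₀ ℕ) (a : k) :
    gradedEval φ (MvPolynomial.monomial m a) =
      C (MvPolynomial.aeval φ (MvPolynomial.monomial m a)) * X ^ m.degree := by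
  classical
  unfold gradedEval
  rw [MvPolynomial.aeval_monomial, MvPolynomial.aeval_monomial]
  have h1 : (m.prod fun i n => (C (φ i) * X : K[X]) ^ n) =
      C (m.prod fun i n => φ i ^ n) * X ^ m.degree := by
    simp only [mul_pow]
    rw [Finsupp.prod_mul]
    congr 1
    · rw [Finsupp.prod, Finsupp.prod, map_prod]
      simp
    · rw [Finsupp.prod, Finset.prod_pow_eq_pow_sum]
      rfl
  rw [h1, map_mul, mul_assoc, Polynomial.algebraMap_apply]

lemma gradedEval_of_isHomogeneous (φ : σ → K) {G : MvPolynomial σ k} {d : ℕ}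
    (hG : G.IsHomogeneous d) : gradedEval φ G = C (MvPolynomial.aeval φ G) * X ^ d := by
  classical
  conv_lhs => rw [G.as_sum]
  conv_rhs => rw [G.as_sum]
  rw [map_sum, map_sum, map_sum, Finset.sum_mul]
  refine Finset.sum_congr rfl fun m hm => ?_
  rw [gradedEval_monomial]
  congr 2
  have := hG (MvPolynomial.mem_support_iff.mp hm)
  rw [Finsupp.degree_eq_weight_one]
  exact this

lemma coeff_gradedEval (φ : σ → K) (G : MvPolynomial σ k) (d : ℕ) :
    (gradedEval φ G).coeff d = MvPolynomial.aeval φ (MvPolynomial.homogeneousComponent d G) := by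
  classical
  induction G using MvPolynomial.induction_on' with
  | monomial m a =>
    rw [gradedEval_monomial, coeff_C_mul, coeff_X_pow,
      MvPolynomial.homogeneousComponent_of_mem
        (MvPolynomial.isHomogeneous_monomial a (rfl : m.degree = m.degree))]
    split_ifs with h
    · rw [mul_one]
    · rw [mul_zero, map_zero]
  | add p q hp hq => rw [map_add, coeff_add, hp, hq, map_add, map_add]

lemma mem_ker_gradedEval (φ : σ → K) (G : MvPolynomial σ k) :
    G ∈ RingHom.ker (gradedEval φ : MvPolynomial σ k →ₐ[k] K[X]) ↔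
      ∀ d, MvPolynomial.aeval φ (MvPolynomial.homogeneousComponent d G) = 0 := by
  rw [RingHom.mem_ker, Polynomial.ext_iff]
  simp only [coeff_gradedEval, coeff_zero]

lemma mem_ker_gradedEval_of_isHomogeneous (φ : σ → K) {G : MvPolynomial σ k} {d : ℕ}
    (hG : G.IsHomogeneous d) :
    G ∈ RingHom.ker (gradedEval φ : MvPolynomial σ k →ₐ[k] K[X]) ↔
      MvPolynomial.aeval φ G = 0 := by
  rw [RingHom.mem_ker, gradedEval_of_isHomogeneous φ hG]
  constructor
  · intro h
    have := congrArg (fun p => p.coeff d) h
    simp only [coeff_C_mul, coeff_X_pow, if_true, mul_one, coeff_zero] at this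
    exact this
  · intro h
    rw [h, map_zero, zero_mul]

/-- homogenization with respect to the variable `j` -/
noncomputable def homogJ (j : σ) (D : ℕ) (G : MvPolynomial σ k) : MvPolynomial σ k :=
  ∑ d ∈ Finset.range (D + 1), MvPolynomial.homogeneousComponent d G * MvPolynomial.X j ^ (D - d)

lemma homogJ_isHomogeneous (j : σ) (D : ℕ) (G : MvPolynomial σ k) :
    (homogJ j D G).IsHomogeneous D := by
  unfold homogJ
  apply MvPolynomial.IsHomogeneous.sum
  intro d hd
  have hd' : d ≤ D := by
    rw [Finset.mem_range] at hd; omega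
  have h1 := (MvPolynomial.homogeneousComponent_isHomogeneous d G).mul
    (MvPolynomial.isHomogeneous_X_pow (R := k) j (D - d))
  have : d + (D - d) = D := by omega
  rwa [this] at h1

lemma map_homogJ {A : Type*} [CommRing A] (θ : MvPolynomial σ k →+* A) (j : σ)
    (hθ : θ (MvPolynomial.X j) = 1) {D : ℕ} {G : MvPolynomial σ k} (hG : G.totalDegree ≤ D) :
    θ (homogJ j D G) = θ G := by
  unfold homogJ
  rw [map_sum]
  simp only [map_mul, map_pow, hθ, one_pow, mul_one]
  rw [← map_sum]
  congr 1
  have h1 := MvPolynomial.sum_homogeneousComponent G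
  rw [← Finset.sum_range_add_sum_Ico _ (by omega : G.totalDegree + 1 ≤ D + 1), h1]
  rw [Finset.sum_eq_zero, add_zero]
  intro d hd
  rw [Finset.mem_Ico] at hd
  exact MvPolynomial.homogeneousComponent_eq_zero _ _ (by omega)

/-- a generator of the (homogeneous) kernel of a graded evaluation is homogeneous -/
theorem isHomogeneous_of_ker_eq_span [IsDomain K] (φ : σ → K) {p : MvPolynomial σ k} (hp0 : p ≠ 0)
    (hker : RingHom.ker (gradedEval φ : MvPolynomial σ k →ₐ[k] K[X]) = Ideal.span {p}) :
    p.IsHomogeneous p.totalDegree := by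
  classical
  have hpk : p ∈ RingHom.ker (gradedEval φ : MvPolynomial σ k →ₐ[k] K[X]) := by
    rw [hker]; exact Ideal.mem_span_singleton_self p
  have hex : ∃ d, MvPolynomial.homogeneousComponent d p ≠ 0 := by
    by_contra hcon
    push Not at hcon
    apply hp0
    rw [← MvPolynomial.sum_homogeneousComponent p]
    exact Finset.sum_eq_zero fun d _ => hcon d
  set d₀ := Nat.find hex with hd₀
  have hd₀ne : MvPolynomial.homogeneousComponent d₀ p ≠ 0 := Nat.find_spec hex
  have hmin : ∀ d < d₀, MvPolynomial.homogeneousComponent d p = 0 := by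
    intro d hd
    by_contra h
    exact Nat.find_min hex hd h
  set q := MvPolynomial.homogeneousComponent d₀ p with hq
  have hqhom : q.IsHomogeneous d₀ := MvPolynomial.homogeneousComponent_isHomogeneous d₀ p
  have hqk : q ∈ RingHom.ker (gradedEval φ : MvPolynomial σ k →ₐ[k] K[X]) := by
    rw [mem_ker_gradedEval_of_isHomogeneous φ hqhom]
    exact (mem_ker_gradedEval φ p).mp hpk d₀
  rw [hker, Ideal.mem_span_singleton] at hqk
  have hle : p.totalDegree ≤ d₀ := by
    have := MvPolynomial.totalDegree_le_of_dvd_of_isDomain hqk hd₀ne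
    rwa [hqhom.totalDegree hd₀ne] at this
  have hpq : p = q := by
    rw [← MvPolynomial.sum_homogeneousComponent p]
    have hd₀le : d₀ ≤ p.totalDegree := by
      by_contra h
      push Not at h
      exact hd₀ne (MvPolynomial.homogeneousComponent_eq_zero _ _ h)
    have heq : p.totalDegree = d₀ := le_antisymm hle hd₀le
    rw [Finset.sum_eq_single d₀]
    · intro d hd hne
      rw [Finset.mem_range] at hd
      have : d < d₀ := by omega
      exact hmin d this
    · intro h
      rw [Finset.mem_range] at h
      omega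
  rw [hpq, hqhom.totalDegree hd₀ne]
  exact hqhom

end Groth.Agent.Helper9.PlaneHom
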