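import Mathlib
import Groth.Agent.Lib.Helper4.FF.Basic
import Groth.Agent.Lib.Helper9.FFExt.PlaneKer

namespace Groth.Agent.Helper9.PlaneKer

open FunFld Groth.Agent.Lib.Helper4.FF
open scoped IntermediateField.algebraAdjoinAdjoin

variable {k K : Type*} [Field k] [Field K] [Algebra k K]

/-- one of two generators of a function field is transcendental -/
lemma transcendental_or (hK : IsFunctionField k K) (x y : K)
    (hxy : IntermediateField.adjoin k ({x, y} : Set K) = ⊤) :
    Transcendental k x ∨ Transcendental k y := by
  by_contra hcon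
  push Not at hcon
  obtain ⟨hx, hy⟩ := hcon
  have hx' : IsAlgebraic k x := by
    by_contra h; exact hx h
  have hy' : IsAlgebraic k y := by
    by_contra h; exact hy h
  have hxk := hK.2 x hx'
  have hyk := hK.2 y hy'
  have hbot : IntermediateField.adjoin k ({x, y} : Set K) ≤ ⊥ := by
    rw [IntermediateField.adjoin_le_iff]
    rintro z (rfl | rfl)
    · exact IntermediateField.mem_bot.mpr hxk
    · exact IntermediateField.mem_bot.mpr hyk
  rw [hxy] at hbot
  obtain ⟨⟨z, hzt, -⟩, -⟩ := hK
  have hz : z ∈ (⊥ : IntermediateField k K) := hbot trivial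
  obtain ⟨c, rfl⟩ := IntermediateField.mem_bot.mp hz
  exact hzt (isAlgebraic_algebraMap c)

/-- two elements of a function field of one variable are algebraically dependent -/
lemma not_algebraicIndependent_pair (hK : IsFunctionField k K) (x y : K) :
    ¬ AlgebraicIndependent k ![x, y] := by
  intro hind
  have hx : Transcendental k x := hind.transcendental 0
  have hfd := finiteDimensional_adjoin hK hx
  have hy : IsAlgebraic (IntermediateField.adjoin k ({x} : Set K)) y :=
    Algebra.IsAlgebraic.isAlgebraic y
  have hy' : IsAlgebraic (Algebra.adjoin k ({x} : Set K)) y :=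
    (IsFractionRing.isAlgebraic_iff (Algebra.adjoin k ({x} : Set K))
      (IntermediateField.adjoin k ({x} : Set K)) K).mpr hy
  have h1 := hind.transcendental_adjoin (s := {0}) (i := 1) (by simp)
  rw [Set.image_singleton] at h1
  exact h1 hy'

lemma ker_pair_ne_bot (hK : IsFunctionField k K) (x y : K) :
    RingHom.ker (MvPolynomial.aeval ![x, y] : MvPolynomial (Fin 2) k →ₐ[k] K) ≠ ⊥ := by
  intro h
  apply not_algebraicIndependent_pair hK x y
  rw [algebraicIndependent_iff_injective_aeval]
  exact (RingHom.injective_iff_ker_eq_bot _).mpr h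

/-- **the ideal of an affine plane model is principal** -/
theorem ker_pair (hK : IsFunctionField k K) (x y : K)
    (hxy : IntermediateField.adjoin k ({x, y} : Set K) = ⊤) :
    ∃ f₀ : MvPolynomial (Fin 2) k, Irreducible f₀ ∧
      RingHom.ker (MvPolynomial.aeval ![x, y] : MvPolynomial (Fin 2) k →ₐ[k] K) =
        Ideal.span {f₀} := by
  rcases transcendental_or hK x y hxy with hx | hy
  · refine ker_aeval_eq_span (finSuccEquiv' (1 : Fin 2)) ![x, y] ?_ (ker_pair_ne_bot hK x y)
    rw [algebraicIndependent_unique_type_iff]
    exact hx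
  · refine ker_aeval_eq_span (finSuccEquiv' (0 : Fin 2)) ![x, y] ?_ (ker_pair_ne_bot hK x y)
    rw [algebraicIndependent_unique_type_iff]
    exact hy

/-- an irreducible relation generates the ideal of the plane model -/
theorem ker_pair_eq_span (hK : IsFunctionField k K) (x y : K)
    (hxy : IntermediateField.adjoin k ({x, y} : Set K) = ⊤) (f : MvPolynomial (Fin 2) k)
    (hf : Irreducible f) (hfxy : MvPolynomial.aeval ![x, y] f = 0) :
    RingHom.ker (MvPolynomial.aeval ![x, y] : MvPolynomial (Fin 2) k →ₐ[k] K) =
      Ideal.span {f} := by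
  obtain ⟨f₀, hf₀, hker⟩ := ker_pair hK x y hxy
  have hmem : f ∈ Ideal.span {f₀} := by
    rw [← hker]; exact hfxy
  rw [Ideal.mem_span_singleton] at hmem
  have hassoc : Associated f₀ f := hf₀.associated_of_dvd hf hmem
  rw [hker]
  exact Ideal.span_singleton_eq_span_singleton.mpr hassoc

end Groth.Agent.Helper9.PlaneKer
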