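import Mathlib
import Groth.Agent.Lib.Helper9.FFExt.PlaneHom
import Groth.Agent.Lib.Helper9.FFExt.PlaneKer2

namespace Groth.Agent.Helper9.PlaneHom

open Polynomial FunFld Groth.Agent.Helper9.PlaneKer

variable {k K : Type*} [Field k] [Field K] [Algebra k K]

/-- a binary form vanishing at `(1, x)` with `x` transcendental is zero -/
lemma eq_zero_of_aeval_one_transcendental {x : K} (hx : Transcendental k x)
    {H : MvPolynomial (Fin 2) k} {d : ℕ} (hH : H.IsHomogeneous d)
    (h0 : MvPolynomial.aeval ![1, x] H = 0) : H = 0 := by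
  set H' := MvPolynomial.rename (Equiv.swap (0 : Fin 2) 1) H with hH'
  have hhom' : H'.IsHomogeneous d := hH.rename_isHomogeneous
  have h1 : MvPolynomial.aeval ![(X : k[X]), 1] H' = 0 := by
    have h2 : Polynomial.aeval x (MvPolynomial.aeval ![(X : k[X]), 1] H') = 0 := by
      rw [hH', MvPolynomial.aeval_rename]
      have : (Polynomial.aeval x : k[X] →ₐ[k] K).comp
          (MvPolynomial.aeval (![(X : k[X]), 1] ∘ (Equiv.swap (0 : Fin 2) 1))) =
          MvPolynomial.aeval ![1, x] := by
        apply MvPolynomial.algHom_ext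
        intro i
        fin_cases i <;> simp
      rw [← AlgHom.comp_apply, this, h0]
    exact (transcendental_iff_injective.mp hx) (by rw [h2, map_zero])
  have h3 := Polynomial.homogenize_eq_of_isHomogeneous hhom' h1
  rw [Polynomial.homogenize_zero] at h3
  have h4 : H' = 0 := h3.symm
  exact (MvPolynomial.rename_injective _ (Equiv.injective _)) (by rw [← hH', h4, map_zero])

/-- `T` and `xT` are algebraically independent for transcendental `x` -/
lemma algebraicIndependent_CX {x : K} (hx : Transcendental k x) :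
    AlgebraicIndependent k (fun i : Fin 2 => C (![1, x] i) * (X : K[X])) := by
  rw [algebraicIndependent_iff_injective_aeval, injective_iff_map_eq_zero]
  intro G hG
  have hG' : G ∈ RingHom.ker (gradedEval ![1, x] : MvPolynomial (Fin 2) k →ₐ[k] K[X]) := hG
  rw [mem_ker_gradedEval] at hG'
  rw [← MvPolynomial.sum_homogeneousComponent G]
  apply Finset.sum_eq_zero
  intro d _
  exact eq_zero_of_aeval_one_transcendental hx
    (MvPolynomial.homogeneousComponent_isHomogeneous d G) (hG' d)

/-- the kernel of the graded evaluation at `(1 : x : y)` is not zero -/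
lemma ker_gradedEval_ne_bot (hK : IsFunctionField k K) (x y : K) :
    RingHom.ker (gradedEval ![1, x, y] : MvPolynomial (Fin 3) k →ₐ[k] K[X]) ≠ ⊥ := by
  intro hbot
  obtain ⟨f₀, hf₀, hf₀0⟩ := Submodule.exists_mem_ne_zero_of_ne_bot (ker_pair_ne_bot hK x y)
  set f₁ : MvPolynomial (Fin 3) k := MvPolynomial.rename Fin.succ f₀ with hf₁
  have hf₁0 : f₁ ≠ 0 := by
    intro h
    apply hf₀0
    exact (MvPolynomial.rename_injective _ (Fin.succ_injective 2)) (by rw [← hf₁, h, map_zero])
  have h1 : MvPolynomial.aeval ![1, x, y] f₁ = 0 := by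
    rw [hf₁, MvPolynomial.aeval_rename]
    have : (![1, x, y] ∘ Fin.succ : Fin 2 → K) = ![x, y] := by
      funext i; fin_cases i <;> rfl
    rw [this]
    exact hf₀
  set G := homogJ (0 : Fin 3) f₁.totalDegree f₁ with hG
  have hGhom : G.IsHomogeneous f₁.totalDegree := homogJ_isHomogeneous _ _ _
  have hGk : G ∈ RingHom.ker (gradedEval ![1, x, y] : MvPolynomial (Fin 3) k →ₐ[k] K[X]) := by
    rw [mem_ker_gradedEval_of_isHomogeneous _ hGhom, hG]
    rw [← AlgHom.coe_toRingHom, map_homogJ _ _ _ le_rfl]
    · exact h1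
    · simp
  rw [hbot, Ideal.mem_bot] at hGk
  -- but `G(1, X₁, X₂) = f₁`
  let θ : MvPolynomial (Fin 3) k →ₐ[k] MvPolynomial (Fin 3) k :=
    MvPolynomial.aeval (fun i : Fin 3 => if i = 0 then 1 else MvPolynomial.X i)
  have h2 : θ G = θ f₁ := by
    rw [hG, ← AlgHom.coe_toRingHom, map_homogJ _ _ _ le_rfl]
    simp [θ]
  have h3 : θ f₁ = f₁ := by
    rw [hf₁]
    simp only [θ]
    rw [MvPolynomial.aeval_rename]
    have : ((fun i : Fin 3 => if i = 0 then (1 : MvPolynomial (Fin 3) k) else MvPolynomial.X i) ∘
        Fin.succ) = fun i : Fin 2 => MvPolynomial.X (Fin.succ i) := by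
      funext i
      simp [Fin.succ_ne_zero]
    rw [this, MvPolynomial.rename_eq_aeval]
    rfl
  apply hf₁0
  rw [← h3, ← h2, hGk, map_zero]

/-- **the ideal of a projective plane model is principal, with homogeneous irreducible
generator** -/
theorem ker_gradedEval_triple (hK : IsFunctionField k K) (x y : K)
    (hxy : IntermediateField.adjoin k ({x, y} : Set K) = ⊤) :
    ∃ f : MvPolynomial (Fin 3) k, Irreducible f ∧ f.IsHomogeneous f.totalDegree ∧
      RingHom.ker (gradedEval ![1, x, y] : MvPolynomial (Fin 3) k →ₐ[k] K[X]) =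
        Ideal.span {f} := by
  have hne := ker_gradedEval_ne_bot hK x y
  have key : ∃ f : MvPolynomial (Fin 3) k, Irreducible f ∧
      RingHom.ker (gradedEval ![1, x, y] : MvPolynomial (Fin 3) k →ₐ[k] K[X]) =
        Ideal.span {f} := by
    rcases transcendental_or hK x y hxy with hx | hy
    · refine ker_aeval_eq_span (finSuccEquiv' (2 : Fin 3))
        (fun i => C (![1, x, y] i) * (X : K[X])) ?_ hne
      convert algebraicIndependent_CX hx using 1
      funext i
      fin_cases i
      · rfl
      · rfl
    · refine ker_aeval_eq_span (finSuccEquiv' (1 : Fin 3))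
        (fun i => C (![1, x, y] i) * (X : K[X])) ?_ hne
      convert algebraicIndependent_CX hy using 1
      funext i
      fin_cases i
      · rfl
      · rfl
  obtain ⟨f, hf, hker⟩ := key
  exact ⟨f, hf, isHomogeneous_of_ker_eq_span _ hf.ne_zero hker, hker⟩

/-- an irreducible homogeneous relation generates the ideal of the projective plane model -/
theorem ker_gradedEval_triple_eq_span (hK : IsFunctionField k K) (x y : K)
    (hxy : IntermediateField.adjoin k ({x, y} : Set K) = ⊤) (f : MvPolynomial (Fin 3) k)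
    (hf : Irreducible f) {d : ℕ} (hhom : f.IsHomogeneous d)
    (hfxy : MvPolynomial.aeval ![1, x, y] f = 0) :
    RingHom.ker (gradedEval ![1, x, y] : MvPolynomial (Fin 3) k →ₐ[k] K[X]) =
      Ideal.span {f} := by
  obtain ⟨f₀, hf₀, -, hker⟩ := ker_gradedEval_triple hK x y hxy
  have hmem : f ∈ Ideal.span {f₀} := by
    rw [← hker, mem_ker_gradedEval_of_isHomogeneous _ hhom]; exact hfxy
  rw [Ideal.mem_span_singleton] at hmem
  have hassoc : Associated f₀ f := hf₀.associated_of_dvd hf hmem
  rw [hker]
  exact Ideal.span_singleton_eq_span_singleton.mpr hassoc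

end Groth.Agent.Helper9.PlaneHom
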