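import Mathlib
import Groth.Agent.Lib.Helper4.FF.ProjMap9
import Groth.Agent.Lib.Helper4.FF.LLS
import Groth.Agent.Lib.Helper9.FFExt.PlaneHom2

namespace Groth.Agent.Helper9.PlaneLocal

open FunFld WithZero Groth.Agent.Lib.Helper4.FF Groth.Agent.Helper9.PlaneHom

section Taylor

variable {k σ : Type*} [Field k] [Fintype σ] [DecidableEq σ]

/-- first order Taylor expansion with remainder -/
lemma exists_taylor (ā : σ → k) (G : MvPolynomial σ k) :
    ∃ H : σ → MvPolynomial σ k,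
      G = MvPolynomial.C (MvPolynomial.eval ā G) +
        ∑ l, (MvPolynomial.X l - MvPolynomial.C (ā l)) * H l := by
  induction G using MvPolynomial.induction_on with
  | C c => exact ⟨fun _ => 0, by simp⟩
  | add p q hp hq =>
    obtain ⟨Hp, hp⟩ := hp
    obtain ⟨Hq, hq⟩ := hq
    refine ⟨fun l => Hp l + Hq l, ?_⟩
    conv_lhs => rw [hp, hq]
    simp only [map_add, mul_add, Finset.sum_add_distrib]
    ring
  | mul_X p i hp =>
    obtain ⟨Hp, hp⟩ := hp
    refine ⟨fun l => Hp l * MvPolynomial.X i +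
      (if l = i then MvPolynomial.C (MvPolynomial.eval ā p) else 0), ?_⟩
    conv_lhs => rw [hp]
    simp only [mul_add, Finset.sum_add_distrib, mul_ite, mul_zero, Finset.sum_ite_eq',
      Finset.mem_univ, if_true, map_mul, MvPolynomial.eval_X, add_mul, Finset.sum_mul]
    have : ∀ l, (MvPolynomial.X l - MvPolynomial.C (ā l)) * (Hp l * MvPolynomial.X i) =
        (MvPolynomial.X l - MvPolynomial.C (ā l)) * Hp l * MvPolynomial.X i := fun l => by ring
    simp only [this]
    ring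

lemma eval_pderiv_taylor (ā : σ → k) (c : k) (H : σ → MvPolynomial σ k) (l : σ) :
    MvPolynomial.eval ā (MvPolynomial.pderiv l (MvPolynomial.C c +
        ∑ i, (MvPolynomial.X i - MvPolynomial.C (ā i)) * H i)) = MvPolynomial.eval ā (H l) := by
  rw [map_add, MvPolynomial.pderiv_C, zero_add, map_sum, map_sum]
  rw [Finset.sum_eq_single l]
  · rw [Derivation.leibniz, map_sub, MvPolynomial.pderiv_X_self, MvPolynomial.pderiv_C]
    simp
  · intro i _ hil
    rw [Derivation.leibniz, map_sub, MvPolynomial.pderiv_X_of_ne hil, MvPolynomial.pderiv_C]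
    simp
  · intro h; exact absurd (Finset.mem_univ l) h

/-- first order Taylor expansion with remainder, with the values of the coefficients -/
lemma exists_taylor' (ā : σ → k) (G : MvPolynomial σ k) :
    ∃ H : σ → MvPolynomial σ k,
      G = MvPolynomial.C (MvPolynomial.eval ā G) +
        ∑ l, (MvPolynomial.X l - MvPolynomial.C (ā l)) * H l ∧
      ∀ l, MvPolynomial.eval ā (H l) = MvPolynomial.eval ā (MvPolynomial.pderiv l G) := by
  obtain ⟨H, hH⟩ := exists_taylor ā G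
  refine ⟨H, hH, fun l => ?_⟩
  conv_rhs => rw [hH]
  rw [eval_pderiv_taylor]

end Taylor

section Local

variable {k K : Type*} [Field k] [Field K] [Algebra k K]

lemma val_aeval_le_one' {σ : Type*} (P : Place k K) (ρ : σ → K) (hρ : ∀ l, P.1 (ρ l) ≤ 1)
    (G : MvPolynomial σ k) : P.1 (MvPolynomial.aeval ρ G) ≤ 1 := by
  induction G using MvPolynomial.induction_on with
  | C c => rw [MvPolynomial.aeval_C]; exact Place.val_k_le P c
  | add p q hp hq => rw [map_add]; exact (P.1.map_add _ _).trans (max_le hp hq)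
  | mul_X p i hp => rw [map_mul, MvPolynomial.aeval_X, map_mul]; exact mul_le_one' hp (hρ i)

lemma val_le_one_of_residue {σ : Type*} (P : Place k K) (ρ : σ → K) (ā : σ → k)
    (h : ∀ l, P.1 (ρ l - algebraMap k K (ā l)) < 1) (l : σ) : P.1 (ρ l) ≤ 1 := by
  have : ρ l = (ρ l - algebraMap k K (ā l)) + algebraMap k K (ā l) := by ring
  rw [this]
  exact (P.1.map_add _ _).trans (max_le (h l).le (Place.val_k_le P _))

/-- the residue of a polynomial expression is the value of the polynomial at the residues -/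
lemma residue_aeval {σ : Type*} [Fintype σ] (P : Place k K) (ρ : σ → K) (ā : σ → k)
    (h : ∀ l, P.1 (ρ l - algebraMap k K (ā l)) < 1) (G : MvPolynomial σ k) :
    P.1 (MvPolynomial.aeval ρ G - algebraMap k K (MvPolynomial.eval ā G)) < 1 := by
  classical
  obtain ⟨H, hH⟩ := exists_taylor ā G
  have hρ := val_le_one_of_residue P ρ ā h
  have : MvPolynomial.aeval ρ G - algebraMap k K (MvPolynomial.eval ā G) =
      ∑ l, (ρ l - algebraMap k K (ā l)) * MvPolynomial.aeval ρ (H l) := by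
    conv_lhs => rw [hH]
    simp [map_add, map_sum, map_mul, map_sub, MvPolynomial.aeval_C, MvPolynomial.aeval_X]
  rw [this]
  apply Valuation.map_sum_lt _ one_ne_zero
  intro l _
  rw [map_mul]
  exact mul_lt_one_of_lt_of_le (h l) (val_aeval_le_one' P ρ hρ _)

/-- a constant of valuation `< 1` is zero -/
lemma const_eq_zero_of_val_lt (P : Place k K) {c : k} (h : P.1 (algebraMap k K c) < 1) : c = 0 := by
  by_contra hc
  rw [Place.val_k P hc] at h
  exact lt_irrefl _ h

lemma eval_eq_zero_of_val_lt {σ : Type*} [Fintype σ] (P : Place k K) (ρ : σ → K) (ā : σ → k)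
    (h : ∀ l, P.1 (ρ l - algebraMap k K (ā l)) < 1) {G : MvPolynomial σ k}
    (hG : P.1 (MvPolynomial.aeval ρ G) < 1) : MvPolynomial.eval ā G = 0 := by
  apply const_eq_zero_of_val_lt P
  have h1 := residue_aeval P ρ ā h G
  have : algebraMap k K (MvPolynomial.eval ā G) =
      MvPolynomial.aeval ρ G - (MvPolynomial.aeval ρ G - algebraMap k K (MvPolynomial.eval ā G)) := by
    ring
  rw [this]
  exact (P.1.map_sub _ _).trans_lt (max_lt hG h1)

lemma val_eq_one_of_eval_ne_zero {σ : Type*} [Fintype σ] (P : Place k K) (ρ : σ → K) (ā : σ → k)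
    (h : ∀ l, P.1 (ρ l - algebraMap k K (ā l)) < 1) {G : MvPolynomial σ k}
    (hG : MvPolynomial.eval ā G ≠ 0) : P.1 (MvPolynomial.aeval ρ G) = 1 := by
  apply le_antisymm (val_aeval_le_one' P ρ (val_le_one_of_residue P ρ ā h) G)
  by_contra hlt
  push Not at hlt
  exact hG (eval_eq_zero_of_val_lt P ρ ā h hlt)

lemma mem_adjoin_range_iff {σ : Type*} (ρ : σ → K) (a : K) :
    a ∈ Algebra.adjoin k (Set.range ρ) ↔ ∃ G : MvPolynomial σ k, MvPolynomial.aeval ρ G = a := by
  rw [Algebra.adjoin_range_eq_range_aeval]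
  rfl

end Local

section Main

variable {k K : Type*} [Field k] [Field K] [Algebra k K]

lemma exists_third (j i : Fin 3) (h : j ≠ i) :
    ∃ l : Fin 3, l ≠ j ∧ l ≠ i ∧ ∀ m, m = j ∨ m = i ∨ m = l := by
  revert j i; decide

lemma sum_three {M : Type*} [AddCommMonoid M] (j i l : Fin 3) (hji : j ≠ i) (hlj : l ≠ j)
    (hli : l ≠ i) (F : Fin 3 → M) : ∑ m, F m = F j + F i + F l := by
  have : (Finset.univ : Finset (Fin 3)) = {j, i, l} := by
    revert j i l; decide
  rw [this, Finset.sum_insert, Finset.sum_insert, Finset.sum_singleton, add_assoc]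
  · simp [hli.symm]
  · simp [hji, hlj.symm]

lemma val_lt_one_iff_le_exp_neg_one {x : ℤᵐ⁰} : x < 1 ↔ x ≤ exp (-1 : ℤ) := by
  have := lt_exp_iff_le_exp_sub_one (x := x) (n := 0)
  rwa [exp_zero, zero_sub] at this

/-- if all partial derivatives of the equation vanish at the image point, the point is singular -/
theorem not_nonsingular_of_pderiv_eq_zero (P : Place k K) (ρ : Fin 3 → K) (ā : Fin 3 → k)
    (j : Fin 3) (hρj : ρ j = 1) (hres : ∀ l, P.1 (ρ l - algebraMap k K (ā l)) < 1)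
    (hresK : ∀ z : K, P.1 z ≤ 1 → ∃ c : k, P.1 (z - algebraMap k K c) < 1)
    (f : MvPolynomial (Fin 3) k)
    (hker : ∀ G : MvPolynomial (Fin 3) k, MvPolynomial.aeval ρ G = 0 →
      ∃ A B, G = A * f + B * (MvPolynomial.X j - 1))
    (hfρ : MvPolynomial.aeval ρ f = 0)
    (hpd : ∀ l, MvPolynomial.eval ā (MvPolynomial.pderiv l f) = 0) :
    ¬ ∀ z : K, P.1 z ≤ 1 → z ∈ locAt P (Algebra.adjoin k (Set.range ρ)) := by
  classical
  intro hns
  have hāj : ā j = 1 := by
    have h1 := hres j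
    rw [hρj, ← map_one (algebraMap k K), ← map_sub] at h1
    have := const_eq_zero_of_val_lt P h1
    exact (sub_eq_zero.mp this).symm
  have hfā : MvPolynomial.eval ā f = 0 :=
    eval_eq_zero_of_val_lt P ρ ā hres (by rw [hfρ, map_zero]; exact zero_lt_one)
  obtain ⟨t, ht⟩ := Place.exists_uniformizer P
  have hexp : exp (-1 : ℤ) < (1 : ℤᵐ⁰) := by
    rw [← exp_zero, exp_lt_exp]; norm_num
  obtain ⟨u, hu, w, hw, hw1, e⟩ := hns t (by rw [ht]; exact hexp.le)
  have hPu : P.1 u = exp (-1 : ℤ) := by rw [← e, map_mul, hw1, mul_one, ht]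
  obtain ⟨U, rfl⟩ := (mem_adjoin_range_iff ρ u).mp hu
  have hUā : MvPolynomial.eval ā U = 0 :=
    eval_eq_zero_of_val_lt P ρ ā hres (by rw [hPu]; exact hexp)
  obtain ⟨H, hH⟩ := exists_taylor ā U
  rw [hUā, map_zero, zero_add] at hH
  have hρle := val_le_one_of_residue P ρ ā hres
  have hu' : MvPolynomial.aeval ρ U =
      ∑ l, (ρ l - algebraMap k K (ā l)) * MvPolynomial.aeval ρ (H l) := by
    conv_lhs => rw [hH]
    simp [map_sum, map_mul, map_sub, MvPolynomial.aeval_X]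
  -- some coordinate has order one
  have hex : ∃ i₀, exp (-1 : ℤ) ≤ P.1 (ρ i₀ - algebraMap k K (ā i₀)) := by
    by_contra hcon
    push Not at hcon
    have : P.1 (MvPolynomial.aeval ρ U) < exp (-1 : ℤ) := by
      rw [hu']
      apply Valuation.map_sum_lt _ (by simp)
      intro l _
      rw [map_mul]
      calc P.1 (ρ l - algebraMap k K (ā l)) * P.1 (MvPolynomial.aeval ρ (H l))
          ≤ P.1 (ρ l - algebraMap k K (ā l)) * 1 :=
            mul_le_mul_right (val_aeval_le_one' P ρ hρle _) _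
        _ < exp (-1 : ℤ) := by rw [mul_one]; exact hcon l
    rw [hPu] at this
    exact lt_irrefl _ this
  obtain ⟨i₀, hi₀⟩ := hex
  have hi₀j : i₀ ≠ j := by
    rintro rfl
    rw [hρj, hāj, map_one, sub_self, map_zero] at hi₀
    exact absurd hi₀ (by simp)
  set s := ρ i₀ - algebraMap k K (ā i₀) with hs
  have hPs : P.1 s = exp (-1 : ℤ) :=
    le_antisymm (val_lt_one_iff_le_exp_neg_one.mp (hres i₀)) hi₀
  have hs0 : s ≠ 0 := by
    intro h
    rw [h, map_zero] at hPs
    exact absurd hPs.symm (by simp)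
  obtain ⟨i₁, hi₁j, hi₁i₀, -⟩ := exists_third j i₀ (Ne.symm hi₀j)
  set s₁ := ρ i₁ - algebraMap k K (ā i₁) with hs₁
  have hPs₁ : P.1 s₁ ≤ exp (-1 : ℤ) := val_lt_one_iff_le_exp_neg_one.mp (hres i₁)
  have hq : P.1 (s₁ / s) ≤ 1 := by
    rw [map_div₀, hPs]
    exact div_le_one_of_le₀ hPs₁ zero_le
  obtain ⟨γ, hγ⟩ := hresK (s₁ / s) hq
  set v := s₁ - algebraMap k K γ * s with hv
  have hvs : v / s = s₁ / s - algebraMap k K γ := by
    rw [hv]; field_simp
  obtain ⟨c, hc, d, hd, hd1, e'⟩ := hns (v / s) (by rw [hvs]; exact hγ.le)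
  have hPc : P.1 c < 1 := by
    rw [← e', map_mul, hd1, mul_one, hvs]; exact hγ
  obtain ⟨C', rfl⟩ := (mem_adjoin_range_iff ρ c).mp hc
  obtain ⟨D', rfl⟩ := (mem_adjoin_range_iff ρ d).mp hd
  have hC'ā : MvPolynomial.eval ā C' = 0 := eval_eq_zero_of_val_lt P ρ ā hres hPc
  have hD'ā : MvPolynomial.eval ā D' ≠ 0 := by
    intro h0
    have h1 := residue_aeval P ρ ā hres D'
    rw [h0, map_zero, sub_zero, hd1] at h1
    exact lt_irrefl _ h1
  set G : MvPolynomial (Fin 3) k :=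
    (MvPolynomial.X i₁ - MvPolynomial.C (ā i₁) -
      MvPolynomial.C γ * (MvPolynomial.X i₀ - MvPolynomial.C (ā i₀))) * D' -
    (MvPolynomial.X i₀ - MvPolynomial.C (ā i₀)) * C' with hG
  have hGρ : MvPolynomial.aeval ρ G = 0 := by
    rw [hG]
    simp only [map_sub, map_mul, MvPolynomial.aeval_X, MvPolynomial.aeval_C]
    rw [← hs, ← hs₁, ← hv, ← e']
    field_simp
    ring
  obtain ⟨A, B, hAB⟩ := hker G hGρ
  have h1 : MvPolynomial.eval ā (MvPolynomial.pderiv i₁ G) = MvPolynomial.eval ā D' := by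
    rw [hG]
    simp only [map_sub, Derivation.leibniz, MvPolynomial.pderiv_X_self,
      MvPolynomial.pderiv_X_of_ne hi₁i₀.symm, MvPolynomial.pderiv_C, smul_eq_mul, map_mul,
      map_add, MvPolynomial.eval_X, MvPolynomial.eval_C, map_one, map_zero]
    ring
  have h2 : MvPolynomial.eval ā (MvPolynomial.pderiv i₁ G) = 0 := by
    rw [hAB]
    simp only [map_sub, map_add, Derivation.leibniz, MvPolynomial.pderiv_X_of_ne hi₁j.symm,
      MvPolynomial.pderiv_one, smul_eq_mul, map_mul,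
      MvPolynomial.eval_X, map_one, map_zero, hāj, hfā, hpd i₁]
    ring
  exact hD'ā (by rw [← h1, h2])

/-- if some partial derivative of the equation does not vanish at the image point, the point is
nonsingular -/
theorem nonsingular_of_pderiv_ne_zero (P : Place k K) (ρ : Fin 3 → K) (ā : Fin 3 → k)
    (j : Fin 3) (hρj : ρ j = 1) (hres : ∀ l, P.1 (ρ l - algebraMap k K (ā l)) < 1)
    (f : MvPolynomial (Fin 3) k) (hfρ : MvPolynomial.aeval ρ f = 0)
    (i₁ : Fin 3) (hi₁j : i₁ ≠ j) (hpd : MvPolynomial.eval ā (MvPolynomial.pderiv i₁ f) ≠ 0)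
    (hnc : ∃ l, ρ l ≠ algebraMap k K (ā l))
    (hfrac : ∀ z : K, ∃ u ∈ Algebra.adjoin k (Set.range ρ),
      ∃ w ∈ Algebra.adjoin k (Set.range ρ), w ≠ 0 ∧ z * w = u) :
    ∀ z : K, P.1 z ≤ 1 → z ∈ locAt P (Algebra.adjoin k (Set.range ρ)) := by
  classical
  set A := Algebra.adjoin k (Set.range ρ) with hA
  set O := locAt P A with hO
  have hAO : A ≤ O := le_locAt P A
  have hρA : ∀ l, ρ l ∈ A := fun l => Algebra.subset_adjoin ⟨l, rfl⟩
  have haeA : ∀ G : MvPolynomial (Fin 3) k, MvPolynomial.aeval ρ G ∈ A :=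
    fun G => (mem_adjoin_range_iff ρ _).mpr ⟨G, rfl⟩
  have hρle := val_le_one_of_residue P ρ ā hres
  have hAle : ∀ a ∈ A, P.1 a ≤ 1 := by
    intro a ha
    obtain ⟨G, rfl⟩ := (mem_adjoin_range_iff ρ a).mp ha
    exact val_aeval_le_one' P ρ hρle G
  have hOle : ∀ a ∈ O, P.1 a ≤ 1 := fun a ha => val_le_one_of_mem_locAt hAle ha
  have hāj : ā j = 1 := by
    have h1 := hres j
    rw [hρj, ← map_one (algebraMap k K), ← map_sub] at h1
    have := const_eq_zero_of_val_lt P h1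
    exact (sub_eq_zero.mp this).symm
  have hfā : MvPolynomial.eval ā f = 0 :=
    eval_eq_zero_of_val_lt P ρ ā hres (by rw [hfρ, map_zero]; exact zero_lt_one)
  obtain ⟨i₀, hi₀j, hi₀i₁, hall⟩ := exists_third j i₁ hi₁j.symm
  have hsj : ρ j - algebraMap k K (ā j) = 0 := by rw [hρj, hāj, map_one, sub_self]
  set s := ρ i₀ - algebraMap k K (ā i₀) with hs
  set s₁ := ρ i₁ - algebraMap k K (ā i₁) with hs₁
  have hsA : s ∈ A := A.sub_mem (hρA i₀) (A.algebraMap_mem _)
  -- expansion of an element of the maximal ideal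
  have hexp : ∀ U : MvPolynomial (Fin 3) k, MvPolynomial.eval ā U = 0 →
      ∃ H₁ H₀ : MvPolynomial (Fin 3) k, MvPolynomial.aeval ρ U =
        s₁ * MvPolynomial.aeval ρ H₁ + s * MvPolynomial.aeval ρ H₀ ∧
        MvPolynomial.eval ā H₁ = MvPolynomial.eval ā (MvPolynomial.pderiv i₁ U) := by
    intro U hU
    obtain ⟨H, hH, hHv⟩ := exists_taylor' ā U
    rw [hU, map_zero, zero_add] at hH
    refine ⟨H i₁, H i₀, ?_, hHv i₁⟩
    conv_lhs => rw [hH]
    rw [map_sum, sum_three j i₁ i₀ hi₁j.symm hi₀j hi₀i₁]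
    simp only [map_mul, map_sub, MvPolynomial.aeval_X, MvPolynomial.aeval_C]
    rw [hsj, zero_mul, zero_add]
  obtain ⟨H₁, H₀, hf1, hf2⟩ := hexp f hfā
  rw [hfρ] at hf1
  set h₁ := MvPolynomial.aeval ρ H₁ with hh₁
  set h₀ := MvPolynomial.aeval ρ H₀ with hh₀
  have hPh₁ : P.1 h₁ = 1 := val_eq_one_of_eval_ne_zero P ρ ā hres (by rw [hf2]; exact hpd)
  have hh₁0 : h₁ ≠ 0 := by
    intro h; rw [h, map_zero] at hPh₁; exact zero_ne_one hPh₁
  have hh₁inv : h₁⁻¹ ∈ O := inv_mem_locAt (hAO (haeA H₁)) hPh₁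
  have hs₁eq : s₁ = -(s * h₀ * h₁⁻¹) := by
    field_simp
    linear_combination hf1.symm
  have hs0 : s ≠ 0 := by
    intro h0
    have hs₁0 : s₁ = 0 := by rw [hs₁eq, h0]; ring
    obtain ⟨l, hl⟩ := hnc
    apply hl
    rcases hall l with rfl | rfl | rfl
    · exact sub_eq_zero.mp hsj
    · exact sub_eq_zero.mp hs₁0
    · exact sub_eq_zero.mp h0
  have hPs : P.1 s < 1 := hres i₀
  -- the maximal ideal is generated by `s`
  have hmax : ∀ z ∈ O, P.1 z < 1 → ∃ z' ∈ O, z = s * z' := by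
    intro z hz hPz
    obtain ⟨u, hu, w, hw, hw1, e⟩ := hz
    have hPu : P.1 u < 1 := by rw [← e, map_mul, hw1, mul_one]; exact hPz
    obtain ⟨U, rfl⟩ := (mem_adjoin_range_iff ρ u).mp hu
    have hUā := eval_eq_zero_of_val_lt P ρ ā hres hPu
    obtain ⟨H₁', H₀', hU1, -⟩ := hexp U hUā
    have hw0 : w ≠ 0 := by
      intro h; rw [h, map_zero] at hw1; exact zero_ne_one hw1
    have hwinv : w⁻¹ ∈ O := inv_mem_locAt (hAO hw) hw1
    refine ⟨(MvPolynomial.aeval ρ H₀' - h₀ * h₁⁻¹ * MvPolynomial.aeval ρ H₁') * w⁻¹, ?_, ?_⟩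
    · exact O.mul_mem (O.sub_mem (hAO (haeA _))
        (O.mul_mem (O.mul_mem (hAO (haeA _)) hh₁inv) (hAO (haeA _)))) hwinv
    · have : z = MvPolynomial.aeval ρ U * w⁻¹ := by
        rw [← e]; field_simp
      rw [this, hU1, hs₁eq]
      ring
  -- every nonzero element of `O` is a power of `s` times a unit
  have hpow : ∀ n : ℕ, ∀ z ∈ O, z ≠ 0 → P.ord z ≤ n →
      ∃ m : ℕ, ∃ ε ∈ O, P.1 ε = 1 ∧ z = s ^ m * ε := by
    intro n
    induction n with
    | zero =>
      intro z hz hz0 hord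
      have h1 : 0 ≤ P.ord z := (Place.ord_nonneg_iff P hz0).mpr (hOle z hz)
      have h2 : P.ord z = 0 := le_antisymm (by exact_mod_cast hord) h1
      refine ⟨0, z, hz, ?_, by rw [pow_zero, one_mul]⟩
      rw [Place.val_eq_exp_neg_ord P hz0, h2, neg_zero, exp_zero]
    | succ n ih =>
      intro z hz hz0 hord
      by_cases h1 : P.1 z = 1
      · exact ⟨0, z, hz, h1, by rw [pow_zero, one_mul]⟩
      · have hlt : P.1 z < 1 := lt_of_le_of_ne (hOle z hz) h1
        obtain ⟨z', hz', rfl⟩ := hmax z hz hlt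
        have hz'0 : z' ≠ 0 := by
          rintro rfl; exact hz0 (mul_zero _)
        have h2 : P.ord (s * z') = P.ord s + P.ord z' := Place.ord_mul P hs0 hz'0
        have h3 : 0 < P.ord s := (Place.ord_pos_iff P hs0).mpr hPs
        obtain ⟨m, ε, hε, hε1, rfl⟩ := ih z' hz' hz'0 (by push_cast at hord; omega)
        exact ⟨m + 1, ε, hε, hε1, by ring⟩
  intro z hz
  by_cases hz0 : z = 0
  · rw [hz0]; exact O.zero_mem
  obtain ⟨u, hu, w, hw, hw0, e⟩ := hfrac z
  have hu0 : u ≠ 0 := by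
    rw [← e]; exact mul_ne_zero hz0 hw0
  have hordu : 0 ≤ P.ord u := (Place.ord_nonneg_iff P hu0).mpr (hAle u hu)
  have hordw : 0 ≤ P.ord w := (Place.ord_nonneg_iff P hw0).mpr (hAle w hw)
  obtain ⟨a, ε₁, hε₁, hε₁1, hua⟩ := hpow (P.ord u).toNat u (hAO hu) hu0 (by omega)
  obtain ⟨b, ε₂, hε₂, hε₂1, hwb⟩ := hpow (P.ord w).toNat w (hAO hw) hw0 (by omega)
  have hε₂0 : ε₂ ≠ 0 := by
    intro h; rw [h, map_zero] at hε₂1; exact zero_ne_one hε₂1
  have hε₂inv : ε₂⁻¹ ∈ O := inv_mem_locAt hε₂ hε₂1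
  have hzuw : z = u / w := by rw [← e]; field_simp
  have hab : b ≤ a := by
    by_contra hlt
    push Not at hlt
    obtain ⟨c, rfl⟩ := Nat.exists_eq_add_of_lt hlt
    have h1 : z * s ^ (c + 1) = ε₁ * ε₂⁻¹ := by
      rw [hzuw, hua, hwb]
      field_simp
      ring
    have h2 := congrArg P.1 h1
    rw [map_mul, map_mul, map_inv₀, hε₁1, hε₂1, inv_one, mul_one, map_pow] at h2
    have h3 : P.1 s ^ (c + 1) < 1 := pow_lt_one₀ zero_le hPs (by omega)
    have h4 : P.1 z * P.1 s ^ (c + 1) < 1 := by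
      calc P.1 z * P.1 s ^ (c + 1) ≤ 1 * P.1 s ^ (c + 1) := mul_le_mul_left hz _
        _ < 1 := by rw [one_mul]; exact h3
    rw [h2] at h4
    exact lt_irrefl _ h4
  obtain ⟨c, rfl⟩ := Nat.exists_eq_add_of_le hab
  have hzeq : z = s ^ c * ε₁ * ε₂⁻¹ := by
    rw [hzuw, hua, hwb]
    field_simp
    ring
  rw [hzeq]
  exact O.mul_mem (O.mul_mem (pow_mem (hAO hsA) _) hε₁) hε₂inv

end Main

end Groth.Agent.Helper9.PlaneLocal
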