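import Mathlib
import Groth.Agent.Lib.Helper9.FFExt.IntA
import Groth.Agent.Lib.Helper9.FFExt.PlaneGen
import Groth.Agent.Lib.Helper9.FFExt.PlaneLocal
import Groth.Agent.Lib.Helper4.FF.ProjMap9
import Groth.Agent.Lib.Helper4.FF.ProjMap4
import Groth.Agent.Lib.Helper4.FF.Plane1

namespace Groth.Agent.Helper9.IntB

open FunFld WithZero Groth.Agent.Lib.Helper4.FF Groth.Agent.Helper9.PlaneLocal
  Groth.Agent.Helper9.IntA

variable {k K : Type*} [Field k] [Field K] [Algebra k K]

/-- forward direction of the fibre criterion, without linear independence -/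
lemma sameImage_imp {ι : Type*} {φ : ι → K} {P Q : Place k K} (h : SameImage φ P Q) {z : K}
    (hz : InLocRing φ P z) : Q.1 z ≤ 1 ∧ (Q.1 z < 1 ↔ P.1 z < 1) := by
  obtain ⟨j, hj, hP, hQ, hres⟩ := h
  rw [inLocRing_iff hj hP] at hz
  obtain ⟨u, hu, w, hw, hw1, e⟩ := hz
  have hS : ∀ s ∈ Set.range (fun i => φ i / φ j), ∃ c : k,
      P.1 (s - algebraMap k K c) < 1 ∧ Q.1 (s - algebraMap k K c) < 1 := by
    rintro _ ⟨i, rfl⟩
    exact hres i
  obtain ⟨cu, hcu1, hcu2⟩ := exists_common_residue hS hu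
  obtain ⟨cw, hcw1, hcw2⟩ := exists_common_residue hS hw
  have unit : ∀ (R : Place k K) (x : K) (c : k), c ≠ 0 → R.1 (x - algebraMap k K c) < 1 →
      R.1 x = 1 := by
    intro R x c hc h
    have : x = algebraMap k K c + (x - algebraMap k K c) := by ring
    rw [this, Valuation.map_add_eq_of_lt_left]
    · exact Place.val_k R hc
    · rw [Place.val_k R hc]; exact h
  have hcw0 : cw ≠ 0 := by
    rintro rfl
    rw [map_zero, sub_zero, hw1] at hcw1
    exact lt_irrefl _ hcw1
  have hQw : Q.1 w = 1 := unit Q w cw hcw0 hcw2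
  have hQz : Q.1 z = Q.1 u := by rw [← e, map_mul, hQw, mul_one]
  have hPz : P.1 z = P.1 u := by rw [← e, map_mul, hw1, mul_one]
  have key : ∀ R : Place k K, R.1 (u - algebraMap k K cu) < 1 →
      (R.1 u ≤ 1 ∧ (R.1 u < 1 ↔ cu = 0)) := by
    intro R h
    by_cases hc : cu = 0
    · subst hc
      rw [map_zero, sub_zero] at h
      exact ⟨h.le, iff_of_true h rfl⟩
    · have h1 : R.1 u = 1 := unit R u cu hc h
      exact ⟨h1.le, iff_of_false (by rw [h1]; exact lt_irrefl _) hc⟩
  rw [hQz, hPz]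
  obtain ⟨a1, a2⟩ := key Q hcu2
  obtain ⟨b1, b2⟩ := key P hcu1
  exact ⟨a1, a2.trans b2.symm⟩

/-- the fibre over a finite point of a plane model -/
theorem sameImage_iff (x y : K) (P Q : Place k K) (c : Fin 2 → k)
    (hc : ∀ i, P.1 (![x, y] i - algebraMap k K (c i)) < 1) :
    SameImage ![(1 : K), x, y] P Q ↔ ∀ i, Q.1 (![x, y] i - algebraMap k K (c i)) < 1 := by
  have hPle := val_le_one_of_residue P ![x, y] c hc
  have hP3 : ∀ i : Fin 3, P.1 (![(1 : K), x, y] i) ≤ P.1 (![(1 : K), x, y] 0) := by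
    intro i
    refine Fin.cases ?_ (fun j => ?_) i
    · exact le_rfl
    · change P.1 (![x, y] j) ≤ P.1 1
      rw [map_one]; exact hPle j
  constructor
  · intro h i
    have hz : InLocRing ![(1 : K), x, y] P (![x, y] i - algebraMap k K (c i)) := by
      refine ⟨0, one_ne_zero, hP3, ![x, y] i - algebraMap k K (c i), ?_, 1, Subalgebra.one_mem _,
        map_one _, mul_one _⟩
      apply Subalgebra.sub_mem _ _ (Subalgebra.algebraMap_mem _ _)
      apply Algebra.subset_adjoin
      refine ⟨i.succ, ?_⟩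
      change ![x, y] i / 1 = _
      rw [div_one]
    exact ((sameImage_imp h hz).2).mpr (hc i)
  · intro hQ
    have hQle := val_le_one_of_residue Q ![x, y] c hQ
    refine ⟨0, one_ne_zero, hP3, ?_, ?_⟩
    · intro i
      refine Fin.cases ?_ (fun j => ?_) i
      · exact le_rfl
      · change Q.1 (![x, y] j) ≤ Q.1 1
        rw [map_one]; exact hQle j
    · intro i
      refine Fin.cases ?_ (fun j => ?_) i
      · refine ⟨1, ?_, ?_⟩
        · change P.1 ((1 : K) / 1 - _) < 1
          rw [map_one, div_one, sub_self, map_zero]; exact zero_lt_one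
        · change Q.1 ((1 : K) / 1 - _) < 1
          rw [map_one, div_one, sub_self, map_zero]; exact zero_lt_one
      · refine ⟨c j, ?_, ?_⟩
        · change P.1 (![x, y] j / 1 - _) < 1
          rw [div_one]; exact hc j
        · change Q.1 (![x, y] j / 1 - _) < 1
          rw [div_one]; exact hQ j

section Common

variable (x y : K) (P Q : Place k K) (c : Fin 2 → k)
  (hc : ∀ i, P.1 (![x, y] i - algebraMap k K (c i)) < 1)
  (hQ : ∀ i, Q.1 (![x, y] i - algebraMap k K (c i)) < 1)

include hc hQ in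
lemma unit_iff {a : K} (ha : a ∈ Algebra.adjoin k (Set.range ![x, y])) :
    Q.1 a ≤ 1 ∧ (P.1 a = 1 → Q.1 a = 1) := by
  obtain ⟨G, rfl⟩ := (mem_adjoin_range_iff _ a).mp ha
  refine ⟨val_aeval_le_one' Q _ (val_le_one_of_residue Q _ c hQ) G, fun h => ?_⟩
  apply val_eq_one_of_eval_ne_zero Q _ c hQ
  intro h0
  have := residue_aeval P _ c hc G
  rw [h0, map_zero, sub_zero, h] at this
  exact lt_irrefl _ this

include hc hQ in
lemma val_le_one_of_mem_locAt' {z : K} (hz : z ∈ locAt P (Algebra.adjoin k (Set.range ![x, y]))) :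
    Q.1 z ≤ 1 := by
  obtain ⟨u, hu, w, hw, hw1, e⟩ := hz
  have h1 := (unit_iff x y P Q c hc hQ hw).2 hw1
  have h2 := (unit_iff x y P Q c hc hQ hu).1
  have : Q.1 z = Q.1 u := by rw [← e, map_mul, h1, mul_one]
  rw [this]; exact h2

end Common

/-- the conductor of the local ring of the plane model in its normalisation -/
theorem exists_conductor [IsAlgClosed k] (hK : IsFunctionField k K) (x y : K)
    (hxy : IntermediateField.adjoin k ({x, y} : Set K) = ⊤) (P : Place k K) (c : Fin 2 → k)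
    (hc : ∀ i, P.1 (![x, y] i - algebraMap k K (c i)) < 1)
    (S : Finset (Place k K))
    (hS : ∀ Q : Place k K, (∀ i, Q.1 (![x, y] i - algebraMap k K (c i)) < 1) → Q ∈ S) :
    ∃ d ∈ Algebra.adjoin k (Set.range ![x, y]), d ≠ 0 ∧
      ∀ z ∈ Lam S 0, d * z ∈ locAt P (Algebra.adjoin k (Set.range ![x, y])) := by
  classical
  set A := Algebra.adjoin k (Set.range ![x, y]) with hA
  have hrange : Set.range ![x, y] = {x, y} := by
    ext z
    simp only [Set.mem_range, Fin.exists_fin_two, Set.mem_insert_iff, Set.mem_singleton_iff]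
    constructor
    · rintro (h | h)
      · exact Or.inl h.symm
      · exact Or.inr h.symm
    · rintro (h | h)
      · exact Or.inl h.symm
      · exact Or.inr h.symm
  obtain ⟨x', y', -, hx'W, -, hx't, hpole, -, -, -⟩ := PlaneGen.exists_generic_coords' hK x y hxy
    (LinearMap.id : K →ₗ[k] K) ⟨1, Submodule.subset_span ⟨0, rfl⟩, one_ne_zero⟩
  have hWA : Submodule.span k (Set.range ![(1 : K), x, y]) ≤ Subalgebra.toSubmodule A := by
    rw [Submodule.span_le]
    rintro _ ⟨i, rfl⟩
    refine Fin.cases ?_ (fun j => ?_) i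
    · exact A.one_mem
    · exact Algebra.subset_adjoin ⟨j, rfl⟩
  have hx'A : x' ∈ A := hWA hx'W
  have hfrac : ∀ b : K, ∃ u ∈ A, ∃ w ∈ A, w ≠ 0 ∧ b * w = u := by
    intro b
    have hb : b ∈ IntermediateField.adjoin k (Set.range ![x, y]) := by
      rw [hrange, hxy]; trivial
    obtain ⟨r, hr, s, hs, e⟩ := IntermediateField.mem_adjoin_iff_div.mp hb
    by_cases hs0 : s = 0
    · refine ⟨0, A.zero_mem, 1, A.one_mem, one_ne_zero, ?_⟩
      rw [e, hs0, div_zero, zero_mul]
    · exact ⟨r, hr, s, hs, hs0, by rw [e]; field_simp⟩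
  obtain ⟨w₀, hw₀A, hw₀0, hW⟩ := exists_conductor_elt hK A hx'A hx't hfrac
  refine ⟨w₀, hw₀A, hw₀0, fun z hz => ?_⟩
  have hx'0 : x' ≠ 0 := by
    rintro rfl
    exact hx't (isAlgebraic_zero)
  set φ : Fin 3 → K := ![(1 : K), x, y] with hφ
  have hexp : ∀ (Q : Place k K) (j : Fin 3), (∀ i, Q.1 (φ i) ≤ Q.1 (φ j)) →
      exp ((poleDiv x' : Divisor k K) Q) = Q.1 (φ j) := by
    intro Q j h
    rw [hpole]
    exact exp_mapDiv_of_one hK φ ⟨0, rfl⟩ Q h
  -- places where `x'` is regular are finite places of the plane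
  have hreg : ∀ Q : Place k K, Q.1 x' ≤ 1 → ∀ i, Q.1 (![x, y] i) ≤ 1 := by
    intro Q hQ i
    obtain ⟨j, hj⟩ := exists_least φ Q
    have h0 : (poleDiv x' : Divisor k K) Q = 0 := by
      rw [poleDiv_apply hK]
      have := (Place.ord_nonneg_iff Q hx'0).mpr hQ
      exact max_eq_right (by omega)
    have h1 := hexp Q j hj
    rw [h0, exp_zero] at h1
    have := hj i.succ
    rw [← h1] at this
    exact this
  have hpoles : ∀ (Q : Place k K) (i : Fin 2), 1 < Q.1 (![x, y] i) →
      0 < (poleDiv x' : Divisor k K) Q := by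
    intro Q i hi
    obtain ⟨j, hj⟩ := exists_least φ Q
    have h1 := hexp Q j hj
    have h2 : 1 < Q.1 (φ j) := lt_of_lt_of_le hi (hj i.succ)
    rw [← h1, ← exp_zero, exp_lt_exp] at h2
    exact h2
  have hApoles : ∀ a ∈ A, a ∈ polesIn (poleDiv x' : Divisor k K) (poleDiv_nonneg x') := by
    intro a ha
    apply mem_polesIn_of_poles hK
    intro Q hQ
    by_contra hcon
    have hle : ∀ i, Q.1 (![x, y] i) ≤ 1 := by
      intro i
      by_contra h
      push Not at h
      exact hcon (hpoles Q i h)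
    obtain ⟨G, rfl⟩ := (mem_adjoin_range_iff _ a).mp ha
    exact absurd (val_aeval_le_one' Q _ hle G) (not_le.mpr hQ)
  have hsep : ∀ Q : Place k K, 1 < Q.1 z → Q.1 x' ≤ 1 → ∃ f ∈ A, P.1 f = 1 ∧ Q.1 f < 1 := by
    intro Q hQz hQx'
    have hle := hreg Q hQx'
    have hQS : Q ∉ S := by
      intro hQS
      have := hz Q hQS
      rw [Pi.zero_apply, neg_zero, exp_zero] at this
      exact absurd this (not_le.mpr hQz)
    have : ¬ ∀ i, Q.1 (![x, y] i - algebraMap k K (c i)) < 1 := fun h => hQS (hS Q h)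
    push Not at this
    obtain ⟨i, hi⟩ := this
    obtain ⟨a, ha⟩ := Place.exists_const_sub_lt Q (Place.deg_eq_one hK Q) (hle i)
    have hne : a ≠ c i := by
      rintro rfl
      exact absurd ha (not_lt.mpr hi)
    refine ⟨![x, y] i - algebraMap k K a, A.sub_mem (Algebra.subset_adjoin ⟨i, rfl⟩)
      (A.algebraMap_mem a), ?_, ha⟩
    have e : ![x, y] i - algebraMap k K a =
        algebraMap k K (c i - a) + (![x, y] i - algebraMap k K (c i)) := by
      rw [map_sub]; ring
    have hca : c i - a ≠ 0 := sub_ne_zero.mpr (Ne.symm hne)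
    rw [e, Valuation.map_add_eq_of_lt_left]
    · exact Place.val_k P hca
    · rw [Place.val_k P hca]; exact hc i
  obtain ⟨w, hw, hw1, m, hm⟩ := exists_unit_mul_mem_L hK P A hx'0 hApoles z hsep
  exact ⟨w₀ * (z * w), hW m _ hm, w, hw, hw1, by ring⟩

end Groth.Agent.Helper9.IntB
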