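import Mathlib
import Groth.Agent.Lib.Helper9.FFExt.PlaneLocal
import Groth.Agent.Lib.Helper4.FF.ProjMap1

namespace Groth.Agent.Helper9.IntC

open FunFld WithZero Groth.Agent.Lib.Helper4.FF Groth.Agent.Helper9.PlaneLocal

variable {k K : Type*} [Field k] [Field K] [Algebra k K]

/-- the local ring of the plane at a point of an affine plane model, modulo the equation of the
model and a second polynomial, is the local ring of the model at the point modulo the image of the
second polynomial -/
theorem finrank_localization_quotient (x y : K) (f g : MvPolynomial (Fin 2) k)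
    (hfxy : MvPolynomial.aeval ![x, y] f = 0)
    (hker : ∀ G : MvPolynomial (Fin 2) k, MvPolynomial.aeval ![x, y] G = 0 → f ∣ G)
    (P : Place k K) (c : Fin 2 → k)
    (hc : ∀ i, P.1 (![x, y] i - algebraMap k K (c i)) < 1)
    (M : Ideal (MvPolynomial (Fin 2) k)) [M.IsMaximal]
    (hM : M = Ideal.span {MvPolynomial.X 0 - MvPolynomial.C (c 0),
      MvPolynomial.X 1 - MvPolynomial.C (c 1)}) :
    Module.finrank k (Localization.AtPrime M ⧸
        Ideal.map (algebraMap (MvPolynomial (Fin 2) k) (Localization.AtPrime M))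
          (Ideal.span {f, g})) =
      Module.finrank k (↥(Subalgebra.toSubmodule (locAt P (Algebra.adjoin k (Set.range ![x, y])))) ⧸
        Submodule.comap (Subalgebra.toSubmodule (locAt P (Algebra.adjoin k (Set.range ![x, y])))).subtype
          ((Subalgebra.toSubmodule (locAt P (Algebra.adjoin k (Set.range ![x, y])))).map
            (LinearMap.mulLeft k (MvPolynomial.aeval ![x, y] g)))) := by
  classical
  set R := Localization.AtPrime M with hR
  set A := Algebra.adjoin k (Set.range ![x, y]) with hA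
  set φ : MvPolynomial (Fin 2) k →ₐ[k] K := MvPolynomial.aeval ![x, y] with hφ
  set γ := φ g with hγ
  have hφA : ∀ G, φ G ∈ A := fun G => (mem_adjoin_range_iff _ _).mpr ⟨G, rfl⟩
  -- the maximal ideal is the kernel of evaluation at the point
  have hmemM : ∀ G : MvPolynomial (Fin 2) k, MvPolynomial.eval c G = 0 → G ∈ M := by
    intro G hG
    obtain ⟨H, hH⟩ := exists_taylor c G
    rw [hG, map_zero, zero_add, Fin.sum_univ_two] at hH
    rw [hH, hM]
    exact Ideal.add_mem _ (Ideal.mul_mem_right _ _ (Ideal.subset_span (by simp)))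
      (Ideal.mul_mem_right _ _ (Ideal.subset_span (by simp)))
  have hunit1 : ∀ G : MvPolynomial (Fin 2) k, G ∉ M → P.1 (φ G) = 1 := by
    intro G hG
    apply val_eq_one_of_eval_ne_zero P _ c hc
    intro h0
    exact hG (hmemM G h0)
  have hnonunit : ∀ G : MvPolynomial (Fin 2) k, G ∈ M → P.1 (φ G) < 1 := by
    intro G hG
    have h0 : MvPolynomial.eval c G = 0 := by
      have hle : M ≤ RingHom.ker (MvPolynomial.eval c) := by
        rw [hM, Ideal.span_le]
        rintro _ (rfl | rfl) <;> simp [RingHom.mem_ker]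
      exact hle hG
    have := residue_aeval P _ c hc G
    rwa [h0, map_zero, sub_zero] at this
  have hunit : ∀ G : M.primeCompl, IsUnit (φ G) := by
    intro G
    apply IsUnit.mk0
    intro h0
    have := hunit1 G G.2
    rw [h0, map_zero] at this
    exact zero_ne_one this
  let ψ : R →ₐ[k] K := IsLocalization.liftAlgHom (M := M.primeCompl) hunit
  have hψ_alg : ∀ G, ψ (algebraMap _ R G) = φ G := fun G => IsLocalization.lift_eq _ _
  have hψ_mk : ∀ (U : MvPolynomial (Fin 2) k) (W : M.primeCompl),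
      ψ (IsLocalization.mk' R U W) * φ W = φ U := by
    intro U W
    have := (IsLocalization.lift_mk'_spec (S := R) (g := φ.toRingHom) (hg := hunit) U
      (ψ (IsLocalization.mk' R U W)) W).mp rfl
    rw [mul_comm]; exact this.symm
  have hrange : ∀ r, ψ r ∈ locAt P A := by
    intro r
    obtain ⟨U, W, rfl⟩ := IsLocalization.exists_mk'_eq M.primeCompl r
    exact ⟨φ U, hφA U, φ W, hφA W, hunit1 W W.2, hψ_mk U W⟩
  have hsurj : ∀ z ∈ locAt P A, ∃ r, ψ r = z := by
    rintro z ⟨u, hu, w, hw, hw1, e⟩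
    obtain ⟨U, rfl⟩ := (mem_adjoin_range_iff _ u).mp hu
    obtain ⟨W, rfl⟩ := (mem_adjoin_range_iff _ w).mp hw
    have hWM : W ∉ M := by
      intro h
      have := hnonunit W h
      rw [hw1] at this
      exact lt_irrefl _ this
    have hW0 : φ W ≠ 0 := by
      intro h0
      rw [h0, map_zero] at hw1
      exact zero_ne_one hw1
    refine ⟨IsLocalization.mk' R U (⟨W, hWM⟩ : M.primeCompl), ?_⟩
    have := hψ_mk U (⟨W, hWM⟩ : M.primeCompl)
    exact mul_right_cancel₀ hW0 (this.trans e.symm)
  set I := Ideal.map (algebraMap (MvPolynomial (Fin 2) k) R) (Ideal.span {f, g}) with hI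
  have hfI : algebraMap _ R f ∈ I := Ideal.mem_map_of_mem _ (Ideal.subset_span (by simp))
  have hgI : algebraMap _ R g ∈ I := Ideal.mem_map_of_mem _ (Ideal.subset_span (by simp))
  have hker0 : ∀ r, ψ r = 0 → r ∈ I := by
    intro r hr
    obtain ⟨U, W, rfl⟩ := IsLocalization.exists_mk'_eq M.primeCompl r
    have h1 := hψ_mk U W
    rw [hr, zero_mul] at h1
    obtain ⟨h, rfl⟩ := hker U h1.symm
    rw [IsLocalization.mk'_eq_mul_mk'_one, map_mul, mul_assoc]
    exact I.mul_mem_right _ hfI
  have hI1 : ∀ r ∈ I, ∃ b ∈ locAt P A, ψ r = γ * b := by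
    intro r hr
    rw [hI, Ideal.map_span, Set.image_pair] at hr
    obtain ⟨a, b, rfl⟩ := Ideal.mem_span_pair.mp hr
    refine ⟨ψ b, hrange b, ?_⟩
    rw [map_add, map_mul, map_mul, hψ_alg, hψ_alg]
    change ψ a * φ f + ψ b * γ = _
    rw [hfxy, mul_zero, zero_add, mul_comm]
  have hI2 : ∀ r, (∃ b ∈ locAt P A, ψ r = γ * b) → r ∈ I := by
    rintro r ⟨b, hb, e⟩
    obtain ⟨r', rfl⟩ := hsurj b hb
    have h0 : ψ (r - algebraMap _ R g * r') = 0 := by
      rw [map_sub, map_mul, hψ_alg, e, sub_self]
    have h1 : r - algebraMap _ R g * r' ∈ I := hker0 _ h0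
    have h2 : algebraMap _ R g * r' ∈ I := I.mul_mem_right _ hgI
    have := I.add_mem h1 h2
    rwa [sub_add_cancel] at this
  set B : Submodule k K := Subalgebra.toSubmodule (locAt P A) with hB
  set N : Submodule k B := Submodule.comap B.subtype (B.map (LinearMap.mulLeft k γ)) with hN
  let ψB : R →ₗ[k] B := ψ.toLinearMap.codRestrict B hrange
  let Φ : R →ₗ[k] (B ⧸ N) := N.mkQ ∘ₗ ψB
  have hΦsurj : Function.Surjective Φ := by
    intro q
    obtain ⟨b, rfl⟩ := N.mkQ_surjective q
    obtain ⟨r, hr⟩ := hsurj b.1 b.2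
    refine ⟨r, ?_⟩
    change N.mkQ (ψB r) = N.mkQ b
    congr 1
    exact Subtype.ext hr
  have hΦker : LinearMap.ker Φ = I.restrictScalars k := by
    ext r
    rw [LinearMap.mem_ker, Submodule.restrictScalars_mem]
    change N.mkQ (ψB r) = 0 ↔ _
    rw [Submodule.mkQ_apply, Submodule.Quotient.mk_eq_zero]
    change (ψ r) ∈ B.map (LinearMap.mulLeft k γ) ↔ _
    rw [Submodule.mem_map]
    constructor
    · rintro ⟨b, hb, e⟩
      exact hI2 r ⟨b, hb, e.symm⟩
    · intro hr
      obtain ⟨b, hb, e⟩ := hI1 r hr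
      exact ⟨b, hb, e.symm⟩
  have e1 := Φ.quotKerEquivOfSurjective hΦsurj
  have e2 := Submodule.quotEquivOfEq _ _ hΦker
  have e3 := Submodule.Quotient.restrictScalarsEquiv k I
  exact (e3.symm.trans (e2.symm.trans e1)).finrank_eq

end Groth.Agent.Helper9.IntC
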