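import Mathlib
import Groth.Prelude.Def_W4bk4goldsch23Ext
import Groth.Agent.Lib.Helper9.FFExt.GeoKaehler
import Groth.Agent.Lib.Helper9.FFExt.KaehlerSep

namespace Groth.Agent.Helper9.FFExt

open FunFld Polynomial

section KerD

universe u v

variable {k : Type u} {K : Type v} [Field k] [Field K] [Algebra k K]

/-- `D z ∈ K · D y` for `z ∈ k(K^p, y)` -/
theorem D_mem_span_of_mem_adjoin_pow (p : ℕ) [CharP K p] (y : K) {z : K}
    (hz : z ∈ IntermediateField.adjoin k (Set.range (fun w : K => w ^ p) ∪ {y})) :
    KaehlerDifferential.D k K z ∈ Submodule.span K {KaehlerDifferential.D k K y} := by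
  induction hz using IntermediateField.adjoin_induction with
  | mem w hw =>
    rcases hw with ⟨v, rfl⟩ | hw
    · rw [Derivation.leibniz_pow, ← Nat.cast_smul_eq_nsmul K, CharP.cast_eq_zero K p, zero_smul]
      exact Submodule.zero_mem _
    · rw [Set.mem_singleton_iff.mp hw]
      exact Submodule.subset_span rfl
  | algebraMap c =>
    rw [Derivation.map_algebraMap]
    exact Submodule.zero_mem _
  | add a b _ _ ha hb =>
    rw [map_add]
    exact Submodule.add_mem _ ha hb
  | inv a _ ha =>
    rw [Derivation.leibniz_inv]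
    exact Submodule.smul_mem _ _ ha
  | mul a b _ _ ha hb =>
    rw [Derivation.leibniz]
    exact Submodule.add_mem _ (Submodule.smul_mem _ _ hb) (Submodule.smul_mem _ _ ha)

/-- `D` vanishes on `k(K^p)` -/
theorem D_eq_zero_of_mem_adjoin_pow (p : ℕ) [CharP K p] {z : K}
    (hz : z ∈ IntermediateField.adjoin k (Set.range (fun w : K => w ^ p))) :
    KaehlerDifferential.D k K z = 0 := by
  induction hz using IntermediateField.adjoin_induction with
  | mem w hw =>
    obtain ⟨v, rfl⟩ := hw
    rw [Derivation.leibniz_pow, ← Nat.cast_smul_eq_nsmul K, CharP.cast_eq_zero K p, zero_smul]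
  | algebraMap c => rw [Derivation.map_algebraMap]
  | add a b _ _ ha hb => rw [map_add, ha, hb, add_zero]
  | inv a _ ha => rw [Derivation.leibniz_inv, ha, smul_zero]
  | mul a b _ _ ha hb => rw [Derivation.leibniz, ha, hb, smul_zero, smul_zero, add_zero]

/-- for a separating variable `t`, `K = k(K^p, t)` -/
theorem adjoin_pow_union_eq_top (p : ℕ) [hp : Fact p.Prime] [CharP K p] {t : K}
    [Algebra.IsSeparable (IntermediateField.adjoin k ({t} : Set K)) K] :
    IntermediateField.adjoin k ({t} ∪ Set.range (fun w : K => w ^ p)) = ⊤ := by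
  have _ : CharP (IntermediateField.adjoin k ({t} : Set K)) p :=
    (RingHom.charP_iff (algebraMap (IntermediateField.adjoin k ({t} : Set K)) K)
      (algebraMap (IntermediateField.adjoin k ({t} : Set K)) K).injective p).mpr inferInstance
  have _ : ExpChar (IntermediateField.adjoin k ({t} : Set K)) p := ExpChar.prime hp.out
  have h1 := IntermediateField.adjoin_eq_adjoin_pow_expChar_of_isSeparable'
    (IntermediateField.adjoin k ({t} : Set K)) K Set.univ p
  rw [IntermediateField.adjoin_univ, Set.image_univ] at h1
  rw [← IntermediateField.adjoin_adjoin_left, ← h1, IntermediateField.restrictScalars_top]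

/-- `X^p - y^p` is the minimal polynomial of `y ∉ L` over a subfield `L ∋ y^p` in char `p` -/
theorem finrank_adjoin_of_pow_mem (p : ℕ) [hp : Fact p.Prime] [CharP K p]
    (L : IntermediateField k K) {y : K} (hy : y ∉ L) (hyp : y ^ p ∈ L) :
    Module.finrank L (IntermediateField.adjoin L ({y} : Set K)) = p := by
  have hirr : Irreducible (X ^ p - C (⟨y ^ p, hyp⟩ : L)) := by
    apply X_pow_sub_C_irreducible_of_prime hp.out
    intro b hb
    apply hy
    have h1 : (b : K) ^ p = y ^ p := congrArg Subtype.val hb
    have h2 : (b : K) = y := by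
      have := frobenius_inj K p
      exact this h1
    rw [← h2]; exact b.2
  have hmin : minpoly L y = X ^ p - C (⟨y ^ p, hyp⟩ : L) := by
    symm
    apply minpoly.eq_of_irreducible_of_monic hirr
    · rw [map_sub, map_pow, aeval_X, aeval_C]
      change y ^ p - y ^ p = 0
      exact sub_self _
    · exact monic_X_pow_sub_C _ hp.out.ne_zero
  have hint : IsIntegral L y := by
    refine ⟨X ^ p - C (⟨y ^ p, hyp⟩ : L), monic_X_pow_sub_C _ hp.out.ne_zero, ?_⟩
    rw [← aeval_def, map_sub, map_pow, aeval_X, aeval_C]
    change y ^ p - y ^ p = 0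
    exact sub_self _
  rw [IntermediateField.adjoin.finrank hint, hmin, natDegree_X_pow_sub_C]

/-- in a geometric function field of characteristic `p`, `dy = 0` forces `y ∈ k(K^p)` -/
theorem mem_adjoin_pow_of_D_eq_zero (hK : IsFFw k K) (hg : IsGeometric k K) (p : ℕ)
    [hp : Fact p.Prime] [CharP K p] {y : K} (hy : KaehlerDifferential.D k K y = 0) :
    y ∈ IntermediateField.adjoin k (Set.range (fun w : K => w ^ p)) := by
  by_contra hyL
  obtain ⟨L, hL⟩ : ∃ L : IntermediateField k K,
      L = IntermediateField.adjoin k (Set.range (fun w : K => w ^ p)) := ⟨_, rfl⟩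
  rw [← hL] at hyL
  obtain ⟨t, htr, hsep⟩ := exists_separating_of_isGeometric hK hg
  have hDt : KaehlerDifferential.D k K t ≠ 0 := D_ne_zero_of_isSeparable k K htr
  have hpow : ∀ w : K, w ^ p ∈ L := fun w => by
    rw [hL]; exact IntermediateField.subset_adjoin _ _ ⟨w, rfl⟩
  have hLt : IntermediateField.adjoin L ({t} : Set K) = ⊤ := by
    rw [← IntermediateField.restrictScalars_eq_top_iff (K := k), hL,
      IntermediateField.adjoin_adjoin_left, Set.union_comm]
    exact adjoin_pow_union_eq_top p
  by_cases ht : t ∈ L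
  · have h1 : IntermediateField.adjoin L ({t} : Set K) = ⊥ := by
      rw [IntermediateField.adjoin_simple_eq_bot_iff]
      exact ⟨⟨t, ht⟩, rfl⟩
    rw [hLt] at h1
    have h2 : y ∈ (⊥ : IntermediateField L K) := by rw [← h1]; trivial
    obtain ⟨z, rfl⟩ := IntermediateField.mem_bot.mp h2
    exact hyL z.2
  · have h1 := finrank_adjoin_of_pow_mem p L ht (hpow t)
    have h2 := finrank_adjoin_of_pow_mem p L hyL (hpow y)
    have hfinK : Module.finrank L K = p := by
      rw [← h1, hLt, IntermediateField.finrank_top']
    have htower := Module.finrank_mul_finrank L (IntermediateField.adjoin L ({y} : Set K)) K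
    rw [h2, hfinK] at htower
    have hm : Module.finrank (IntermediateField.adjoin L ({y} : Set K)) K = 1 := by
      have hp0 : 0 < p := hp.out.pos
      exact Nat.eq_of_mul_eq_mul_left hp0 (by rw [htower, mul_one])
    have hLy : IntermediateField.adjoin L ({y} : Set K) = ⊤ :=
      IntermediateField.finrank_eq_one_iff_eq_top.mp hm
    have hky : IntermediateField.adjoin k (Set.range (fun w : K => w ^ p) ∪ {y}) = ⊤ := by
      rw [← IntermediateField.adjoin_adjoin_left, ← hL, hLy, IntermediateField.restrictScalars_top]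
    have h3 := D_mem_span_of_mem_adjoin_pow (k := k) p y
      (show t ∈ IntermediateField.adjoin k (Set.range (fun w : K => w ^ p) ∪ {y}) by
        rw [hky]; trivial)
    rw [hy, Submodule.span_singleton_eq_bot.mpr rfl, Submodule.mem_bot] at h3
    exact hDt h3

end KerD

end Groth.Agent.Helper9.FFExt
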