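import Mathlib
import Groth.Prelude.Def_W4bk4goldsch45p2
import Groth.Agent.Lib.Helper9.FFExt.DivDiff2

/-! # The divisor of a projective map as a supremum of values; coordinate changes (helper9) -/

namespace Groth.Agent.Helper9.FFExt

open FunFld WithZero
open Groth.Agent.Lib.Helper4.FF

section Sup

universe u v
variable {k : Type u} {K : Type v} [Field k] [Field K] [Algebra k K]

/-- for a tuple containing `1`, the coefficient of `[ψ]` at `P` is the largest value of the entries -/
theorem exp_mapDiv_eq_sup (hK : IsFunctionField k K) {ι : Type*} [Fintype ι] [Nonempty ι]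
    (ψ : ι → K) (i₁ : ι) (h1 : ψ i₁ = 1) (P : Place k K) :
    exp (mapDiv k ψ P) = Finset.univ.sup' Finset.univ_nonempty (fun i => P.1 (ψ i)) := by
  rw [mapDiv_apply hK]
  obtain ⟨im, -, him⟩ := Finset.exists_max_image Finset.univ (fun i => P.1 (ψ i)) Finset.univ_nonempty
  have hge1 : 1 ≤ P.1 (ψ im) := by
    have := him i₁ (Finset.mem_univ _)
    rwa [h1, map_one] at this
  have hne : ψ im ≠ 0 := by
    rintro h0
    rw [h0, map_zero] at hge1
    exact not_le.mpr zero_lt_one hge1
  have hsup : Finset.univ.sup' Finset.univ_nonempty (fun i => P.1 (ψ i)) = P.1 (ψ im) := by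
    apply le_antisymm
    · rw [Finset.sup'_le_iff]
      intro i _
      exact him i (Finset.mem_univ _)
    · exact Finset.le_sup' (fun i => P.1 (ψ i)) (Finset.mem_univ im)
  have hordm : P.ord (ψ im) ≤ 0 := by
    rw [Place.val_eq_exp_neg_ord P hne, ← exp_zero, exp_le_exp] at hge1
    omega
  have hinf : Finset.univ.inf' Finset.univ_nonempty (fun i => P.ord (ψ i)) = P.ord (ψ im) := by
    apply le_antisymm
    · exact Finset.inf'_le _ (Finset.mem_univ im)
    · rw [Finset.le_inf'_iff]
      intro i _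
      by_cases hi : ψ i = 0
      · rw [hi]
        have : P.ord (0 : K) = 0 := by
          unfold Place.ord
          rw [map_zero, log_zero, neg_zero]
        rw [this]
        exact hordm
      · have := him i (Finset.mem_univ _)
        rw [Place.val_eq_exp_neg_ord P hne, Place.val_eq_exp_neg_ord P hi, exp_le_exp] at this
        omega
  rw [hsup, hinf, Place.val_eq_exp_neg_ord P hne]

theorem sup_val_le_of_matrix {m n : Type*} [Fintype m] [Fintype n] [Nonempty m] [Nonempty n]
    (ψ : n → K) (ψ' : m → K) (A : Matrix m n k)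
    (h : ∀ i, ψ' i = ∑ j, algebraMap k K (A i j) * ψ j) (P : Place k K) :
    Finset.univ.sup' Finset.univ_nonempty (fun i => P.1 (ψ' i)) ≤
      Finset.univ.sup' Finset.univ_nonempty (fun i => P.1 (ψ i)) := by
  rw [Finset.sup'_le_iff]
  intro i _
  rw [h i]
  apply Valuation.map_sum_le
  intro j _
  rw [map_mul]
  calc P.1 (algebraMap k K (A i j)) * P.1 (ψ j) ≤ 1 * P.1 (ψ j) :=
        mul_le_mul_left (Place.val_k_le P _) _
    _ = P.1 (ψ j) := one_mul _
    _ ≤ _ := Finset.le_sup' (fun i => P.1 (ψ i)) (Finset.mem_univ j)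

theorem sup_val_mul {ι : Type*} [Fintype ι] [Nonempty ι] (ψ : ι → K) (z : K) (P : Place k K) :
    Finset.univ.sup' Finset.univ_nonempty (fun i => P.1 (z * ψ i)) =
      P.1 z * Finset.univ.sup' Finset.univ_nonempty (fun i => P.1 (ψ i)) := by
  obtain ⟨im, -, him⟩ := Finset.exists_max_image Finset.univ (fun i => P.1 (ψ i)) Finset.univ_nonempty
  have hsup : Finset.univ.sup' Finset.univ_nonempty (fun i => P.1 (ψ i)) = P.1 (ψ im) := by
    apply le_antisymm
    · rw [Finset.sup'_le_iff]
      intro i _
      exact him i (Finset.mem_univ _)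
    · exact Finset.le_sup' (fun i => P.1 (ψ i)) (Finset.mem_univ im)
  rw [hsup]
  apply le_antisymm
  · rw [Finset.sup'_le_iff]
    intro i _
    rw [map_mul]
    exact mul_le_mul_right (him i (Finset.mem_univ _)) _
  · rw [← map_mul]
    exact Finset.le_sup' (fun i => P.1 (z * ψ i)) (Finset.mem_univ im)

/-- inverting a linear relation over the constants -/
theorem eq_inv_mulVec {n : Type*} [Fintype n] [DecidableEq n] (A : Matrix n n k) (hA : A.det ≠ 0)
    (φ w : n → K) (hw : ∀ i, ∑ j, algebraMap k K (A i j) * w j = φ i) (j : n) :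
    w j = ∑ i, algebraMap k K (A⁻¹ j i) * φ i := by
  have hinv : A⁻¹ * A = 1 := Matrix.nonsing_inv_mul A (Ne.isUnit hA)
  simp only [← hw, Finset.mul_sum, ← mul_assoc, ← map_mul]
  rw [Finset.sum_comm]
  simp only [← Finset.sum_mul, ← map_sum]
  have h1 : ∀ l, ∑ i, A⁻¹ j i * A i l = (1 : Matrix n n k) j l := by
    intro l
    rw [← hinv, Matrix.mul_apply]
  simp only [h1, Matrix.one_apply]
  rw [Finset.sum_eq_single j]
  · simp
  · intro l _ hl
    rw [if_neg (Ne.symm hl), map_zero, zero_mul]
  · simp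

/-- the divisor of a projective map under a change of projective coordinates followed by
dehomogenization -/
theorem mapDiv_coord_change (hK : IsFunctionField k K) {n : Type*} [Fintype n] [DecidableEq n]
    [Nonempty n] (A : Matrix n n k) (hA : A.det ≠ 0)
    (φ φ' w : n → K) (hw : ∀ i, ∑ j, algebraMap k K (A i j) * w j = φ i)
    (z : K) (hz : z ≠ 0) (hφ' : ∀ i, φ' i = z * w i) (i₁ i₁' : n) (h1 : φ i₁ = 1) (h1' : φ' i₁' = 1)
    (P : Place k K) : mapDiv k φ' P = mapDiv k φ P - P.ord z := by
  have e1 := exp_mapDiv_eq_sup hK φ i₁ h1 P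
  have e2 := exp_mapDiv_eq_sup hK φ' i₁' h1' P
  have hsup : Finset.univ.sup' Finset.univ_nonempty (fun i => P.1 (φ i)) =
      Finset.univ.sup' Finset.univ_nonempty (fun i => P.1 (w i)) := by
    apply le_antisymm
    · exact sup_val_le_of_matrix w φ A (fun i => (hw i).symm) P
    · exact sup_val_le_of_matrix φ w A⁻¹ (fun j => eq_inv_mulVec A hA φ w hw j) P
  have h3 : (fun i => P.1 (φ' i)) = fun i => P.1 (z * w i) := by
    funext i
    rw [hφ']
  rw [h3, sup_val_mul, ← hsup, ← e1, Place.val_eq_exp_neg_ord P hz, ← exp_add, exp_inj] at e2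
  omega

end Sup

end Groth.Agent.Helper9.FFExt
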