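import Mathlib
import Groth.Agent.Lib.Helper4.FF.Plane4
import Groth.Agent.Lib.Helper9.FFExt.PlaneKer2

namespace Groth.Agent.Helper9.PlaneDeg

open FunFld WithZero Polynomial Groth.Agent.Lib.Helper4.FF Groth.Agent.Helper9.PlaneKer

variable {k K : Type*} [Field k] [Field K] [Algebra k K]

/-- the poles of an element of `L((x)_∞)` are poles of `x` -/
lemma poles_of_mem_L_poleDiv (hK : IsFunctionField k K) {x y : K}
    (hy : y ∈ L (poleDiv x : Divisor k K)) (Q : Place k K) (hQ : 1 < Q.1 y) : 1 < Q.1 x := by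
  have h1 := hy Q
  rw [poleDiv_apply hK] at h1
  by_contra hcon
  push Not at hcon
  have hx0 : x ≠ 0 := by
    rintro rfl
    simp [Place.ord] at h1
    exact absurd hQ (not_lt.mpr h1)
  have h2 : 0 ≤ Q.ord x := (Place.ord_nonneg_iff Q hx0).mpr hcon
  rw [max_eq_right (by omega), exp_zero] at h1
  exact absurd hQ (not_lt.mpr h1)

/-- at a pole of `x` an element of `L((x)_∞)` has at most the order of `x` -/
lemma val_le_of_mem_L_poleDiv (hK : IsFunctionField k K) {x y : K}
    (hy : y ∈ L (poleDiv x : Divisor k K)) (Q : Place k K) (hQ : 1 < Q.1 x) : Q.1 y ≤ Q.1 x := by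
  have h1 := hy Q
  rw [poleDiv_apply hK] at h1
  have hx0 : x ≠ 0 := by
    rintro rfl
    rw [map_zero] at hQ
    exact absurd hQ (by simp)
  have h2 : Q.ord x < 0 := (Place.ord_neg_iff Q hx0).mpr hQ
  rw [max_eq_left (by omega), ← Place.val_eq_exp_neg_ord Q hx0] at h1
  exact h1

/-- the integral equation of `y` over `k[x]` with sums over ranges -/
lemma exists_pow_eq_sum_range (hK : IsFunctionField k K) {x y : K} (hxt : Transcendental k x)
    (hy : ∀ Q : Place k K, 1 < Q.1 y → 1 < Q.1 x) :
    ∃ a : ℕ → k[X],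
      y ^ (minpoly (IntermediateField.adjoin k ({x} : Set K)) y).natDegree =
        ∑ j ∈ Finset.range (minpoly (IntermediateField.adjoin k ({x} : Set K)) y).natDegree,
          aeval x (a j) * y ^ j := by
  obtain ⟨a, ha⟩ := exists_pow_eq_sum hK hxt hy
  refine ⟨fun j => if h : j < (minpoly (IntermediateField.adjoin k ({x} : Set K)) y).natDegree
    then a ⟨j, h⟩ else 0, ?_⟩
  rw [ha, ← Fin.sum_univ_eq_sum_range (fun j => aeval x
    (if h : j < (minpoly (IntermediateField.adjoin k ({x} : Set K)) y).natDegree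
      then a ⟨j, h⟩ else 0) * y ^ j)]
  refine Finset.sum_congr rfl fun j _ => ?_
  rw [dif_pos j.2]

/-- **degree bound**: for `y ∈ L((x)_∞)` the coefficients of the integral equation of `y` over
`k[x]` have degrees bounded by the codegree -/
theorem exists_pow_eq_sum_natDegree_le (hK : IsFunctionField k K) {x y : K}
    (hxt : Transcendental k x) (hy : y ∈ L (poleDiv x : Divisor k K))
    (hgen : IntermediateField.adjoin k ({x, y} : Set K) = ⊤) :
    ∃ (e : ℕ) (a : ℕ → k[X]), (e : ℤ) = (poleDiv x : Divisor k K).deg ∧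
      e = (minpoly (IntermediateField.adjoin k ({x} : Set K)) y).natDegree ∧
      (∀ j < e, (a j).natDegree ≤ e - j) ∧
      y ^ e = ∑ j ∈ Finset.range e, aeval x (a j) * y ^ j := by
  classical
  have hx0 : x ≠ 0 := by
    rintro rfl
    exact hxt isAlgebraic_zero
  have hypoles := poles_of_mem_L_poleDiv hK hy
  obtain ⟨a, ha⟩ := exists_pow_eq_sum_range hK hxt hypoles
  set F := IntermediateField.adjoin k ({x} : Set K) with hF
  set e := (minpoly F y).natDegree with he
  have hedeg : (e : ℤ) = (poleDiv x : Divisor k K).deg :=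
    natDegree_minpoly_eq_deg_poleDiv hK hxt hgen
  -- the chart at infinity
  set w := x⁻¹ with hw
  set t := y * x⁻¹ with ht
  have hwt : Transcendental k w := fun h => hxt (by
    have := h.inv
    rwa [hw, inv_inv] at this)
  have htpoles : ∀ Q : Place k K, 1 < Q.1 t → 1 < Q.1 w := by
    intro Q hQ
    rw [hw, map_inv₀]
    rw [ht, map_mul, map_inv₀] at hQ
    have hxQ0 : Q.1 x ≠ 0 := (Valuation.ne_zero_iff _).mpr hx0
    by_cases hxQ : 1 < Q.1 x
    · have h1 := val_le_of_mem_L_poleDiv hK hy Q hxQ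
      have : Q.1 y * (Q.1 x)⁻¹ ≤ 1 := by
        rw [← div_eq_mul_inv]
        exact div_le_one_of_le₀ h1 zero_le
      exact absurd hQ (not_lt.mpr this)
    · push Not at hxQ
      have hyQ : Q.1 y ≤ 1 := by
        by_contra h
        push Not at h
        exact absurd (hypoles Q h) (not_lt.mpr hxQ)
      rw [one_lt_inv₀ (zero_lt_iff.mpr hxQ0)]
      by_contra h
      push Not at h
      have hx1 : Q.1 x = 1 := le_antisymm hxQ h
      rw [hx1, inv_one, mul_one] at hQ
      exact absurd hQ (not_lt.mpr hyQ)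
  obtain ⟨b, hb⟩ := exists_pow_eq_sum_range hK hwt htpoles
  set F' := IntermediateField.adjoin k ({w} : Set K) with hF'
  set e' := (minpoly F' t).natDegree with he'
  have hgen' : IntermediateField.adjoin k ({w, t} : Set K) = ⊤ := by
    rw [eq_top_iff, ← hgen, IntermediateField.adjoin_le_iff]
    have hwm : w ∈ IntermediateField.adjoin k ({w, t} : Set K) :=
      IntermediateField.subset_adjoin k _ (by simp)
    have htm : t ∈ IntermediateField.adjoin k ({w, t} : Set K) :=
      IntermediateField.subset_adjoin k _ (by simp)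
    have hxm : x ∈ IntermediateField.adjoin k ({w, t} : Set K) := by
      have := inv_mem hwm
      rwa [hw, inv_inv] at this
    rintro z (rfl | rfl)
    · exact hxm
    · have : z = t * x := by rw [ht]; field_simp
      rw [this]
      exact mul_mem htm hxm
  have he'e : e' = e := by
    have h1 : (e' : ℤ) = (poleDiv w : Divisor k K).deg :=
      natDegree_minpoly_eq_deg_poleDiv hK hwt hgen'
    have h2 : ((e' : ℤ)) = (e : ℤ) := by
      rw [h1, hedeg, hw, deg_zeroDiv hK hxt, deg_poleDiv hK hxt]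
    exact_mod_cast h2
  rw [he'e] at hb
  -- multiply by `x ^ e`
  have hyt : y = t * x := by rw [ht]; field_simp
  have h3 : y ^ e = ∑ j ∈ Finset.range e, (aeval w (b j) * x ^ (e - j)) * y ^ j := by
    have h4 : y ^ e = t ^ e * x ^ e := by rw [hyt, mul_pow]
    rw [h4, hb, Finset.sum_mul]
    refine Finset.sum_congr rfl fun j hj => ?_
    have hj' : j ≤ e := (Finset.mem_range.mp hj).le
    have : x ^ e = x ^ j * x ^ (e - j) := by rw [← pow_add]; congr 1; omega
    rw [this, hyt, mul_pow]
    ring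
  -- uniqueness of the coefficients
  have hli : LinearIndependent F fun i : Fin e => y ^ (i : ℕ) := linearIndependent_pow y
  have hxF : x ∈ F := IntermediateField.mem_adjoin_simple_self k x
  have hwF : w ∈ F := inv_mem hxF
  have haeF : ∀ (z : K), z ∈ F → ∀ p : k[X], aeval z p ∈ F := by
    intro z hz p
    rw [aeval_eq_sum_range]
    apply sum_mem
    intro i _
    rw [Algebra.smul_def]
    exact mul_mem (F.algebraMap_mem _) (pow_mem hz i)
  have hcoef : ∀ j : Fin e, aeval x (a j) = aeval w (b j) * x ^ (e - (j : ℕ)) := by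
    apply eq_of_sum_aeval_mul_pow_eq hli
    · intro j; exact haeF x hxF _
    · intro j; exact mul_mem (haeF w hwF _) (pow_mem hxF _)
    · rw [Fin.sum_univ_eq_sum_range (fun j => aeval x (a j) * y ^ j),
        Fin.sum_univ_eq_sum_range (fun j => aeval w (b j) * x ^ (e - j) * y ^ j), ← ha, ← h3]
  -- the degree bound from a pole of `x`
  obtain ⟨Q, hQ⟩ := exists_pole hK hxt
  refine ⟨e, a, hedeg, rfl, ?_, ha⟩
  intro j hj
  by_cases haj : a j = 0
  · rw [haj, natDegree_zero]; exact Nat.zero_le _
  have h5 := hcoef ⟨j, hj⟩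
  have h6 := congrArg Q.1 h5
  rw [val_aeval_of_pole Q hQ haj, map_mul, map_pow] at h6
  have hwQ : Q.1 w ≤ 1 := by
    rw [hw, map_inv₀]
    exact inv_le_one_of_one_le₀ hQ.le
  have h7 : Q.1 (aeval w (b j)) ≤ 1 := val_aeval_le_one Q.1 (Place.val_k_le Q) hwQ _
  have h8 : Q.1 x ^ (a j).natDegree ≤ Q.1 x ^ (e - j) := by
    rw [h6]
    calc Q.1 (aeval w (b j)) * Q.1 x ^ (e - j) ≤ 1 * Q.1 x ^ (e - j) := mul_le_mul_left h7 _
      _ = Q.1 x ^ (e - j) := one_mul _
  exact (pow_le_pow_iff_right₀ hQ).mp h8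

end Groth.Agent.Helper9.PlaneDeg
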