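import Mathlib
import Groth.Agent.Lib.Helper9.FFExt.PlaneDeg

namespace Groth.Agent.Helper9.PlaneDeg

open FunFld WithZero Polynomial Groth.Agent.Lib.Helper4.FF Groth.Agent.Helper9.PlaneKer

variable {k K : Type*} [Field k] [Field K] [Algebra k K]

/-- total degree of a univariate polynomial in one of the variables -/
lemma totalDegree_aeval_X_le {σ : Type*} (i : σ) (p : k[X]) :
    (Polynomial.aeval (MvPolynomial.X i : MvPolynomial σ k) p).totalDegree ≤ p.natDegree := by
  rw [aeval_eq_sum_range]
  refine (MvPolynomial.totalDegree_finset_sum _ _).trans ?_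
  apply Finset.sup_le
  intro j hj
  rw [MvPolynomial.smul_eq_C_mul]
  refine (MvPolynomial.totalDegree_mul _ _).trans ?_
  rw [MvPolynomial.totalDegree_C, zero_add]
  refine (MvPolynomial.totalDegree_X_pow _ _).le.trans ?_
  exact Nat.lt_succ_iff.mp (Finset.mem_range.mp hj)

/-- the plane equation built from an integral equation -/
noncomputable def eqnOf (e : ℕ) (a : ℕ → k[X]) : MvPolynomial (Fin 2) k :=
  MvPolynomial.X 0 ^ e -
    ∑ j ∈ Finset.range e, Polynomial.aeval (MvPolynomial.X 1 : MvPolynomial (Fin 2) k) (a j) *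
      MvPolynomial.X 0 ^ j

lemma aeval_eqnOf {A : Type*} [CommRing A] [Algebra k A] (e : ℕ) (a : ℕ → k[X]) (y x : A) :
    MvPolynomial.aeval ![y, x] (eqnOf e a) =
      y ^ e - ∑ j ∈ Finset.range e, Polynomial.aeval x (a j) * y ^ j := by
  unfold eqnOf
  rw [map_sub, map_pow, MvPolynomial.aeval_X, map_sum]
  congr 1
  refine Finset.sum_congr rfl fun j _ => ?_
  rw [map_mul, map_pow, MvPolynomial.aeval_X]
  congr 1
  rw [← Polynomial.aeval_algHom_apply, MvPolynomial.aeval_X]
  rfl

lemma totalDegree_eqnOf_le (e : ℕ) (a : ℕ → k[X]) (ha : ∀ j < e, (a j).natDegree ≤ e - j) :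
    (eqnOf e a).totalDegree ≤ e := by
  unfold eqnOf
  refine (MvPolynomial.totalDegree_sub _ _).trans (max_le ?_ ?_)
  · exact (MvPolynomial.totalDegree_X_pow _ _).le
  · refine (MvPolynomial.totalDegree_finset_sum _ _).trans ?_
    apply Finset.sup_le
    intro j hj
    have hj' := Finset.mem_range.mp hj
    refine (MvPolynomial.totalDegree_mul _ _).trans ?_
    have h1 := totalDegree_aeval_X_le (σ := Fin 2) (k := k) 1 (a j)
    have h2 := (MvPolynomial.totalDegree_X_pow (R := k) (0 : Fin 2) j).le
    have h3 := ha j hj'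
    omega

lemma eqnOf_ne_zero (e : ℕ) (a : ℕ → k[X]) : eqnOf e a ≠ 0 := by
  intro h
  have h1 := congrArg (MvPolynomial.aeval ![(Polynomial.X : k[X]), 0]) h
  rw [aeval_eqnOf, map_zero] at h1
  have h2 : (X ^ e - ∑ j ∈ Finset.range e, Polynomial.aeval (0 : k[X]) (a j) * X ^ j : k[X]).degree
      = e := by
    rw [Polynomial.degree_sub_eq_left_of_degree_lt, Polynomial.degree_X_pow]
    rw [Polynomial.degree_X_pow]
    refine (Polynomial.degree_sum_le _ _).trans_lt ?_
    rw [Finset.sup_lt_iff (by exact WithBot.bot_lt_coe e)]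
    intro j hj
    have hj' := Finset.mem_range.mp hj
    have : Polynomial.aeval (0 : k[X]) (a j) = Polynomial.C ((a j).coeff 0) := by
      rw [Polynomial.aeval_def, Polynomial.eval₂_at_zero]
      rfl
    rw [this]
    refine (Polynomial.degree_C_mul_X_pow_le _ _).trans_lt ?_
    exact_mod_cast hj'
  rw [h1, Polynomial.degree_zero] at h2
  exact absurd h2 (by simp)

/-- the degree in the main variable of a relation is at least the degree of the minimal
polynomial -/
theorem natDegree_minpoly_le_totalDegree {y x : K} (hxt : Transcendental k x)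
    (G : MvPolynomial (Fin 2) k) (hG0 : G ≠ 0) (hG : MvPolynomial.aeval ![y, x] G = 0) :
    (minpoly (IntermediateField.adjoin k ({x} : Set K)) y).natDegree ≤ G.totalDegree := by
  set F := IntermediateField.adjoin k ({x} : Set K) with hF
  let xF : F := ⟨x, IntermediateField.mem_adjoin_simple_self k x⟩
  let ι : MvPolynomial (Fin 1) k →ₐ[k] F := MvPolynomial.aeval (fun _ => xF)
  have hι : Function.Injective ι := by
    have hxF : Transcendental k xF := by
      intro h
      apply hxt
      have := h.algHom (IsScalarTower.toAlgHom k F K)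
      exact this
    have := (algebraicIndependent_unique_type_iff (R := k) (x := fun _ : Fin 1 => xF)).mpr hxF
    exact this
  set g := MvPolynomial.finSuccEquiv k 1 G with hg
  have hg0 : g ≠ 0 := by
    intro h
    apply hG0
    exact (MvPolynomial.finSuccEquiv k 1).injective (by rw [← hg, h, map_zero])
  set g' := g.map (ι : MvPolynomial (Fin 1) k →+* F) with hg'
  have hg'0 : g' ≠ 0 := (Polynomial.map_ne_zero_iff hι).mpr hg0
  have hev : ∀ H : MvPolynomial (Fin 2) k,
      Polynomial.aeval y ((MvPolynomial.finSuccEquiv k 1 H).map (ι : MvPolynomial (Fin 1) k →+* F)) =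
        MvPolynomial.aeval ![y, x] H := by
    intro H
    induction H using MvPolynomial.induction_on with
    | C c =>
      rw [MvPolynomial.aeval_C]
      have : MvPolynomial.finSuccEquiv k 1 (MvPolynomial.C c) = Polynomial.C (MvPolynomial.C c) := by
        simp [MvPolynomial.finSuccEquiv_apply]
      rw [this, Polynomial.map_C, Polynomial.aeval_C]
      simp only [RingHom.coe_coe, ι, MvPolynomial.aeval_C]
      rfl
    | add p q hp hq => rw [map_add, Polynomial.map_add, map_add, map_add, hp, hq]
    | mul_X p i hp =>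
      rw [map_mul, Polynomial.map_mul, map_mul, map_mul, hp]
      congr 1
      fin_cases i
      · simp only [Fin.zero_eta, MvPolynomial.finSuccEquiv_X_zero, Polynomial.map_X,
          Polynomial.aeval_X, MvPolynomial.aeval_X]
        rfl
      · have : (⟨1, by norm_num⟩ : Fin 2) = Fin.succ (0 : Fin 1) := rfl
        simp only [Fin.mk_one]
        rw [show (1 : Fin 2) = Fin.succ (0 : Fin 1) from rfl, MvPolynomial.finSuccEquiv_X_succ,
          Polynomial.map_C, Polynomial.aeval_C, MvPolynomial.aeval_X]
        simp only [RingHom.coe_coe, ι, MvPolynomial.aeval_X]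
        rfl
  have hroot : Polynomial.aeval y g' = 0 := by rw [hg', hg, hev, hG]
  have h1 : (minpoly F y).natDegree ≤ g'.natDegree :=
    Polynomial.natDegree_le_of_dvd (minpoly.dvd F y hroot) hg'0
  have h2 : g'.natDegree ≤ g.natDegree := Polynomial.natDegree_map_le
  have h3 : g.natDegree = MvPolynomial.degreeOf 0 G := MvPolynomial.natDegree_finSuccEquiv G
  have h4 := MvPolynomial.degreeOf_le_totalDegree G 0
  omega

/-- **degree of a generic plane model**: for generic coordinates `x`, `y ∈ L((x)_∞)` the total degree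
of the irreducible equation is `deg (x)_∞` -/
theorem totalDegree_eq_deg_poleDiv (hK : IsFunctionField k K) {x y : K}
    (hxt : Transcendental k x) (hy : y ∈ L (poleDiv x : Divisor k K))
    (hgen : IntermediateField.adjoin k ({x, y} : Set K) = ⊤)
    (G : MvPolynomial (Fin 2) k) (hGirr : Irreducible G)
    (hG : MvPolynomial.aeval ![y, x] G = 0) :
    (G.totalDegree : ℤ) = (poleDiv x : Divisor k K).deg := by
  obtain ⟨e, a, hedeg, hemin, ha, hpow⟩ := exists_pow_eq_sum_natDegree_le hK hxt hy hgen
  have hgen' : IntermediateField.adjoin k ({y, x} : Set K) = ⊤ := by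
    rw [Set.pair_comm]; exact hgen
  have hker := ker_pair_eq_span hK y x hgen' G hGirr hG
  have h1 : e ≤ G.totalDegree := by
    rw [hemin]
    exact natDegree_minpoly_le_totalDegree hxt G hGirr.ne_zero hG
  have h2 : G.totalDegree ≤ e := by
    have hmem : eqnOf e a ∈ RingHom.ker
        (MvPolynomial.aeval ![y, x] : MvPolynomial (Fin 2) k →ₐ[k] K) := by
      rw [RingHom.mem_ker, aeval_eqnOf, hpow, sub_self]
    rw [hker, Ideal.mem_span_singleton] at hmem
    exact (MvPolynomial.totalDegree_le_of_dvd_of_isDomain hmem (eqnOf_ne_zero e a)).trans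
      (totalDegree_eqnOf_le e a ha)
  rw [← hedeg]
  exact_mod_cast le_antisymm h2 h1

end Groth.Agent.Helper9.PlaneDeg
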