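import Mathlib
import Groth.Agent.Lib.Helper9.FFExt.PlaneDeg2

namespace Groth.Agent.Helper9.PlaneAff

open FunFld Groth.Agent.Lib.Helper4.FF Groth.Agent.Helper9.PlaneKer

variable {k K : Type*} [Field k] [Field K] [Algebra k K]

/-- substitution of polynomials of degree at most one does not increase the total degree -/
theorem totalDegree_aeval_le {σ τ : Type*} (g : σ → MvPolynomial τ k)
    (hg : ∀ i, (g i).totalDegree ≤ 1) (G : MvPolynomial σ k) :
    (MvPolynomial.aeval g G).totalDegree ≤ G.totalDegree := by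
  classical
  rw [MvPolynomial.aeval_def, MvPolynomial.eval₂_eq]
  refine (MvPolynomial.totalDegree_finset_sum _ _).trans ?_
  apply Finset.sup_le
  intro m hm
  refine (MvPolynomial.totalDegree_mul _ _).trans ?_
  rw [MvPolynomial.algebraMap_eq, MvPolynomial.totalDegree_C, zero_add]
  refine (MvPolynomial.totalDegree_finset_prod _ _).trans ?_
  have h1 : ∑ i ∈ m.support, (g i ^ m i).totalDegree ≤ ∑ i ∈ m.support, m i := by
    apply Finset.sum_le_sum
    intro i _
    refine (MvPolynomial.totalDegree_pow _ _).trans ?_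
    calc m i * (g i).totalDegree ≤ m i * 1 := Nat.mul_le_mul_left _ (hg i)
      _ = m i := mul_one _
  refine h1.trans ?_
  exact MvPolynomial.le_totalDegree hm

/-- the affine polynomial with given coefficients -/
noncomputable def aff (c : Fin 3 → k) : MvPolynomial (Fin 2) k :=
  MvPolynomial.C (c 0) + MvPolynomial.C (c 1) * MvPolynomial.X 0 +
    MvPolynomial.C (c 2) * MvPolynomial.X 1

lemma aeval_aff {A : Type*} [CommRing A] [Algebra k A] (c : Fin 3 → k) (p q : A) :
    MvPolynomial.aeval ![p, q] (aff c) = ∑ i, c i • ![1, p, q] i := by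
  unfold aff
  simp [Fin.sum_univ_three, Algebra.smul_def]

lemma totalDegree_aff_le (c : Fin 3 → k) : (aff c).totalDegree ≤ 1 := by
  unfold aff
  refine (MvPolynomial.totalDegree_add _ _).trans (max_le ?_ ?_)
  · refine (MvPolynomial.totalDegree_add _ _).trans (max_le ?_ ?_)
    · rw [MvPolynomial.totalDegree_C]; exact Nat.zero_le _
    · refine (MvPolynomial.totalDegree_mul _ _).trans ?_
      rw [MvPolynomial.totalDegree_C, MvPolynomial.totalDegree_X]
  · refine (MvPolynomial.totalDegree_mul _ _).trans ?_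
    rw [MvPolynomial.totalDegree_C, MvPolynomial.totalDegree_X]

/-- the space of affine polynomials -/
noncomputable def affSpace (k : Type*) [Field k] : Submodule k (MvPolynomial (Fin 2) k) :=
  Submodule.span k {1, MvPolynomial.X 0, MvPolynomial.X 1}

lemma aff_mem (c : Fin 3 → k) : aff c ∈ affSpace k := by
  unfold aff affSpace
  rw [Submodule.mem_span_triple]
  refine ⟨c 0, c 1, c 2, ?_⟩
  simp [MvPolynomial.smul_eq_C_mul]

lemma eq_zero_of_mem_affSpace {x y : K} (hli : LinearIndependent k ![1, x, y])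
    {L : MvPolynomial (Fin 2) k} (hL : L ∈ affSpace k) (h0 : MvPolynomial.aeval ![x, y] L = 0) :
    L = 0 := by
  unfold affSpace at hL
  rw [Submodule.mem_span_triple] at hL
  obtain ⟨a, b, c, rfl⟩ := hL
  have h1 : a • (1 : K) + b • x + c • y = 0 := by
    simpa [MvPolynomial.smul_eq_C_mul, Algebra.smul_def] using h0
  have h2 := Fintype.linearIndependent_iff.mp hli ![a, b, c] (by
    simpa [Fin.sum_univ_three, add_assoc] using h1)
  have ha : a = 0 := h2 0
  have hb : b = 0 := h2 1
  have hc : c = 0 := h2 2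
  rw [ha, hb, hc]
  simp

/-- the affine substitution -/
noncomputable def subst (c d : Fin 3 → k) : MvPolynomial (Fin 2) k →ₐ[k] MvPolynomial (Fin 2) k :=
  MvPolynomial.aeval ![aff c, aff d]

lemma aeval_subst {A : Type*} [CommRing A] [Algebra k A] (c d : Fin 3 → k) (p q : A)
    (G : MvPolynomial (Fin 2) k) :
    MvPolynomial.aeval ![p, q] (subst c d G) =
      MvPolynomial.aeval ![∑ i, c i • ![1, p, q] i, ∑ i, d i • ![1, p, q] i] G := by
  unfold subst
  rw [← AlgHom.comp_apply, MvPolynomial.comp_aeval]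
  congr 2
  funext i
  fin_cases i
  · exact aeval_aff c p q
  · exact aeval_aff d p q

lemma totalDegree_subst_le (c d : Fin 3 → k) (G : MvPolynomial (Fin 2) k) :
    (subst c d G).totalDegree ≤ G.totalDegree := by
  apply totalDegree_aeval_le
  intro i
  fin_cases i
  · exact totalDegree_aff_le c
  · exact totalDegree_aff_le d

lemma subst_mem_affSpace (c d : Fin 3 → k) {L : MvPolynomial (Fin 2) k} (hL : L ∈ affSpace k) :
    subst c d L ∈ affSpace k := by
  unfold affSpace at hL
  induction hL using Submodule.span_induction with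
  | mem z hz =>
    rcases hz with rfl | rfl | rfl
    · rw [map_one]; exact Submodule.subset_span (by simp)
    · unfold subst; rw [MvPolynomial.aeval_X]; exact aff_mem c
    · unfold subst; rw [MvPolynomial.aeval_X]; exact aff_mem d
  | zero => rw [map_zero]; exact Submodule.zero_mem _
  | add a b _ _ ha hb => rw [map_add]; exact Submodule.add_mem _ ha hb
  | smul r a _ ha => rw [map_smul]; exact Submodule.smul_mem _ r ha

lemma X_mem_affSpace (i : Fin 2) : (MvPolynomial.X i : MvPolynomial (Fin 2) k) ∈ affSpace k := by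
  unfold affSpace
  fin_cases i
  · exact Submodule.subset_span (by simp)
  · exact Submodule.subset_span (by simp)

/-- **invariance of the degree under affine change of coordinates** -/
theorem totalDegree_eq_of_span_eq (hK : IsFunctionField k K) {x y u v : K}
    (hxy : IntermediateField.adjoin k ({x, y} : Set K) = ⊤)
    (huv : IntermediateField.adjoin k ({u, v} : Set K) = ⊤)
    (hli : LinearIndependent k ![1, x, y])
    (hu : u ∈ Submodule.span k (Set.range ![1, x, y]))
    (hv : v ∈ Submodule.span k (Set.range ![1, x, y]))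
    (hx : x ∈ Submodule.span k (Set.range ![1, u, v]))
    (hy : y ∈ Submodule.span k (Set.range ![1, u, v]))
    (f : MvPolynomial (Fin 2) k) (hf : Irreducible f) (hfxy : MvPolynomial.aeval ![x, y] f = 0)
    (F : MvPolynomial (Fin 2) k) (hF : Irreducible F) (hFuv : MvPolynomial.aeval ![u, v] F = 0) :
    f.totalDegree = F.totalDegree := by
  obtain ⟨cu, hcu⟩ := (Submodule.mem_span_range_iff_exists_fun k).mp hu
  obtain ⟨cv, hcv⟩ := (Submodule.mem_span_range_iff_exists_fun k).mp hv
  obtain ⟨cx, hcx⟩ := (Submodule.mem_span_range_iff_exists_fun k).mp hx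
  obtain ⟨cy, hcy⟩ := (Submodule.mem_span_range_iff_exists_fun k).mp hy
  set σ₁ := subst cx cy with hσ₁
  set σ₂ := subst cu cv with hσ₂
  have h1 : ∀ G, MvPolynomial.aeval ![u, v] (σ₁ G) = MvPolynomial.aeval ![x, y] G := by
    intro G
    rw [hσ₁, aeval_subst, hcx, hcy]
  have h2 : ∀ H, MvPolynomial.aeval ![x, y] (σ₂ H) = MvPolynomial.aeval ![u, v] H := by
    intro H
    rw [hσ₂, aeval_subst, hcu, hcv]
  have hcomp : ∀ G, σ₂ (σ₁ G) = G := by
    have : σ₂.comp σ₁ = AlgHom.id k _ := by
      apply MvPolynomial.algHom_ext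
      intro i
      rw [AlgHom.comp_apply, AlgHom.id_apply, ← sub_eq_zero]
      apply eq_zero_of_mem_affSpace hli
      · exact Submodule.sub_mem _
          (subst_mem_affSpace _ _ (subst_mem_affSpace _ _ (X_mem_affSpace i))) (X_mem_affSpace i)
      · rw [map_sub, h2, h1, sub_self]
    intro G
    have := congrArg (fun φ => φ G) this
    simpa using this
  have hkerf := ker_pair_eq_span hK x y hxy f hf hfxy
  have hkerF := ker_pair_eq_span hK u v huv F hF hFuv
  -- `F ∣ σ₁ f`
  have hd1 : F ∣ σ₁ f := by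
    rw [← Ideal.mem_span_singleton, ← hkerF, RingHom.mem_ker, h1, hfxy]
  have hσ₁f : σ₁ f ≠ 0 := by
    intro h
    apply hf.ne_zero
    rw [← hcomp f, h, map_zero]
  have hle1 : F.totalDegree ≤ f.totalDegree :=
    (MvPolynomial.totalDegree_le_of_dvd_of_isDomain hd1 hσ₁f).trans (totalDegree_subst_le _ _ f)
  -- `f ∣ σ₂ F` and `σ₂ F ∣ f`
  have hd2 : f ∣ σ₂ F := by
    rw [← Ideal.mem_span_singleton, ← hkerf, RingHom.mem_ker, h2, hFuv]
  have hd3 : σ₂ F ∣ f := by
    obtain ⟨r, hr⟩ := hd1
    refine ⟨σ₂ r, ?_⟩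
    rw [← map_mul, ← hr, hcomp]
  have hσ₂F : σ₂ F ≠ 0 := by
    intro h
    rw [h, zero_dvd_iff] at hd3
    exact hf.ne_zero hd3
  have hle2 : f.totalDegree ≤ F.totalDegree :=
    (MvPolynomial.totalDegree_le_of_dvd_of_isDomain hd2 hσ₂F).trans (totalDegree_subst_le _ _ F)
  exact le_antisymm hle2 hle1

end Groth.Agent.Helper9.PlaneAff
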