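import Mathlib
import Groth.Agent.Lib.Helper9.FFExt.DiffExp3
import Groth.Agent.Lib.Helper9.FFExt.DiffSupport
import Groth.Agent.Lib.Helper9.FFExt.AS2

namespace Groth.Agent.Helper9.PlaneDiff

universe u v w
open FunFld WithZero Polynomial
open Groth.Agent.Lib.Helper4.FF Groth.Agent.Helper9.FFExt

/-- **chain rule** for a derivation applied to a polynomial expression -/
theorem derivation_aeval {k A M σ : Type*} [CommSemiring k] [CommRing A] [Algebra k A]
    [AddCommGroup M] [Module A M] [Module k M] [IsScalarTower k A M] [Fintype σ]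
    (d : Derivation k A M) (g : σ → A) (p : MvPolynomial σ k) :
    d (MvPolynomial.aeval g p) =
      ∑ i, MvPolynomial.aeval g (MvPolynomial.pderiv i p) • d (g i) := by
  classical
  induction p using MvPolynomial.induction_on with
  | C c =>
    rw [MvPolynomial.aeval_C, Derivation.map_algebraMap]
    simp
  | add p q hp hq =>
    rw [map_add, map_add, hp, hq, ← Finset.sum_add_distrib]
    refine Finset.sum_congr rfl fun i _ => ?_
    rw [map_add, map_add, add_smul]
  | mul_X p j hp =>
    rw [map_mul, MvPolynomial.aeval_X, Derivation.leibniz, hp]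
    have h1 : ∀ i, MvPolynomial.aeval g (MvPolynomial.pderiv i (p * MvPolynomial.X j)) • d (g i) =
        (if i = j then MvPolynomial.aeval g p • d (g i) else 0) +
          g j • (MvPolynomial.aeval g (MvPolynomial.pderiv i p) • d (g i)) := by
      intro i
      rw [Derivation.leibniz, MvPolynomial.pderiv_X, smul_eq_mul, smul_eq_mul, map_add, map_mul,
        map_mul, MvPolynomial.aeval_X, add_smul]
      congr 1
      · by_cases h : i = j
        · subst h
          rw [if_pos rfl, Pi.single_eq_same, map_one, mul_one]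
        · rw [if_neg h, Pi.single_eq_of_ne (Ne.symm h), map_zero, mul_zero, zero_smul]
      · rw [mul_smul]
    simp only [h1]
    rw [Finset.sum_add_distrib, Finset.sum_ite_eq' Finset.univ j, if_pos (Finset.mem_univ j),
      Finset.smul_sum]

/-- **Dedekind's different theorem**, with the residue condition in elementwise form -/
theorem dedekind_different' (k : Type u) (K K' : Type v) [Field k] [Field K] [Field K']
    [Algebra k K] [Algebra K K'] [Algebra k K']
    [IsScalarTower k K K'] [FiniteDimensional K K'] [Algebra.IsSeparable K K']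
    (hK : IsFFw k K) (hg : FunFld.IsGeometric k K)
    (F F' : Type w) [Field F] [Algebra k F] [Field F'] [Algebra k F']
    (P : FunFld.Place k K) (Q : FunFld.Place k K') (e : ℕ) (he : FunFld.IsOverWith Q P e)
    (φ : K →ₐ[k] LaurentSeries F) (hφ : LocRes.IsExpansionAt P.1 φ)
    (ψ : K' →ₐ[k] LaurentSeries F') (hψ : LocRes.IsExpansionAt Q.1 ψ)
    (x : K) (hx : LocRes.vDiff φ 1 x ≠ 0) (hx' : LocRes.vDiff ψ 1 (algebraMap K K' x) ≠ 0)
    (hdeg : Q.deg = P.deg)
    (hres : ∀ z : K', Q.1 z ≤ 1 → ∃ c : K, P.1 c ≤ 1 ∧ Q.1 (z - algebraMap K K' c) < 1)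
    [Algebra P.O K'] [IsScalarTower P.O K K']
    (y : K') (hy : IntermediateField.adjoin K ({y} : Set K') = ⊤) (hyi : IsIntegral P.O y) :
    LocRes.diffExp φ ψ e x ≤ Q.ord (Polynomial.aeval y (Polynomial.derivative (minpoly K y))) ∧
    (Q.ord (Polynomial.aeval y (Polynomial.derivative (minpoly K y))) = LocRes.diffExp φ ψ e x →
      ∀ z : K', Q.1 z ≤ 1 → ∃ a ∈ Algebra.adjoin P.O ({y} : Set K'),
        ∃ b ∈ Algebra.adjoin P.O ({y} : Set K'), Q.1 b = 1 ∧ z * b = a) := by
  classical
  have hQ : IsOver Q P := ⟨e, he⟩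
  have hfin := (sum_ramIdx_mul_deg_w (K' := K') hK P).1
  have hQs : ∀ Q', Q' ∈ hfin.toFinset ↔ IsOver Q' P := fun Q' => by
    rw [Set.Finite.mem_toFinset]; rfl
  obtain ⟨s, hs, hs'⟩ := exists_semilocal_uniformizer hfin.toFinset Q ((hQs Q).mpr hQ)
  have hs'' : ∀ Q' : FunFld.Place k K', FunFld.IsOver Q' P → Q' ≠ Q → Q'.1 s = 1 :=
    fun Q' hQ' hne => hs' Q' ((hQs Q').mpr hQ') hne
  have hN := ord_norm_eq_one hK hQ hdeg s hs hs''
  have hsint : ∀ Q' : Place k K', IsOver Q' P → Q'.1 s ≤ 1 := by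
    intro Q' hQ'
    by_cases h : Q' = Q
    · subst h; rw [hs, ← exp_zero, exp_le_exp]; norm_num
    · rw [hs'' Q' hQ' h]
  obtain ⟨h1, h2, h3⟩ := minpoly_of_ord_norm_eq_one hK P s hsint hN
  have hd := ord_aeval_derivative_eq_diffExp hK hg P Q e he φ hφ.1 ψ hψ.1 x hx hx' s hs
    (minpoly K s) (minpoly.aeval K s) h2 h3
  obtain ⟨-, t₀, ht₀, ht₀v⟩ := traceDual_min_val hK P hQ hres s hs hs'' h1 _ hd
  exact le_ord_derivative_of_dual hK P hQ _ t₀ ht₀ ht₀v y hy hyi

/-- `k(x)` is a function field -/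
theorem isFunctionField_adjoin {k : Type u} {K : Type v} [Field k] [Field K] [Algebra k K]
    (hK : IsFunctionField k K) {x : K} (hxt : Transcendental k x) :
    IsFunctionField k (IntermediateField.adjoin k ({x} : Set K)) := by
  refine ⟨isFFw_adjoin hxt, ?_⟩
  intro y hy
  have hy' : IsAlgebraic k (y : K) := by
    have := hy.algebraMap (A := K)
    exact this
  obtain ⟨c, hc⟩ := hK.2 (y : K) hy'
  refine ⟨c, ?_⟩
  apply Subtype.ext
  rw [← hc]
  rfl

end Groth.Agent.Helper9.PlaneDiff
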