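import Mathlib
import Groth.Agent.Lib.Helper9.FFExt.PlaneAff
import Groth.Agent.Lib.Helper9.FFExt.PlaneDiff

namespace Groth.Agent.Helper9.PlaneAff

open FunFld Groth.Agent.Lib.Helper4.FF Groth.Agent.Helper9.PlaneKer Groth.Agent.Helper9.PlaneDiff

variable {k K : Type*} [Field k] [Field K] [Algebra k K]

/-- the equation in affinely changed coordinates -/
theorem subst_eq_C_mul (hK : IsFunctionField k K) {x y u v : K}
    (hxy : IntermediateField.adjoin k ({x, y} : Set K) = ⊤)
    (huv : IntermediateField.adjoin k ({u, v} : Set K) = ⊤)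
    (hli : LinearIndependent k ![1, x, y])
    (cu cv : Fin 3 → k) (hcu : ∑ i, cu i • ![1, x, y] i = u) (hcv : ∑ i, cv i • ![1, x, y] i = v)
    (hx : x ∈ Submodule.span k (Set.range ![1, u, v]))
    (hy : y ∈ Submodule.span k (Set.range ![1, u, v]))
    (f : MvPolynomial (Fin 2) k) (hf : Irreducible f) (hfxy : MvPolynomial.aeval ![x, y] f = 0)
    (F : MvPolynomial (Fin 2) k) (hF : Irreducible F) (hFuv : MvPolynomial.aeval ![u, v] F = 0) :
    ∃ c : k, c ≠ 0 ∧ subst cu cv F = MvPolynomial.C c * f := by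
  have hu : u ∈ Submodule.span k (Set.range ![1, x, y]) :=
    (Submodule.mem_span_range_iff_exists_fun k).mpr ⟨cu, hcu⟩
  have hv : v ∈ Submodule.span k (Set.range ![1, x, y]) :=
    (Submodule.mem_span_range_iff_exists_fun k).mpr ⟨cv, hcv⟩
  have htd := totalDegree_eq_of_span_eq hK hxy huv hli hu hv hx hy f hf hfxy F hF hFuv
  obtain ⟨cx, hcx⟩ := (Submodule.mem_span_range_iff_exists_fun k).mp hx
  obtain ⟨cy, hcy⟩ := (Submodule.mem_span_range_iff_exists_fun k).mp hy
  set σ₁ := subst cx cy with hσ₁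
  set σ₂ := subst cu cv with hσ₂
  have h1 : ∀ G, MvPolynomial.aeval ![u, v] (σ₁ G) = MvPolynomial.aeval ![x, y] G := by
    intro G
    rw [hσ₁, aeval_subst, hcx, hcy]
  have h2 : ∀ H, MvPolynomial.aeval ![x, y] (σ₂ H) = MvPolynomial.aeval ![u, v] H := by
    intro H
    rw [hσ₂, aeval_subst, hcu, hcv]
  have hcomp : ∀ G, σ₂ (σ₁ G) = G := by
    have : σ₂.comp σ₁ = AlgHom.id k _ := by
      apply MvPolynomial.algHom_ext
      intro i
      rw [AlgHom.comp_apply, AlgHom.id_apply, ← sub_eq_zero]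
      apply eq_zero_of_mem_affSpace hli
      · exact Submodule.sub_mem _
          (subst_mem_affSpace _ _ (subst_mem_affSpace _ _ (X_mem_affSpace i))) (X_mem_affSpace i)
      · rw [map_sub, h2, h1, sub_self]
    intro G
    have := congrArg (fun φ => φ G) this
    simpa using this
  have hkerf := ker_pair_eq_span hK x y hxy f hf hfxy
  have hkerF := ker_pair_eq_span hK u v huv F hF hFuv
  have hd1 : F ∣ σ₁ f := by
    rw [← Ideal.mem_span_singleton, ← hkerF, RingHom.mem_ker, h1, hfxy]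
  have hd2 : f ∣ σ₂ F := by
    rw [← Ideal.mem_span_singleton, ← hkerf, RingHom.mem_ker, h2, hFuv]
  have hd3 : σ₂ F ∣ f := by
    obtain ⟨r, hr⟩ := hd1
    refine ⟨σ₂ r, ?_⟩
    rw [← map_mul, ← hr, hcomp]
  have hσ₂F : σ₂ F ≠ 0 := by
    intro h
    rw [h, zero_dvd_iff] at hd3
    exact hf.ne_zero hd3
  obtain ⟨r, hr⟩ := hd2
  have hr0 : r ≠ 0 := by
    rintro rfl
    rw [mul_zero] at hr
    exact hσ₂F hr
  have hrtd : r.totalDegree = 0 := by
    have h3 := MvPolynomial.totalDegree_mul_of_isDomain hf.ne_zero hr0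
    rw [← hr] at h3
    have h4 := totalDegree_subst_le cu cv F
    rw [← hσ₂] at h4
    omega
  rw [MvPolynomial.totalDegree_eq_zero_iff_eq_C] at hrtd
  refine ⟨MvPolynomial.coeff 0 r, ?_, ?_⟩
  · intro h0
    rw [h0, map_zero] at hrtd
    exact hr0 hrtd
  · rw [hr, mul_comm, ← hrtd]

lemma pderiv_aff (c : Fin 3 → k) (j : Fin 2) :
    MvPolynomial.pderiv j (aff c) = MvPolynomial.C (c j.succ) := by
  unfold aff
  fin_cases j
  · simp [MvPolynomial.pderiv_X_of_ne]
  · simp [MvPolynomial.pderiv_X_of_ne]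

/-- chain rule for an affine substitution -/
theorem pderiv_subst (c d : Fin 3 → k) (j : Fin 2) (F : MvPolynomial (Fin 2) k) :
    MvPolynomial.pderiv j (subst c d F) =
      subst c d (MvPolynomial.pderiv 0 F) * MvPolynomial.C (c j.succ) +
        subst c d (MvPolynomial.pderiv 1 F) * MvPolynomial.C (d j.succ) := by
  unfold subst
  have h1 := derivation_aeval (MvPolynomial.pderiv j : Derivation k (MvPolynomial (Fin 2) k) _)
    ![aff c, aff d] F
  rw [h1, Fin.sum_univ_two]
  simp only [Matrix.cons_val_zero, Matrix.cons_val_one, pderiv_aff, smul_eq_mul]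

end Groth.Agent.Helper9.PlaneAff
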