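import Mathlib
import Groth.Agent.Lib.Helper9.FFExt.PlaneAff

namespace Groth.Agent.Helper9.PlaneDeg

open FunFld WithZero Groth.Agent.Lib.Helper4.FF Groth.Agent.Helper9.PlaneKer
  Groth.Agent.Helper9.PlaneAff

variable {k K : Type*} [Field k] [Field K] [Algebra k K]

lemma aff_ne_zero {g : Fin 3 → k} (hg : g ≠ 0) : aff g ≠ 0 := by
  intro h
  apply hg
  have h0 := congrArg (MvPolynomial.aeval ![(0 : k), 0]) h
  have h1 := congrArg (MvPolynomial.aeval ![(1 : k), 0]) h
  have h2 := congrArg (MvPolynomial.aeval ![(0 : k), 1]) h
  rw [aeval_aff, map_zero] at h0 h1 h2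
  simp [Fin.sum_univ_three] at h0 h1 h2
  funext i
  fin_cases i
  · exact h0
  · simpa [h0] using h1
  · simpa [h0] using h2

/-- a degenerate plane model is a line -/
theorem totalDegree_eq_one_of_not_linearIndependent (hK : IsFunctionField k K) (x y : K)
    (hxy : IntermediateField.adjoin k ({x, y} : Set K) = ⊤)
    (hli : ¬ LinearIndependent k ![1, x, y])
    (f : MvPolynomial (Fin 2) k) (hf : Irreducible f) (hfxy : MvPolynomial.aeval ![x, y] f = 0) :
    f.totalDegree = 1 := by
  apply le_antisymm
  · obtain ⟨g, hg, i, hi⟩ := Fintype.not_linearIndependent_iff.mp hli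
    have hg0 : g ≠ 0 := fun h => hi (by rw [h]; rfl)
    have hker := ker_pair_eq_span hK x y hxy f hf hfxy
    have hmem : aff g ∈ RingHom.ker
        (MvPolynomial.aeval ![x, y] : MvPolynomial (Fin 2) k →ₐ[k] K) := by
      rw [RingHom.mem_ker, aeval_aff]
      exact hg
    rw [hker, Ideal.mem_span_singleton] at hmem
    exact (MvPolynomial.totalDegree_le_of_dvd_of_isDomain hmem (aff_ne_zero hg0)).trans
      (totalDegree_aff_le g)
  · by_contra h
    push Not at h
    have h0 : f.totalDegree = 0 := by omega
    rw [MvPolynomial.totalDegree_eq_zero_iff_eq_C] at h0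
    have hc : MvPolynomial.coeff 0 f ≠ 0 := by
      intro hc
      rw [hc, map_zero] at h0
      exact hf.ne_zero h0
    apply hf.not_isUnit
    rw [h0]
    exact IsUnit.map MvPolynomial.C (IsUnit.mk0 _ hc)

/-- **the degree of a plane model is the degree of its equation** -/
theorem deg_mapDiv_eq_totalDegree [IsAlgClosed k] (hK : IsFunctionField k K) (x y : K)
    (hxy : IntermediateField.adjoin k ({x, y} : Set K) = ⊤) (f : MvPolynomial (Fin 2) k)
    (hf : Irreducible f) (hfxy : MvPolynomial.aeval ![x, y] f = 0) :
    (mapDiv k ![(1 : K), x, y]).deg = f.totalDegree := by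
  obtain ⟨x', y', hx'W, hy'W, hx't, hpole, hy'L, hgen', hspan⟩ := exists_generic_coords hK x y hxy
  rw [← hpole]
  by_cases hli : LinearIndependent k ![1, x, y]
  · have huv : IntermediateField.adjoin k ({y', x'} : Set K) = ⊤ := by
      rw [Set.pair_comm]; exact hgen'
    have hrange : Set.range ![1, y', x'] = Set.range ![1, x', y'] := by
      ext z
      simp only [Set.mem_range]
      constructor
      · rintro ⟨i, rfl⟩
        fin_cases i
        · exact ⟨0, rfl⟩
        · exact ⟨2, rfl⟩
        · exact ⟨1, rfl⟩
      · rintro ⟨i, rfl⟩
        fin_cases i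
        · exact ⟨0, rfl⟩
        · exact ⟨2, rfl⟩
        · exact ⟨1, rfl⟩
    have hx : x ∈ Submodule.span k (Set.range ![1, y', x']) := by
      rw [hrange, hspan]
      exact Submodule.subset_span ⟨1, rfl⟩
    have hy : y ∈ Submodule.span k (Set.range ![1, y', x']) := by
      rw [hrange, hspan]
      exact Submodule.subset_span ⟨2, rfl⟩
    obtain ⟨F, hF, hkerF⟩ := ker_pair hK y' x' huv
    have hFuv : MvPolynomial.aeval ![y', x'] F = 0 := by
      have : F ∈ RingHom.ker
          (MvPolynomial.aeval ![y', x'] : MvPolynomial (Fin 2) k →ₐ[k] K) := by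
        rw [hkerF]; exact Ideal.mem_span_singleton_self F
      exact this
    rw [totalDegree_eq_of_span_eq hK hxy huv hli hy'W hx'W hx hy f hf hfxy F hF hFuv]
    exact (totalDegree_eq_deg_poleDiv hK hx't hy'L hgen' F hF hFuv).symm
  · rw [totalDegree_eq_one_of_not_linearIndependent hK x y hxy hli f hf hfxy]
    -- the span is two-dimensional, generated by `1` and `x'`
    set W := Submodule.span k (Set.range ![1, x, y]) with hW
    have hW3 : Module.finrank k W < 3 := by
      have h1 : Module.finrank k W ≤ 3 := by
        have := finrank_range_le_card (R := k) ![1, x, y]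
        rw [Fintype.card_fin] at this
        exact this
      have h2 : Module.finrank k W ≠ 3 := by
        intro h
        apply hli
        rw [linearIndependent_iff_card_eq_finrank_span]
        simp only [Fintype.card_fin]
        exact h.symm
      omega
    have hli2 : LinearIndependent k ![1, x'] := by
      rw [LinearIndependent.pair_iff]
      intro s t hst
      have ht : t = 0 := by
        by_contra ht
        apply hx't
        have : x' = algebraMap k K (-(s / t)) := by
          rw [Algebra.algebraMap_eq_smul_one, neg_smul, eq_neg_iff_add_eq_zero]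
          have := congrArg (fun z => t⁻¹ • z) hst
          simp only [smul_add, smul_smul, smul_zero, inv_mul_cancel₀ ht, one_smul] at this
          rw [add_comm, div_eq_inv_mul]
          exact this
        rw [this]
        exact isAlgebraic_algebraMap _
      rw [ht, zero_smul, add_zero] at hst
      refine ⟨?_, ht⟩
      by_contra hs
      have := smul_eq_zero.mp hst
      rcases this with h | h
      · exact hs h
      · exact one_ne_zero h
    set S := Submodule.span k (Set.range ![1, x']) with hS
    have hS2 : Module.finrank k S = 2 := by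
      have := finrank_span_eq_card hli2
      simpa using this
    have h1W : (1 : K) ∈ W := Submodule.subset_span ⟨0, rfl⟩
    have hSW : S ≤ W := by
      rw [hS, Submodule.span_le]
      rintro _ ⟨i, rfl⟩
      fin_cases i
      · exact h1W
      · exact hx'W
    have : FiniteDimensional k W := FiniteDimensional.span_of_finite k (Set.finite_range _)
    have hSeq : S = W := Submodule.eq_of_le_of_finrank_le hSW (by omega)
    have hy'S : y' ∈ S := by rw [hSeq]; exact hy'W
    have htop : IntermediateField.adjoin k ({x'} : Set K) = ⊤ := by
      rw [eq_top_iff, ← hgen', IntermediateField.adjoin_le_iff]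
      have hx'm : x' ∈ IntermediateField.adjoin k ({x'} : Set K) :=
        IntermediateField.mem_adjoin_simple_self k x'
      rintro z (rfl | rfl)
      · exact hx'm
      · have hle : S ≤ (IntermediateField.adjoin k ({x'} : Set K)).toSubalgebra.toSubmodule := by
          rw [hS, Submodule.span_le]
          rintro _ ⟨i, rfl⟩
          fin_cases i
          · exact (IntermediateField.adjoin k ({x'} : Set K)).one_mem
          · exact hx'm
        exact hle hy'S
    rw [deg_poleDiv_of_adjoin_eq_top hK htop]
    rfl

end Groth.Agent.Helper9.PlaneDeg
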