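import Mathlib
import Groth.Agent.Lib.Helper9.FFExt.PlaneDiff
import Groth.Agent.Lib.Helper9.FFExt.PlaneDeg3
import Groth.Agent.Lib.Helper9.FFExt.PlaneLocal

namespace Groth.Agent.Helper9.PlaneFP

universe u v
open FunFld WithZero Polynomial
open Groth.Agent.Lib.Helper4.FF Groth.Agent.Helper9.FFExt Groth.Agent.Helper9.PlaneKer
  Groth.Agent.Helper9.PlaneDeg Groth.Agent.Helper9.PlaneDiff

variable {k : Type u} {K : Type v} [Field k] [Field K] [Algebra k K]

/-- the minimal polynomial of the integral coordinate of a generic plane model, and its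
derivative -/
theorem minpoly_generic (hK : IsFunctionField k K) {x y : K}
    (hxt : Transcendental k x) (hy : y ∈ L (poleDiv x : Divisor k K))
    (hgen : IntermediateField.adjoin k ({x, y} : Set K) = ⊤)
    (G : MvPolynomial (Fin 2) k) (hGirr : Irreducible G)
    (hG : MvPolynomial.aeval ![y, x] G = 0) :
    ∃ c : k, c ≠ 0 ∧
      Polynomial.aeval y (derivative (minpoly (IntermediateField.adjoin k ({x} : Set K)) y)) =
        algebraMap k K c * MvPolynomial.aeval ![y, x] (MvPolynomial.pderiv 0 G) := by
  classical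
  set E := IntermediateField.adjoin k ({x} : Set K) with hE
  obtain ⟨e, a, hedeg, hemin, ha, hpow⟩ := exists_pow_eq_sum_natDegree_le hK hxt hy hgen
  have hgen' : IntermediateField.adjoin k ({y, x} : Set K) = ⊤ := by
    rw [Set.pair_comm]; exact hgen
  have hker := ker_pair_eq_span hK y x hgen' G hGirr hG
  have htd : (G.totalDegree : ℤ) = (poleDiv x : Divisor k K).deg :=
    totalDegree_eq_deg_poleDiv hK hxt hy hgen G hGirr hG
  have htd' : G.totalDegree = e := by exact_mod_cast (htd.trans hedeg.symm)
  have hmem : eqnOf e a ∈ RingHom.ker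
      (MvPolynomial.aeval ![y, x] : MvPolynomial (Fin 2) k →ₐ[k] K) := by
    rw [RingHom.mem_ker, aeval_eqnOf, hpow, sub_self]
  rw [hker, Ideal.mem_span_singleton] at hmem
  obtain ⟨H, hH⟩ := hmem
  have hH0 : H ≠ 0 := by
    rintro rfl
    rw [mul_zero] at hH
    exact eqnOf_ne_zero e a hH
  have hHtd : H.totalDegree = 0 := by
    have h1 := MvPolynomial.totalDegree_mul_of_isDomain hGirr.ne_zero hH0
    rw [← hH] at h1
    have h2 := totalDegree_eqnOf_le e a ha
    omega
  rw [MvPolynomial.totalDegree_eq_zero_iff_eq_C] at hHtd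
  set c := MvPolynomial.coeff 0 H with hc
  have hc0 : c ≠ 0 := by
    intro h0
    rw [h0, map_zero] at hHtd
    exact hH0 hHtd
  refine ⟨c, hc0, ?_⟩
  -- the evaluation `k[Y, X] → E[T]`
  let xE : E := IntermediateField.AdjoinSimple.gen k x
  let Θ : MvPolynomial (Fin 2) k →ₐ[k] E[X] := MvPolynomial.aeval ![(X : E[X]), C xE]
  have hΘev : ∀ P : MvPolynomial (Fin 2) k,
      Polynomial.aeval y (Θ P) = MvPolynomial.aeval ![y, x] P := by
    intro P
    have : ((Polynomial.aeval y : E[X] →ₐ[E] K).restrictScalars k).comp Θ =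
        MvPolynomial.aeval ![y, x] := by
      apply MvPolynomial.algHom_ext
      intro i
      fin_cases i
      · simp [Θ]
      · simp [Θ, xE]
    have h1 := congrArg (fun f => f P) this
    simpa using h1
  have hΘder : ∀ P : MvPolynomial (Fin 2) k,
      derivative (Θ P) = Θ (MvPolynomial.pderiv 0 P) := by
    intro P
    let d : Derivation k E[X] E[X] := (Polynomial.derivative' (R := E)).restrictScalars k
    have h1 := derivation_aeval d ![(X : E[X]), C xE] P
    have hd : ∀ q : E[X], d q = derivative q := fun q => rfl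
    rw [hd, Fin.sum_univ_two] at h1
    simp only [Matrix.cons_val_zero, Matrix.cons_val_one, hd, derivative_X, derivative_C,
      smul_eq_mul, mul_one, mul_zero, add_zero] at h1
    exact h1
  set M : E[X] := Θ (eqnOf e a) with hM
  have hMeq : M = X ^ e - ∑ j ∈ Finset.range e, C (Polynomial.aeval xE (a j)) * X ^ j := by
    rw [hM]
    simp only [Θ]
    rw [aeval_eqnOf]
    congr 1
    refine Finset.sum_congr rfl fun j _ => ?_
    congr 1
    exact Polynomial.aeval_algHom_apply (Polynomial.CAlgHom (R := k) (A := E)) xE (a j)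
  have hsumdeg : (∑ j ∈ Finset.range e, C (Polynomial.aeval xE (a j)) * X ^ j : E[X]).degree < e := by
    by_cases he0 : e = 0
    · subst he0
      simp
    refine (Polynomial.degree_sum_le _ _).trans_lt ?_
    rw [Finset.sup_lt_iff (by exact WithBot.bot_lt_coe e)]
    intro j hj
    refine (Polynomial.degree_C_mul_X_pow_le _ _).trans_lt ?_
    exact_mod_cast Finset.mem_range.mp hj
  have hMmonic : M.Monic := by
    rw [hMeq]
    exact Polynomial.monic_X_pow_sub hsumdeg
  have hMdeg : M.natDegree = e := by
    rw [hMeq]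
    apply Polynomial.natDegree_eq_of_degree_eq_some
    rw [Polynomial.degree_sub_eq_left_of_degree_lt, Polynomial.degree_X_pow]
    rw [Polynomial.degree_X_pow]
    exact hsumdeg
  have hMroot : Polynomial.aeval y M = 0 := by
    rw [hM, hΘev, aeval_eqnOf, hpow, sub_self]
  have hfd : FiniteDimensional E K := finiteDimensional_adjoin hK hxt
  have hyint : IsIntegral E y := Algebra.IsIntegral.isIntegral y
  have hMmin : minpoly E y = M := by
    have hdvd : minpoly E y ∣ M := minpoly.dvd E y hMroot
    have := Polynomial.eq_of_monic_of_dvd_of_natDegree_le (minpoly.monic hyint) hMmonic hdvd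
      (by rw [hMdeg, hemin])
    exact this.symm
  rw [hMmin, hM, hΘder, hΘev, hH, hHtd]
  rw [Derivation.leibniz, MvPolynomial.pderiv_C, smul_zero, zero_add, smul_eq_mul, map_mul,
    MvPolynomial.aeval_C]

/-- in `k(x)` the local ring of `k[x]` at a finite place is the valuation ring -/
theorem mem_locAt_adjoin_gen [IsAlgClosed k] (hK : IsFunctionField k K) {x : K}
    (hxt : Transcendental k x) (P : Place k (IntermediateField.adjoin k ({x} : Set K)))
    (hP : P.1 (IntermediateField.AdjoinSimple.gen k x) ≤ 1)
    (z : IntermediateField.adjoin k ({x} : Set K)) (hz : P.1 z ≤ 1) :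
    z ∈ locAt P (Algebra.adjoin k
      ({IntermediateField.AdjoinSimple.gen k x} : Set (IntermediateField.adjoin k ({x} : Set K)))) := by
  classical
  let E := IntermediateField.adjoin k ({x} : Set K)
  let xE : E := IntermediateField.AdjoinSimple.gen k x
  have hEf : IsFunctionField k E := isFunctionField_adjoin hK hxt
  have hxEt : Transcendental k xE := by
    intro halg
    apply hxt
    have := halg.algebraMap (A := K)
    rwa [IntermediateField.AdjoinSimple.algebraMap_gen] at this
  obtain ⟨c₀, hc₀⟩ := Place.exists_const_sub_lt P (Place.deg_eq_one hEf P) hP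
  let ρ : Fin 3 → E := ![xE, 1, xE]
  let ā : Fin 3 → k := ![c₀, 1, c₀]
  have hres : ∀ l, P.1 (ρ l - algebraMap k E (ā l)) < 1 := by
    intro l
    fin_cases l
    · exact hc₀
    · simp [ρ, ā]
    · exact hc₀
  have hrange : Algebra.adjoin k (Set.range ρ) = Algebra.adjoin k ({xE} : Set E) := by
    apply le_antisymm
    · rw [Algebra.adjoin_le_iff]
      rintro _ ⟨i, rfl⟩
      fin_cases i
      · exact Algebra.subset_adjoin (Set.mem_singleton _)
      · exact Subalgebra.one_mem _
      · exact Algebra.subset_adjoin (Set.mem_singleton _)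
    · apply Algebra.adjoin_mono
      rintro _ rfl
      exact ⟨0, rfl⟩
  have hfrac : ∀ w : E, ∃ u ∈ Algebra.adjoin k (Set.range ρ),
      ∃ v ∈ Algebra.adjoin k (Set.range ρ), v ≠ 0 ∧ w * v = u := by
    intro w
    rw [hrange]
    have hw : w ∈ IntermediateField.adjoin k ({xE} : Set E) := by
      rw [adjoin_gen_eq_top x]; trivial
    obtain ⟨r, hr, s, hs, e⟩ := IntermediateField.mem_adjoin_iff_div.mp hw
    by_cases hs0 : s = 0
    · refine ⟨0, Subalgebra.zero_mem _, 1, Subalgebra.one_mem _, one_ne_zero, ?_⟩
      rw [e, hs0, div_zero, zero_mul]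
    · exact ⟨r, hr, s, hs, hs0, by rw [e]; field_simp⟩
  have key := PlaneLocal.nonsingular_of_pderiv_ne_zero P ρ ā 1 rfl hres
    (MvPolynomial.X 0 - MvPolynomial.X 2) (by simp [ρ]) 0 (by decide)
    (by
      rw [map_sub, MvPolynomial.pderiv_X_self, MvPolynomial.pderiv_X_of_ne (by decide)]
      simp)
    ⟨0, by
      intro h
      apply hxEt
      change xE = _ at h
      rw [h]
      exact isAlgebraic_algebraMap _⟩ hfrac z hz
  rwa [hrange] at key

end Groth.Agent.Helper9.PlaneFP
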