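import Mathlib
import Groth.Agent.Lib.Helper9.FFExt.PlaneFP
import Groth.Agent.Lib.Helper9.FFExt.Below
import Groth.Agent.Lib.Helper9.FFExt.AlgClosed
import Groth.Agent.Lib.Helper9.FFExt.DiffExpU
import Groth.Agent.Lib.Helper9.FFExt.IntCl4
import Groth.Agent.Lib.Helper9.Tate.LocalGen

namespace Groth.Agent.Helper9.PlaneFP

universe u v
open FunFld WithZero Polynomial
open Groth.Agent.Lib.Helper4.FF Groth.Agent.Helper9.FFExt Groth.Agent.Helper9.PlaneKer
  Groth.Agent.Helper9.PlaneDeg Groth.Agent.Helper9.PlaneDiff Groth.Agent.Helper9.Tate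

variable {k : Type u} {K : Type v} [Field k] [Field K] [Algebra k K]

/-- the order of `u dx` through an expansion -/
theorem ordDiff_inv_eq {Q : Place k K} {ψ : K →ₐ[k] LaurentSeries k}
    (hψ : LocRes.IsExpansionAt Q.1 ψ) {g x : K} (hg : g ≠ 0)
    (hne : LocRes.vDiff ψ 1 x ≠ 0) :
    LocRes.ordDiff ψ g⁻¹ x = LocRes.ordDiff ψ 1 x - Q.ord g := by
  have h1 : LocRes.vDiff ψ g⁻¹ x = Q.1 g⁻¹ * LocRes.vDiff ψ 1 x := by
    have := vDiff_mul_left hψ g⁻¹ 1 x
    rwa [mul_one] at this
  unfold LocRes.ordDiff Place.ord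
  have hg' : Q.1 g⁻¹ ≠ 0 := (Valuation.ne_zero_iff _).mpr (inv_ne_zero hg)
  rw [h1, log_mul hg' hne, map_inv₀, log_inv]
  ring

/-- **generic finite-place theorem** -/
theorem generic_finite_place [IsAlgClosed k] (hK : IsFunctionField k K) {x y : K}
    (hxt : Transcendental k x) (hy : y ∈ L (poleDiv x : Divisor k K))
    (hgen : IntermediateField.adjoin k ({x, y} : Set K) = ⊤)
    (G : MvPolynomial (Fin 2) k) (hGirr : Irreducible G)
    (hG : MvPolynomial.aeval ![y, x] G = 0)
    (Q : Place k K) (hQx : Q.1 x ≤ 1)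
    (ψ : K →ₐ[k] LaurentSeries k) (hψ : LocRes.IsExpansionAt Q.1 ψ)
    (hne : LocRes.vDiff ψ 1 x ≠ 0) :
    MvPolynomial.aeval ![y, x] (MvPolynomial.pderiv 0 G) ≠ 0 ∧
    LocRes.ordDiff ψ (MvPolynomial.aeval ![y, x] (MvPolynomial.pderiv 0 G))⁻¹ x ≤ 0 ∧
    (LocRes.ordDiff ψ (MvPolynomial.aeval ![y, x] (MvPolynomial.pderiv 0 G))⁻¹ x = 0 →
      ∀ z : K, Q.1 z ≤ 1 → z ∈ locAt Q (Algebra.adjoin k ({x, y} : Set K))) := by
  classical
  let E := IntermediateField.adjoin k ({x} : Set K)
  let xE : E := IntermediateField.AdjoinSimple.gen k x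
  have hxE : algebraMap E K xE = x := rfl
  have hEf : IsFunctionField k E := isFunctionField_adjoin hK hxt
  have hEw : IsFFw k E := isFFw_adjoin hxt
  have hgE : IsGeometric k E := isGeometric_of_isAlgClosed k E
  have hgK : IsGeometric k K := isGeometric_of_isAlgClosed k K
  have hKw : IsFFw k K := isFFw_of_isFunctionField hK
  have hDx : KaehlerDifferential.D k K x ≠ 0 := D_ne_zero_of_vDiff ψ hne
  have hsep : Algebra.IsSeparable E K := isSeparable_of_D_ne_zero hKw hgK hDx hxt
  have hfd : FiniteDimensional E K := finiteDimensional_adjoin hK hxt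
  obtain ⟨P, e, he⟩ := exists_below' (K := E) Q
  have hPx : P.1 xE ≤ 1 := (ow_le_one_iff he xE).mp hQx
  obtain ⟨c₀, hc₀⟩ := Place.exists_const_sub_lt P (Place.deg_eq_one hEf P) hPx
  have hc₀' := val_eq_exp_of_zero_linear hxt c₀ P hc₀
  obtain ⟨F, _, _, _, φ, hφ⟩ := AS2.exists_expansion_of_perfect k E hEf P
  have hφD : Valued.v (LocRes.D F (φ xE)) = 1 := by
    have h1 : φ xE = φ (xE - algebraMap k E c₀) + φ (algebraMap k E c₀) := by
      rw [← map_add, sub_add_cancel]
    rw [h1, map_add, LocRes.map_algebraMap, LocRes.D_apply F (HahnSeries.C _),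
      LocRes.derivative_C, add_zero]
    apply val_D_of_val_exp_neg_one
    rw [hφ.1]
    exact hc₀'
  have hφx : LocRes.vDiff φ 1 xE ≠ 0 := by
    rw [vDiff_one, hφD]
    exact one_ne_zero
  have hφord : LocRes.ordDiff φ 1 xE = 0 := by
    unfold LocRes.ordDiff
    rw [vDiff_one, hφD, log_one, neg_zero]
  let _ : Algebra P.O K := ((algebraMap E K).comp (algebraMap P.O E)).toAlgebra
  have : IsScalarTower P.O E K := IsScalarTower.of_algebraMap_eq fun z => rfl
  have hyi : IsIntegral P.O y := by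
    rw [isIntegral_iff hEw P y]
    intro Q' hQ'
    obtain ⟨e', he'⟩ := hQ'
    have h1 : Q'.1 x ≤ 1 := (ow_le_one_iff he' xE).mpr hPx
    by_contra h2
    push Not at h2
    exact absurd (poles_of_mem_L_poleDiv hK hy Q' h2) (not_lt.mpr h1)
  have htop : IntermediateField.adjoin E ({y} : Set K) = ⊤ := by
    have h1 := IntermediateField.adjoin_simple_adjoin_simple (F := k) (α := x) y
    rw [hgen] at h1
    rw [eq_top_iff]
    intro z _
    have : z ∈ (IntermediateField.adjoin E ({y} : Set K)).restrictScalars k := by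
      rw [h1]; trivial
    exact this
  have hdeg : Q.deg = P.deg := by
    rw [Place.deg_eq_one hK Q, Place.deg_eq_one hEf P]
  have hres : ∀ z : K, Q.1 z ≤ 1 → ∃ c : E, P.1 c ≤ 1 ∧ Q.1 (z - algebraMap E K c) < 1 := by
    intro z hz
    obtain ⟨c, hc⟩ := Place.exists_const_sub_lt Q (Place.deg_eq_one hK Q) hz
    refine ⟨algebraMap k E c, Place.val_k_le P c, ?_⟩
    rw [← IsScalarTower.algebraMap_apply]
    exact hc
  have hψx : LocRes.vDiff ψ 1 (algebraMap E K xE) ≠ 0 := hne
  have key := dedekind_different' k E K hEw hgE F k P Q e he φ hφ ψ hψ xE hφx hψx hdeg hres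
    y htop hyi
  obtain ⟨c, hc0, hmin⟩ := minpoly_generic hK hxt hy hgen G hGirr hG
  have hyint : IsIntegral E y := Algebra.IsIntegral.isIntegral y
  have hsepy : (minpoly E y).Separable := Algebra.IsSeparable.isSeparable E y
  have hder0 : Polynomial.aeval y (derivative (minpoly E y)) ≠ 0 :=
    hsepy.aeval_derivative_ne_zero (minpoly.aeval E y)
  set Gy := MvPolynomial.aeval ![y, x] (MvPolynomial.pderiv 0 G) with hGy
  have hGy0 : Gy ≠ 0 := by
    intro h0
    rw [hmin, h0, mul_zero] at hder0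
    exact hder0 rfl
  have hordeq : Q.ord (Polynomial.aeval y (derivative (minpoly E y))) = Q.ord Gy := by
    rw [hmin]
    unfold Place.ord
    rw [map_mul, Place.val_k Q hc0, one_mul]
  have hdE : LocRes.diffExp φ ψ e xE = LocRes.ordDiff ψ 1 x := by
    unfold LocRes.diffExp
    rw [hφord, mul_zero, sub_zero, hxE]
  rw [hordeq, hdE] at key
  have hord := ordDiff_inv_eq hψ hGy0 hne
  refine ⟨hGy0, by rw [hord]; linarith [key.1], ?_⟩
  intro h0 z hz
  rw [hord] at h0
  obtain ⟨a, ha, b, hb, hb1, hab⟩ := key.2 (by linarith) z hz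
  set A := Algebra.adjoin k ({x, y} : Set K) with hA
  have hsub : ∀ w ∈ Algebra.adjoin P.O ({y} : Set K), w ∈ locAt Q A := by
    intro w hw
    induction hw using Algebra.adjoin_induction with
    | mem w hw =>
      rw [Set.mem_singleton_iff] at hw
      rw [hw]
      exact le_locAt Q A (Algebra.subset_adjoin (by simp))
    | algebraMap r =>
      have hr : P.1 (r : E) ≤ 1 := (Place.mem_O_iff P).mp r.2
      obtain ⟨u, hu, w, hw, hw1, huw⟩ := mem_locAt_adjoin_gen hK hxt P hPx (r : E) hr
      have hmap : ∀ s ∈ Algebra.adjoin k ({xE} : Set E), algebraMap E K s ∈ A := by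
        intro s hs
        induction hs using Algebra.adjoin_induction with
        | mem s hs =>
          rw [Set.mem_singleton_iff] at hs
          rw [hs, hxE]
          exact Algebra.subset_adjoin (by simp)
        | algebraMap c =>
          rw [← IsScalarTower.algebraMap_apply]
          exact Subalgebra.algebraMap_mem _ c
        | add s t _ _ hs ht => rw [map_add]; exact Subalgebra.add_mem _ hs ht
        | mul s t _ _ hs ht => rw [map_mul]; exact Subalgebra.mul_mem _ hs ht
      refine ⟨algebraMap E K u, hmap u hu, algebraMap E K w, hmap w hw, ?_, ?_⟩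
      · rw [he w, hw1, one_pow]
      · rw [algebraMap_O_apply, ← map_mul, huw]
    | add s t _ _ hs ht => exact Subalgebra.add_mem _ hs ht
    | mul s t _ _ hs ht => exact Subalgebra.mul_mem _ hs ht
  have hb0 : b ≠ 0 := by
    rintro rfl
    rw [map_zero] at hb1
    exact zero_ne_one hb1
  have hz : z = a * b⁻¹ := by
    rw [← hab]; field_simp
  rw [hz]
  exact Subalgebra.mul_mem _ (hsub a ha) (inv_mem_locAt (hsub b hb) hb1)

end Groth.Agent.Helper9.PlaneFP
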