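import Mathlib
import Groth.Agent.Lib.Helper9.FFExt.PlaneFP2
import Groth.Agent.Lib.Helper9.FFExt.PlaneAff2
import Groth.Agent.Lib.Helper9.FFExt.PlaneGen

namespace Groth.Agent.Helper9.PlaneFP

universe u v
open FunFld WithZero Polynomial
open Groth.Agent.Lib.Helper4.FF Groth.Agent.Helper9.FFExt Groth.Agent.Helper9.PlaneKer
  Groth.Agent.Helper9.PlaneDeg Groth.Agent.Helper9.PlaneDiff Groth.Agent.Helper9.Tate
  Groth.Agent.Helper9.PlaneAff Groth.Agent.Helper9.PlaneGen

variable {k : Type u} {K : Type v} [Field k] [Field K] [Algebra k K]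

/-- chain rule through an expansion -/
theorem D_exp_aeval {F : Type*} [Field F] [Algebra k F] {σ : Type*} [Fintype σ]
    (ψ : K →ₐ[k] LaurentSeries F) (g : σ → K) (p : MvPolynomial σ k) :
    LocRes.D F (ψ (MvPolynomial.aeval g p)) =
      ∑ i, ψ (MvPolynomial.aeval g (MvPolynomial.pderiv i p)) * LocRes.D F (ψ (g i)) := by
  let _ := ψ.toRingHom.toAlgebra
  have _ : IsScalarTower k K (LaurentSeries F) := LocRes.isScalarTower_exp ψ
  have h1 := derivation_aeval (LocRes.dExp ψ) g p
  exact h1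

/-- the derivative of a constant through an expansion -/
theorem D_exp_algebraMap {F : Type*} [Field F] [Algebra k F]
    (ψ : K →ₐ[k] LaurentSeries F) (c : k) : LocRes.D F (ψ (algebraMap k K c)) = 0 := by
  rw [LocRes.map_algebraMap, LocRes.D_apply F (HahnSeries.C _), LocRes.derivative_C]


/-- constants have valuation one through an expansion -/
theorem val_exp_algebraMap {Q : Place k K} {ψ : K →ₐ[k] LaurentSeries k}
    (hψ : LocRes.IsExpansionAt Q.1 ψ) {c : k} (hc : c ≠ 0) :
    Valued.v (ψ (algebraMap k K c)) = 1 := by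
  rw [hψ.1, Place.val_k Q hc]

/-- the order of `g⁻¹ du` in terms of valuations -/
theorem vDiff_inv_eq (ψ : K →ₐ[k] LaurentSeries k) (g x : K) :
    LocRes.vDiff ψ g⁻¹ x = (Valued.v (ψ g))⁻¹ * Valued.v (LocRes.D k (ψ x)) := by
  unfold LocRes.vDiff
  rw [map_mul, map_inv₀, map_inv₀]

/-- swapping the variables -/
theorem aeval_swap (u v : K) (g : MvPolynomial (Fin 2) k) :
    MvPolynomial.aeval ![v, u] (MvPolynomial.rename (Equiv.swap (0 : Fin 2) 1) g) =
      MvPolynomial.aeval ![u, v] g := by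
  rw [MvPolynomial.aeval_rename]
  congr 2
  funext i
  fin_cases i
  · simp
  · simp

theorem irreducible_swap {g : MvPolynomial (Fin 2) k} (hg : Irreducible g) :
    Irreducible (MvPolynomial.rename (Equiv.swap (0 : Fin 2) 1) g) := by
  exact (MulEquiv.irreducible_iff (MvPolynomial.renameEquiv k (Equiv.swap (0 : Fin 2) 1))).mpr hg


/-- the dependent case of the affine finite-place theorem -/
theorem affine_finite_place_dep [IsAlgClosed k] (hK : IsFunctionField k K) {u v : K}
    (hgen : IntermediateField.adjoin k ({u, v} : Set K) = ⊤)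
    (g : MvPolynomial (Fin 2) k) (hgirr : Irreducible g)
    (hg : MvPolynomial.aeval ![u, v] g = 0)
    (Q : Place k K) (hQu : Q.1 u ≤ 1)
    (ψ : K →ₐ[k] LaurentSeries k) (hψ : LocRes.IsExpansionAt Q.1 ψ)
    (hne : LocRes.vDiff ψ (MvPolynomial.aeval ![u, v] (MvPolynomial.pderiv 1 g))⁻¹ u ≠ 0)
    (hdep : ¬ LinearIndependent k ![1, u, v]) :
    LocRes.ordDiff ψ (MvPolynomial.aeval ![u, v] (MvPolynomial.pderiv 1 g))⁻¹ u ≤ 0 ∧
    (LocRes.ordDiff ψ (MvPolynomial.aeval ![u, v] (MvPolynomial.pderiv 1 g))⁻¹ u = 0 →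
      ∀ z : K, Q.1 z ≤ 1 → z ∈ locAt Q (Algebra.adjoin k ({u, v} : Set K))) := by
  classical
  have hDu : LocRes.D k (ψ u) ≠ 0 := by
    intro h0
    apply hne
    rw [vDiff_inv_eq, h0, map_zero, mul_zero]
  have hne1 : LocRes.vDiff ψ 1 u ≠ 0 := by
    rw [vDiff_one]
    exact (Valuation.ne_zero_iff _).mpr hDu
  have hut : Transcendental k u := by
    intro halg
    obtain ⟨c, hc⟩ := hK.2 u halg
    apply hDu
    rw [← hc, D_exp_algebraMap]
  rw [Fintype.not_linearIndependent_iff] at hdep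
  obtain ⟨c, hc, i₀, hi₀⟩ := hdep
  rw [Fin.sum_univ_three] at hc
  simp only [Matrix.cons_val_zero, Matrix.cons_val_one, Matrix.cons_val_two,
    Matrix.head_cons, Matrix.tail_cons] at hc
  have hc2 : c 2 ≠ 0 := by
    intro h2
    rw [h2, zero_smul, add_zero] at hc
    by_cases h1 : c 1 = 0
    · rw [h1, zero_smul, add_zero] at hc
      have h0 : c 0 = 0 := by
        by_contra h0
        have := smul_eq_zero.mp hc
        rcases this with h | h
        · exact h0 h
        · exact one_ne_zero h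
      fin_cases i₀
      · exact hi₀ h0
      · exact hi₀ h1
      · exact hi₀ h2
    · apply hut
      have hu : u = algebraMap k K (-(c 0) / c 1) := by
        rw [Algebra.smul_def, Algebra.smul_def, mul_one] at hc
        rw [map_div₀, map_neg]
        have h1' : algebraMap k K (c 1) ≠ 0 := (_root_.map_ne_zero _).mpr h1
        field_simp
        linear_combination hc
      rw [hu]
      exact isAlgebraic_algebraMap _
  have hv : v = (-(c 0) / c 2) • (1 : K) + (-(c 1) / c 2) • u := by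
    rw [Algebra.smul_def, Algebra.smul_def, Algebra.smul_def] at hc
    rw [Algebra.smul_def, Algebra.smul_def, mul_one, map_div₀, map_div₀, map_neg, map_neg]
    have h2' : algebraMap k K (c 2) ≠ 0 := (_root_.map_ne_zero _).mpr hc2
    field_simp
    linear_combination hc
  have hvL : v ∈ L (poleDiv u : Divisor k K) := by
    rw [hv]
    refine Submodule.add_mem _ (Submodule.smul_mem _ _ ?_) (Submodule.smul_mem _ _ ?_)
    · intro P
      rw [map_one, ← exp_zero, exp_le_exp]
      exact poleDiv_nonneg u P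
    · exact mem_L_poleDiv hK u
  have key := generic_finite_place hK hut hvL hgen
    (MvPolynomial.rename (Equiv.swap (0 : Fin 2) 1) g) (irreducible_swap hgirr)
    (by rw [aeval_swap]; exact hg) Q hQu ψ hψ hne1
  have hpd : MvPolynomial.pderiv 0 (MvPolynomial.rename (Equiv.swap (0 : Fin 2) 1) g) =
      MvPolynomial.rename (Equiv.swap (0 : Fin 2) 1) (MvPolynomial.pderiv 1 g) := by
    have := MvPolynomial.pderiv_rename (Equiv.swap (0 : Fin 2) 1).injective 1 g
    simpa using this
  rw [hpd, aeval_swap] at key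
  exact key.2


/-- the independent case of the affine finite-place theorem -/
theorem affine_finite_place_indep [IsAlgClosed k] (hK : IsFunctionField k K) {u v : K}
    (hgen : IntermediateField.adjoin k ({u, v} : Set K) = ⊤)
    (g : MvPolynomial (Fin 2) k) (hgirr : Irreducible g)
    (hg : MvPolynomial.aeval ![u, v] g = 0)
    (Q : Place k K) (hQu : Q.1 u ≤ 1) (hQv : Q.1 v ≤ 1)
    (ψ : K →ₐ[k] LaurentSeries k) (hψ : LocRes.IsExpansionAt Q.1 ψ)
    (hne : LocRes.vDiff ψ (MvPolynomial.aeval ![u, v] (MvPolynomial.pderiv 1 g))⁻¹ u ≠ 0)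
    (hli : LinearIndependent k ![1, u, v]) :
    LocRes.ordDiff ψ (MvPolynomial.aeval ![u, v] (MvPolynomial.pderiv 1 g))⁻¹ u ≤ 0 ∧
    (LocRes.ordDiff ψ (MvPolynomial.aeval ![u, v] (MvPolynomial.pderiv 1 g))⁻¹ u = 0 →
      ∀ z : K, Q.1 z ≤ 1 → z ∈ locAt Q (Algebra.adjoin k ({u, v} : Set K))) := by
  classical
  have hDu : LocRes.D k (ψ u) ≠ 0 := by
    intro h0
    apply hne
    rw [vDiff_inv_eq, h0, map_zero, mul_zero]
  have hgv0 : ψ (MvPolynomial.aeval ![u, v] (MvPolynomial.pderiv 1 g)) ≠ 0 := by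
    intro h0
    apply hne
    rw [vDiff_inv_eq, h0, map_zero, inv_zero, zero_mul]
  -- generic coordinates
  let ℓ : K →ₗ[k] LaurentSeries k :=
    (LocRes.D k : Derivation k (LaurentSeries k) (LaurentSeries k)).toLinearMap ∘ₗ ψ.toLinearMap
  have hℓ : ∀ w, ℓ w = LocRes.D k (ψ w) := fun w => rfl
  have hW : ∀ i, ![(1 : K), u, v] i ∈ Submodule.span k (Set.range ![(1 : K), u, v]) :=
    fun i => Submodule.subset_span ⟨i, rfl⟩
  obtain ⟨x', y', hℓx', hx'W, hy'W, hx't, -, hy'L, hgen', hspan⟩ :=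
    exists_generic_coords' hK u v hgen ℓ ⟨u, hW 1, by rw [hℓ]; exact hDu⟩
  rw [hℓ] at hℓx'
  obtain ⟨cx, hcx⟩ := (Submodule.mem_span_range_iff_exists_fun k).mp hx'W
  obtain ⟨cy, hcy⟩ := (Submodule.mem_span_range_iff_exists_fun k).mp hy'W
  -- integrality
  have hQW : ∀ w ∈ Submodule.span k (Set.range ![(1 : K), u, v]), Q.1 w ≤ 1 := by
    intro w hw
    induction hw using Submodule.span_induction with
    | mem z hz =>
      obtain ⟨i, rfl⟩ := hz
      fin_cases i
      · simp
      · exact hQu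
      · exact hQv
    | zero => simp
    | add a b _ _ ha hb => exact (Q.1.map_add a b).trans (max_le ha hb)
    | smul r a _ ha =>
      rw [Algebra.smul_def, map_mul]
      exact mul_le_one' (Place.val_k_le Q r) ha
  have hQx' : Q.1 x' ≤ 1 := hQW x' hx'W
  -- the equation of the generic coordinates
  have hgen'' : IntermediateField.adjoin k ({y', x'} : Set K) = ⊤ := by
    rw [Set.pair_comm]; exact hgen'
  obtain ⟨G, hGirr, hGker⟩ := ker_pair hK y' x' hgen''
  have hG : MvPolynomial.aeval ![y', x'] G = 0 := by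
    have : G ∈ RingHom.ker (MvPolynomial.aeval ![y', x'] : MvPolynomial (Fin 2) k →ₐ[k] K) := by
      rw [hGker]; exact Ideal.mem_span_singleton_self G
    exact this
  have hne1 : LocRes.vDiff ψ 1 x' ≠ 0 := by
    rw [vDiff_one]
    exact (Valuation.ne_zero_iff _).mpr hℓx'
  obtain ⟨hG0, hle, heq⟩ := generic_finite_place hK hx't hy'L hgen' G hGirr hG Q hQx' ψ hψ hne1
  -- the change of coordinates
  have hrange : Set.range ![(1 : K), y', x'] = Set.range ![(1 : K), x', y'] := by
    ext z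
    constructor
    · rintro ⟨i, rfl⟩
      fin_cases i
      · exact ⟨0, rfl⟩
      · exact ⟨2, rfl⟩
      · exact ⟨1, rfl⟩
    · rintro ⟨i, rfl⟩
      fin_cases i
      · exact ⟨0, rfl⟩
      · exact ⟨2, rfl⟩
      · exact ⟨1, rfl⟩
  have huW : u ∈ Submodule.span k (Set.range ![(1 : K), y', x']) := by
    rw [hrange, hspan]; exact hW 1
  have hvW : v ∈ Submodule.span k (Set.range ![(1 : K), y', x']) := by
    rw [hrange, hspan]; exact hW 2
  obtain ⟨c, hc0, hsub⟩ := subst_eq_C_mul hK hgen hgen'' hli cy cx hcy hcx huW hvW g hgirr hg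
    G hGirr hG
  have hev : ∀ P : MvPolynomial (Fin 2) k,
      MvPolynomial.aeval ![u, v] (subst cy cx P) = MvPolynomial.aeval ![y', x'] P := by
    intro P
    rw [aeval_subst, hcy, hcx]
  have hrel : ∀ j : Fin 2, algebraMap k K c * MvPolynomial.aeval ![u, v] (MvPolynomial.pderiv j g) =
      MvPolynomial.aeval ![y', x'] (MvPolynomial.pderiv 0 G) * algebraMap k K (cy j.succ) +
        MvPolynomial.aeval ![y', x'] (MvPolynomial.pderiv 1 G) * algebraMap k K (cx j.succ) := by
    intro j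
    have h1 := congrArg (MvPolynomial.aeval ![u, v]) (pderiv_subst cy cx j G)
    rw [hsub, Derivation.leibniz, MvPolynomial.pderiv_C, smul_zero, add_zero, smul_eq_mul,
      map_mul, MvPolynomial.aeval_C, map_add, map_mul, map_mul, hev, hev,
      MvPolynomial.aeval_C, MvPolynomial.aeval_C] at h1
    exact h1
  -- differentials
  have hdg := D_exp_aeval ψ ![u, v] g
  rw [hg, map_zero, map_zero, Fin.sum_univ_two] at hdg
  simp only [Matrix.cons_val_zero, Matrix.cons_val_one] at hdg
  have hx'aff : x' = MvPolynomial.aeval ![u, v] (aff cx) := by rw [aeval_aff, hcx]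
  have hdx' : LocRes.D k (ψ x') = ψ (algebraMap k K (cx 1)) * LocRes.D k (ψ u) +
      ψ (algebraMap k K (cx 2)) * LocRes.D k (ψ v) := by
    have h1 := D_exp_aeval ψ ![u, v] (aff cx)
    rw [← hx'aff, Fin.sum_univ_two, pderiv_aff, pderiv_aff, MvPolynomial.aeval_C,
      MvPolynomial.aeval_C] at h1
    exact h1
  have hr3 := congrArg ψ (hrel 1)
  have hr4 := congrArg ψ (hrel 0)
  rw [map_mul, map_add, map_mul, map_mul] at hr3 hr4
  have hinv : ψ (algebraMap k K c) * ψ (MvPolynomial.aeval ![u, v] (MvPolynomial.pderiv 1 g)) *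
      LocRes.D k (ψ x') =
      (ψ (algebraMap k K (cx 1)) * ψ (algebraMap k K (cy 2)) -
        ψ (algebraMap k K (cx 2)) * ψ (algebraMap k K (cy 1))) *
        ψ (MvPolynomial.aeval ![y', x'] (MvPolynomial.pderiv 0 G)) * LocRes.D k (ψ u) := by
    have e1 : (0 : Fin 2).succ = 1 := rfl
    have e2 : (1 : Fin 2).succ = 2 := rfl
    rw [e2] at hr3
    rw [e1] at hr4
    linear_combination
      ψ (algebraMap k K c) * ψ (MvPolynomial.aeval ![u, v] (MvPolynomial.pderiv 1 g)) * hdx' -
      ψ (algebraMap k K c) * ψ (algebraMap k K (cx 2)) * hdg +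
      LocRes.D k (ψ u) * ψ (algebraMap k K (cx 1)) * hr3 -
      LocRes.D k (ψ u) * ψ (algebraMap k K (cx 2)) * hr4
  have hδ : ψ (algebraMap k K (cx 1)) * ψ (algebraMap k K (cy 2)) -
        ψ (algebraMap k K (cx 2)) * ψ (algebraMap k K (cy 1)) =
      ψ (algebraMap k K (cx 1 * cy 2 - cx 2 * cy 1)) := by
    simp only [map_sub, map_mul]
  rw [hδ] at hinv
  have ha0 : ψ (algebraMap k K c) ≠ 0 := by
    rw [Ne, map_eq_zero_iff ψ (ψ : K →+* LaurentSeries k).injective]
    exact (_root_.map_ne_zero _).mpr hc0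
  have hlhs : ψ (algebraMap k K c) * ψ (MvPolynomial.aeval ![u, v] (MvPolynomial.pderiv 1 g)) *
      LocRes.D k (ψ x') ≠ 0 := mul_ne_zero (mul_ne_zero ha0 hgv0) hℓx'
  have hδ0 : cx 1 * cy 2 - cx 2 * cy 1 ≠ 0 := by
    intro h0
    rw [hinv, h0, map_zero, map_zero, zero_mul, zero_mul] at hlhs
    exact hlhs rfl
  have hval := congrArg (Valued.v : LaurentSeries k → ℤᵐ⁰) hinv
  rw [map_mul, map_mul, map_mul, map_mul, val_exp_algebraMap hψ hc0, val_exp_algebraMap hψ hδ0,
    one_mul, one_mul] at hval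
  have hP0 : Valued.v (ψ (MvPolynomial.aeval ![y', x'] (MvPolynomial.pderiv 0 G))) ≠ 0 := by
    rw [Valuation.ne_zero_iff, Ne, map_eq_zero_iff ψ (ψ : K →+* LaurentSeries k).injective]
    exact hG0
  have hgv0' : Valued.v (ψ (MvPolynomial.aeval ![u, v] (MvPolynomial.pderiv 1 g))) ≠ 0 :=
    (Valuation.ne_zero_iff _).mpr hgv0
  have hvd : LocRes.vDiff ψ (MvPolynomial.aeval ![u, v] (MvPolynomial.pderiv 1 g))⁻¹ u =
      LocRes.vDiff ψ (MvPolynomial.aeval ![y', x'] (MvPolynomial.pderiv 0 G))⁻¹ x' := by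
    rw [vDiff_inv_eq, vDiff_inv_eq]
    rw [inv_mul_eq_iff_eq_mul₀ hgv0', ← mul_assoc, mul_comm _ (_)⁻¹, mul_assoc, hval,
      ← mul_assoc, inv_mul_cancel₀ hP0, one_mul]
  have hod : LocRes.ordDiff ψ (MvPolynomial.aeval ![u, v] (MvPolynomial.pderiv 1 g))⁻¹ u =
      LocRes.ordDiff ψ (MvPolynomial.aeval ![y', x'] (MvPolynomial.pderiv 0 G))⁻¹ x' := by
    unfold LocRes.ordDiff
    rw [hvd]
  rw [hod]
  refine ⟨hle, fun h0 z hz => ?_⟩
  have h1 := heq h0 z hz
  have hadj : Algebra.adjoin k ({x', y'} : Set K) = Algebra.adjoin k ({u, v} : Set K) := by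
    have hWle : ∀ (a b : K), Submodule.span k (Set.range ![(1 : K), a, b]) ≤
        Subalgebra.toSubmodule (Algebra.adjoin k ({a, b} : Set K)) := by
      intro a b
      rw [Submodule.span_le]
      rintro _ ⟨i, rfl⟩
      fin_cases i
      · exact Subalgebra.one_mem _
      · exact Algebra.subset_adjoin (by simp)
      · exact Algebra.subset_adjoin (by simp)
    apply le_antisymm
    · rw [Algebra.adjoin_le_iff]
      rintro z (rfl | rfl)
      · exact hWle u v hx'W
      · exact hWle u v hy'W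
    · rw [Algebra.adjoin_le_iff]
      rintro z (rfl | rfl)
      · apply hWle x' y'
        rw [hspan]; exact hW 1
      · apply hWle x' y'
        rw [hspan]; exact hW 2
  rw [← hadj]
  exact h1

/-- **affine finite-place theorem** -/
theorem affine_finite_place [IsAlgClosed k] (hK : IsFunctionField k K) {u v : K}
    (hgen : IntermediateField.adjoin k ({u, v} : Set K) = ⊤)
    (g : MvPolynomial (Fin 2) k) (hgirr : Irreducible g)
    (hg : MvPolynomial.aeval ![u, v] g = 0)
    (Q : Place k K) (hQu : Q.1 u ≤ 1) (hQv : Q.1 v ≤ 1)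
    (ψ : K →ₐ[k] LaurentSeries k) (hψ : LocRes.IsExpansionAt Q.1 ψ)
    (hne : LocRes.vDiff ψ (MvPolynomial.aeval ![u, v] (MvPolynomial.pderiv 1 g))⁻¹ u ≠ 0) :
    LocRes.ordDiff ψ (MvPolynomial.aeval ![u, v] (MvPolynomial.pderiv 1 g))⁻¹ u ≤ 0 ∧
    (LocRes.ordDiff ψ (MvPolynomial.aeval ![u, v] (MvPolynomial.pderiv 1 g))⁻¹ u = 0 →
      ∀ z : K, Q.1 z ≤ 1 → z ∈ locAt Q (Algebra.adjoin k ({u, v} : Set K))) := by
  by_cases hli : LinearIndependent k ![1, u, v]
  · exact affine_finite_place_indep hK hgen g hgirr hg Q hQu hQv ψ hψ hne hli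
  · exact affine_finite_place_dep hK hgen g hgirr hg Q hQu ψ hψ hne hli

end Groth.Agent.Helper9.PlaneFP
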