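import Mathlib
import Groth.Agent.Lib.Helper9.FFExt.PlaneLocal

namespace Groth.Agent.Helper9.PlaneProj

open FunFld WithZero Polynomial Groth.Agent.Lib.Helper4.FF Groth.Agent.Helper9.PlaneHom
  Groth.Agent.Helper9.PlaneLocal

variable {k K : Type*} [Field k] [Field K] [Algebra k K]

/-- scaling the point scales the value of a form -/
theorem aeval_mul_of_isHomogeneous {σ : Type*} (c : K) (ψ : σ → K) {G : MvPolynomial σ k} {d : ℕ}
    (hG : G.IsHomogeneous d) :
    MvPolynomial.aeval (fun i => c * ψ i) G = c ^ d * MvPolynomial.aeval ψ G := by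
  have h1 : ((Polynomial.aeval c : K[X] →ₐ[K] K).restrictScalars k).comp (gradedEval ψ) =
      MvPolynomial.aeval (fun i => c * ψ i) := by
    unfold gradedEval
    rw [MvPolynomial.comp_aeval]
    congr 1
    funext i
    rw [AlgHom.restrictScalars_apply, map_mul, aeval_C, aeval_X, Algebra.algebraMap_self,
      RingHom.id_apply, mul_comm]
  rw [← h1, AlgHom.comp_apply, gradedEval_of_isHomogeneous ψ hG]
  rw [AlgHom.restrictScalars_apply, map_mul, aeval_C, map_pow, aeval_X, Algebra.algebraMap_self,
    RingHom.id_apply, mul_comm]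

/-- the graded kernel does not change under scaling -/
theorem ker_gradedEval_mul {σ : Type*} (c : K) (hc : c ≠ 0) (ψ : σ → K) :
    RingHom.ker (gradedEval (fun i => c * ψ i) : MvPolynomial σ k →ₐ[k] K[X]) =
      RingHom.ker (gradedEval ψ : MvPolynomial σ k →ₐ[k] K[X]) := by
  ext G
  rw [mem_ker_gradedEval, mem_ker_gradedEval]
  refine forall_congr' fun d => ?_
  rw [aeval_mul_of_isHomogeneous c ψ (MvPolynomial.homogeneousComponent_isHomogeneous d G)]
  constructor
  · intro h
    exact (mul_eq_zero.mp h).resolve_left (pow_ne_zero _ hc)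
  · intro h; rw [h, mul_zero]

/-- the ideal of a birational projective plane map is generated by an irreducible form vanishing
on it -/
theorem ker_gradedEval_eq_span (hK : IsFunctionField k K) (φ : Fin 3 → K)
    (hφ : LinearIndependent k φ)
    (hbir : IntermediateField.adjoin k (Set.range fun i => φ i / φ 0) = ⊤)
    (f : MvPolynomial (Fin 3) k) (hf : Irreducible f) {d : ℕ} (hhom : f.IsHomogeneous d)
    (hfφ : MvPolynomial.aeval φ f = 0) :
    RingHom.ker (gradedEval φ : MvPolynomial (Fin 3) k →ₐ[k] K[X]) = Ideal.span {f} := by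
  have h0 : φ 0 ≠ 0 := hφ.ne_zero 0
  set x := φ 1 / φ 0 with hx
  set y := φ 2 / φ 0 with hy
  have hφeq : φ = fun i => φ 0 * ![1, x, y] i := by
    funext i
    fin_cases i
    · simp
    · simp only [hx]; simp; field_simp
    · simp only [hy]; simp; field_simp
  have hxy : IntermediateField.adjoin k ({x, y} : Set K) = ⊤ := by
    rw [eq_top_iff, ← hbir, IntermediateField.adjoin_le_iff]
    rintro _ ⟨i, rfl⟩
    fin_cases i
    · simp only [Fin.zero_eta, div_self h0]
      exact one_mem _
    · exact IntermediateField.subset_adjoin k _ (by simp [hx])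
    · exact IntermediateField.subset_adjoin k _ (by simp [hy])
  have hf1 : MvPolynomial.aeval ![1, x, y] f = 0 := by
    have h1 := aeval_mul_of_isHomogeneous (φ 0) ![1, x, y] hhom
    rw [← hφeq, hfφ] at h1
    exact (mul_eq_zero.mp h1.symm).resolve_left (pow_ne_zero _ h0)
  rw [hφeq, ker_gradedEval_mul (φ 0) h0]
  exact ker_gradedEval_triple_eq_span hK x y hxy f hf hhom hf1

/-- the ideal of the affine chart `X_j = 1` -/
theorem exists_eq_of_aeval_ratio_eq_zero {σ : Type*} (φ : σ → K) (j : σ) (hj : φ j ≠ 0)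
    (f : MvPolynomial σ k)
    (hker : RingHom.ker (gradedEval φ : MvPolynomial σ k →ₐ[k] K[X]) = Ideal.span {f})
    (G : MvPolynomial σ k) (hG : MvPolynomial.aeval (fun i => φ i / φ j) G = 0) :
    ∃ A B : MvPolynomial σ k, G = A * f + B * (MvPolynomial.X j - 1) := by
  set ρ : σ → K := fun i => φ i / φ j with hρ
  have hρj : ρ j = 1 := div_self hj
  set D := G.totalDegree with hD
  set G' := homogJ j D G with hG'
  have h1 : MvPolynomial.aeval ρ G' = MvPolynomial.aeval ρ G := by
    rw [hG', ← AlgHom.coe_toRingHom, map_homogJ _ j _ le_rfl]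
    simp [hρj]
  have hφρ : φ = fun i => φ j * ρ i := by
    funext i
    simp only [hρ]
    field_simp
  have hhom : G'.IsHomogeneous D := homogJ_isHomogeneous j D G
  have h2 : MvPolynomial.aeval φ G' = 0 := by
    rw [hφρ, aeval_mul_of_isHomogeneous (φ j) ρ hhom, h1, hG, mul_zero]
  have h3 : G' ∈ RingHom.ker (gradedEval φ : MvPolynomial σ k →ₐ[k] K[X]) :=
    (mem_ker_gradedEval_of_isHomogeneous φ hhom).mpr h2
  rw [hker, Ideal.mem_span_singleton] at h3
  obtain ⟨A, hA⟩ := h3
  have h4 : G - G' ∈ Ideal.span {(MvPolynomial.X j - 1 : MvPolynomial σ k)} := by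
    rw [← Ideal.Quotient.eq]
    symm
    apply map_homogJ _ j _ le_rfl
    rw [← map_one (Ideal.Quotient.mk _), Ideal.Quotient.eq]
    exact Ideal.mem_span_singleton_self _
  rw [Ideal.mem_span_singleton] at h4
  obtain ⟨B, hB⟩ := h4
  refine ⟨A, B, ?_⟩
  linear_combination hB + hA

/-- the ratios generate the function field -/
theorem exists_frac_ratio (φ : Fin 3 → K) (j : Fin 3) (hj : φ j ≠ 0) (h0 : φ 0 ≠ 0)
    (hbir : IntermediateField.adjoin k (Set.range fun i => φ i / φ 0) = ⊤) (z : K) :
    ∃ u ∈ Algebra.adjoin k (Set.range fun i => φ i / φ j),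
      ∃ w ∈ Algebra.adjoin k (Set.range fun i => φ i / φ j), w ≠ 0 ∧ z * w = u := by
  have htop : IntermediateField.adjoin k (Set.range fun i => φ i / φ j) = ⊤ := by
    rw [eq_top_iff, ← hbir, IntermediateField.adjoin_le_iff]
    rintro _ ⟨i, rfl⟩
    have hi : φ i / φ j ∈ IntermediateField.adjoin k (Set.range fun i => φ i / φ j) :=
      IntermediateField.subset_adjoin k _ ⟨i, rfl⟩
    have h0' : φ 0 / φ j ∈ IntermediateField.adjoin k (Set.range fun i => φ i / φ j) :=
      IntermediateField.subset_adjoin k _ ⟨0, rfl⟩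
    have : φ i / φ 0 = (φ i / φ j) / (φ 0 / φ j) := by field_simp
    change φ i / φ 0 ∈ IntermediateField.adjoin k (Set.range fun i => φ i / φ j)
    rw [this]
    exact div_mem hi h0'
  have hz : z ∈ IntermediateField.adjoin k (Set.range fun i => φ i / φ j) := by
    rw [htop]; trivial
  obtain ⟨r, hr, s, hs, e⟩ := IntermediateField.mem_adjoin_iff_div.mp hz
  by_cases hs0 : s = 0
  · refine ⟨0, Subalgebra.zero_mem _, 1, Subalgebra.one_mem _, one_ne_zero, ?_⟩
    rw [e, hs0, div_zero, zero_mul]
  · exact ⟨r, hr, s, hs, hs0, by rw [e]; field_simp⟩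

/-- Euler's relation at a point -/
theorem euler_eval (f : MvPolynomial (Fin 3) k) {d : ℕ} (hhom : f.IsHomogeneous d) (ā : Fin 3 → k)
    (hfā : MvPolynomial.eval ā f = 0) :
    ∑ l, ā l * MvPolynomial.eval ā (MvPolynomial.pderiv l f) = 0 := by
  have h1 := congrArg (MvPolynomial.eval ā) hhom.sum_X_mul_pderiv
  rw [map_sum, map_nsmul, hfā, smul_zero] at h1
  simpa using h1

/-- **nonsingularity criterion**: a birational plane map is nonsingular at a place iff some partial
derivative of the equation does not vanish at the image point -/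
theorem isNonsingularAt_iff [IsAlgClosed k] (hK : IsFunctionField k K) (φ : Fin 3 → K)
    (hφ : LinearIndependent k φ)
    (hbir : IntermediateField.adjoin k (Set.range fun i => φ i / φ 0) = ⊤)
    (f : MvPolynomial (Fin 3) k) (hf : Irreducible f) {d : ℕ} (hhom : f.IsHomogeneous d)
    (hfφ : MvPolynomial.aeval φ f = 0) (P : Place k K) (j : Fin 3)
    (hj : ∀ i, P.1 (φ i) ≤ P.1 (φ j)) (ā : Fin 3 → k)
    (hā : ∀ l, P.1 (φ l / φ j - algebraMap k K (ā l)) < 1) :
    IsNonsingularAt φ P ↔ ∃ l, MvPolynomial.eval ā (MvPolynomial.pderiv l f) ≠ 0 := by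
  have hj0 : φ j ≠ 0 := hφ.ne_zero j
  have h00 : φ 0 ≠ 0 := hφ.ne_zero 0
  set ρ : Fin 3 → K := fun i => φ i / φ j with hρ
  have hρj : ρ j = 1 := div_self hj0
  have hker := ker_gradedEval_eq_span hK φ hφ hbir f hf hhom hfφ
  have hφρ : φ = fun i => φ j * ρ i := by
    funext i
    simp only [hρ]
    field_simp
  have hfρ : MvPolynomial.aeval ρ f = 0 := by
    have h1 := aeval_mul_of_isHomogeneous (φ j) ρ hhom
    rw [← hφρ, hfφ] at h1
    exact (mul_eq_zero.mp h1.symm).resolve_left (pow_ne_zero _ hj0)
  have hfā : MvPolynomial.eval ā f = 0 :=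
    eval_eq_zero_of_val_lt P ρ ā hā (by rw [hfρ, map_zero]; exact zero_lt_one)
  have hāj : ā j = 1 := by
    have h1 := hā j
    change P.1 (ρ j - _) < 1 at h1
    rw [hρj, ← map_one (algebraMap k K), ← map_sub] at h1
    have := const_eq_zero_of_val_lt P h1
    exact (sub_eq_zero.mp this).symm
  have hiff : IsNonsingularAt φ P ↔
      ∀ z : K, P.1 z ≤ 1 → z ∈ locAt P (Algebra.adjoin k (Set.range ρ)) := by
    unfold IsNonsingularAt
    refine forall_congr' fun z => imp_congr_right fun _ => ?_
    exact inLocRing_iff hj0 hj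
  rw [hiff]
  constructor
  · intro hns
    by_contra hcon
    push Not at hcon
    exact not_nonsingular_of_pderiv_eq_zero P ρ ā j hρj hā
      (fun z hz => Place.exists_const_sub_lt P (Place.deg_eq_one hK P) hz) f
      (exists_eq_of_aeval_ratio_eq_zero φ j hj0 f hker) hfρ hcon hns
  · rintro ⟨l, hl⟩
    -- some partial derivative with index `≠ j` does not vanish
    have hex : ∃ i₁, i₁ ≠ j ∧ MvPolynomial.eval ā (MvPolynomial.pderiv i₁ f) ≠ 0 := by
      by_contra hcon
      push Not at hcon
      have he := euler_eval f hhom ā hfā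
      rw [Finset.sum_eq_single j] at he
      · rw [hāj, one_mul] at he
        by_cases hlj : l = j
        · rw [hlj] at hl; exact hl he
        · exact hl (hcon l hlj)
      · intro i _ hij
        rw [hcon i hij, mul_zero]
      · intro h; exact absurd (Finset.mem_univ j) h
    obtain ⟨i₁, hi₁j, hi₁⟩ := hex
    have hnc : ∃ l, ρ l ≠ algebraMap k K (ā l) := by
      by_contra hcon
      push Not at hcon
      have hli := Fintype.linearIndependent_iff.mp hφ
        (fun i => if i = i₁ then 1 else if i = j then -(ā i₁) else 0) (by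
          rw [Finset.sum_eq_add_of_mem i₁ j (Finset.mem_univ _) (Finset.mem_univ _) hi₁j]
          · simp only [if_true, if_neg hi₁j.symm, one_smul, neg_smul]
            have := hcon i₁
            simp only [hρ] at this
            rw [div_eq_iff hj0] at this
            rw [this, Algebra.smul_def]
            ring
          · intro c _ hc
            rw [if_neg hc.1, if_neg hc.2, zero_smul]) i₁
      simp at hli
    exact nonsingular_of_pderiv_ne_zero P ρ ā j hρj hā f hfρ i₁ hi₁j hi₁ hnc
      (exists_frac_ratio φ j hj0 h00 hbir)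

end Groth.Agent.Helper9.PlaneProj
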