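import Mathlib
import Groth.Agent.Lib.Helper9.FFExt.PlaneProj

namespace Groth.Agent.Helper9.PlaneProj

open FunFld WithZero Polynomial Groth.Agent.Lib.Helper4.FF Groth.Agent.Helper9.PlaneHom
  Groth.Agent.Helper9.PlaneLocal

variable {k K : Type*} [Field k] [Field K] [Algebra k K]

/-- the ideal of a birational projective plane map is generated by an irreducible form vanishing
on it (no independence hypothesis) -/
theorem ker_gradedEval_eq_span' (hK : IsFunctionField k K) (φ : Fin 3 → K)
    (h0 : φ 0 ≠ 0)
    (hbir : IntermediateField.adjoin k (Set.range fun i => φ i / φ 0) = ⊤)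
    (f : MvPolynomial (Fin 3) k) (hf : Irreducible f) {d : ℕ} (hhom : f.IsHomogeneous d)
    (hfφ : MvPolynomial.aeval φ f = 0) :
    RingHom.ker (gradedEval φ : MvPolynomial (Fin 3) k →ₐ[k] K[X]) = Ideal.span {f} := by
  set x := φ 1 / φ 0 with hx
  set y := φ 2 / φ 0 with hy
  have hφeq : φ = fun i => φ 0 * ![1, x, y] i := by
    funext i
    fin_cases i
    · simp
    · simp only [hx]; simp; field_simp
    · simp only [hy]; simp; field_simp
  have hxy : IntermediateField.adjoin k ({x, y} : Set K) = ⊤ := by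
    rw [eq_top_iff, ← hbir, IntermediateField.adjoin_le_iff]
    rintro _ ⟨i, rfl⟩
    fin_cases i
    · simp only [Fin.zero_eta, div_self h0]
      exact one_mem _
    · exact IntermediateField.subset_adjoin k _ (by simp [hx])
    · exact IntermediateField.subset_adjoin k _ (by simp [hy])
  have hf1 : MvPolynomial.aeval ![1, x, y] f = 0 := by
    have h1 := aeval_mul_of_isHomogeneous (φ 0) ![1, x, y] hhom
    rw [← hφeq, hfφ] at h1
    exact (mul_eq_zero.mp h1.symm).resolve_left (pow_ne_zero _ h0)
  rw [hφeq, ker_gradedEval_mul (φ 0) h0]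
  exact ker_gradedEval_triple_eq_span hK x y hxy f hf hhom hf1

/-- **nonsingularity criterion** without the independence hypothesis -/
theorem isNonsingularAt_iff' [IsAlgClosed k] (hK : IsFunctionField k K) (φ : Fin 3 → K)
    (h00 : φ 0 ≠ 0)
    (hbir : IntermediateField.adjoin k (Set.range fun i => φ i / φ 0) = ⊤)
    (f : MvPolynomial (Fin 3) k) (hf : Irreducible f) {d : ℕ} (hhom : f.IsHomogeneous d)
    (hfφ : MvPolynomial.aeval φ f = 0) (P : Place k K) (j : Fin 3) (hj0 : φ j ≠ 0)
    (hj : ∀ i, P.1 (φ i) ≤ P.1 (φ j)) (ā : Fin 3 → k)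
    (hā : ∀ l, P.1 (φ l / φ j - algebraMap k K (ā l)) < 1) :
    IsNonsingularAt φ P ↔ ∃ l, MvPolynomial.eval ā (MvPolynomial.pderiv l f) ≠ 0 := by
  set ρ : Fin 3 → K := fun i => φ i / φ j with hρ
  have hρj : ρ j = 1 := div_self hj0
  have hker := ker_gradedEval_eq_span' hK φ h00 hbir f hf hhom hfφ
  have hφρ : φ = fun i => φ j * ρ i := by
    funext i
    simp only [hρ]
    field_simp
  have hfρ : MvPolynomial.aeval ρ f = 0 := by
    have h1 := aeval_mul_of_isHomogeneous (φ j) ρ hhom
    rw [← hφρ, hfφ] at h1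
    exact (mul_eq_zero.mp h1.symm).resolve_left (pow_ne_zero _ hj0)
  have hfā : MvPolynomial.eval ā f = 0 :=
    eval_eq_zero_of_val_lt P ρ ā hā (by rw [hfρ, map_zero]; exact zero_lt_one)
  have hāj : ā j = 1 := by
    have h1 := hā j
    change P.1 (ρ j - _) < 1 at h1
    rw [hρj, ← map_one (algebraMap k K), ← map_sub] at h1
    have := const_eq_zero_of_val_lt P h1
    exact (sub_eq_zero.mp this).symm
  have hiff : IsNonsingularAt φ P ↔
      ∀ z : K, P.1 z ≤ 1 → z ∈ locAt P (Algebra.adjoin k (Set.range ρ)) := by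
    unfold IsNonsingularAt
    refine forall_congr' fun z => imp_congr_right fun _ => ?_
    exact inLocRing_iff hj0 hj
  rw [hiff]
  constructor
  · intro hns
    by_contra hcon
    push Not at hcon
    exact not_nonsingular_of_pderiv_eq_zero P ρ ā j hρj hā
      (fun z hz => Place.exists_const_sub_lt P (Place.deg_eq_one hK P) hz) f
      (exists_eq_of_aeval_ratio_eq_zero φ j hj0 f hker) hfρ hcon hns
  · rintro ⟨l, hl⟩
    have hex : ∃ i₁, i₁ ≠ j ∧ MvPolynomial.eval ā (MvPolynomial.pderiv i₁ f) ≠ 0 := by
      by_contra hcon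
      push Not at hcon
      have he := euler_eval f hhom ā hfā
      rw [Finset.sum_eq_single j] at he
      · rw [hāj, one_mul] at he
        by_cases hlj : l = j
        · rw [hlj] at hl; exact hl he
        · exact hl (hcon l hlj)
      · intro i _ hij
        rw [hcon i hij, mul_zero]
      · intro h; exact absurd (Finset.mem_univ j) h
    obtain ⟨i₁, hi₁j, hi₁⟩ := hex
    have hnc : ∃ l, ρ l ≠ algebraMap k K (ā l) := by
      by_contra hcon
      push Not at hcon
      obtain ⟨⟨x₀, hx₀t, -⟩, -⟩ := hK
      apply hx₀t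
      have hx₀ : x₀ ∈ IntermediateField.adjoin k (Set.range fun i => φ i / φ 0) := by
        rw [hbir]; trivial
      have hle : IntermediateField.adjoin k (Set.range fun i => φ i / φ 0) ≤ ⊥ := by
        rw [IntermediateField.adjoin_le_iff]
        rintro _ ⟨i, rfl⟩
        have e : φ i / φ 0 = ρ i / ρ 0 := by
          simp only [hρ]; field_simp
        change φ i / φ 0 ∈ (⊥ : IntermediateField k K)
        rw [e, hcon i, hcon 0, ← map_div₀]
        exact IntermediateField.algebraMap_mem _ _
      have := hle hx₀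
      rw [IntermediateField.mem_bot] at this
      obtain ⟨c, rfl⟩ := this
      exact isAlgebraic_algebraMap c
    exact nonsingular_of_pderiv_ne_zero P ρ ā j hρj hā f hfρ i₁ hi₁j hi₁ hnc
      (exists_frac_ratio φ j hj0 h00 hbir)

end Groth.Agent.Helper9.PlaneProj
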