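import Mathlib
import Groth.Agent.Lib.Helper9.FFExt.PlaneProj2
import Groth.Agent.Lib.Helper9.FFExt.PlaneFP3
import Groth.Agent.Lib.Helper9.FFExt.DiffExp1

namespace Groth.Agent.Helper9.PlaneChart

universe u v
open FunFld WithZero Polynomial
open Groth.Agent.Lib.Helper4.FF Groth.Agent.Helper9.FFExt Groth.Agent.Helper9.PlaneKer
  Groth.Agent.Helper9.PlaneDiff Groth.Agent.Helper9.PlaneFP Groth.Agent.Helper9.PlaneProj
  Groth.Agent.Helper9.PlaneLocal Groth.Agent.Helper9.PlaneHom

variable {k : Type u} {K : Type v} [Field k] [Field K] [Algebra k K]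

/-- the chart substitution `X_j ↦ 1`, `X_{i₀} ↦ X₀`, other `↦ X₁` -/
noncomputable def chartSub (k : Type u) [Field k] (j i₀ : Fin 3) :
    Fin 3 → MvPolynomial (Fin 2) k :=
  fun i => if i = j then 1 else if i = i₀ then MvPolynomial.X 0 else MvPolynomial.X 1

/-- dehomogenization in the chart `j` -/
noncomputable def chart (k : Type u) [Field k] (j i₀ : Fin 3) :
    MvPolynomial (Fin 3) k →ₐ[k] MvPolynomial (Fin 2) k :=
  MvPolynomial.aeval (chartSub k j i₀)

section
variable {j i₀ i₁ : Fin 3} (hji₀ : j ≠ i₀) (hi₁j : i₁ ≠ j) (hi₁i₀ : i₁ ≠ i₀)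
include hji₀ hi₁j hi₁i₀

lemma all_cases (m : Fin 3) : m = j ∨ m = i₀ ∨ m = i₁ := by
  revert m j i₀ i₁; decide

lemma aeval_chart (ρ : Fin 3 → K) (hρj : ρ j = 1) (P : MvPolynomial (Fin 3) k) :
    MvPolynomial.aeval ![ρ i₀, ρ i₁] (chart k j i₀ P) = MvPolynomial.aeval ρ P := by
  unfold chart
  rw [← AlgHom.comp_apply, MvPolynomial.comp_aeval]
  congr 2
  funext m
  unfold chartSub
  rcases all_cases hji₀ hi₁j hi₁i₀ m with rfl | rfl | rfl
  · rw [if_pos rfl, map_one, hρj]
  · rw [if_neg hji₀.symm, if_pos rfl, MvPolynomial.aeval_X]; rfl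
  · rw [if_neg hi₁j, if_neg hi₁i₀, MvPolynomial.aeval_X]; rfl

lemma pderiv_chart_one (P : MvPolynomial (Fin 3) k) :
    MvPolynomial.pderiv 1 (chart k j i₀ P) = chart k j i₀ (MvPolynomial.pderiv i₁ P) := by
  unfold chart
  have h1 := derivation_aeval (MvPolynomial.pderiv 1 : Derivation k (MvPolynomial (Fin 2) k) _)
    (chartSub k j i₀) P
  rw [h1, Finset.sum_eq_single i₁]
  · unfold chartSub
    rw [if_neg hi₁j, if_neg hi₁i₀, MvPolynomial.pderiv_X_self, smul_eq_mul, mul_one]
  · intro m _ hm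
    unfold chartSub
    rcases all_cases hji₀ hi₁j hi₁i₀ m with rfl | rfl | rfl
    · rw [if_pos rfl, Derivation.map_one_eq_zero, smul_zero]
    · rw [if_neg hji₀.symm, if_pos rfl, MvPolynomial.pderiv_X_of_ne (by decide), smul_zero]
    · exact absurd rfl hm
  · intro h; exact absurd (Finset.mem_univ _) h

lemma pderiv_chart_zero (P : MvPolynomial (Fin 3) k) :
    MvPolynomial.pderiv 0 (chart k j i₀ P) = chart k j i₀ (MvPolynomial.pderiv i₀ P) := by
  unfold chart
  have h1 := derivation_aeval (MvPolynomial.pderiv 0 : Derivation k (MvPolynomial (Fin 2) k) _)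
    (chartSub k j i₀) P
  rw [h1, Finset.sum_eq_single i₀]
  · unfold chartSub
    rw [if_neg hji₀.symm, if_pos rfl, MvPolynomial.pderiv_X_self, smul_eq_mul, mul_one]
  · intro m _ hm
    unfold chartSub
    rcases all_cases hji₀ hi₁j hi₁i₀ m with rfl | rfl | rfl
    · rw [if_pos rfl, Derivation.map_one_eq_zero, smul_zero]
    · exact absurd rfl hm
    · rw [if_neg hi₁j, if_neg hi₁i₀, MvPolynomial.pderiv_X_of_ne (by decide), smul_zero]
  · intro h; exact absurd (Finset.mem_univ _) h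

lemma chart_rename (H : MvPolynomial (Fin 2) k) :
    chart k j i₀ (MvPolynomial.rename ![i₀, i₁] H) = H := by
  unfold chart
  rw [MvPolynomial.aeval_rename]
  have : chartSub k j i₀ ∘ ![i₀, i₁] = MvPolynomial.X := by
    funext m
    unfold chartSub
    fin_cases m
    · simp [hji₀.symm]
    · simp [hi₁j, hi₁i₀]
  rw [this, MvPolynomial.aeval_X_left, AlgHom.id_apply]

omit hji₀ hi₁j hi₁i₀ in
lemma chart_X_sub_one : chart k j i₀ (MvPolynomial.X j - 1) = 0 := by
  unfold chart chartSub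
  rw [map_sub, MvPolynomial.aeval_X, if_pos rfl, map_one, sub_self]

end


/-- **projective finite-place theorem**: in the chart `j`, the differential
`d(φ_{i₀}/φ_j) / p_{i₁}(φ/φ_j)` has nonpositive order, and order `0` exactly at the nonsingular
places. -/
theorem proj_finite_place [IsAlgClosed k] (hK : IsFunctionField k K) (φ : Fin 3 → K)
    (h00 : φ 0 ≠ 0)
    (hbir : IntermediateField.adjoin k (Set.range fun i => φ i / φ 0) = ⊤)
    (p : MvPolynomial (Fin 3) k) (hp : Irreducible p) {d : ℕ} (hhom : p.IsHomogeneous d)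
    (hpφ : MvPolynomial.aeval φ p = 0) (Q : Place k K) (j i₀ i₁ : Fin 3)
    (hji₀ : j ≠ i₀) (hi₁j : i₁ ≠ j) (hi₁i₀ : i₁ ≠ i₀) (hj0 : φ j ≠ 0)
    (hj : ∀ i, Q.1 (φ i) ≤ Q.1 (φ j))
    (ψ : K →ₐ[k] LaurentSeries k) (hψ : LocRes.IsExpansionAt Q.1 ψ)
    (hne : LocRes.vDiff ψ (MvPolynomial.aeval (fun i => φ i / φ j)
      (MvPolynomial.pderiv i₁ p))⁻¹ (φ i₀ / φ j) ≠ 0) :
    LocRes.ordDiff ψ (MvPolynomial.aeval (fun i => φ i / φ j)
      (MvPolynomial.pderiv i₁ p))⁻¹ (φ i₀ / φ j) ≤ 0 ∧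
    (LocRes.ordDiff ψ (MvPolynomial.aeval (fun i => φ i / φ j)
      (MvPolynomial.pderiv i₁ p))⁻¹ (φ i₀ / φ j) = 0 ↔ IsNonsingularAt φ Q) := by
  classical
  set ρ : Fin 3 → K := fun i => φ i / φ j with hρ
  have hρj : ρ j = 1 := div_self hj0
  have hφρ : φ = fun i => φ j * ρ i := by
    funext i
    simp only [hρ]
    field_simp
  have hpρ : MvPolynomial.aeval ρ p = 0 := by
    have h1 := aeval_mul_of_isHomogeneous (φ j) ρ hhom
    rw [← hφρ, hpφ] at h1
    exact (mul_eq_zero.mp h1.symm).resolve_left (pow_ne_zero _ hj0)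
  have hcases := all_cases hji₀ hi₁j hi₁i₀
  have hev := aeval_chart (k := k) hji₀ hi₁j hi₁i₀ ρ hρj
  set g := chart k j i₀ p with hgdef
  have hg : MvPolynomial.aeval ![ρ i₀, ρ i₁] g = 0 := by rw [hgdef, hev, hpρ]
  have hgv : MvPolynomial.aeval ![ρ i₀, ρ i₁] (MvPolynomial.pderiv 1 g) =
      MvPolynomial.aeval ρ (MvPolynomial.pderiv i₁ p) := by
    rw [hgdef, pderiv_chart_one hji₀ hi₁j hi₁i₀, hev]
  -- the chart coordinates generate
  have hρmem : ∀ m, ρ m ∈ Algebra.adjoin k ({ρ i₀, ρ i₁} : Set K) := by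
    intro m
    rcases hcases m with rfl | rfl | rfl
    · rw [hρj]; exact Subalgebra.one_mem _
    · exact Algebra.subset_adjoin (by simp)
    · exact Algebra.subset_adjoin (by simp)
  have hadj : Algebra.adjoin k ({ρ i₀, ρ i₁} : Set K) = Algebra.adjoin k (Set.range ρ) := by
    apply le_antisymm
    · apply Algebra.adjoin_mono
      rintro z (rfl | rfl)
      · exact ⟨i₀, rfl⟩
      · exact ⟨i₁, rfl⟩
    · rw [Algebra.adjoin_le_iff]
      rintro _ ⟨m, rfl⟩
      exact hρmem m
  have hgen : IntermediateField.adjoin k ({ρ i₀, ρ i₁} : Set K) = ⊤ := by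
    rw [eq_top_iff, ← hbir, IntermediateField.adjoin_le_iff]
    rintro _ ⟨i, rfl⟩
    have e : φ i / φ 0 = ρ i / ρ 0 := by
      simp only [hρ]; field_simp
    change φ i / φ 0 ∈ IntermediateField.adjoin k ({ρ i₀, ρ i₁} : Set K)
    rw [e]
    have hm : ∀ m, ρ m ∈ IntermediateField.adjoin k ({ρ i₀, ρ i₁} : Set K) := fun m =>
      IntermediateField.algebra_adjoin_le_adjoin k _ (hρmem m)
    exact div_mem (hm i) (hm 0)
  -- the kernel
  have hker := ker_gradedEval_eq_span' hK φ h00 hbir p hp hhom hpφ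
  have hker2 : RingHom.ker (MvPolynomial.aeval ![ρ i₀, ρ i₁] : MvPolynomial (Fin 2) k →ₐ[k] K) =
      Ideal.span {g} := by
    apply le_antisymm
    · intro H hH
      rw [RingHom.mem_ker] at hH
      have h1 : MvPolynomial.aeval ρ (MvPolynomial.rename ![i₀, i₁] H) = 0 := by
        rw [MvPolynomial.aeval_rename, ← hH]
        congr 2
        funext m
        fin_cases m
        · rfl
        · rfl
      obtain ⟨A, B, hAB⟩ := exists_eq_of_aeval_ratio_eq_zero φ j hj0 p hker _ h1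
      have h2 := congrArg (chart k j i₀) hAB
      rw [chart_rename hji₀ hi₁j hi₁i₀, map_add, map_mul, map_mul, chart_X_sub_one, mul_zero,
        add_zero] at h2
      rw [Ideal.mem_span_singleton, h2]
      exact Dvd.intro_left _ rfl
    · rw [Ideal.span_le]
      rintro _ rfl
      exact hg
  obtain ⟨f₀, hf₀irr, hf₀ker⟩ := ker_pair hK (ρ i₀) (ρ i₁) hgen
  have hgirr : Irreducible g := by
    have h1 : Ideal.span {g} = Ideal.span {f₀} := by rw [← hker2, hf₀ker]
    rw [Ideal.span_singleton_eq_span_singleton] at h1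
    exact h1.symm.irreducible hf₀irr
  have hρ1 : ∀ m, Q.1 (ρ m) ≤ 1 := by
    intro m
    simp only [hρ]
    rw [map_div₀]
    exact div_le_one_of_le₀ (hj m) zero_le
  rw [← hgv] at hne ⊢
  obtain ⟨hle, heq⟩ := affine_finite_place hK hgen g hgirr hg Q (hρ1 i₀) (hρ1 i₁) ψ hψ hne
  refine ⟨hle, ⟨fun h0 => ?_, fun hns => ?_⟩⟩
  · intro z hz
    rw [inLocRing_iff hj0 hj]
    unfold ratioAlg
    change z ∈ locAt Q (Algebra.adjoin k (Set.range ρ))
    rw [← hadj]
    exact heq h0 z hz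
  · apply le_antisymm hle
    -- the image point
    have hex : ∀ l, ∃ c : k, Q.1 (ρ l - algebraMap k K c) < 1 := fun l =>
      Place.exists_const_sub_lt Q (Place.deg_eq_one hK Q) (hρ1 l)
    choose ā hā using hex
    have hpā : MvPolynomial.eval ā p = 0 :=
      eval_eq_zero_of_val_lt Q ρ ā hā (by rw [hpρ, map_zero]; exact zero_lt_one)
    have hāj : ā j = 1 := by
      have h1 := hā j
      rw [hρj, ← map_one (algebraMap k K), ← map_sub] at h1
      have := const_eq_zero_of_val_lt Q h1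
      exact (sub_eq_zero.mp this).symm
    obtain ⟨l, hl⟩ := (isNonsingularAt_iff' hK φ h00 hbir p hp hhom hpφ Q j hj0 hj ā hā).mp hns
    have heuler := euler_eval p hhom ā hpā
    rw [sum_three j i₀ i₁ hji₀ hi₁j hi₁i₀, hāj, one_mul] at heuler
    -- the differential relation
    have hdg := D_exp_aeval ψ ρ p
    rw [hpρ, map_zero, map_zero, sum_three j i₀ i₁ hji₀ hi₁j hi₁i₀, hρj, map_one,
      Derivation.map_one_eq_zero, mul_zero, zero_add] at hdg
    have hvle : LocRes.vDiff ψ (MvPolynomial.aeval ![ρ i₀, ρ i₁] (MvPolynomial.pderiv 1 g))⁻¹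
        (ρ i₀) ≤ 1 := by
      rw [vDiff_inv_eq, hgv]
      by_cases h1 : MvPolynomial.eval ā (MvPolynomial.pderiv i₁ p) = 0
      · have h0 : MvPolynomial.eval ā (MvPolynomial.pderiv i₀ p) ≠ 0 := by
          intro h0
          rw [h0, h1, mul_zero, mul_zero, add_zero, add_zero] at heuler
          rcases hcases l with rfl | rfl | rfl
          · exact hl heuler
          · exact hl h0
          · exact hl h1
        have hv0 := val_eq_one_of_eval_ne_zero Q ρ ā hā h0
        have h2 := congrArg (Valued.v : LaurentSeries k → ℤᵐ⁰) (eq_neg_of_add_eq_zero_left hdg.symm)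
        rw [map_mul, Valuation.map_neg, map_mul, hψ.1, hv0, one_mul, hψ.1] at h2
        have hgv0 : Q.1 (MvPolynomial.aeval ρ (MvPolynomial.pderiv i₁ p)) ≠ 0 := by
          intro h3
          apply hne
          rw [vDiff_inv_eq, hgv, hψ.1, h3, inv_zero, zero_mul]
        rw [hψ.1, h2, ← mul_assoc, inv_mul_cancel₀ hgv0, one_mul]
        apply val_D_le_one
        rw [hψ.1]
        exact hρ1 i₁
      · have hv1 := val_eq_one_of_eval_ne_zero Q ρ ā hā h1
        rw [hψ.1, hv1, inv_one, one_mul]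
        apply val_D_le_one
        rw [hψ.1]
        exact hρ1 i₀
    rw [Tate.vDiff_eq_exp_ordDiff hne, ← exp_zero, exp_le_exp] at hvle
    exact neg_nonpos.mp hvle

end Groth.Agent.Helper9.PlaneChart
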