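import Mathlib
import Groth.Agent.Lib.Helper9.FFExt.PlaneChart
import Groth.Agent.Lib.Helper9.FFExt.PlaneDeg3
import Groth.Agent.Lib.Helper9.FFExt.PlaneHom2

namespace Groth.Agent.Helper9.PlaneAdj

universe u v
open FunFld WithZero Polynomial
open Groth.Agent.Lib.Helper4.FF Groth.Agent.Helper9.FFExt Groth.Agent.Helper9.PlaneKer
  Groth.Agent.Helper9.PlaneDiff Groth.Agent.Helper9.PlaneFP Groth.Agent.Helper9.PlaneProj
  Groth.Agent.Helper9.PlaneLocal Groth.Agent.Helper9.PlaneHom Groth.Agent.Helper9.PlaneChart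

variable {k : Type u} {K : Type v} [Field k] [Field K] [Algebra k K]

/-- **transition between charts**, in the Laurent series field -/
theorem transition_field (ψ : K →ₐ[k] LaurentSeries k)
    (φ : Fin 3 → K) (p : MvPolynomial (Fin 3) k) {d : ℕ} (hd : 1 ≤ d) (hhom : p.IsHomogeneous d)
    (j i₀ i₁ : Fin 3) (hj0 : φ j ≠ 0) (P2 dX s : LaurentSeries k)
    (hcross : (ψ (φ j) * LocRes.D k (ψ (φ i₀)) - ψ (φ i₀) * LocRes.D k (ψ (φ j))) * P2 =
        s * ψ (MvPolynomial.aeval φ (MvPolynomial.pderiv i₁ p)) * dX)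
    (hP2 : P2 ≠ 0) (hA : MvPolynomial.aeval φ (MvPolynomial.pderiv i₁ p) ≠ 0) :
    (ψ (MvPolynomial.aeval (fun i => φ i / φ j) (MvPolynomial.pderiv i₁ p)))⁻¹ *
        LocRes.D k (ψ (φ i₀ / φ j)) * ψ (φ j) ^ 3 =
      s * ψ (φ j) ^ d * (P2⁻¹ * dX) := by
  obtain ⟨d', rfl⟩ := Nat.exists_eq_add_of_le hd
  have hhom' : (MvPolynomial.pderiv i₁ p).IsHomogeneous d' := by
    have := hhom.pderiv (i := i₁)
    simpa using this
  have hρ : (fun i => φ i / φ j) = fun i => (φ j)⁻¹ * φ i := by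
    funext i
    rw [div_eq_mul_inv, mul_comm]
  rw [hρ, aeval_mul_of_isHomogeneous (φ j)⁻¹ φ hhom', map_mul, map_pow, map_inv₀, map_div₀,
    Derivation.leibniz_div]
  have ha : ψ (φ j) ≠ 0 := by
    rw [Ne, map_eq_zero_iff ψ (ψ : K →+* LaurentSeries k).injective]
    exact hj0
  have hA' : ψ (MvPolynomial.aeval φ (MvPolynomial.pderiv i₁ p)) ≠ 0 := by
    rw [Ne, map_eq_zero_iff ψ (ψ : K →+* LaurentSeries k).injective]
    exact hA
  have hN : ψ (φ j) * LocRes.D k (ψ (φ i₀)) - ψ (φ i₀) * LocRes.D k (ψ (φ j)) =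
      s * ψ (MvPolynomial.aeval φ (MvPolynomial.pderiv i₁ p)) * dX / P2 :=
    eq_div_of_mul_eq hP2 hcross
  simp only [smul_eq_mul, inv_pow]
  rw [hN]
  field_simp
  ring


/-- **transition between charts**, for the orders -/
theorem transition_ord {Q : Place k K} {ψ : K →ₐ[k] LaurentSeries k}
    (hψ : LocRes.IsExpansionAt Q.1 ψ)
    (φ : Fin 3 → K) (p : MvPolynomial (Fin 3) k) {d : ℕ} (hd : 1 ≤ d) (hhom : p.IsHomogeneous d)
    (j i₀ i₁ : Fin 3) (hj0 : φ j ≠ 0) (g₂ x₀ : K) (s : LaurentSeries k) (hs : Valued.v s = 1)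
    (hcross : (ψ (φ j) * LocRes.D k (ψ (φ i₀)) - ψ (φ i₀) * LocRes.D k (ψ (φ j))) * ψ g₂ =
        s * ψ (MvPolynomial.aeval φ (MvPolynomial.pderiv i₁ p)) * LocRes.D k (ψ x₀))
    (hne : LocRes.vDiff ψ g₂⁻¹ x₀ ≠ 0)
    (hA : MvPolynomial.aeval φ (MvPolynomial.pderiv i₁ p) ≠ 0) :
    LocRes.vDiff ψ (MvPolynomial.aeval (fun i => φ i / φ j) (MvPolynomial.pderiv i₁ p))⁻¹
        (φ i₀ / φ j) ≠ 0 ∧
    LocRes.ordDiff ψ (MvPolynomial.aeval (fun i => φ i / φ j) (MvPolynomial.pderiv i₁ p))⁻¹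
        (φ i₀ / φ j) = LocRes.ordDiff ψ g₂⁻¹ x₀ - ((d : ℤ) - 3) * log (Q.1 (φ j)) := by
  have hg₂ : ψ g₂ ≠ 0 := by
    intro h0
    apply hne
    unfold LocRes.vDiff
    rw [map_inv₀, h0, inv_zero, zero_mul, map_zero]
  have key := transition_field ψ φ p hd hhom j i₀ i₁ hj0 (ψ g₂) (LocRes.D k (ψ x₀)) s hcross hg₂ hA
  have hval := congrArg (Valued.v : LaurentSeries k → ℤᵐ⁰) key
  simp only [map_mul, map_pow, map_inv₀, hs, one_mul] at hval
  have hva : Q.1 (φ j) ≠ 0 := (Valuation.ne_zero_iff _).mpr hj0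
  have h1 : LocRes.vDiff ψ (MvPolynomial.aeval (fun i => φ i / φ j)
      (MvPolynomial.pderiv i₁ p))⁻¹ (φ i₀ / φ j) * Q.1 (φ j) ^ 3 =
      Q.1 (φ j) ^ d * LocRes.vDiff ψ g₂⁻¹ x₀ := by
    unfold LocRes.vDiff
    simp only [map_mul, map_inv₀]
    rw [← hψ.1 (φ j)]
    exact hval
  have hne' : LocRes.vDiff ψ (MvPolynomial.aeval (fun i => φ i / φ j)
      (MvPolynomial.pderiv i₁ p))⁻¹ (φ i₀ / φ j) ≠ 0 := by
    intro h0
    rw [h0, zero_mul] at h1
    exact mul_ne_zero (pow_ne_zero _ hva) hne h1.symm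
  refine ⟨hne', ?_⟩
  have h2 := congrArg log h1
  rw [log_mul hne' (pow_ne_zero _ hva), log_mul (pow_ne_zero _ hva) hne, log_pow, log_pow] at h2
  unfold LocRes.ordDiff
  simp only [nsmul_eq_mul] at h2
  push_cast at h2
  linarith


/-- the adjoint coefficient computed in one chart -/
theorem chart_case [IsAlgClosed k] (hK : IsFunctionField k K) (φ : Fin 3 → K)
    (h00 : φ 0 ≠ 0)
    (hbir : IntermediateField.adjoin k (Set.range fun i => φ i / φ 0) = ⊤)
    (p : MvPolynomial (Fin 3) k) (hp : Irreducible p) {d : ℕ} (hd : 1 ≤ d)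
    (hhom : p.IsHomogeneous d)
    (hpφ : MvPolynomial.aeval φ p = 0) (Q : Place k K) (j i₀ i₁ : Fin 3)
    (hji₀ : j ≠ i₀) (hi₁j : i₁ ≠ j) (hi₁i₀ : i₁ ≠ i₀) (hj0 : φ j ≠ 0)
    (hj : ∀ i, Q.1 (φ i) ≤ Q.1 (φ j))
    (ψ : K →ₐ[k] LaurentSeries k) (hψ : LocRes.IsExpansionAt Q.1 ψ)
    (g₂ x₀ : K) (s : LaurentSeries k) (hs : Valued.v s = 1)
    (hcross : (ψ (φ j) * LocRes.D k (ψ (φ i₀)) - ψ (φ i₀) * LocRes.D k (ψ (φ j))) * ψ g₂ =
        s * ψ (MvPolynomial.aeval φ (MvPolynomial.pderiv i₁ p)) * LocRes.D k (ψ x₀))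
    (hne : LocRes.vDiff ψ g₂⁻¹ x₀ ≠ 0)
    (hA : MvPolynomial.aeval φ (MvPolynomial.pderiv i₁ p) ≠ 0) :
    0 ≤ ((d : ℤ) - 3) * log (Q.1 (φ j)) - LocRes.ordDiff ψ g₂⁻¹ x₀ ∧
    (((d : ℤ) - 3) * log (Q.1 (φ j)) - LocRes.ordDiff ψ g₂⁻¹ x₀ = 0 ↔ IsNonsingularAt φ Q) := by
  obtain ⟨hne', hord⟩ := transition_ord hψ φ p hd hhom j i₀ i₁ hj0 g₂ x₀ s hs hcross hne hA
  obtain ⟨hle, hiff⟩ := proj_finite_place hK φ h00 hbir p hp hhom hpφ Q j i₀ i₁ hji₀ hi₁j hi₁i₀
    hj0 hj ψ hψ hne'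
  rw [hord] at hle hiff
  refine ⟨by linarith, ?_⟩
  rw [← hiff]
  constructor <;> intro h <;> linarith

/-- the homogeneous equation of a plane model -/
theorem exists_form (hK : IsFunctionField k K) (x y : K)
    (hxy : IntermediateField.adjoin k ({x, y} : Set K) = ⊤)
    (f : MvPolynomial (Fin 2) k) (hf : Irreducible f)
    (hfxy : MvPolynomial.aeval ![x, y] f = 0) :
    ∃ p : MvPolynomial (Fin 3) k, Irreducible p ∧ p.IsHomogeneous f.totalDegree ∧
      MvPolynomial.aeval ![1, x, y] p = 0 ∧ chart k 0 1 p = f := by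
  classical
  obtain ⟨p₀, hp₀, hhom₀, hker₀⟩ := ker_gradedEval_triple hK x y hxy
  set φ : Fin 3 → K := ![1, x, y] with hφ
  have hp₀φ : MvPolynomial.aeval φ p₀ = 0 := by
    rw [← mem_ker_gradedEval_of_isHomogeneous φ hhom₀, hker₀]
    exact Ideal.mem_span_singleton_self p₀
  have h01 : (0 : Fin 3) ≠ 1 := by decide
  have h20 : (2 : Fin 3) ≠ 0 := by decide
  have h21 : (2 : Fin 3) ≠ 1 := by decide
  have hev : ∀ P : MvPolynomial (Fin 3) k,
      MvPolynomial.aeval ![x, y] (chart k 0 1 P) = MvPolynomial.aeval φ P := by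
    intro P
    exact aeval_chart h01 h20 h21 φ rfl P
  set g₀ := chart k 0 1 p₀ with hg₀
  have hφdiv : (fun i => φ i / φ 0) = φ := by
    funext i
    change φ i / 1 = φ i
    rw [div_one]
  have hker2 : RingHom.ker (MvPolynomial.aeval ![x, y] : MvPolynomial (Fin 2) k →ₐ[k] K) =
      Ideal.span {g₀} := by
    apply le_antisymm
    · intro H hH
      rw [RingHom.mem_ker] at hH
      have h1 : MvPolynomial.aeval (fun i => φ i / φ 0)
          (MvPolynomial.rename ![(1 : Fin 3), 2] H) = 0 := by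
        rw [hφdiv, MvPolynomial.aeval_rename, ← hH]
        congr 2
        funext m
        fin_cases m
        · rfl
        · rfl
      obtain ⟨A, B, hAB⟩ := exists_eq_of_aeval_ratio_eq_zero φ 0 one_ne_zero p₀ hker₀ _ h1
      have h2 := congrArg (chart k 0 1) hAB
      rw [chart_rename h01 h20 h21, map_add, map_mul, map_mul, chart_X_sub_one, mul_zero,
        add_zero] at h2
      rw [Ideal.mem_span_singleton, h2]
      exact Dvd.intro_left _ rfl
    · rw [Ideal.span_le]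
      rintro _ rfl
      change MvPolynomial.aeval ![x, y] g₀ = 0
      rw [hg₀, hev, hp₀φ]
  have hspan : Ideal.span {g₀} = Ideal.span {f} := by
    rw [← hker2, ker_pair_eq_span hK x y hxy f hf hfxy]
  rw [Ideal.span_singleton_eq_span_singleton] at hspan
  obtain ⟨w, hw⟩ := hspan
  obtain ⟨c, hc, hwc⟩ := MvPolynomial.isUnit_iff_eq_C_of_isReduced.mp w.isUnit
  have hcu : IsUnit (MvPolynomial.C c : MvPolynomial (Fin 3) k) := hc.map MvPolynomial.C
  have hchart : chart k 0 1 (MvPolynomial.C c * p₀) = f := by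
    rw [map_mul, ← hw, hwc, mul_comm]
    congr 1
    unfold chart
    rw [MvPolynomial.aeval_C]
    rfl
  have hle1 : f.totalDegree ≤ p₀.totalDegree := by
    rw [← hchart]
    unfold chart
    refine (PlaneAff.totalDegree_aeval_le (chartSub k 0 1) ?_ _).trans ?_
    · intro i
      unfold chartSub
      fin_cases i
      · simp
      · simp
      · simp
    · refine (MvPolynomial.totalDegree_mul _ _).trans ?_
      rw [MvPolynomial.totalDegree_C, zero_add]
  have hle2 : p₀.totalDegree ≤ f.totalDegree := by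
    set f₁ : MvPolynomial (Fin 3) k := MvPolynomial.rename ![(1 : Fin 3), 2] f with hf₁
    set G := homogJ (0 : Fin 3) f₁.totalDegree f₁ with hG
    have hGhom : G.IsHomogeneous f₁.totalDegree := homogJ_isHomogeneous _ _ _
    have hGφ : MvPolynomial.aeval φ G = 0 := by
      rw [hG, ← AlgHom.coe_toRingHom, map_homogJ _ _ _ le_rfl]
      · rw [AlgHom.coe_toRingHom, hf₁, MvPolynomial.aeval_rename, ← hfxy]
        congr 2
        funext m
        fin_cases m
        · rfl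
        · rfl
      · rw [AlgHom.coe_toRingHom, MvPolynomial.aeval_X]
        rfl
    have hGk : G ∈ RingHom.ker (gradedEval φ : MvPolynomial (Fin 3) k →ₐ[k] K[X]) :=
      (mem_ker_gradedEval_of_isHomogeneous φ hGhom).mpr hGφ
    rw [hker₀, Ideal.mem_span_singleton] at hGk
    have hGc : chart k 0 1 G = f := by
      rw [hG, ← AlgHom.coe_toRingHom, map_homogJ _ _ _ le_rfl]
      · rw [AlgHom.coe_toRingHom, hf₁, chart_rename h01 h20 h21]
      · rw [AlgHom.coe_toRingHom]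
        unfold chart chartSub
        rw [MvPolynomial.aeval_X, if_pos rfl]
    have hG0 : G ≠ 0 := by
      intro h0
      rw [h0, map_zero] at hGc
      exact hf.ne_zero hGc.symm
    refine (MvPolynomial.totalDegree_le_of_dvd_of_isDomain hGk hG0).trans ?_
    refine hGhom.totalDegree_le.trans ?_
    exact MvPolynomial.totalDegree_rename_le _ _
  have hdeq : p₀.totalDegree = f.totalDegree := le_antisymm hle2 hle1
  refine ⟨MvPolynomial.C c * p₀, (irreducible_isUnit_mul hcu).mpr hp₀, ?_, ?_, hchart⟩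
  · rw [← hdeq]
    have := (MvPolynomial.isHomogeneous_C (Fin 3) c).mul hhom₀
    rwa [zero_add] at this
  · rw [map_mul, hp₀φ, mul_zero]


/-- **the adjoint divisor of a plane model is effective, and vanishes exactly at the nonsingular
places** -/
theorem main [IsAlgClosed k] (hK : IsFunctionField k K) (x y : K)
    (hxy : IntermediateField.adjoin k ({x, y} : Set K) = ⊤)
    (f : MvPolynomial (Fin 2) k) (hf : Irreducible f)
    (hfxy : MvPolynomial.aeval ![x, y] f = 0)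
    (Q : Place k K) (ΦQ : K →ₐ[k] LaurentSeries k) (hΦQ : LocRes.IsExpansionAt Q.1 ΦQ)
    (hne : LocRes.vDiff ΦQ (MvPolynomial.aeval ![x, y] (MvPolynomial.pderiv 1 f))⁻¹ x ≠ 0) :
    0 ≤ ((mapDiv k ![(1 : K), x, y]).deg - 3) * mapDiv k ![(1 : K), x, y] Q -
        LocRes.ordDiff ΦQ (MvPolynomial.aeval ![x, y] (MvPolynomial.pderiv 1 f))⁻¹ x ∧
    (((mapDiv k ![(1 : K), x, y]).deg - 3) * mapDiv k ![(1 : K), x, y] Q -
        LocRes.ordDiff ΦQ (MvPolynomial.aeval ![x, y] (MvPolynomial.pderiv 1 f))⁻¹ x = 0 ↔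
      IsNonsingularAt ![(1 : K), x, y] Q) := by
  classical
  obtain ⟨p, hp, hhom, hpφ, hchart⟩ := exists_form hK x y hxy f hf hfxy
  set φ : Fin 3 → K := ![1, x, y] with hφ
  have hdeg : (mapDiv k φ).deg = (f.totalDegree : ℤ) :=
    PlaneDeg.deg_mapDiv_eq_totalDegree hK x y hxy f hf hfxy
  have hd : 1 ≤ f.totalDegree := by
    by_contra h0
    have h1 : f.totalDegree = 0 := by omega
    rw [MvPolynomial.totalDegree_eq_zero_iff_eq_C] at h1
    by_cases hc : MvPolynomial.coeff 0 f = 0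
    · rw [hc, map_zero] at h1
      exact hf.ne_zero h1
    · apply hf.not_isUnit
      rw [h1]
      exact (IsUnit.mk0 _ hc).map MvPolynomial.C
  have h01 : (0 : Fin 3) ≠ 1 := by decide
  have h20 : (2 : Fin 3) ≠ 0 := by decide
  have h21 : (2 : Fin 3) ≠ 1 := by decide
  have h00 : φ 0 ≠ 0 := one_ne_zero
  have hφdiv : (fun i => φ i / φ 0) = φ := by
    funext i
    change φ i / 1 = φ i
    rw [div_one]
  have hbir : IntermediateField.adjoin k (Set.range fun i => φ i / φ 0) = ⊤ := by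
    rw [hφdiv, eq_top_iff, ← hxy]
    apply IntermediateField.adjoin.mono
    rintro z (rfl | rfl)
    · exact ⟨1, rfl⟩
    · exact ⟨2, rfl⟩
  have hev : ∀ P : MvPolynomial (Fin 3) k,
      MvPolynomial.aeval ![x, y] (chart k 0 1 P) = MvPolynomial.aeval φ P := by
    intro P
    exact aeval_chart h01 h20 h21 φ rfl P
  have hP2 : MvPolynomial.aeval φ (MvPolynomial.pderiv 2 p) =
      MvPolynomial.aeval ![x, y] (MvPolynomial.pderiv 1 f) := by
    rw [← hchart, pderiv_chart_one h01 h20 h21, hev]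
  set g₂ := MvPolynomial.aeval ![x, y] (MvPolynomial.pderiv 1 f) with hg₂
  -- Euler's relation and the differential relation
  have hE : MvPolynomial.aeval φ (MvPolynomial.pderiv 0 p) +
      x * MvPolynomial.aeval φ (MvPolynomial.pderiv 1 p) + y * g₂ = 0 := by
    have h1 := congrArg (MvPolynomial.aeval φ) hhom.sum_X_mul_pderiv
    rw [map_sum, map_nsmul, hpφ, smul_zero, Fin.sum_univ_three] at h1
    simp only [map_mul, MvPolynomial.aeval_X] at h1
    rw [hP2] at h1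
    have e0 : φ 0 = 1 := rfl
    have e1 : φ 1 = x := rfl
    have e2 : φ 2 = y := rfl
    rw [e0, e1, e2, one_mul] at h1
    exact h1
  have hR : ΦQ (MvPolynomial.aeval φ (MvPolynomial.pderiv 1 p)) * LocRes.D k (ΦQ x) +
      ΦQ g₂ * LocRes.D k (ΦQ y) = 0 := by
    have h1 := D_exp_aeval ΦQ φ p
    rw [hpφ, map_zero, map_zero, Fin.sum_univ_three, hP2] at h1
    have e0 : φ 0 = 1 := rfl
    have e1 : φ 1 = x := rfl
    have e2 : φ 2 = y := rfl
    rw [e0, e1, e2, map_one, Derivation.map_one_eq_zero, mul_zero, zero_add] at h1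
    exact h1.symm
  have hE' := congrArg ΦQ hE
  rw [map_add, map_add, map_mul, map_mul, map_zero] at hE'
  have hD1 : LocRes.D k (ΦQ 1) = 0 := by rw [map_one, Derivation.map_one_eq_zero]
  have hg₂0 : g₂ ≠ 0 := by
    intro h0
    apply hne
    rw [vDiff_inv_eq, h0, map_zero, map_zero, inv_zero, zero_mul]
  have hs1 : Valued.v (1 : LaurentSeries k) = 1 := map_one _
  have hs2 : Valued.v (-1 : LaurentSeries k) = 1 := by rw [Valuation.map_neg, map_one]
  obtain ⟨j, hj⟩ := exists_least φ Q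
  have hDQ : mapDiv k φ Q = log (Q.1 (φ j)) := by
    rw [← exp_mapDiv_of_one hK φ ⟨0, rfl⟩ Q hj, log_exp]
  have hj0 : φ j ≠ 0 := by
    intro h0
    have := hj 0
    rw [h0, map_zero] at this
    have e0 : φ 0 = 1 := rfl
    rw [e0, map_one] at this
    exact absurd this (by simp)
  rw [hdeg, hDQ]
  have hA2 : MvPolynomial.aeval φ (MvPolynomial.pderiv 2 p) ≠ 0 := by rw [hP2]; exact hg₂0
  -- the three charts
  have e0 : φ 0 = 1 := rfl
  have e1 : φ 1 = x := rfl
  have e2 : φ 2 = y := rfl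
  fin_cases j
  · -- the affine chart
    refine chart_case hK φ h00 hbir p hp hd hhom hpφ Q 0 1 2 h01 h20 h21 hj0 hj ΦQ hΦQ g₂ x 1 hs1 ?_
      hne hA2
    rw [hP2, e0, e1, hD1, map_one]
    ring
  · -- the chart `x ≠ 0`
    refine chart_case hK φ h00 hbir p hp hd hhom hpφ Q 1 0 2 (by decide) (by decide) (by decide)
      hj0 hj ΦQ hΦQ g₂ x (-1) hs2 ?_ hne hA2
    rw [hP2, e0, e1, hD1, map_one]
    ring
  · -- the chart `y ≠ 0`
    by_cases hA0 : MvPolynomial.aeval φ (MvPolynomial.pderiv 0 p) = 0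
    · have hA1 : MvPolynomial.aeval φ (MvPolynomial.pderiv 1 p) ≠ 0 := by
        intro h1
        rw [hA0, h1, mul_zero, zero_add, zero_add] at hE
        rcases mul_eq_zero.mp hE with h | h
        · exact hj0 h
        · exact hg₂0 h
      refine chart_case hK φ h00 hbir p hp hd hhom hpφ Q 2 0 1 (by decide) (by decide) (by decide)
        hj0 hj ΦQ hΦQ g₂ x 1 hs1 ?_ hne hA1
      rw [e0, e2, hD1, map_one]
      linear_combination (-1 : LaurentSeries k) * hR
    · refine chart_case hK φ h00 hbir p hp hd hhom hpφ Q 2 1 0 (by decide) (by decide) (by decide)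
        hj0 hj ΦQ hΦQ g₂ x (-1) hs2 ?_ hne hA0
      rw [e1, e2]
      linear_combination LocRes.D k (ΦQ x) * hE' - ΦQ x * hR

end Groth.Agent.Helper9.PlaneAdj
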