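import Mathlib
import Groth.Agent.Lib.Helper9.FFExt.PlaneProj2

namespace Groth.Agent.Helper9.PlaneJac

open FunFld WithZero Polynomial Groth.Agent.Lib.Helper4.FF Groth.Agent.Helper9.PlaneHom
  Groth.Agent.Helper9.PlaneLocal Groth.Agent.Helper9.PlaneProj

variable {k K : Type*} [Field k] [Field K] [Algebra k K]

section Local

variable {σ : Type*} [Fintype σ]

/-- elements of the maximal ideal of the local ring are combinations of the `ρ l - ā l` -/
lemma exists_repr_of_lt (P : Place k K) (ρ : σ → K) (ā : σ → k)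
    (hres : ∀ l, P.1 (ρ l - algebraMap k K (ā l)) < 1) {z : K}
    (hz : z ∈ locAt P (Algebra.adjoin k (Set.range ρ))) (hPz : P.1 z < 1) :
    ∃ h : σ → K, (∀ l, h l ∈ locAt P (Algebra.adjoin k (Set.range ρ))) ∧
      z = ∑ l, (ρ l - algebraMap k K (ā l)) * h l := by
  classical
  set A := Algebra.adjoin k (Set.range ρ) with hA
  obtain ⟨u, hu, w, hw, hw1, e⟩ := hz
  have hPu : P.1 u < 1 := by rw [← e, map_mul, hw1, mul_one]; exact hPz
  obtain ⟨U, rfl⟩ := (mem_adjoin_range_iff ρ u).mp hu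
  have hUā := eval_eq_zero_of_val_lt P ρ ā hres hPu
  obtain ⟨H, hH⟩ := exists_taylor ā U
  rw [hUā, map_zero, zero_add] at hH
  have hw0 : w ≠ 0 := by
    intro h; rw [h, map_zero] at hw1; exact zero_ne_one hw1
  have hwinv : w⁻¹ ∈ locAt P A := inv_mem_locAt (le_locAt P A hw) hw1
  refine ⟨fun l => MvPolynomial.aeval ρ (H l) * w⁻¹, fun l => ?_, ?_⟩
  · exact Subalgebra.mul_mem _ (le_locAt P A ((mem_adjoin_range_iff ρ _).mpr ⟨H l, rfl⟩)) hwinv
  · have hz' : z = MvPolynomial.aeval ρ U * w⁻¹ := by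
      rw [← e]; field_simp
    rw [hz']
    conv_lhs => rw [hH]
    rw [map_sum, Finset.sum_mul]
    refine Finset.sum_congr rfl fun l _ => ?_
    simp only [map_mul, map_sub, MvPolynomial.aeval_X, MvPolynomial.aeval_C]
    ring

end Local

/-- a subring of `O_P`, closed under inverses of units of `O_P`, with fraction field `K` and
principal maximal ideal, is `O_P` -/
theorem eq_top_of_principal (P : Place k K) (O : Subalgebra k K)
    (hOle : ∀ a ∈ O, P.1 a ≤ 1) (hOinv : ∀ a ∈ O, P.1 a = 1 → a⁻¹ ∈ O)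
    (hfrac : ∀ z : K, ∃ u ∈ O, ∃ w ∈ O, w ≠ 0 ∧ z * w = u)
    {s : K} (hsO : s ∈ O) (hs0 : s ≠ 0) (hPs : P.1 s < 1)
    (hmax : ∀ z ∈ O, P.1 z < 1 → ∃ z' ∈ O, z = s * z') :
    ∀ z : K, P.1 z ≤ 1 → z ∈ O := by
  have hpow : ∀ n : ℕ, ∀ z ∈ O, z ≠ 0 → P.ord z ≤ n →
      ∃ m : ℕ, ∃ ε ∈ O, P.1 ε = 1 ∧ z = s ^ m * ε := by
    intro n
    induction n with
    | zero =>
      intro z hz hz0 hord
      have h1 : 0 ≤ P.ord z := (Place.ord_nonneg_iff P hz0).mpr (hOle z hz)
      have h2 : P.ord z = 0 := le_antisymm (by exact_mod_cast hord) h1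
      refine ⟨0, z, hz, ?_, by rw [pow_zero, one_mul]⟩
      rw [Place.val_eq_exp_neg_ord P hz0, h2, neg_zero, exp_zero]
    | succ n ih =>
      intro z hz hz0 hord
      by_cases h1 : P.1 z = 1
      · exact ⟨0, z, hz, h1, by rw [pow_zero, one_mul]⟩
      · have hlt : P.1 z < 1 := lt_of_le_of_ne (hOle z hz) h1
        obtain ⟨z', hz', rfl⟩ := hmax z hz hlt
        have hz'0 : z' ≠ 0 := by
          rintro rfl; exact hz0 (mul_zero _)
        have h2 : P.ord (s * z') = P.ord s + P.ord z' := Place.ord_mul P hs0 hz'0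
        have h3 : 0 < P.ord s := (Place.ord_pos_iff P hs0).mpr hPs
        obtain ⟨m, ε, hε, hε1, rfl⟩ := ih z' hz' hz'0 (by push_cast at hord; omega)
        exact ⟨m + 1, ε, hε, hε1, by ring⟩
  intro z hz
  by_cases hz0 : z = 0
  · rw [hz0]; exact O.zero_mem
  obtain ⟨u, hu, w, hw, hw0, e⟩ := hfrac z
  have hu0 : u ≠ 0 := by
    rw [← e]; exact mul_ne_zero hz0 hw0
  have hordu : 0 ≤ P.ord u := (Place.ord_nonneg_iff P hu0).mpr (hOle u hu)
  have hordw : 0 ≤ P.ord w := (Place.ord_nonneg_iff P hw0).mpr (hOle w hw)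
  obtain ⟨a, ε₁, hε₁, hε₁1, hua⟩ := hpow (P.ord u).toNat u hu hu0 (by omega)
  obtain ⟨b, ε₂, hε₂, hε₂1, hwb⟩ := hpow (P.ord w).toNat w hw hw0 (by omega)
  have hε₂0 : ε₂ ≠ 0 := by
    intro h; rw [h, map_zero] at hε₂1; exact zero_ne_one hε₂1
  have hε₂inv : ε₂⁻¹ ∈ O := hOinv ε₂ hε₂ hε₂1
  have hzuw : z = u / w := by rw [← e]; field_simp
  have hab : b ≤ a := by
    by_contra hlt
    push Not at hlt
    obtain ⟨c, rfl⟩ := Nat.exists_eq_add_of_lt hlt
    have h1 : z * s ^ (c + 1) = ε₁ * ε₂⁻¹ := by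
      rw [hzuw, hua, hwb]
      field_simp
      ring
    have h2 := congrArg P.1 h1
    rw [map_mul, map_mul, map_inv₀, hε₁1, hε₂1, inv_one, mul_one, map_pow] at h2
    have h3 : P.1 s ^ (c + 1) < 1 := pow_lt_one₀ zero_le hPs (by omega)
    have h4 : P.1 z * P.1 s ^ (c + 1) < 1 := by
      calc P.1 z * P.1 s ^ (c + 1) ≤ 1 * P.1 s ^ (c + 1) := mul_le_mul_left hz _
        _ < 1 := by rw [one_mul]; exact h3
    rw [h2] at h4
    exact lt_irrefl _ h4
  obtain ⟨c, rfl⟩ := Nat.exists_eq_add_of_le hab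
  have hzeq : z = s ^ c * ε₁ * ε₂⁻¹ := by
    rw [hzuw, hua, hwb]
    field_simp
    ring
  rw [hzeq]
  exact O.mul_mem (O.mul_mem (pow_mem hsO _) hε₁) hε₂inv


/-- the ideal of the affine chart `X_j = 1`, for several generators -/
theorem exists_eq_of_aeval_ratio_eq_zero' {σ : Type*} (φ : σ → K) (j : σ) (hj : φ j ≠ 0) {r : ℕ}
    (f : Fin r → MvPolynomial σ k)
    (hker : Ideal.span (Set.range f) =
      RingHom.ker (gradedEval φ : MvPolynomial σ k →ₐ[k] K[X]))
    (G : MvPolynomial σ k) (hG : MvPolynomial.aeval (fun i => φ i / φ j) G = 0) :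
    ∃ (A : Fin r → MvPolynomial σ k) (B : MvPolynomial σ k),
      G = ∑ i, A i * f i + B * (MvPolynomial.X j - 1) := by
  set ρ : σ → K := fun i => φ i / φ j with hρ
  have hρj : ρ j = 1 := div_self hj
  set D := G.totalDegree with hD
  set G' := homogJ j D G with hG'
  have h1 : MvPolynomial.aeval ρ G' = MvPolynomial.aeval ρ G := by
    rw [hG', ← AlgHom.coe_toRingHom, map_homogJ _ j _ le_rfl]
    simp [hρj]
  have hφρ : φ = fun i => φ j * ρ i := by
    funext i
    simp only [hρ]
    field_simp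
  have hhom : G'.IsHomogeneous D := homogJ_isHomogeneous j D G
  have h2 : MvPolynomial.aeval φ G' = 0 := by
    rw [hφρ, aeval_mul_of_isHomogeneous (φ j) ρ hhom, h1, hG, mul_zero]
  have h3 : G' ∈ RingHom.ker (gradedEval φ : MvPolynomial σ k →ₐ[k] K[X]) :=
    (mem_ker_gradedEval_of_isHomogeneous φ hhom).mpr h2
  rw [← hker, Ideal.mem_span_range_iff_exists_fun] at h3
  obtain ⟨A, hA⟩ := h3
  have h4 : G - G' ∈ Ideal.span {(MvPolynomial.X j - 1 : MvPolynomial σ k)} := by
    rw [← Ideal.Quotient.eq]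
    symm
    apply map_homogJ _ j _ le_rfl
    rw [← map_one (Ideal.Quotient.mk _), Ideal.Quotient.eq]
    exact Ideal.mem_span_singleton_self _
  rw [Ideal.mem_span_singleton] at h4
  obtain ⟨B, hB⟩ := h4
  refine ⟨A, B, ?_⟩
  linear_combination hB - hA

section Grad

variable {n : ℕ}

/-- the gradient at `ā` in the coordinates `1, …, n` -/
noncomputable def grad (ā : Fin (n + 1) → k) :
    MvPolynomial (Fin (n + 1)) k →ₗ[k] (Fin n → k) where
  toFun G := fun j => MvPolynomial.eval ā (MvPolynomial.pderiv j.succ G)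
  map_add' G H := by
    funext j
    simp only [map_add, Pi.add_apply]
  map_smul' c G := by
    funext j
    rw [Derivation.map_smul, MvPolynomial.smul_eval]
    rfl

lemma grad_apply (ā : Fin (n + 1) → k) (G : MvPolynomial (Fin (n + 1)) k) (j : Fin n) :
    grad ā G j = MvPolynomial.eval ā (MvPolynomial.pderiv j.succ G) := rfl

lemma grad_mul (ā : Fin (n + 1) → k) (G H : MvPolynomial (Fin (n + 1)) k) :
    grad ā (G * H) = MvPolynomial.eval ā G • grad ā H + MvPolynomial.eval ā H • grad ā G := by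
  funext j
  simp only [grad_apply, Pi.add_apply, Pi.smul_apply, smul_eq_mul, Derivation.leibniz, map_add,
    map_mul]

lemma grad_C (ā : Fin (n + 1) → k) (c : k) : grad ā (MvPolynomial.C c) = 0 := by
  funext j
  simp [grad_apply]

lemma grad_one (ā : Fin (n + 1) → k) : grad ā 1 = 0 := by
  rw [← MvPolynomial.C_1, grad_C]

lemma grad_X_succ (ā : Fin (n + 1) → k) (j : Fin n) :
    grad ā (MvPolynomial.X j.succ) = Pi.single j 1 := by
  classical
  funext l
  rw [grad_apply, MvPolynomial.pderiv_X]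
  by_cases h : l = j
  · subst h
    simp
  · have h' : j.succ ≠ l.succ := fun h' => h (Fin.succ_injective _ h').symm
    rw [Pi.single_eq_of_ne h', Pi.single_eq_of_ne h]
    simp

lemma grad_X_zero (ā : Fin (n + 1) → k) : grad ā (MvPolynomial.X 0) = 0 := by
  classical
  funext l
  rw [grad_apply, MvPolynomial.pderiv_X, Pi.single_eq_of_ne (Fin.succ_ne_zero l).symm]
  simp

/-- the gradient of a relation lies in the span of the gradients of the generators -/
theorem grad_mem (ā : Fin (n + 1) → k) (hā0 : ā 0 = 1) {r : ℕ}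
    (f : Fin r → MvPolynomial (Fin (n + 1)) k) (hfā : ∀ i, MvPolynomial.eval ā (f i) = 0)
    (A : Fin r → MvPolynomial (Fin (n + 1)) k) (B : MvPolynomial (Fin (n + 1)) k) :
    grad ā (∑ i, A i * f i + B * (MvPolynomial.X 0 - 1)) ∈
      Submodule.span k (Set.range fun i => grad ā (f i)) := by
  rw [map_add, map_sum, grad_mul, map_sub, grad_X_zero, grad_one, sub_zero, smul_zero, zero_add,
    map_sub, MvPolynomial.eval_X, map_one, hā0, sub_self, zero_smul, add_zero]
  apply Submodule.sum_mem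
  intro i _
  rw [grad_mul, hfā, zero_smul, add_zero]
  exact Submodule.smul_mem _ _ (Submodule.subset_span ⟨i, rfl⟩)

end Grad


section Main

variable {n : ℕ}

/-- the local data of a chart -/
structure ChartData (P : Place k K) (ρ : Fin (n + 1) → K) (ā : Fin (n + 1) → k) {r : ℕ}
    (f : Fin r → MvPolynomial (Fin (n + 1)) k) : Prop where
  hρ0 : ρ 0 = 1
  hā0 : ā 0 = 1
  hres : ∀ l, P.1 (ρ l - algebraMap k K (ā l)) < 1
  hfρ : ∀ i, MvPolynomial.aeval ρ (f i) = 0
  hker : ∀ G : MvPolynomial (Fin (n + 1)) k, MvPolynomial.aeval ρ G = 0 →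
    ∃ (A : Fin r → MvPolynomial (Fin (n + 1)) k) (B : MvPolynomial (Fin (n + 1)) k),
      G = ∑ i, A i * f i + B * (MvPolynomial.X 0 - 1)

variable {P : Place k K} {ρ : Fin (n + 1) → K} {ā : Fin (n + 1) → k} {r : ℕ}
  {f : Fin r → MvPolynomial (Fin (n + 1)) k}

/-- the local coordinates -/
noncomputable def sv (ρ : Fin (n + 1) → K) (ā : Fin (n + 1) → k) (j : Fin n) : K :=
  ρ j.succ - algebraMap k K (ā j.succ)

/-- the row space of the Jacobian matrix -/
noncomputable def rowSpace (ā : Fin (n + 1) → k) {r : ℕ}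
    (f : Fin r → MvPolynomial (Fin (n + 1)) k) : Submodule k (Fin n → k) :=
  Submodule.span k (Set.range fun i => grad ā (f i))

namespace ChartData

variable (h : ChartData P ρ ā f)
include h

lemma hfā (i : Fin r) : MvPolynomial.eval ā (f i) = 0 :=
  eval_eq_zero_of_val_lt P ρ ā h.hres (by rw [h.hfρ, map_zero]; exact zero_lt_one)

lemma sv_mem (j : Fin n) : sv ρ ā j ∈ locAt P (Algebra.adjoin k (Set.range ρ)) :=
  le_locAt P _ (Subalgebra.sub_mem _ (Algebra.subset_adjoin ⟨j.succ, rfl⟩)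
    (Subalgebra.algebraMap_mem _ _))

lemma val_sv_lt (j : Fin n) : P.1 (sv ρ ā j) < 1 := h.hres j.succ

lemma val_le_one_of_mem {z : K} (hz : z ∈ locAt P (Algebra.adjoin k (Set.range ρ))) :
    P.1 z ≤ 1 := by
  refine val_le_one_of_mem_locAt (fun a ha => ?_) hz
  obtain ⟨G, rfl⟩ := (mem_adjoin_range_iff ρ a).mp ha
  exact val_aeval_le_one' P ρ (val_le_one_of_residue P ρ ā h.hres) G

/-- elements of the maximal ideal are combinations of the local coordinates -/
lemma exists_repr {z : K} (hz : z ∈ locAt P (Algebra.adjoin k (Set.range ρ))) (hPz : P.1 z < 1) :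
    ∃ c : Fin n → K, (∀ j, c j ∈ locAt P (Algebra.adjoin k (Set.range ρ))) ∧
      z = ∑ j, sv ρ ā j * c j := by
  obtain ⟨c, hc, hzc⟩ := exists_repr_of_lt P ρ ā h.hres hz hPz
  refine ⟨fun j => c j.succ, fun j => hc j.succ, ?_⟩
  rw [hzc, Fin.sum_univ_succ, h.hρ0, h.hā0, map_one, sub_self, zero_mul, zero_add]
  rfl

/-- **cotangent relations**: vectors of the row space give elements of the square of the maximal
ideal -/
lemma exists_small {v : Fin n → k} (hv : v ∈ rowSpace ā f) :
    ∃ q : Fin n → K, (∀ j, q j ∈ locAt P (Algebra.adjoin k (Set.range ρ)) ∧ P.1 (q j) < 1) ∧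
      ∑ j, v j • sv ρ ā j = ∑ j, sv ρ ā j * q j := by
  classical
  unfold rowSpace at hv
  induction hv using Submodule.span_induction with
  | mem w hw =>
    obtain ⟨i, rfl⟩ := hw
    obtain ⟨H, hH, hHv⟩ := exists_taylor' ā (f i)
    have h1 := congrArg (MvPolynomial.aeval ρ) hH
    rw [h.hfρ, h.hfā, map_zero, zero_add, map_sum, Fin.sum_univ_succ] at h1
    simp only [map_mul, map_sub, MvPolynomial.aeval_X, MvPolynomial.aeval_C] at h1
    rw [h.hρ0, h.hā0, map_one, sub_self, zero_mul, zero_add] at h1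
    refine ⟨fun j => algebraMap k K (grad ā (f i) j) - MvPolynomial.aeval ρ (H j.succ),
      fun j => ⟨?_, ?_⟩, ?_⟩
    · exact Subalgebra.sub_mem _ (Subalgebra.algebraMap_mem _ _)
        (le_locAt P _ ((mem_adjoin_range_iff ρ _).mpr ⟨H j.succ, rfl⟩))
    · have h2 := residue_aeval P ρ ā h.hres (H j.succ)
      rw [hHv j.succ] at h2
      rw [← Valuation.map_neg, neg_sub]
      exact h2
    · have h3 : ∑ j : Fin n, sv ρ ā j * MvPolynomial.aeval ρ (H j.succ) = 0 := h1.symm
      simp only [mul_sub, Finset.sum_sub_distrib, h3, sub_zero, Algebra.smul_def]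
      refine Finset.sum_congr rfl fun j _ => ?_
      ring
  | zero =>
    refine ⟨fun _ => 0, fun j => ⟨Subalgebra.zero_mem _, by rw [map_zero]; exact zero_lt_one⟩, ?_⟩
    simp
  | add a b _ _ ha hb =>
    obtain ⟨qa, hqa, ea⟩ := ha
    obtain ⟨qb, hqb, eb⟩ := hb
    refine ⟨fun j => qa j + qb j, fun j => ⟨Subalgebra.add_mem _ (hqa j).1 (hqb j).1,
      (P.1.map_add _ _).trans_lt (max_lt (hqa j).2 (hqb j).2)⟩, ?_⟩
    simp only [Pi.add_apply, add_smul, Finset.sum_add_distrib, mul_add, ea, eb]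
  | smul c a _ ha =>
    obtain ⟨qa, hqa, ea⟩ := ha
    refine ⟨fun j => algebraMap k K c * qa j, fun j => ⟨Subalgebra.mul_mem _
      (Subalgebra.algebraMap_mem _ _) (hqa j).1, ?_⟩, ?_⟩
    · rw [map_mul]
      calc P.1 (algebraMap k K c) * P.1 (qa j) ≤ 1 * P.1 (qa j) :=
            mul_le_mul_left (Place.val_k_le P c) _
        _ < 1 := by rw [one_mul]; exact (hqa j).2
    · have : ∑ j, (c • a) j • sv ρ ā j = algebraMap k K c * ∑ j, a j • sv ρ ā j := by
        rw [Finset.mul_sum]
        refine Finset.sum_congr rfl fun j _ => ?_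
        rw [Pi.smul_apply, smul_eq_mul, mul_smul, Algebra.smul_def c]
      rw [this, ea, Finset.mul_sum]
      refine Finset.sum_congr rfl fun j _ => ?_
      ring

/-- the coordinate vector of the largest local coordinate is not in the row space -/
lemma single_not_mem {l₀ : Fin n} (hmax : ∀ j, P.1 (sv ρ ā j) ≤ P.1 (sv ρ ā l₀))
    (hl₀ : sv ρ ā l₀ ≠ 0) : (Pi.single l₀ 1 : Fin n → k) ∉ rowSpace ā f := by
  classical
  intro hmem
  obtain ⟨q, hq, e⟩ := h.exists_small hmem
  have h1 : ∑ j, (Pi.single l₀ 1 : Fin n → k) j • sv ρ ā j = sv ρ ā l₀ := by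
    rw [Finset.sum_eq_single l₀]
    · rw [Pi.single_eq_same, one_smul]
    · intro j _ hj
      rw [Pi.single_eq_of_ne hj, zero_smul]
    · intro hh; exact absurd (Finset.mem_univ _) hh
  rw [h1] at e
  have h0 : P.1 (sv ρ ā l₀) ≠ 0 := (Valuation.ne_zero_iff _).mpr hl₀
  have h2 : P.1 (∑ j, sv ρ ā j * q j) < P.1 (sv ρ ā l₀) := by
    apply Valuation.map_sum_lt _ h0
    intro j _
    rw [map_mul]
    calc P.1 (sv ρ ā j) * P.1 (q j) ≤ P.1 (sv ρ ā l₀) * P.1 (q j) := mul_le_mul_left (hmax j) _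
      _ < P.1 (sv ρ ā l₀) * 1 := by
        rw [mul_lt_mul_iff_right₀ (zero_lt_iff.mpr h0)]
        exact (hq j).2
      _ = P.1 (sv ρ ā l₀) := mul_one _
  rw [← e] at h2
  exact lt_irrefl _ h2

/-- at a nonsingular place, every vector is congruent to a multiple of the coordinate vector of
the largest local coordinate modulo the row space -/
lemma exists_sub_smul_mem (hdeg : P.deg = 1)
    (hns : ∀ z : K, P.1 z ≤ 1 → z ∈ locAt P (Algebra.adjoin k (Set.range ρ)))
    {l₀ : Fin n} (hmax : ∀ j, P.1 (sv ρ ā j) ≤ P.1 (sv ρ ā l₀))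
    (hl₀ : sv ρ ā l₀ ≠ 0) (c : Fin n → k) :
    ∃ a : k, c - a • (Pi.single l₀ 1 : Fin n → k) ∈ rowSpace ā f := by
  classical
  set z := ∑ j, c j • sv ρ ā j with hz
  have h0 : P.1 (sv ρ ā l₀) ≠ 0 := (Valuation.ne_zero_iff _).mpr hl₀
  have hPz : P.1 z ≤ P.1 (sv ρ ā l₀) := by
    apply Valuation.map_sum_le
    intro j _
    rw [Algebra.smul_def, map_mul]
    calc P.1 (algebraMap k K (c j)) * P.1 (sv ρ ā j) ≤ 1 * P.1 (sv ρ ā l₀) :=
          mul_le_mul' (Place.val_k_le P _) (hmax j)
      _ = P.1 (sv ρ ā l₀) := one_mul _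
  have hratio : P.1 (z / sv ρ ā l₀) ≤ 1 := by
    rw [map_div₀]
    exact div_le_one_of_le₀ hPz zero_le
  obtain ⟨a, ha⟩ := Place.exists_const_sub_lt P hdeg hratio
  set b := z / sv ρ ā l₀ - algebraMap k K a with hb
  obtain ⟨u, hu, w, hw, hw1, e⟩ := hns b ha.le
  obtain ⟨U, rfl⟩ := (mem_adjoin_range_iff ρ u).mp hu
  obtain ⟨W, rfl⟩ := (mem_adjoin_range_iff ρ w).mp hw
  have hPu : P.1 (MvPolynomial.aeval ρ U) < 1 := by
    rw [← e, map_mul, hw1, mul_one]; exact ha
  have hUā : MvPolynomial.eval ā U = 0 := eval_eq_zero_of_val_lt P ρ ā h.hres hPu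
  have hWā : MvPolynomial.eval ā W ≠ 0 := by
    intro h1
    have h2 := eval_eq_zero_of_val_lt P ρ ā h.hres (G := W)
    have h3 := residue_aeval P ρ ā h.hres W
    rw [h1, map_zero, sub_zero, hw1] at h3
    exact lt_irrefl _ h3
  set c' : Fin n → k := c - a • (Pi.single l₀ 1 : Fin n → k) with hc'
  set Λ : MvPolynomial (Fin (n + 1)) k :=
    ∑ j, MvPolynomial.C (c' j) * (MvPolynomial.X j.succ - MvPolynomial.C (ā j.succ)) with hΛ
  set L : MvPolynomial (Fin (n + 1)) k :=
    W * Λ - (MvPolynomial.X l₀.succ - MvPolynomial.C (ā l₀.succ)) * U with hL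
  have hΛρ : MvPolynomial.aeval ρ Λ = z - algebraMap k K a * sv ρ ā l₀ := by
    rw [hΛ, map_sum]
    simp only [map_mul, map_sub, MvPolynomial.aeval_X, MvPolynomial.aeval_C]
    have h1 : ∀ j, algebraMap k K (c' j) * (ρ j.succ - algebraMap k K (ā j.succ)) =
        c j • sv ρ ā j - algebraMap k K a * ((Pi.single l₀ 1 : Fin n → k) j • sv ρ ā j) := by
      intro j
      rw [hc', Pi.sub_apply, Pi.smul_apply, smul_eq_mul, map_sub, map_mul, Algebra.smul_def,
        Algebra.smul_def]
      unfold sv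
      ring
    have hsingle : ∑ i, (Pi.single l₀ 1 : Fin n → k) i • sv ρ ā i = sv ρ ā l₀ := by
      rw [Finset.sum_eq_single l₀]
      · rw [Pi.single_eq_same, one_smul]
      · intro j _ hj
        rw [Pi.single_eq_of_ne hj, zero_smul]
      · intro hh; exact absurd (Finset.mem_univ _) hh
    simp only [h1, Finset.sum_sub_distrib, ← Finset.mul_sum]
    rw [hsingle]
  have hLρ : MvPolynomial.aeval ρ L = 0 := by
    rw [hL, map_sub, map_mul, map_mul, hΛρ, map_sub, MvPolynomial.aeval_X, MvPolynomial.aeval_C,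
      ← e, hb]
    change _ - sv ρ ā l₀ * _ = 0
    field_simp
    ring
  obtain ⟨A, B, hAB⟩ := h.hker L hLρ
  have hgm : grad ā L ∈ rowSpace ā f := by
    rw [hAB]
    exact grad_mem ā h.hā0 f h.hfā A B
  have hgradΛ : grad ā Λ = c' := by
    rw [hΛ, map_sum]
    funext l
    rw [Finset.sum_apply]
    have h1 : ∀ j, grad ā (MvPolynomial.C (c' j) *
        (MvPolynomial.X j.succ - MvPolynomial.C (ā j.succ))) l = c' j * (Pi.single j 1 : Fin n → k) l := by
      intro j
      rw [grad_mul, map_sub, grad_X_succ, grad_C, sub_zero, grad_C, smul_zero, add_zero,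
        MvPolynomial.eval_C, Pi.smul_apply, smul_eq_mul]
    simp only [h1]
    rw [Finset.sum_eq_single l]
    · rw [Pi.single_eq_same, mul_one]
    · intro j _ hj
      rw [Pi.single_eq_of_ne hj.symm, mul_zero]
    · intro hh; exact absurd (Finset.mem_univ _) hh
  have hΛā : MvPolynomial.eval ā Λ = 0 := by
    rw [hΛ, map_sum]
    apply Finset.sum_eq_zero
    intro j _
    simp
  have hgradL : grad ā L = MvPolynomial.eval ā W • c' := by
    rw [hL, map_sub, grad_mul, grad_mul, hgradΛ, hΛā, zero_smul, add_zero, hUā, zero_smul,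
      add_zero, map_sub, MvPolynomial.eval_X, MvPolynomial.eval_C, sub_self, zero_smul, sub_zero]
  rw [hgradL] at hgm
  refine ⟨a, ?_⟩
  have := Submodule.smul_mem _ (MvPolynomial.eval ā W)⁻¹ hgm
  rwa [smul_smul, inv_mul_cancel₀ hWā, one_smul] at this

omit h in
/-- a hyperplane complement: dimension count -/
lemma finrank_eq_pred_of_compl (V : Submodule k (Fin n → k)) (e : Fin n → k) (he : e ∉ V)
    (hall : ∀ c : Fin n → k, ∃ a : k, c - a • e ∈ V) : Module.finrank k V = n - 1 := by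
  have he0 : e ≠ 0 := by
    rintro rfl
    exact he V.zero_mem
  have hsup : V ⊔ Submodule.span k {e} = ⊤ := by
    rw [eq_top_iff]
    intro c _
    obtain ⟨a, ha⟩ := hall c
    have : c = (c - a • e) + a • e := by abel
    rw [this]
    exact Submodule.add_mem_sup ha (Submodule.smul_mem _ _ (Submodule.mem_span_singleton_self e))
  have hinf : V ⊓ Submodule.span k {e} = ⊥ := by
    rw [eq_bot_iff]
    rintro x ⟨hxV, hxe⟩
    obtain ⟨a, rfl⟩ := Submodule.mem_span_singleton.mp hxe
    by_cases ha : a = 0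
    · rw [ha, zero_smul]; exact Submodule.zero_mem _
    · exfalso
      apply he
      have := Submodule.smul_mem V a⁻¹ hxV
      rwa [smul_smul, inv_mul_cancel₀ ha, one_smul] at this
  have h1 := Submodule.finrank_sup_add_finrank_inf_eq V (Submodule.span k {e})
  rw [hsup, hinf, finrank_top, Module.finrank_fin_fun, finrank_bot, finrank_span_singleton he0]
    at h1
  omega

/-- at a nonsingular place the Jacobian has rank `n - 1` -/
lemma finrank_of_nonsingular (hn : 1 ≤ n) (hdeg : P.deg = 1)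
    (hns : ∀ z : K, P.1 z ≤ 1 → z ∈ locAt P (Algebra.adjoin k (Set.range ρ)))
    (hnc : ∃ j, sv ρ ā j ≠ 0) : Module.finrank k (rowSpace ā f) = n - 1 := by
  classical
  have : Nonempty (Fin n) := ⟨⟨0, by omega⟩⟩
  obtain ⟨l₀, -, hl₀⟩ := Finset.exists_max_image Finset.univ (fun j => P.1 (sv ρ ā j))
    Finset.univ_nonempty
  have hmax : ∀ j, P.1 (sv ρ ā j) ≤ P.1 (sv ρ ā l₀) := fun j => hl₀ j (Finset.mem_univ j)
  have hl₀0 : sv ρ ā l₀ ≠ 0 := by
    obtain ⟨j, hj⟩ := hnc
    intro h0
    have h1 := hmax j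
    rw [h0, map_zero] at h1
    exact (Valuation.ne_zero_iff _).mpr hj (le_antisymm h1 zero_le)
  exact finrank_eq_pred_of_compl _ _ (h.single_not_mem hmax hl₀0)
    (h.exists_sub_smul_mem hdeg hns hmax hl₀0)

/-- if the Jacobian has rank `n - 1` the place is nonsingular -/
lemma nonsingular_of_finrank (hn : 1 ≤ n)
    (hrank : Module.finrank k (rowSpace ā f) = n - 1)
    (hnc : ∃ j, sv ρ ā j ≠ 0)
    (hfrac : ∀ z : K, ∃ u ∈ Algebra.adjoin k (Set.range ρ),
      ∃ w ∈ Algebra.adjoin k (Set.range ρ), w ≠ 0 ∧ z * w = u) :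
    ∀ z : K, P.1 z ≤ 1 → z ∈ locAt P (Algebra.adjoin k (Set.range ρ)) := by
  classical
  set A := Algebra.adjoin k (Set.range ρ) with hA
  set O := locAt P A with hO
  set V := rowSpace ā f with hV
  -- a complement
  have hVtop : V ≠ ⊤ := by
    intro htop
    rw [htop, finrank_top, Module.finrank_fin_fun] at hrank
    omega
  obtain ⟨c₀, -, hc₀⟩ := SetLike.exists_of_lt (lt_top_iff_ne_top.mpr hVtop)
  have hc₀0 : c₀ ≠ 0 := by
    rintro rfl
    exact hc₀ V.zero_mem
  have hinf : V ⊓ Submodule.span k {c₀} = ⊥ := by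
    rw [eq_bot_iff]
    rintro x ⟨hxV, hxe⟩
    obtain ⟨a, rfl⟩ := Submodule.mem_span_singleton.mp hxe
    by_cases ha : a = 0
    · rw [ha, zero_smul]; exact Submodule.zero_mem _
    · exfalso
      apply hc₀
      have := Submodule.smul_mem V a⁻¹ hxV
      rwa [smul_smul, inv_mul_cancel₀ ha, one_smul] at this
  have hsup : V ⊔ Submodule.span k {c₀} = ⊤ := by
    apply Submodule.eq_top_of_finrank_eq
    have h1 := Submodule.finrank_sup_add_finrank_inf_eq V (Submodule.span k {c₀})
    rw [hinf, finrank_bot, finrank_span_singleton hc₀0, hrank] at h1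
    rw [Module.finrank_fin_fun]
    omega
  have hdecomp : ∀ j : Fin n, ∃ v ∈ V, ∃ β : k, (Pi.single j 1 : Fin n → k) = v + β • c₀ := by
    intro j
    have : (Pi.single j 1 : Fin n → k) ∈ V ⊔ Submodule.span k {c₀} := by rw [hsup]; trivial
    obtain ⟨v, hv, w, hw, e⟩ := Submodule.mem_sup.mp this
    obtain ⟨β, rfl⟩ := Submodule.mem_span_singleton.mp hw
    exact ⟨v, hv, β, e.symm⟩
  choose v hv β hβ using hdecomp
  set t := ∑ l, c₀ l • sv ρ ā l with ht
  have hq : ∀ j, ∃ q : Fin n → K, (∀ l, q l ∈ O ∧ P.1 (q l) < 1) ∧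
      ∑ l, v j l • sv ρ ā l = ∑ l, sv ρ ā l * q l := fun j => h.exists_small (hv j)
  choose q hq1 hq2 using hq
  have hsv : ∀ j, sv ρ ā j = ∑ l, sv ρ ā l * q j l + algebraMap k K (β j) * t := by
    intro j
    have h1 : sv ρ ā j = ∑ l, (Pi.single j 1 : Fin n → k) l • sv ρ ā l := by
      rw [Finset.sum_eq_single j]
      · rw [Pi.single_eq_same, one_smul]
      · intro l _ hl
        rw [Pi.single_eq_of_ne hl, zero_smul]
      · intro hh; exact absurd (Finset.mem_univ _) hh
    rw [← hq2 j, ht, Finset.mul_sum, ← Finset.sum_add_distrib]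
    conv_lhs => rw [h1, hβ j]
    refine Finset.sum_congr rfl fun l _ => ?_
    rw [Pi.add_apply, Pi.smul_apply, smul_eq_mul, add_smul, mul_smul, Algebra.smul_def (β j)]
  have htO : t ∈ O := by
    rw [ht]
    exact Subalgebra.sum_mem _ fun l _ => Subalgebra.smul_mem _ (h.sv_mem l) _
  have hPt : P.1 t < 1 := by
    rw [ht]
    apply Valuation.map_sum_lt _ one_ne_zero
    intro l _
    rw [Algebra.smul_def, map_mul]
    calc P.1 (algebraMap k K (c₀ l)) * P.1 (sv ρ ā l) ≤ 1 * P.1 (sv ρ ā l) :=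
          mul_le_mul_left (Place.val_k_le P _) _
      _ < 1 := by rw [one_mul]; exact h.val_sv_lt l
  -- Nakayama
  let R := ↥O
  let m : Ideal R :=
    { carrier := {x | P.1 (x : K) < 1}
      add_mem' := fun {a b} ha hb => (P.1.map_add _ _).trans_lt (max_lt ha hb)
      zero_mem' := by
        change P.1 ((0 : R) : K) < 1
        rw [ZeroMemClass.coe_zero, map_zero]; exact zero_lt_one
      smul_mem' := fun c x hx => by
        change P.1 ((c * x : R) : K) < 1
        rw [MulMemClass.coe_mul, map_mul]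
        calc P.1 (c : K) * P.1 (x : K) ≤ 1 * P.1 (x : K) :=
              mul_le_mul_left (h.val_le_one_of_mem c.2) _
          _ < 1 := by rw [one_mul]; exact hx }
  let S : Fin n → R := fun j => ⟨sv ρ ā j, h.sv_mem j⟩
  let T : R := ⟨t, htO⟩
  let Q : Fin n → Fin n → R := fun j l => ⟨q j l, (hq1 j l).1⟩
  have hQm : ∀ j l, Q j l ∈ m := fun j l => (hq1 j l).2
  have hjac : m ≤ Ideal.jacobson ⊥ := by
    intro x hx
    rw [Ideal.mem_jacobson_bot]
    intro y
    have h1 : P.1 ((x * y + 1 : R) : K) = 1 := by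
      have h2 : P.1 ((x * y : R) : K) < P.1 (1 : K) := by
        rw [map_one]
        exact m.mul_mem_right y hx
      have h3 : ((x * y + 1 : R) : K) = 1 + ((x * y : R) : K) := by
        rw [Subalgebra.coe_add, Subalgebra.coe_one, add_comm]
      rw [h3, Valuation.map_add_eq_of_lt_left _ h2, map_one]
    have h4 : ((x * y + 1 : R) : K)⁻¹ ∈ O := inv_mem_locAt (x * y + 1).2 h1
    have h5 : ((x * y + 1 : R) : K) ≠ 0 := by
      intro h0; rw [h0, map_zero] at h1; exact zero_ne_one h1
    refine isUnit_iff_exists_inv.mpr ⟨⟨_, h4⟩, ?_⟩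
    apply Subtype.ext
    rw [Subalgebra.coe_mul, Subalgebra.coe_one]
    exact mul_inv_cancel₀ h5
  have hNN : Ideal.span (Set.range S) ≤ Ideal.span {T} ⊔ m • Ideal.span (Set.range S) := by
    rw [Ideal.span_le]
    rintro _ ⟨j, rfl⟩
    have h1 : S j = (⟨algebraMap k K (β j), Subalgebra.algebraMap_mem _ _⟩ : R) * T +
        ∑ l, Q j l • S l := by
      apply Subtype.ext
      rw [Subalgebra.coe_add, Subalgebra.coe_mul, AddSubmonoidClass.coe_finsetSum]
      simp only [smul_eq_mul, Subalgebra.coe_mul]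
      change sv ρ ā j = algebraMap k K (β j) * t + ∑ l, q j l * sv ρ ā l
      rw [hsv j, add_comm]
      congr 1
      refine Finset.sum_congr rfl fun l _ => ?_
      ring
    rw [h1]
    refine Submodule.add_mem_sup (Ideal.mul_mem_left _ _ (Ideal.mem_span_singleton_self T)) ?_
    apply Submodule.sum_mem
    intro l _
    exact Submodule.smul_mem_smul (hQm j l) (Ideal.subset_span ⟨l, rfl⟩)
  have hfg : (Ideal.span (Set.range S)).FG := Submodule.fg_span (Set.finite_range S)
  have hle := Submodule.le_of_le_smul_of_le_jacobson_bot hfg hjac hNN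
  have hdiv : ∀ j, ∃ rj : R, sv ρ ā j = (rj : K) * t := by
    intro j
    have h1 : S j ∈ Ideal.span {T} := hle (Ideal.subset_span ⟨j, rfl⟩)
    obtain ⟨rj, hrj⟩ := Ideal.mem_span_singleton'.mp h1
    refine ⟨rj, ?_⟩
    have h2 : ((rj * T : R) : K) = ((S j : R) : K) := congrArg (fun x : R => (x : K)) hrj
    rw [Subalgebra.coe_mul] at h2
    exact h2.symm
  choose rr hrr using hdiv
  have ht0 : t ≠ 0 := by
    intro h0
    obtain ⟨j, hj⟩ := hnc
    apply hj
    rw [hrr j, h0, mul_zero]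
  have hmaxid : ∀ z ∈ O, P.1 z < 1 → ∃ z' ∈ O, z = t * z' := by
    intro z hz hPz
    obtain ⟨c, hc, hzc⟩ := h.exists_repr hz hPz
    refine ⟨∑ j, (rr j : K) * c j, Subalgebra.sum_mem _ fun j _ =>
      Subalgebra.mul_mem _ (rr j).2 (hc j), ?_⟩
    rw [hzc, Finset.mul_sum]
    refine Finset.sum_congr rfl fun j _ => ?_
    rw [hrr j]
    ring
  have hfrac' : ∀ z : K, ∃ u ∈ O, ∃ w ∈ O, w ≠ 0 ∧ z * w = u := by
    intro z
    obtain ⟨u, hu, w, hw, hw0, e⟩ := hfrac z
    exact ⟨u, le_locAt P A hu, w, le_locAt P A hw, hw0, e⟩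
  exact eq_top_of_principal P O (fun a ha => h.val_le_one_of_mem ha)
    (fun a ha ha1 => inv_mem_locAt ha ha1) hfrac' htO ht0 hPt hmaxid

end ChartData

end Main


section Transfer

variable {F F' : Type*} [Field F] [Field F'] {n : ℕ}

/-- hyperplanes: a subspace has codimension one iff it has a one-dimensional complement -/
theorem finrank_eq_pred_iff (hn : 1 ≤ n) (V : Submodule F (Fin n → F)) :
    Module.finrank F V = n - 1 ↔
      ∃ e : Fin n → F, e ∉ V ∧ ∀ c : Fin n → F, ∃ a : F, c - a • e ∈ V := by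
  constructor
  · intro hrank
    have hVtop : V ≠ ⊤ := by
      intro htop
      rw [htop, finrank_top, Module.finrank_fin_fun] at hrank
      omega
    obtain ⟨c₀, -, hc₀⟩ := SetLike.exists_of_lt (lt_top_iff_ne_top.mpr hVtop)
    have hc₀0 : c₀ ≠ 0 := by
      rintro rfl
      exact hc₀ V.zero_mem
    have hinf : V ⊓ Submodule.span F {c₀} = ⊥ := by
      rw [eq_bot_iff]
      rintro x ⟨hxV, hxe⟩
      obtain ⟨a, rfl⟩ := Submodule.mem_span_singleton.mp hxe
      by_cases ha : a = 0
      · rw [ha, zero_smul]; exact Submodule.zero_mem _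
      · exfalso
        apply hc₀
        have := Submodule.smul_mem V a⁻¹ hxV
        rwa [smul_smul, inv_mul_cancel₀ ha, one_smul] at this
    have hsup : V ⊔ Submodule.span F {c₀} = ⊤ := by
      apply Submodule.eq_top_of_finrank_eq
      have h1 := Submodule.finrank_sup_add_finrank_inf_eq V (Submodule.span F {c₀})
      rw [hinf, finrank_bot, finrank_span_singleton hc₀0, hrank] at h1
      rw [Module.finrank_fin_fun]
      omega
    refine ⟨c₀, hc₀, fun c => ?_⟩
    have : c ∈ V ⊔ Submodule.span F {c₀} := by rw [hsup]; trivial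
    obtain ⟨v, hv, w, hw, e⟩ := Submodule.mem_sup.mp this
    obtain ⟨β, rfl⟩ := Submodule.mem_span_singleton.mp hw
    refine ⟨β, ?_⟩
    rw [← e, add_sub_cancel_right]
    exact hv
  · rintro ⟨e, he, hall⟩
    have he0 : e ≠ 0 := by
      rintro rfl
      exact he V.zero_mem
    have hsup : V ⊔ Submodule.span F {e} = ⊤ := by
      rw [eq_top_iff]
      intro c _
      obtain ⟨a, ha⟩ := hall c
      have : c = (c - a • e) + a • e := by abel
      rw [this]
      exact Submodule.add_mem_sup ha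
        (Submodule.smul_mem _ _ (Submodule.mem_span_singleton_self e))
    have hinf : V ⊓ Submodule.span F {e} = ⊥ := by
      rw [eq_bot_iff]
      rintro x ⟨hxV, hxe⟩
      obtain ⟨a, rfl⟩ := Submodule.mem_span_singleton.mp hxe
      by_cases ha : a = 0
      · rw [ha, zero_smul]; exact Submodule.zero_mem _
      · exfalso
        apply he
        have := Submodule.smul_mem V a⁻¹ hxV
        rwa [smul_smul, inv_mul_cancel₀ ha, one_smul] at this
    have h1 := Submodule.finrank_sup_add_finrank_inf_eq V (Submodule.span F {e})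
    rw [hsup, hinf, finrank_top, Module.finrank_fin_fun, finrank_bot,
      finrank_span_singleton he0] at h1
    omega

/-- membership in the span of mapped vectors, for a bijective field homomorphism -/
theorem map_mem_span_iff (σ : F →+* F') (hσ : Function.Bijective σ) {r : ℕ}
    (w : Fin r → Fin n → F) (v : Fin n → F) :
    (fun j => σ (v j)) ∈ Submodule.span F' (Set.range fun i => fun j => σ (w i j)) ↔
      v ∈ Submodule.span F (Set.range w) := by
  rw [Submodule.mem_span_range_iff_exists_fun, Submodule.mem_span_range_iff_exists_fun]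
  constructor
  · rintro ⟨α, hα⟩
    choose a ha using fun i => hσ.2 (α i)
    refine ⟨a, ?_⟩
    funext j
    apply hσ.1
    have := congrFun hα j
    rw [Finset.sum_apply] at this
    rw [← this, Finset.sum_apply, map_sum]
    refine Finset.sum_congr rfl fun i _ => ?_
    rw [Pi.smul_apply, Pi.smul_apply, smul_eq_mul, smul_eq_mul, map_mul, ha]
  · rintro ⟨a, ha⟩
    refine ⟨fun i => σ (a i), ?_⟩
    funext j
    rw [← ha, Finset.sum_apply, Finset.sum_apply, map_sum]
    refine Finset.sum_congr rfl fun i _ => ?_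
    rw [Pi.smul_apply, Pi.smul_apply, smul_eq_mul, smul_eq_mul, map_mul]

/-- the codimension-one property transfers along a bijective field homomorphism -/
theorem finrank_span_map_eq_pred_iff (hn : 1 ≤ n) (σ : F →+* F') (hσ : Function.Bijective σ)
    {r : ℕ} (w : Fin r → Fin n → F) :
    Module.finrank F' (Submodule.span F' (Set.range fun i => fun j => σ (w i j))) = n - 1 ↔
      Module.finrank F (Submodule.span F (Set.range w)) = n - 1 := by
  rw [finrank_eq_pred_iff hn, finrank_eq_pred_iff hn]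
  constructor
  · rintro ⟨e', he', hall⟩
    choose e he using fun j => hσ.2 (e' j)
    have hee : e' = fun j => σ (e j) := by funext j; exact (he j).symm
    refine ⟨e, ?_, fun c => ?_⟩
    · rw [← map_mem_span_iff σ hσ, ← hee]; exact he'
    · obtain ⟨a', ha'⟩ := hall (fun j => σ (c j))
      obtain ⟨a, rfl⟩ := hσ.2 a'
      refine ⟨a, ?_⟩
      rw [← map_mem_span_iff σ hσ]
      convert ha' using 1
      funext j
      rw [hee]
      simp
  · rintro ⟨e, he, hall⟩
    refine ⟨fun j => σ (e j), ?_, fun c' => ?_⟩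
    · rw [map_mem_span_iff σ hσ]; exact he
    · choose c hc using fun j => hσ.2 (c' j)
      obtain ⟨a, ha⟩ := hall c
      refine ⟨σ a, ?_⟩
      rw [← map_mem_span_iff σ hσ] at ha
      convert ha using 1
      funext j
      simp [hc]

end Transfer

end Groth.Agent.Helper9.PlaneJac
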