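import Mathlib
import Groth.Prelude.Def_W4bk4goldsch45p2
import Groth.Agent.Lib.Helper9.FFExt.LocalOrd8
import Groth.Agent.Lib.Helper9.FFExt.Expansion1
import Groth.Agent.Lib.Helper4.FF.Gaps3
import Groth.Agent.Lib.Helper4.FF.Rational

/-! # Pole orders at a place of a function field over an algebraically closed field (helper9) -/

namespace Groth.Agent.Helper9.FFExt

open FunFld WithZero
open Groth.Agent.Lib.Helper4.FF

section Poles

variable {k K : Type*} [Field k] [IsAlgClosed k] [Field K] [Algebra k K]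

theorem deg_single_nat (hK : IsFunctionField k K) (P₀ : Place k K) (m : ℤ) :
    FunFld.Divisor.deg (Finsupp.single P₀ m : Divisor k K) = m := by
  rw [Divisor.deg_single, Place.deg_eq_one hK P₀]
  simp

omit [IsAlgClosed k] in
/-- membership in `L(m P₀)` in terms of orders -/
theorem mem_L_single_iff (P₀ : Place k K) (m : ℤ) {h : K} (hh : h ≠ 0) :
    h ∈ L (Finsupp.single P₀ m : Divisor k K) ↔
      -m ≤ P₀.ord h ∧ ∀ P : Place k K, P ≠ P₀ → 0 ≤ P.ord h := by
  classical
  rw [mem_L]
  constructor
  · intro hL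
    refine ⟨?_, fun P hP => ?_⟩
    · have := hL P₀
      rw [Finsupp.single_eq_same, Place.val_eq_exp_neg_ord P₀ hh, exp_le_exp] at this
      omega
    · have := hL P
      rw [Finsupp.single_eq_of_ne hP, Place.val_eq_exp_neg_ord P hh, exp_le_exp] at this
      omega
  · rintro ⟨h1, h2⟩ P
    rw [Place.val_eq_exp_neg_ord P hh, exp_le_exp]
    by_cases hP : P = P₀
    · subst hP
      rw [Finsupp.single_eq_same]
      omega
    · rw [Finsupp.single_eq_of_ne hP]
      have := h2 P hP
      omega

/-- a nonzero function with poles only at `P₀` has nonpositive order there -/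
theorem ord_nonpos_of_mem_L_single (hK : IsFunctionField k K) (P₀ : Place k K) (m : ℤ) {h : K}
    (hh : h ≠ 0) (hL : h ∈ L (Finsupp.single P₀ m : Divisor k K)) : P₀.ord h ≤ 0 := by
  by_contra hpos
  rw [not_le] at hpos
  have h1 : h ∈ L (Finsupp.single P₀ (-1) : Divisor k K) := by
    rw [mem_L_single_iff P₀ _ hh]
    exact ⟨by omega, ((mem_L_single_iff P₀ m hh).mp hL).2⟩
  rw [L_eq_bot_of_deg_neg hK (by rw [deg_single_nat hK]; norm_num), Submodule.mem_bot] at h1
  exact hh h1

/-- for `m ≥ 2g` some function has a pole of exact order `m` at `P₀` and no other poles -/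
theorem exists_exact_pole (hK : IsFunctionField k K) (P₀ : Place k K) (m : ℕ)
    (hm : 2 * genus k K ≤ m) :
    ∃ h : K, h ≠ 0 ∧ h ∈ L (Finsupp.single P₀ (m : ℤ) : Divisor k K) ∧ P₀.ord h = -(m : ℤ) := by
  rcases Nat.eq_zero_or_pos m with rfl | hmpos
  · refine ⟨1, one_ne_zero, ?_, ?_⟩
    · rw [mem_L_single_iff P₀ _ one_ne_zero]
      refine ⟨by rw [Place.ord_one]; simp, fun P _ => by rw [Place.ord_one]⟩
    · rw [Place.ord_one]
      simp
  · have e1 := ell_eq_of_deg_ge hK (D := (Finsupp.single P₀ (m : ℤ) : Divisor k K)) (by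
      rw [deg_single_nat hK]
      omega)
    have e2 := ell_eq_of_deg_ge hK (D := (Finsupp.single P₀ ((m : ℤ) - 1) : Divisor k K)) (by
      rw [deg_single_nat hK]
      omega)
    rw [deg_single_nat hK] at e1 e2
    have hlt : ell (Finsupp.single P₀ ((m : ℤ) - 1) : Divisor k K) <
        ell (Finsupp.single P₀ (m : ℤ) : Divisor k K) := by
      omega
    have hle : L (Finsupp.single P₀ ((m : ℤ) - 1) : Divisor k K) ≤
        L (Finsupp.single P₀ (m : ℤ) : Divisor k K) := by
      apply L_mono
      exact single_le_single P₀ (by omega)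
    have hne : ¬ (L (Finsupp.single P₀ (m : ℤ) : Divisor k K) ≤
        L (Finsupp.single P₀ ((m : ℤ) - 1) : Divisor k K)) := by
      intro hge
      have := L_finite hK (Finsupp.single P₀ ((m : ℤ) - 1) : Divisor k K)
      have := Submodule.finrank_mono hge
      unfold FunFld.ell at hlt
      omega
    obtain ⟨h, hh1, hh2⟩ := SetLike.not_le_iff_exists.mp hne
    have hh0 : h ≠ 0 := by
      rintro rfl
      exact hh2 (Submodule.zero_mem _)
    refine ⟨h, hh0, hh1, ?_⟩
    rw [mem_L_single_iff P₀ _ hh0] at hh1 hh2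
    by_contra hne'
    apply hh2
    exact ⟨by omega, hh1.2⟩

end Poles

end Groth.Agent.Helper9.FFExt
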