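import Mathlib
import Groth.Prelude.Def_W4bk4goldsch23Ext
import Groth.Agent.Lib.Helper9.FFExt.Ramif

/-! # Quotients of higher ramification groups (helper9) -/

namespace Groth.Agent.Helper9.FFExt

open FunFld WithZero
open Groth.Agent.Lib.Helper4.FF
open scoped Pointwise

section Basic

variable {k K K' : Type*} [Field k] [Field K] [Field K'] [Algebra k K] [Algebra K K']
  [Algebra k K'] [IsScalarTower k K K']

variable {Q : Place k K'} {σ τ : K' ≃ₐ[K] K'} {i j : ℕ}

/-- `σ - 1` raises the order of elements of order `≥ m + 1` by `i - 1` for `σ ∈ G_{i-1}` -/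
lemma InRam.val_sub_le (hi : 1 ≤ i) (hσ : InRam Q i σ) {t : K'} (ht : Q.1 t = exp (-1 : ℤ))
    (m : ℕ) : ∀ w : K', Q.1 w ≤ exp (-((m + 1 : ℕ) : ℤ)) →
      Q.1 (σ w - w) ≤ exp (-((i + m : ℕ) : ℤ)) := by
  have ht0 : t ≠ 0 := by
    rintro rfl
    rw [map_zero] at ht
    exact exp_ne_zero ht.symm
  have ht1 : Q.1 t ≤ 1 := by
    rw [ht, ← exp_zero]; exact exp_le_exp.mpr (by norm_num)
  have hσ1 : InRam Q 1 σ := hσ.mono hi
  have hdec : ∀ w : K', σ w - w = (σ t - t) * σ (w / t) + t * (σ (w / t) - w / t) := by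
    intro w
    have : w = t * (w / t) := by field_simp
    conv_lhs => rw [this, map_mul]
    ring
  induction m with
  | zero =>
    intro w hw
    have hw' : Q.1 (w / t) ≤ 1 := by
      rw [map_div₀, ht]
      exact div_le_one_of_le₀ (by simpa using hw) zero_le
    rw [hdec w]
    refine Valuation.map_add_le _ ?_ ?_
    · rw [map_mul, hσ1.val_eq]
      refine (mul_le_mul' (hσ t ht1) hw').trans ?_
      rw [mul_one]; simp
    · rw [map_mul]
      refine (mul_le_mul' ht1 (hσ _ hw')).trans ?_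
      rw [one_mul]; simp
  | succ m ih =>
    intro w hw
    have hw' : Q.1 (w / t) ≤ exp (-((m + 1 : ℕ) : ℤ)) := by
      rw [map_div₀, ht, div_le_iff₀ (by exact exp_pos), ← exp_add]
      refine hw.trans (exp_le_exp.mpr ?_)
      push_cast; omega
    rw [hdec w]
    refine Valuation.map_add_le _ ?_ ?_
    · rw [map_mul, hσ1.val_eq]
      refine (mul_le_mul' (hσ t ht1) hw').trans ?_
      rw [← exp_add]
      exact exp_le_exp.mpr (by push_cast; omega)
    · rw [map_mul, ht]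
      refine (mul_le_mul' le_rfl (ih _ hw')).trans ?_
      rw [← exp_add]
      exact exp_le_exp.mpr (by push_cast; omega)

/-- additivity of `σ ↦ σ t - t` modulo `t^{i+1}` on `G_{i-1}`, `i ≥ 2` -/
lemma InRam.additive (hi : 2 ≤ i) (hσ : InRam Q i σ) (hτ : InRam Q i τ) {t : K'}
    (ht : Q.1 t = exp (-1 : ℤ)) :
    Q.1 (((σ * τ) t - t) - ((σ t - t) + (τ t - t))) ≤ exp (-((i + 1 : ℕ) : ℤ)) := by
  have ht1 : Q.1 t ≤ 1 := by
    rw [ht, ← exp_zero]; exact exp_le_exp.mpr (by norm_num)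
  have h1 : ((σ * τ) t - t) - ((σ t - t) + (τ t - t)) = σ (τ t - t) - (τ t - t) := by
    rw [AlgEquiv.mul_apply, map_sub]; ring
  rw [h1]
  obtain ⟨m, rfl⟩ : ∃ m, i = m + 1 := ⟨i - 1, by omega⟩
  refine (hσ.val_sub_le (by omega) ht m _ (hτ t ht1)).trans (exp_le_exp.mpr ?_)
  push_cast; omega

/-- `σ^n t - t ≡ n (σ t - t)` modulo `t^{i+1}` -/
lemma InRam.pow_additive (hi : 2 ≤ i) (hσ : InRam Q i σ) {t : K'}
    (ht : Q.1 t = exp (-1 : ℤ)) (n : ℕ) :
    Q.1 (((σ ^ n) t - t) - (n : K') * (σ t - t)) ≤ exp (-((i + 1 : ℕ) : ℤ)) := by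
  induction n with
  | zero => simp
  | succ n ih =>
    have h1 := (hσ.pow (by omega) n).additive hi hσ ht
    have h2 : ((σ ^ (n + 1)) t - t) - ((n + 1 : ℕ) : K') * (σ t - t) =
        (((σ ^ n * σ) t - t) - (((σ ^ n) t - t) + (σ t - t))) +
          (((σ ^ n) t - t) - (n : K') * (σ t - t)) := by
      rw [pow_succ]; push_cast; ring
    rw [h2]
    exact Valuation.map_add_le _ h1 ih

/-- the commutator of two elements of `G_{i-1}` moves `t` by order `≥ i + 1` -/
lemma InRam.commutator (hi : 2 ≤ i) (hσ : InRam Q i σ) (hτ : InRam Q i τ) {t : K'}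
    (ht : Q.1 t = exp (-1 : ℤ)) :
    Q.1 ((σ * τ * σ⁻¹ * τ⁻¹) t - t) ≤ exp (-((i + 1 : ℕ) : ℤ)) := by
  have hi1 : 1 ≤ i := by omega
  have hσ' := hσ.inv hi1
  have hτ' := hτ.inv hi1
  have e1 := ((hσ.mul hi1 hτ).mul hi1 hσ').additive hi hτ' ht
  have e2 := (hσ.mul hi1 hτ).additive hi hσ' ht
  have e3 := hσ.additive hi hτ ht
  have e4 := hσ.additive hi hσ' ht
  have e5 := hτ.additive hi hτ' ht
  rw [mul_inv_cancel, AlgEquiv.one_apply, sub_self] at e4 e5
  have h : (σ * τ * σ⁻¹ * τ⁻¹) t - t =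
      (((σ * τ * σ⁻¹ * τ⁻¹) t - t) - (((σ * τ * σ⁻¹) t - t) + (τ⁻¹ t - t))) +
      (((σ * τ * σ⁻¹) t - t) - (((σ * τ) t - t) + (σ⁻¹ t - t))) +
      (((σ * τ) t - t) - ((σ t - t) + (τ t - t))) -
      (0 - ((σ t - t) + (σ⁻¹ t - t))) - (0 - ((τ t - t) + (τ⁻¹ t - t))) := by ring
  rw [h]
  exact Valuation.map_sub_le _ (Valuation.map_sub_le _
    (Valuation.map_add_le _ (Valuation.map_add_le _ e1 e2) e3) e4) e5

end Basic

section Galois

variable {k K K' : Type*} [Field k] [Field K] [Field K'] [Algebra k K] [Algebra K K']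
  [Algebra k K'] [IsScalarTower k K K'] [FiniteDimensional K K'] [IsGalois K K']

/-- `G_i/G_{i+1}` is abelian, trivial in characteristic `0`, of exponent `p` in characteristic `p`
(`i ≥ 1` in the usual numbering). -/
theorem ram_quotient_elementary (hK : IsFFw k K) (Q : Place k K')
    [Algebra.IsSeparable k (IsLocalRing.ResidueField Q.O)] {i : ℕ} (hi : 2 ≤ i)
    {σ τ : K' ≃ₐ[K] K'} (hσ : InRam Q i σ) (hτ : InRam Q i τ) :
    InRam Q (i + 1) (σ * τ * σ⁻¹ * τ⁻¹) ∧ (ringChar K = 0 → InRam Q (i + 1) σ) ∧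
      ∀ p : ℕ, p.Prime → ringChar K = p → InRam Q (i + 1) (σ ^ p) := by
  obtain ⟨t, ht⟩ := Place.exists_uniformizer Q
  have hi1 : 1 ≤ i := by omega
  refine ⟨?_, ?_, ?_⟩
  · have hc : InRam Q i (σ * τ * σ⁻¹ * τ⁻¹) :=
      ((hσ.mul hi1 hτ).mul hi1 (hσ.inv hi1)).mul hi1 (hτ.inv hi1)
    exact (inRam_iff_uniformizer hK Q (hc.mono hi1) ht (i + 1)).mpr (hσ.commutator hi hτ ht)
  · intro h0
    have hcz : CharZero K := (CharP.ringChar_zero_iff_CharZero K).mp h0
    refine (inRam_iff_uniformizer hK Q (hσ.mono hi1) ht (i + 1)).mpr ?_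
    have hn : 0 < orderOf σ := orderOf_pos σ
    have h1 := hσ.pow_additive hi ht (orderOf σ)
    rw [pow_orderOf_eq_one, AlgEquiv.one_apply, sub_self, zero_sub, Valuation.map_neg, map_mul] at h1
    have hnk : ((orderOf σ : ℕ) : k) ≠ 0 := by
      intro h
      have := congrArg (algebraMap k K) h
      rw [map_natCast, map_zero] at this
      exact hn.ne' (by exact_mod_cast this)
    have hv : Q.1 ((orderOf σ : ℕ) : K') = 1 := by
      rw [← map_natCast (algebraMap k K')]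
      exact Place.val_k Q hnk
    rwa [hv, one_mul] at h1
  · intro p hp hpK
    have hcp : CharP K p := ringChar.of_eq hpK
    refine (inRam_iff_uniformizer hK Q ((hσ.pow hi1 p).mono hi1) ht (i + 1)).mpr ?_
    have h1 := hσ.pow_additive hi ht p
    have hp0 : ((p : ℕ) : K') = 0 := by
      rw [← map_natCast (algebraMap K K'), CharP.cast_eq_zero K p, map_zero]
    rwa [hp0, zero_mul, sub_zero] at h1

end Galois

end Groth.Agent.Helper9.FFExt
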