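import Mathlib
import Groth.Prelude.Def_W4bk4goldsch23Ext
import Groth.Agent.Lib.Helper9.FFExt.Ramif

/-! # `G₀/G₁` is cyclic (helper9) -/

namespace Groth.Agent.Helper9.FFExt

open FunFld WithZero
open Groth.Agent.Lib.Helper4.FF
open scoped Pointwise

section Res

variable {k K' : Type*} [Field k] [Field K'] [Algebra k K']

/-- residue class of an integral element -/
noncomputable def resOf (Q : Place k K') (x : K') (hx : Q.1 x ≤ 1) : IsLocalRing.ResidueField Q.O :=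
  IsLocalRing.residue Q.O ⟨x, (Place.mem_O_iff Q).mpr hx⟩

variable {Q : Place k K'}

lemma resOf_mul {x y : K'} (hx : Q.1 x ≤ 1) (hy : Q.1 y ≤ 1) (hxy : Q.1 (x * y) ≤ 1) :
    resOf Q (x * y) hxy = resOf Q x hx * resOf Q y hy := by
  unfold resOf
  rw [← map_mul]
  rfl

lemma resOf_eq_iff {x y : K'} (hx : Q.1 x ≤ 1) (hy : Q.1 y ≤ 1) :
    resOf Q x hx = resOf Q y hy ↔ Q.1 (x - y) < 1 := by
  unfold resOf
  rw [← sub_eq_zero, ← map_sub, IsLocalRing.residue_eq_zero_iff, mem_maximalIdeal_iff]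
  rfl

lemma resOf_congr {x y : K'} {hx : Q.1 x ≤ 1} {hy : Q.1 y ≤ 1} (h : x = y) :
    resOf Q x hx = resOf Q y hy := by
  subst h; rfl

lemma resOf_one : resOf Q 1 (by rw [map_one]) = 1 := by
  unfold resOf
  exact map_one _

lemma resOf_ne_zero {x : K'} (hx : Q.1 x = 1) : resOf Q x hx.le ≠ 0 := by
  unfold resOf
  rw [ne_eq, IsLocalRing.residue_eq_zero_iff, mem_maximalIdeal_iff]
  change ¬ Q.1 x < 1
  rw [hx]
  exact lt_irrefl _

end Res

section Theta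

variable {k K K' : Type*} [Field k] [Field K] [Field K'] [Algebra k K] [Algebra K K']
  [Algebra k K'] [IsScalarTower k K K']

variable {Q : Place k K'}

lemma val_quot_eq_one {σ : K' ≃ₐ[K] K'} (hσ : InRam Q 1 σ) {t : K'} (ht : Q.1 t = exp (-1 : ℤ)) :
    Q.1 (σ t / t) = 1 := by
  rw [map_div₀, hσ.val_eq, ht]
  exact div_self exp_ne_zero

/-- `σ ↦ σ t / t mod 𝔪` on the inertia group -/
noncomputable def theta (Q : Place k K') (t : K') (ht : Q.1 t = exp (-1 : ℤ)) :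
    inertiaGal K Q →* (IsLocalRing.ResidueField Q.O)ˣ :=
  MonoidHom.mk' (fun σ => Units.mk0 (resOf Q ((σ : K' ≃ₐ[K] K') t / t)
      (val_quot_eq_one (inRam_one_iff.mpr σ.2) ht).le)
      (resOf_ne_zero (val_quot_eq_one (inRam_one_iff.mpr σ.2) ht))) (by
    intro σ τ
    apply Units.ext
    have hσ := inRam_one_iff.mpr σ.2
    have hτ := inRam_one_iff.mpr τ.2
    have hu := val_quot_eq_one hτ ht
    have ht0 : t ≠ 0 := by
      rintro rfl
      rw [map_zero] at ht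
      exact exp_ne_zero ht.symm
    have hsu : Q.1 ((σ : K' ≃ₐ[K] K') ((τ : K' ≃ₐ[K] K') t / t)) ≤ 1 := by
      rw [hσ.val_eq]; exact hu.le
    rw [Units.val_mul]
    simp only [Units.val_mk0]
    have h1 : ((σ * τ : inertiaGal K Q) : K' ≃ₐ[K] K') t / t =
        (σ : K' ≃ₐ[K] K') ((τ : K' ≃ₐ[K] K') t / t) * ((σ : K' ≃ₐ[K] K') t / t) := by
      rw [Subgroup.coe_mul, AlgEquiv.mul_apply, map_div₀]
      have : (σ : K' ≃ₐ[K] K') t ≠ 0 := by
        rw [ne_eq, map_eq_zero_iff _ (σ : K' ≃ₐ[K] K').injective]; exact ht0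
      field_simp
    have h2 : resOf Q ((σ : K' ≃ₐ[K] K') ((τ : K' ≃ₐ[K] K') t / t)) hsu =
        resOf Q ((τ : K' ≃ₐ[K] K') t / t) hu.le := by
      rw [resOf_eq_iff, lt_one_iff_le_exp]
      have := hσ _ hu.le
      simpa using this
    have h3 := resOf_mul hsu (val_quot_eq_one hσ ht).le (by
      rw [← h1]; exact (val_quot_eq_one (inRam_one_iff.mpr (σ * τ).2) ht).le)
    rw [h2] at h3
    rw [mul_comm, ← h3]
    exact resOf_congr h1)

lemma theta_eq_one_iff {t : K'} (ht : Q.1 t = exp (-1 : ℤ)) (σ : inertiaGal K Q) :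
    theta Q t ht σ = 1 ↔ Q.1 ((σ : K' ≃ₐ[K] K') t - t) ≤ exp (-2 : ℤ) := by
  have ht0 : t ≠ 0 := by
    rintro rfl
    rw [map_zero] at ht
    exact exp_ne_zero ht.symm
  have hval : ((theta Q t ht σ : (IsLocalRing.ResidueField Q.O)ˣ) : IsLocalRing.ResidueField Q.O) =
      resOf Q ((σ : K' ≃ₐ[K] K') t / t)
        (val_quot_eq_one (inRam_one_iff.mpr σ.2) ht).le := rfl
  rw [Units.ext_iff, hval, Units.val_one, ← resOf_one, resOf_eq_iff]
  have h1 : (σ : K' ≃ₐ[K] K') t / t - 1 = ((σ : K' ≃ₐ[K] K') t - t) / t := by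
    field_simp
  rw [h1, map_div₀, ht, div_lt_one₀ (by exact exp_pos), lt_exp_iff]
  norm_num

variable [FiniteDimensional K K'] [IsGalois K K']

/-- **`G₀/G₁` is cyclic.** -/
theorem ram_zero_one_cyclic (hK : IsFFw k K) (Q : Place k K')
    [Algebra.IsSeparable k (IsLocalRing.ResidueField Q.O)] :
    ∃ σ₀ : K' ≃ₐ[K] K', InRam Q 1 σ₀ ∧
      ∀ σ : K' ≃ₐ[K] K', InRam Q 1 σ → ∃ n : ℕ, InRam Q 2 ((σ₀ ^ n)⁻¹ * σ) := by
  obtain ⟨t, ht⟩ := Place.exists_uniformizer Q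
  have hcyc : IsCyclic (inertiaGal K Q ⧸ (theta Q t ht).ker) :=
    isCyclic_of_injective_ringHom
      ((Units.coeHom (IsLocalRing.ResidueField Q.O)).comp (QuotientGroup.kerLift (theta Q t ht)))
      (Units.val_injective.comp (QuotientGroup.kerLift_injective _))
  obtain ⟨g, hg⟩ := IsCyclic.exists_monoid_generator (α := inertiaGal K Q ⧸ (theta Q t ht).ker)
  obtain ⟨σ₀, rfl⟩ := QuotientGroup.mk_surjective g
  refine ⟨σ₀.1, inRam_one_iff.mpr σ₀.2, fun σ hσ => ?_⟩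
  obtain ⟨n, hn⟩ := (Submonoid.mem_powers_iff _ _).mp
    (hg (QuotientGroup.mk ⟨σ, inRam_one_iff.mp hσ⟩))
  refine ⟨n, ?_⟩
  rw [← QuotientGroup.mk_pow] at hn
  have hker := QuotientGroup.eq.mp hn
  rw [MonoidHom.mem_ker, theta_eq_one_iff] at hker
  have hmem : InRam Q 1 ((σ₀.1 ^ n)⁻¹ * σ) :=
    ((InRam.pow le_rfl (inRam_one_iff.mpr σ₀.2) n).inv le_rfl).mul le_rfl hσ
  exact (inRam_iff_uniformizer hK Q hmem ht 2).mpr hker

end Theta

end Groth.Agent.Helper9.FFExt
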