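import Mathlib
import Groth.Prelude.Def_W4bk4goldsch23Ext
import Groth.Agent.Lib.Helper9.FFExt.RatLin

/-! Principal parts at the places `x = α` of `k(x)` (helper9). -/

namespace Groth.Agent.Helper9.FFExt

open FunFld WithZero Polynomial
open Groth.Agent.Lib.Helper4.FF

section PP

variable {k : Type*} [Field k]

/-- `(x - α)⁻¹` is regular away from `x = α` -/
theorem val_inv_X_sub_C_le (p p' : Place k (RatFunc k)) {α : k}
    (h : p.1 ((RatFunc.X : RatFunc k) - RatFunc.C α) < 1) (hne : p' ≠ p) :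
    p'.1 ((RatFunc.X : RatFunc k) - RatFunc.C α)⁻¹ ≤ 1 := by
  rw [map_inv₀]
  apply inv_le_one_of_one_le₀
  by_contra hlt
  push Not at hlt
  exact hne (place_unique_at p' p hlt h)

/-- principal parts: a function is, up to a function regular at `x = α`, regular away from
`x = α` -/
theorem exists_principal_part (p : Place k (RatFunc k)) (hdeg : p.deg = 1) {α : k}
    (h : p.1 ((RatFunc.X : RatFunc k) - RatFunc.C α) < 1) :
    ∀ (n : ℕ) (z : RatFunc k), p.1 z ≤ exp (n : ℤ) →
      ∃ r : RatFunc k, p.1 (z - r) ≤ 1 ∧ ∀ p' : Place k (RatFunc k), p' ≠ p → p'.1 r ≤ 1 := by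
  intro n
  induction n with
  | zero =>
    intro z hz
    refine ⟨0, ?_, fun p' _ => by rw [map_zero]; exact zero_le_one⟩
    rw [sub_zero]
    simpa using hz
  | succ n ih =>
    intro z hz
    set t : RatFunc k := (RatFunc.X : RatFunc k) - RatFunc.C α with ht
    have ht0 : t ≠ 0 := X_sub_C_ne_zero α
    have hvt : p.1 t = exp (-1 : ℤ) := by
      rw [Place.val_eq_exp_neg_ord p ht0, ord_X_sub_C p h]
    have hw : p.1 (z * t ^ (n + 1)) ≤ 1 := by
      rw [map_mul, map_pow, hvt, ← exp_nsmul]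
      calc p.1 z * exp ((n + 1) • (-1 : ℤ)) ≤ exp ((n + 1 : ℕ) : ℤ) * exp ((n + 1) • (-1 : ℤ)) :=
            mul_le_mul' hz le_rfl
        _ = 1 := by
            rw [← exp_add, ← exp_zero]
            congr 1
            simp
    obtain ⟨c, hc⟩ := Place.exists_const_sub_lt p hdeg hw
    have hz1 : p.1 (z - algebraMap k (RatFunc k) c * t⁻¹ ^ (n + 1)) ≤ exp (n : ℤ) := by
      have e1 : z - algebraMap k (RatFunc k) c * t⁻¹ ^ (n + 1) =
          (z * t ^ (n + 1) - algebraMap k (RatFunc k) c) * t⁻¹ ^ (n + 1) := by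
        have htt : t ^ (n + 1) * t⁻¹ ^ (n + 1) = 1 := by
          rw [← mul_pow, mul_inv_cancel₀ ht0, one_pow]
        rw [sub_mul, mul_assoc, htt, mul_one]
      rw [e1, map_mul, map_pow, map_inv₀, hvt, ← exp_neg, neg_neg, ← exp_nsmul]
      have h1 : p.1 (z * t ^ (n + 1) - algebraMap k (RatFunc k) c) ≤ exp (-1 : ℤ) :=
        lt_one_iff_le_exp_neg_one.mp hc
      calc p.1 (z * t ^ (n + 1) - algebraMap k (RatFunc k) c) * exp ((n + 1) • (1 : ℤ))
          ≤ exp (-1 : ℤ) * exp ((n + 1) • (1 : ℤ)) := mul_le_mul' h1 le_rfl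
        _ = exp (n : ℤ) := by
            rw [← exp_add]
            congr 1
            simp
    obtain ⟨r₁, hr₁, hr₁'⟩ := ih _ hz1
    refine ⟨r₁ + algebraMap k (RatFunc k) c * t⁻¹ ^ (n + 1), ?_, ?_⟩
    · have : z - (r₁ + algebraMap k (RatFunc k) c * t⁻¹ ^ (n + 1)) =
          z - algebraMap k (RatFunc k) c * t⁻¹ ^ (n + 1) - r₁ := by ring
      rw [this]
      exact hr₁
    · intro p' hp'
      refine (p'.1.map_add _ _).trans (max_le (hr₁' p' hp') ?_)
      rw [map_mul, map_pow]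
      exact mul_le_one' (Place.val_k_le p' c) (pow_le_one₀ zero_le (val_inv_X_sub_C_le p p' h hp'))

end PP

end Groth.Agent.Helper9.FFExt
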