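import Mathlib
import Groth.Agent.Lib.Helper4.FF.Exist
import Groth.Agent.Lib.Helper4.FF.Weierstrass
import Groth.Agent.Lib.Helper9.FFExt.Weier2

/-! Riemann's inequality `g ≤ (n - 1)(m - 1)` for `K = k(x, y)`, `n = [K : k(x)]`,
`m = [K : k(y)]`. -/

namespace Groth.Agent.Helper9.FFExt

open FunFld Groth.Agent.Lib.Helper4.FF WithZero Polynomial

section

variable {k K : Type*} [Field k] [Field K] [Algebra k K]

/-- polynomials of degree `≤ l` in `x` lie in `L(l (x)_∞)` -/
theorem aeval_mem_L_poleDiv (hK : IsFunctionField k K) (x : K) (p : k[X]) {l : ℕ}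
    (hp : p.natDegree ≤ l) : aeval x p ∈ L (l • (poleDiv x : Divisor k K)) := by
  intro P
  have h := val_aeval_le_exp P (poleDiv_nonneg x P) (val_le_exp_poleDiv hK x P) p hp
  rw [Finsupp.smul_apply, nsmul_eq_mul]
  exact h

theorem pow_mem_L_poleDiv (hK : IsFunctionField k K) (y : K) (j : ℕ) :
    y ^ j ∈ L (j • (poleDiv y : Divisor k K)) := by
  have := aeval_mem_L_poleDiv hK y (X ^ j : k[X]) (l := j) (by rw [natDegree_X_pow])
  rwa [map_pow, aeval_X] at this

/-- the powers `1, y, …, y^(n-1)` are linearly independent over `k(x)` when `K = k(x, y)` and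
`n = [K : k(x)]` -/
theorem linearIndependent_pow_of_adjoin_eq_top (hK : IsFunctionField k K) {x y : K}
    (hxt : Transcendental k x)
    (htop : IntermediateField.adjoin k ({x, y} : Set K) = ⊤) :
    LinearIndependent (IntermediateField.adjoin k ({x} : Set K))
      (fun j : Fin (Module.finrank (IntermediateField.adjoin k ({x} : Set K)) K) => y ^ (j : ℕ)) := by
  have hfd := finiteDimensional_adjoin hK hxt
  set F := IntermediateField.adjoin k ({x} : Set K) with hF
  have hint : IsIntegral F y := IsIntegral.of_finite F y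
  have htop' : IntermediateField.adjoin F ({y} : Set K) = ⊤ := by
    apply IntermediateField.restrictScalars_injective k
    rw [IntermediateField.restrictScalars_top, hF, IntermediateField.adjoin_adjoin_left,
      ← htop]
    congr 1
  have hdeg : (minpoly F y).natDegree = Module.finrank F K := by
    rw [← IntermediateField.adjoin.finrank hint, htop', IntermediateField.finrank_top']
  have h := linearIndependent_pow (K := F) y
  have h2 : LinearIndependent F
      ((fun j : Fin (Module.finrank F K) => y ^ (j : ℕ)) ∘ (finCongr hdeg)) := by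
    have e : ((fun j : Fin (Module.finrank F K) => y ^ (j : ℕ)) ∘ (finCongr hdeg)) =
        fun i : Fin (minpoly F y).natDegree => y ^ (i : ℕ) := by
      funext i
      simp
    rw [e]
    exact h
  exact (linearIndependent_equiv (finCongr hdeg)).mp h2

theorem natDegree_le_of_mem_degreeLT {p : k[X]} {l : ℕ} (h : p ∈ degreeLT k (l + 1)) :
    p.natDegree ≤ l := by
  rw [degreeLT_succ_eq_degreeLE, mem_degreeLE] at h
  exact natDegree_le_iff_degree_le.mpr h

/-- **Riemann's inequality** -/
theorem riemann_inequality (hK : IsFunctionField k K) {x y : K}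
    (hxt : Transcendental k x) (hyt : Transcendental k y)
    (htop : IntermediateField.adjoin k ({x, y} : Set K) = ⊤) :
    (genus k K : ℤ) ≤
      ((Module.finrank (IntermediateField.adjoin k ({x} : Set K)) K : ℤ) - 1) *
        ((Module.finrank (IntermediateField.adjoin k ({y} : Set K)) K : ℤ) - 1) := by
  classical
  have hfd := finiteDimensional_adjoin hK hxt
  have hli := linearIndependent_pow_of_adjoin_eq_top hK hxt htop
  obtain ⟨n, hn⟩ : ∃ n : ℕ, n = Module.finrank (IntermediateField.adjoin k ({x} : Set K)) K := ⟨_, rfl⟩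
  obtain ⟨m, hm⟩ : ∃ m : ℕ, m = Module.finrank (IntermediateField.adjoin k ({y} : Set K)) K := ⟨_, rfl⟩
  rw [← hn] at hli
  rw [← hn, ← hm]
  have hnpos : 0 < n := by rw [hn]; exact Module.finrank_pos
  set g := genus k K with hg
  obtain ⟨l, hl⟩ : ∃ l : ℕ, l = 2 * g + 1 := ⟨_, rfl⟩
  obtain ⟨D, hD⟩ : ∃ D : Divisor k K,
      D = l • (poleDiv x : Divisor k K) + (n - 1) • (poleDiv y : Divisor k K) := ⟨_, rfl⟩
  have hdegD : D.deg = (l : ℤ) * n + ((n : ℤ) - 1) * m := by
    rw [hD, Divisor.deg_add, Divisor.deg_nsmul, Divisor.deg_nsmul, deg_poleDiv hK hxt,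
      deg_poleDiv hK hyt, ← hn, ← hm]
    push_cast [hnpos]
    ring
  -- the map
  let Ψ : (Fin n → degreeLT k (l + 1)) →ₗ[k] K :=
    { toFun := fun p => ∑ j, aeval x ((p j : k[X])) * y ^ (j : ℕ)
      map_add' := by
        intro p q
        simp only [Pi.add_apply, Submodule.coe_add, map_add, add_mul, Finset.sum_add_distrib]
      map_smul' := by
        intro c p
        simp only [Pi.smul_apply, Submodule.coe_smul, map_smul, smul_mul_assoc, RingHom.id_apply,
          Finset.smul_sum] }
  have hΨ : ∀ p, Ψ p = ∑ j, aeval x ((p j : k[X])) * y ^ (j : ℕ) := fun p => rfl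
  have hΨmem : ∀ p, Ψ p ∈ L D := by
    intro p
    rw [hΨ]
    apply Submodule.sum_mem
    intro j _
    have hpj : (p j : k[X]).natDegree ≤ l := natDegree_le_of_mem_degreeLT (p j).2
    have h1 := aeval_mem_L_poleDiv hK x (p j : k[X]) hpj
    have h2 : y ^ (j : ℕ) ∈ L ((n - 1) • (poleDiv y : Divisor k K)) := by
      apply L_mono _ (pow_mem_L_poleDiv hK y j)
      intro P
      rw [Finsupp.smul_apply, Finsupp.smul_apply, nsmul_eq_mul, nsmul_eq_mul]
      have hj : ((j : ℕ) : ℤ) ≤ ((n - 1 : ℕ) : ℤ) := by
        have := j.2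
        exact_mod_cast (by omega : (j : ℕ) ≤ n - 1)
      exact mul_le_mul_of_nonneg_right hj (poleDiv_nonneg y P)
    rw [hD]
    exact mul_mem_L_add h1 h2
  have hΨinj : Function.Injective Ψ := by
    rw [← LinearMap.ker_eq_bot, LinearMap.ker_eq_bot']
    intro p hp
    rw [hΨ] at hp
    have hmem : ∀ j, aeval x ((p j : k[X])) ∈ IntermediateField.adjoin k ({x} : Set K) := by
      intro j
      apply IntermediateField.algebra_adjoin_le_adjoin k ({x} : Set K)
      exact aeval_mem_adjoin_singleton k x
    have h0 := Fintype.linearIndependent_iff.mp hli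
      (fun j => (⟨aeval x ((p j : k[X])), hmem j⟩ : IntermediateField.adjoin k ({x} : Set K))) (by
        rw [← hp]
        apply Finset.sum_congr rfl
        intro j _
        rfl)
    funext j
    have h1 := h0 j
    have h2 : aeval x ((p j : k[X])) = 0 := congrArg Subtype.val h1
    have h3 : (p j : k[X]) = 0 := by
      have hinj := transcendental_iff_injective.mp hxt
      apply hinj
      rw [h2, map_zero]
    exact Subtype.ext h3
  have hfinL := L_finite hK D
  let Ψ' : (Fin n → degreeLT k (l + 1)) →ₗ[k] L D := Ψ.codRestrict (L D) hΨmem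
  have hΨ'inj : Function.Injective Ψ' := by
    intro a b hab
    apply hΨinj
    exact congrArg Subtype.val hab
  have hle := LinearMap.finrank_le_finrank_of_injective hΨ'inj
  have hdim : Module.finrank k (Fin n → degreeLT k (l + 1)) = n * (l + 1) := by
    rw [Module.finrank_pi_fintype]
    simp only [(degreeLTEquiv k (l + 1)).finrank_eq, Module.finrank_fin_fun, Finset.sum_const,
      Finset.card_univ, Fintype.card_fin, smul_eq_mul]
  rw [hdim] at hle
  have hmpos : 0 < m := by
    have := finiteDimensional_adjoin hK hyt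
    rw [hm]; exact Module.finrank_pos
  have hell := ell_eq_of_deg_ge hK (D := D) (by
    rw [hdegD]
    have h1 : (1 : ℤ) ≤ n := by exact_mod_cast hnpos
    have h2 : (1 : ℤ) ≤ m := by exact_mod_cast hmpos
    have h3 : (l : ℤ) = 2 * g + 1 := by exact_mod_cast hl
    have h4 : (0 : ℤ) ≤ ((n : ℤ) - 1) * m := mul_nonneg (by linarith) (by linarith)
    have h5 : (l : ℤ) * 1 ≤ (l : ℤ) * n := mul_le_mul_of_nonneg_left h1 (by positivity)
    linarith)
  rw [hdegD] at hell
  have hle' : ((n * (l + 1) : ℕ) : ℤ) ≤ (ell D : ℤ) := by exact_mod_cast hle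
  push_cast at hle'
  have e : ((n : ℤ) - 1) * ((m : ℤ) - 1) = ((n : ℤ) - 1) * m - n + 1 := by ring
  rw [e]
  linarith

end

end Groth.Agent.Helper9.FFExt
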