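import Mathlib
import Groth.Prelude.Def_W4bk4goldsch23Ext
import Groth.Agent.Lib.Helper9.FFExt.Weak
import Groth.Agent.Lib.Helper9.FFExt.IntCl1
import Groth.Agent.Lib.Helper9.FFExt.Gal
import Groth.Agent.Lib.Helper4.FF.Approx

namespace Groth.Agent.Helper9.FFExt

open FunFld WithZero
open Groth.Agent.Lib.Helper4.FF

section SepPlace

variable {k K K' : Type*} [Field k] [Field K] [Field K'] [Algebra k K] [Algebra K K']
  [Algebra k K'] [IsScalarTower k K K']

/-- in a purely inseparable extension there is at most one place above a given place -/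
theorem unique_over_of_isPurelyInseparable [IsPurelyInseparable K K'] {Q Q' : Place k K'}
    {P : Place k K} (h : IsOver Q P) (h' : IsOver Q' P) : Q' = Q := by
  obtain ⟨e, he⟩ := h
  obtain ⟨e', he'⟩ := h'
  have _ : ExpChar K (ringExpChar K) := ringExpChar.expChar K
  apply place_eq_of_forall
  intro z hz
  obtain ⟨n, y, hy⟩ := IsPurelyInseparable.pow_mem K (ringExpChar K) z
  have hpos : ringExpChar K ^ n ≠ 0 := pow_ne_zero _ (expChar_pos K (ringExpChar K)).ne'
  have h1 : Q'.1 (z ^ ringExpChar K ^ n) ≤ 1 := by
    rw [map_pow]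
    exact pow_le_one' hz.le _
  rw [← hy, ow_le_one_iff he'] at h1
  have h2 : Q.1 (z ^ ringExpChar K ^ n) ≤ 1 := by
    rw [← hy, ow_le_one_iff he]
    exact h1
  rw [map_pow] at h2
  exact (pow_le_one_iff_of_nonneg zero_le hpos).mp h2

/-- in a purely inseparable extension the residue field extension is purely inseparable -/
theorem residue_isPurelyInseparable [IsPurelyInseparable K K'] {Q : Place k K'}
    {P : Place k K} (h : IsOver Q P) :
    @IsPurelyInseparable (IsLocalRing.ResidueField P.O) (IsLocalRing.ResidueField Q.O) _ _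
      (resAlg h) := by
  let _ : Algebra (IsLocalRing.ResidueField P.O) (IsLocalRing.ResidueField Q.O) := resAlg h
  have _ : ExpChar k (ringExpChar k) := ringExpChar.expChar k
  have _ : ExpChar K (ringExpChar k) :=
    expChar_of_injective_ringHom (algebraMap k K).injective _
  have _ : ExpChar (IsLocalRing.ResidueField P.O) (ringExpChar k) :=
    expChar_of_injective_ringHom (algebraMap k (IsLocalRing.ResidueField P.O)).injective _
  rw [isPurelyInseparable_iff_pow_mem (IsLocalRing.ResidueField P.O) (ringExpChar k)]
  intro y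
  obtain ⟨z, rfl⟩ := IsLocalRing.residue_surjective y
  obtain ⟨n, w, hw⟩ := IsPurelyInseparable.pow_mem K (ringExpChar k) (z : K')
  obtain ⟨e, he⟩ := h
  have hwO : w ∈ P.O := by
    rw [Place.mem_O_iff, ← ow_le_one_iff he, hw, map_pow]
    exact pow_le_one' ((Place.mem_O_iff Q).mp z.2) _
  refine ⟨n, IsLocalRing.residue P.O ⟨w, hwO⟩, ?_⟩
  rw [resAlg_algebraMap_residue ⟨e, he⟩, ← map_pow]
  congr 1
  apply Subtype.ext
  exact hw

/-- a purely inseparable finite extension with a place `Q` unramified and with separable residue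
field is trivial -/
theorem finrank_eq_one_of_pi [FiniteDimensional K K'] [IsPurelyInseparable K K'] (hK : IsFFw k K)
    {Q : Place k K'} {P : Place k K} (h1 : IsOverWith Q P 1)
    [Algebra.IsSeparable k (IsLocalRing.ResidueField Q.O)] : Module.finrank K K' = 1 := by
  have hover : IsOver Q P := ⟨1, h1⟩
  have hu := ramIdx_mul_deg_of_unique hK hover
    (fun Q' hQ' => unique_over_of_isPurelyInseparable hover hQ')
  rw [ramIdx_eq h1, one_mul] at hu
  let _ : Algebra (IsLocalRing.ResidueField P.O) (IsLocalRing.ResidueField Q.O) := resAlg hover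
  have htow : IsScalarTower k (IsLocalRing.ResidueField P.O) (IsLocalRing.ResidueField Q.O) :=
    resAlg_tower hover
  have hpi : IsPurelyInseparable (IsLocalRing.ResidueField P.O) (IsLocalRing.ResidueField Q.O) :=
    residue_isPurelyInseparable hover
  have hsep : Algebra.IsSeparable (IsLocalRing.ResidueField P.O) (IsLocalRing.ResidueField Q.O) :=
    Algebra.isSeparable_tower_top_of_isSeparable k _ _
  have hsurj := IsPurelyInseparable.surjective_algebraMap_of_isSeparable
    (IsLocalRing.ResidueField P.O) (IsLocalRing.ResidueField Q.O)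
  have hf1 : Module.finrank (IsLocalRing.ResidueField P.O) (IsLocalRing.ResidueField Q.O) = 1 := by
    have e : IsLocalRing.ResidueField P.O ≃ₗ[IsLocalRing.ResidueField P.O]
        IsLocalRing.ResidueField Q.O :=
      LinearEquiv.ofBijective (Algebra.linearMap _ _)
        ⟨(algebraMap (IsLocalRing.ResidueField P.O) (IsLocalRing.ResidueField Q.O)).injective, hsurj⟩
    rw [← e.finrank_eq, Module.finrank_self]
  have hdeg : Q.deg = P.deg * 1 := by
    rw [← hf1]
    exact finrank_tower_general k (IsLocalRing.ResidueField P.O) (IsLocalRing.ResidueField Q.O)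
  have hpos := deg_pos_w hK P
  rw [hdeg, mul_one] at hu
  have : Module.finrank K K' * P.deg = 1 * P.deg := by rw [one_mul]; exact hu.symm
  exact Nat.eq_of_mul_eq_mul_right hpos this

/-- a finite extension with a place `Q` unramified over `K` and with separable residue
field over `k` is separable -/
theorem isSeparable_of_unramified [FiniteDimensional K K'] (hK : IsFFw k K)
    {Q : Place k K'} {P : Place k K} (h1 : IsOverWith Q P 1)
    [Algebra.IsSeparable k (IsLocalRing.ResidueField Q.O)] : Algebra.IsSeparable K K' := by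
  obtain ⟨L, hL⟩ : ∃ L : IntermediateField K K', L = separableClosure K K' := ⟨_, rfl⟩
  have hpi : IsPurelyInseparable L K' := by
    rw [hL]; exact separableClosure.isPurelyInseparable K K'
  have hLff : IsFFw k L := isFFw_of_finite L hK
  obtain ⟨Ps, e, he⟩ := exists_below' (K := L) Q
  obtain ⟨π, hπ⟩ := Place.exists_uniformizer P
  have e1 : e = 1 := by
    have h2 := he (algebraMap K L π)
    rw [← IsScalarTower.algebraMap_apply K L K', h1 π, hπ, pow_one] at h2
    have hne : Ps.1 (algebraMap K L π) ≠ 0 := by
      intro h0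
      rw [h0, zero_pow (ow_pos he).ne'] at h2
      exact exp_ne_zero h2
    obtain ⟨m, hm⟩ : ∃ m : ℤ, Ps.1 (algebraMap K L π) = exp m := ⟨_, (exp_log hne).symm⟩
    rw [hm, ← exp_nsmul, exp_inj] at h2
    have : (e : ℤ) ∣ 1 := ⟨-m, by rw [nsmul_eq_mul] at h2; linarith⟩
    have := Int.natCast_dvd_natCast.mp (by simpa using this : (e : ℤ) ∣ ((1 : ℕ) : ℤ))
    exact Nat.dvd_one.mp this
  subst e1
  have hf := finrank_eq_one_of_pi hLff he
  have htop : L = ⊤ := IntermediateField.finrank_eq_one_iff_eq_top.mp hf
  rw [← separableClosure.eq_top_iff, ← hL, htop]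

end SepPlace

end Groth.Agent.Helper9.FFExt
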