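import Mathlib
import Groth.Prelude.Def_W4bk4goldsch23Ext
import Groth.Agent.Lib.Helper9.FFExt.SepPlace
import Groth.Agent.Lib.Helper9.FFExt.KaehlerSep
import Groth.Agent.Lib.Helper9.FFExt.Const

namespace Groth.Agent.Helper9.FFExt

universe u v
open FunFld WithZero
open Groth.Agent.Lib.Helper4.FF

theorem transcendental_of_val_lt_one {k : Type u} {K : Type v} [Field k] [Field K] [Algebra k K]
    (P : FunFld.Place k K) {t : K} (ht0 : t ≠ 0) (ht : P.1 t < 1) : Transcendental k t := by
  intro halg
  have h2 := val_le_one_of_isAlgebraic P halg.inv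
  rw [map_inv₀] at h2
  have hne : P.1 t ≠ 0 := (Valuation.ne_zero_iff _).mpr ht0
  have h3 : 1 ≤ P.1 t := by
    have := mul_le_mul_right h2 (P.1 t)
    rwa [mul_inv_cancel₀ hne, mul_one] at this
  exact absurd ht (not_lt.mpr h3)

/-- a local parameter at a place with separable residue field is a separating variable -/
theorem sep_of_uniformizer {k : Type u} {K : Type v} [Field k] [Field K] [Algebra k K]
    (hK : IsFFw k K) (P : FunFld.Place k K)
    [Algebra.IsSeparable k (IsLocalRing.ResidueField P.O)] (t : K)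
    (ht : P.1 t = WithZero.exp (-1)) :
    Transcendental k t ∧ Algebra.IsSeparable (IntermediateField.adjoin k ({t} : Set K)) K := by
  have ht0 : t ≠ 0 := by
    rw [← Valuation.ne_zero_iff P.1, ht]; exact exp_ne_zero
  have htr : Transcendental k t := transcendental_of_val_lt_one P ht0 (by
    rw [ht, ← exp_zero, exp_lt_exp]; norm_num)
  refine ⟨htr, ?_⟩
  have hfin : FiniteDimensional (IntermediateField.adjoin k ({t} : Set K)) K :=
    finiteDimensional_adjoin_w hK htr
  have hF : IsFFw k (IntermediateField.adjoin k ({t} : Set K)) := isFFw_adjoin htr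
  obtain ⟨P₀, e, he⟩ := exists_below' (K := IntermediateField.adjoin k ({t} : Set K)) P
  have e1 : e = 1 := by
    have h2 := he (IntermediateField.AdjoinSimple.gen k t)
    rw [IntermediateField.AdjoinSimple.algebraMap_gen, ht] at h2
    have hne : P₀.1 (IntermediateField.AdjoinSimple.gen k t) ≠ 0 := by
      intro h0
      rw [h0, zero_pow (ow_pos he).ne'] at h2
      exact exp_ne_zero h2
    obtain ⟨m, hm⟩ : ∃ m : ℤ, P₀.1 (IntermediateField.AdjoinSimple.gen k t) = exp m :=
      ⟨_, (exp_log hne).symm⟩
    rw [hm, ← exp_nsmul, exp_inj] at h2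
    have : (e : ℤ) ∣ 1 := ⟨-m, by rw [nsmul_eq_mul] at h2; linarith⟩
    have := Int.natCast_dvd_natCast.mp (by simpa using this : (e : ℤ) ∣ ((1 : ℕ) : ℤ))
    exact Nat.dvd_one.mp this
  subst e1
  exact isSeparable_of_unramified hF he

/-- `dt ≠ 0` for a local parameter at a place with separable residue field -/
theorem D_uniformizer_ne_zero {k : Type u} {K : Type v} [Field k] [Field K] [Algebra k K]
    (hK : IsFFw k K) (P : FunFld.Place k K)
    [Algebra.IsSeparable k (IsLocalRing.ResidueField P.O)] (t : K) (ht : P.1 t = WithZero.exp (-1)) :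
    KaehlerDifferential.D k K t ≠ 0 := by
  obtain ⟨htr, hsep⟩ := sep_of_uniformizer hK P t ht
  exact D_ne_zero_of_isSeparable k K htr

end Groth.Agent.Helper9.FFExt
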