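import Mathlib

set_option autoImplicit false

namespace Groth.Agent.Helper9.Split

open Polynomial IntermediateField

section FT

variable (k F : Type*) [Field k] [Field F] [Algebra k F] [FiniteDimensional k F]

/-- in a purely inseparable finite extension the `[E:F]`-th powers lie in the base -/
theorem pow_finrank_mem_of_pi (F E : Type*) [Field F] [Field E] [Algebra F E]
    [FiniteDimensional F E] [IsPurelyInseparable F E] (x : E) :
    x ^ Module.finrank F E ∈ (algebraMap F E).range := by
  obtain ⟨p, hp⟩ := ExpChar.exists F
  obtain ⟨m, hm⟩ := IsPurelyInseparable.finrank_eq_pow E (F := F) p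
  obtain ⟨n, y, hxy⟩ := IsPurelyInseparable.minpoly_eq_X_pow_sub_C F p x
  have hint : IsIntegral F x := Algebra.IsIntegral.isIntegral x
  have hdvd : p ^ n ∣ p ^ m := by
    rw [← hm]
    have := minpoly.degree_dvd hint
    rwa [hxy, natDegree_sub_C, natDegree_X_pow] at this
  have hxn : x ^ p ^ n = algebraMap F E y := by
    have := minpoly.aeval F x
    rw [hxy, map_sub, map_pow, aeval_X, aeval_C, sub_eq_zero] at this
    exact this
  obtain ⟨d, hd⟩ := hdvd
  rw [hm, hd, pow_mul, hxn, ← map_pow]
  exact ⟨_, rfl⟩

/-- structure of a finite extension used for counting places: a separable primitive element of the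
separable closure, and the inseparable degree as a power of the characteristic killing the
inseparable part -/
theorem exists_sep_gen :
    ∃ (θ : F) (p m : ℕ), ExpChar k p ∧
      Module.finrank (separableClosure k F) F = p ^ m ∧
      (minpoly k θ).Separable ∧
      (minpoly k θ).natDegree = Field.finSepDegree k F ∧
      ∀ a : F, ∃ g : k[X], a ^ (p ^ m) = aeval θ g := by
  obtain ⟨p, hp⟩ := ExpChar.exists k
  haveI : ExpChar (separableClosure k F) p := expChar_of_injective_algebraMap
    (algebraMap k (separableClosure k F)).injective p
  obtain ⟨m, hm⟩ := IsPurelyInseparable.finrank_eq_pow F (F := separableClosure k F) p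
  obtain ⟨θs, hθs⟩ := Field.exists_primitive_element k (separableClosure k F)
  have hθint : IsIntegral k θs := Algebra.IsIntegral.isIntegral θs
  have hmin : minpoly k (θs : F) = minpoly k θs :=
    minpoly.algebraMap_eq (algebraMap (separableClosure k F) F).injective θs
  refine ⟨(θs : F), p, m, hp, hm, ?_, ?_, ?_⟩
  · rw [hmin]
    exact Algebra.IsSeparable.isSeparable k θs
  · rw [hmin, ← IntermediateField.adjoin.finrank hθint, hθs, IntermediateField.finrank_top',
      Field.finSepDegree_eq]
    rfl
  · intro a
    obtain ⟨y, hy⟩ := pow_finrank_mem_of_pi (separableClosure k F) F a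
    rw [hm] at hy
    have hy' : y ∈ k⟮θs⟯ := by rw [hθs]; trivial
    rw [← IntermediateField.mem_toSubalgebra,
      IntermediateField.adjoin_simple_toSubalgebra_of_isAlgebraic hθint.isAlgebraic,
      Algebra.adjoin_singleton_eq_range_aeval] at hy'
    obtain ⟨g, hg⟩ := hy'
    refine ⟨g, ?_⟩
    rw [← hy, ← hg]
    change _ = aeval (algebraMap (separableClosure k F) F θs) g
    rw [aeval_algebraMap_apply]
    rfl

end FT

end Groth.Agent.Helper9.Split
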