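import Mathlib
import Groth.Prelude.Def_W4bk4goldsch23Ext
import Groth.Agent.Lib.Helper9.FFExt.GenusDrop6
import Groth.Agent.Lib.Helper4.FF.LLS

set_option autoImplicit false
set_option linter.unusedSectionVars false
set_option linter.style.haveILetI false

namespace Groth.Agent.Helper9.Split

open FunFld WithZero TensorProduct Polynomial
open Groth.Agent.Lib.Helper4.FF Groth.Agent.Helper9.FFExt Groth.Agent.Helper9.GenusDrop

section ValPoly

variable {k₀ k' K' : Type*} [Field k₀] [Field k'] [Field K'] [Algebra k' K'] [Algebra k₀ K']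

/-- polynomial values with constant coefficients at integral elements are integral -/
lemma val_aeval_le_one (Q : Place k₀ K') (hkQ : ∀ c : k', Q.1 (algebraMap k' K' c) ≤ 1)
    {x : K'} (hx : Q.1 x ≤ 1) (H : k'[X]) : Q.1 (aeval x H) ≤ 1 := by
  rw [aeval_eq_sum_range]
  apply Valuation.map_sum_le
  intro i _
  rw [Algebra.smul_def, map_mul, map_pow]
  exact mul_le_one' (hkQ _) (pow_le_one' hx _)

/-- congruence of polynomial values -/
lemma val_aeval_sub_le (Q : Place k₀ K') (hkQ : ∀ c : k', Q.1 (algebraMap k' K' c) ≤ 1)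
    {x : K'} (hx : Q.1 x ≤ 1) (H : k'[X]) (c : k') :
    Q.1 (aeval x H - algebraMap k' K' (H.eval c)) ≤ Q.1 (x - algebraMap k' K' c) := by
  have hroot : (H - C (H.eval c)).IsRoot c := by
    rw [IsRoot.def, eval_sub, eval_C, sub_self]
  have hfac := (mul_divByMonic_eq_iff_isRoot (p := H - C (H.eval c)) (a := c)).mpr hroot
  have : aeval x H - algebraMap k' K' (H.eval c) =
      (x - algebraMap k' K' c) * aeval x ((H - C (H.eval c)) /ₘ (X - C c)) := by
    rw [← aeval_C (R := k') (A := K') x (H.eval c), ← map_sub, ← hfac, map_mul, map_sub, aeval_X,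
      aeval_C, hfac]
  rw [this, map_mul]
  exact mul_le_of_le_one_right' (val_aeval_le_one Q hkQ hx _)

/-- a constant of valuation `< 1` vanishes -/
lemma const_eq_zero_of_val_lt (Q : Place k₀ K') (hkQ : ∀ c : k', Q.1 (algebraMap k' K' c) ≤ 1)
    {c : k'} (hc : Q.1 (algebraMap k' K' c) < 1) : c = 0 := by
  by_contra hne
  have h1 := hkQ c⁻¹
  rw [map_inv₀, map_inv₀] at h1
  have h0 : Q.1 (algebraMap k' K' c) ≠ 0 := by
    rw [Valuation.ne_zero_iff]
    exact (_root_.map_ne_zero _).mpr hne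
  have h2 : 1 ≤ Q.1 (algebraMap k' K' c) := by
    rwa [inv_le_one₀ (zero_lt_iff.mpr h0)] at h1
  exact absurd hc (not_lt.mpr h2)

/-- a nonzero constant has valuation one -/
lemma val_const_eq_one (Q : Place k₀ K') (hkQ : ∀ c : k', Q.1 (algebraMap k' K' c) ≤ 1)
    {c : k'} (hc : c ≠ 0) : Q.1 (algebraMap k' K' c) = 1 := by
  refine le_antisymm (hkQ c) ?_
  by_contra hlt
  exact hc (const_eq_zero_of_val_lt Q hkQ (not_le.mp hlt))

end ValPoly

section Res

variable {k K : Type*} [Field k] [Field K] [Algebra k K] (P : Place k K)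

/-- the residue map as a `k`-algebra homomorphism -/
noncomputable def resAlgHom : P.O →ₐ[k] IsLocalRing.ResidueField P.O :=
  { IsLocalRing.residue P.O with commutes' := fun _ => rfl }

/-- the inclusion of the valuation ring as a `k`-algebra homomorphism -/
def inclAlgHom : P.O →ₐ[k] K :=
  { P.O.subtype with commutes' := fun _ => rfl }

lemma val_pow_sub_aeval_lt (θ a : P.O) (g : k[X]) (n : ℕ)
    (h : (IsLocalRing.residue P.O a) ^ n = aeval (IsLocalRing.residue P.O θ) g) :
    P.1 ((a : K) ^ n - aeval (θ : K) g) < 1 := by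
  have h1 : IsLocalRing.residue P.O (a ^ n - aeval θ g) = 0 := by
    rw [map_sub, map_pow, h, sub_eq_zero]
    exact aeval_algHom_apply (resAlgHom P) θ g
  have h2 : Place.resₗ P (a ^ n - aeval θ g) = 0 := h1
  rw [Place.resₗ_eq_zero_iff] at h2
  have h3 : ((a ^ n - aeval θ g : P.O) : K) = (a : K) ^ n - aeval (θ : K) g := by
    have := aeval_algHom_apply (inclAlgHom P) θ g
    change _ = (inclAlgHom P) (a ^ n) - aeval (inclAlgHom P θ) g
    rw [this, ← map_sub]
    rfl
  rwa [h3] at h2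

lemma val_aeval_lt_of_residue (θ : P.O) (g : k[X])
    (h : aeval (IsLocalRing.residue P.O θ) g = 0) : P.1 (aeval (θ : K) g) < 1 := by
  have := val_pow_sub_aeval_lt P θ 0 (-g) 1 (by rw [map_zero, pow_one, map_neg, h, neg_zero])
  simpa using this

end Res

section Main

variable {k k' K K' : Type*} [Field k] [Field k'] [Field K] [Field K']
  [Algebra k k'] [FiniteDimensional k k'] [Algebra k K] [Algebra K K'] [Algebra k' K'] [Algebra k K']
  [IsScalarTower k k' K'] [IsScalarTower k K K']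

/-- `q`-th powers of elements of `O_P[k']` are, modulo `m_P`, polynomials in `θ` over `k'` -/
theorem exists_poly_approx (h : Function.Bijective (pm k k' K K')) (P : Place k K)
    (p m : ℕ) [ExpChar k p] (θ : P.O)
    (hpow : ∀ a : IsLocalRing.ResidueField P.O, ∃ g : k[X],
      a ^ (p ^ m) = aeval (IsLocalRing.residue P.O θ) g)
    {r : K'} (hr : r ∈ OPk k' K' P) :
    ∃ G : k'[X], ∀ (Q : Place k K') (e : ℕ), IsOverWith Q P e →
      Q.1 (r ^ (p ^ m) - aeval (algebraMap K K' (θ : K)) G) ≤ exp (-(e : ℤ)) := by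
  classical
  haveI : ExpChar K' p := expChar_of_injective_algebraMap (algebraMap k K').injective p
  let b := Module.finBasis k k'
  obtain ⟨B, hB⟩ : ∃ B, B = constBasis h b := ⟨_, rfl⟩
  have hcoef : ∀ i, P.1 (B.repr r i) ≤ 1 := by
    rw [hB]
    exact (mem_OPk_iff h b P P.2.1 r).mp hr
  have hg : ∀ i, ∃ g : k[X], P.1 ((B.repr r i) ^ (p ^ m) - aeval (θ : K) g) < 1 := by
    intro i
    obtain ⟨g, hg⟩ := hpow (IsLocalRing.residue P.O ⟨B.repr r i, (Place.mem_O_iff P).mpr (hcoef i)⟩)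
    exact ⟨g, val_pow_sub_aeval_lt P θ ⟨B.repr r i, (Place.mem_O_iff P).mpr (hcoef i)⟩ g _ hg⟩
  choose g hg using hg
  refine ⟨∑ i, C (b i ^ (p ^ m)) * (g i).map (algebraMap k k'), ?_⟩
  intro Q e he
  have hr_eq : r = ∑ i, algebraMap K K' (B.repr r i) * algebraMap k' K' (b i) := by
    conv_lhs => rw [← B.sum_repr r]
    refine Finset.sum_congr rfl fun i _ => ?_
    rw [Algebra.smul_def, hB, constBasis_apply]
  have hrq : r ^ (p ^ m) = ∑ i, algebraMap K K' ((B.repr r i) ^ (p ^ m)) *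
      algebraMap k' K' (b i) ^ (p ^ m) := by
    conv_lhs => rw [hr_eq, sum_pow_char_pow]
    refine Finset.sum_congr rfl fun i _ => ?_
    rw [mul_pow, map_pow]
  have hG : aeval (algebraMap K K' (θ : K)) (∑ i, C (b i ^ (p ^ m)) * (g i).map (algebraMap k k')) =
      ∑ i, algebraMap K K' (aeval (θ : K) (g i)) * algebraMap k' K' (b i) ^ (p ^ m) := by
    rw [map_sum]
    refine Finset.sum_congr rfl fun i _ => ?_
    rw [map_mul, aeval_C, aeval_map_algebraMap, aeval_algebraMap_apply, map_pow, mul_comm]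
  rw [hrq, hG, ← Finset.sum_sub_distrib]
  apply Valuation.map_sum_le
  intro i _
  rw [← sub_mul, ← map_sub, map_mul, he, map_pow]
  have h1 : P.1 ((B.repr r i) ^ (p ^ m) - aeval (θ : K) (g i)) ≤ exp (-(1 : ℤ)) :=
    lt_one_iff_le_exp_neg_one.mp (hg i)
  have h2 : Q.1 (algebraMap k' K' (b i)) ≤ 1 :=
    val_le_one_of_isAlgebraic Q ((Algebra.IsAlgebraic.isAlgebraic (b i)).algebraMap)
  calc _ ≤ exp (-(1 : ℤ)) ^ e * 1 := mul_le_mul' (pow_le_pow_left' h1 e) (pow_le_one' h2 _)
    _ = exp (-(e : ℤ)) := by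
      rw [mul_one, ← exp_nsmul]
      congr 1
      simp

/-- the constant residue of `θ` at a place above is a root of any polynomial killing `θ̄` -/
theorem eval_eq_zero_of_close (P : Place k K) (θ : P.O) (μ : k[X])
    (hμ : aeval (IsLocalRing.residue P.O θ) μ = 0)
    {Q : Place k K'} {e : ℕ} (he : IsOverWith Q P e) (c : k')
    (hc : Q.1 (algebraMap K K' (θ : K) - algebraMap k' K' c) < 1) :
    (μ.map (algebraMap k k')).eval c = 0 := by
  have hkQ : ∀ c : k', Q.1 (algebraMap k' K' c) ≤ 1 := fun c =>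
    val_le_one_of_isAlgebraic Q ((Algebra.IsAlgebraic.isAlgebraic c).algebraMap)
  have hθ : Q.1 (algebraMap K K' (θ : K)) ≤ 1 :=
    (ow_le_one_iff he _).mpr ((Place.mem_O_iff P).mp θ.2)
  have h1 : Q.1 (aeval (algebraMap K K' (θ : K)) (μ.map (algebraMap k k'))) < 1 := by
    rw [aeval_map_algebraMap, aeval_algebraMap_apply, ow_lt_one_iff he]
    exact val_aeval_lt_of_residue P θ μ hμ
  have h2 := val_aeval_sub_le Q hkQ hθ (μ.map (algebraMap k k')) c
  apply const_eq_zero_of_val_lt Q hkQ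
  have : algebraMap k' K' ((μ.map (algebraMap k k')).eval c) =
      aeval (algebraMap K K' (θ : K)) (μ.map (algebraMap k k')) -
        (aeval (algebraMap K K' (θ : K)) (μ.map (algebraMap k k')) -
          algebraMap k' K' ((μ.map (algebraMap k k')).eval c)) := by ring
  rw [this]
  exact lt_of_le_of_lt (Valuation.map_sub _ _ _) (max_lt h1 (lt_of_le_of_lt h2 hc))

/-- for a separable polynomial killing `θ̄`, `θ` is close to its constant residue -/
theorem val_sub_le_of_separable (P : Place k K) (θ : P.O) (μ : k[X]) (hsep : μ.Separable)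
    (hμ : aeval (IsLocalRing.residue P.O θ) μ = 0)
    {Q : Place k K'} {e : ℕ} (he : IsOverWith Q P e) (c : k')
    (hc : Q.1 (algebraMap K K' (θ : K) - algebraMap k' K' c) < 1) :
    Q.1 (algebraMap K K' (θ : K) - algebraMap k' K' c) ≤ exp (-(e : ℤ)) := by
  have hkQ : ∀ c : k', Q.1 (algebraMap k' K' c) ≤ 1 := fun c =>
    val_le_one_of_isAlgebraic Q ((Algebra.IsAlgebraic.isAlgebraic c).algebraMap)
  have hθ : Q.1 (algebraMap K K' (θ : K)) ≤ 1 :=
    (ow_le_one_iff he _).mpr ((Place.mem_O_iff P).mp θ.2)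
  set μ' := μ.map (algebraMap k k') with hμ'
  have hroot : μ'.IsRoot c := eval_eq_zero_of_close P θ μ hμ he c hc
  have hfac := (mul_divByMonic_eq_iff_isRoot (p := μ') (a := c)).mpr hroot
  set μ₁ := μ' /ₘ (X - C c) with hμ₁
  have hsep' : μ'.Separable := hsep.map
  have hμ₁c : μ₁.eval c ≠ 0 := by
    have h1 := hsep'.eval₂_derivative_ne_zero (RingHom.id k') (x := c) (by
      rw [eval₂_id]; exact hroot)
    rw [eval₂_id, ← hfac, derivative_mul, eval_add, eval_mul, eval_mul, derivative_sub,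
      derivative_X, derivative_C, sub_zero, eval_one, one_mul, eval_sub, eval_X, eval_C, sub_self,
      zero_mul, add_zero] at h1
    exact h1
  have h1 : Q.1 (aeval (algebraMap K K' (θ : K)) μ') ≤ exp (-(e : ℤ)) := by
    rw [hμ', aeval_map_algebraMap, aeval_algebraMap_apply, he]
    have := lt_one_iff_le_exp_neg_one.mp (val_aeval_lt_of_residue P θ μ hμ)
    calc _ ≤ exp (-(1 : ℤ)) ^ e := pow_le_pow_left' this e
      _ = exp (-(e : ℤ)) := by
        rw [← exp_nsmul]
        congr 1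
        simp
  have h2 : Q.1 (aeval (algebraMap K K' (θ : K)) μ₁) = 1 := by
    have h3 := val_aeval_sub_le Q hkQ hθ μ₁ c
    have h4 : Q.1 (algebraMap k' K' (μ₁.eval c)) = 1 := val_const_eq_one Q hkQ hμ₁c
    have : aeval (algebraMap K K' (θ : K)) μ₁ = algebraMap k' K' (μ₁.eval c) +
        (aeval (algebraMap K K' (θ : K)) μ₁ - algebraMap k' K' (μ₁.eval c)) := by ring
    rw [this, Valuation.map_add_eq_of_lt_left _ (by rw [h4]; exact lt_of_le_of_lt h3 hc), h4]
  have h3 : aeval (algebraMap K K' (θ : K)) μ' =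
      (algebraMap K K' (θ : K) - algebraMap k' K' c) * aeval (algebraMap K K' (θ : K)) μ₁ := by
    conv_lhs => rw [← hfac, map_mul, map_sub, aeval_X, aeval_C]
  rw [h3, map_mul, h2, mul_one] at h1
  exact h1

/-- two places above `P` with the same constant residue of `θ` coincide -/
theorem eq_of_same_residue (h : Function.Bijective (pm k k' K K')) (P : Place k K)
    (hns : NS k' K' P) (p m : ℕ) [ExpChar k p] (θ : P.O)
    (hpow : ∀ a : IsLocalRing.ResidueField P.O, ∃ g : k[X],
      a ^ (p ^ m) = aeval (IsLocalRing.residue P.O θ) g)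
    (hfin : {Q : Place k K' | IsOver Q P}.Finite)
    {Q Q' : Place k K'} (hQ : IsOver Q P) (hQ' : IsOver Q' P) (c : k')
    (hc : Q.1 (algebraMap K K' (θ : K) - algebraMap k' K' c) < 1)
    (hc' : Q'.1 (algebraMap K K' (θ : K) - algebraMap k' K' c) < 1) : Q = Q' := by
  classical
  by_contra hne
  have hkQ : ∀ (Q : Place k K') (c : k'), Q.1 (algebraMap k' K' c) ≤ 1 := fun Q c =>
    val_le_one_of_isAlgebraic Q ((Algebra.IsAlgebraic.isAlgebraic c).algebraMap)
  have hlt : exp (-(1 : ℤ)) < (1 : ℤᵐ⁰) := by rw [← exp_zero, exp_lt_exp]; norm_num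
  obtain ⟨r, hr⟩ := exists_approx_le hfin.toFinset
    (fun Q'' : Place k K' => if Q'' = Q' then (1 : K') else 0) 1
  have hrQ : Q.1 r < 1 := by
    have := hr Q (hfin.mem_toFinset.mpr hQ)
    rw [if_neg hne, sub_zero] at this
    exact lt_of_le_of_lt this hlt
  have hrQ' : Q'.1 (r - 1) < 1 := by
    have := hr Q' (hfin.mem_toFinset.mpr hQ')
    rw [if_pos rfl] at this
    exact lt_of_le_of_lt this hlt
  have hrO : r ∈ OPk k' K' P := by
    apply hns
    intro Q'' hQ''
    have := hr Q'' (hfin.mem_toFinset.mpr hQ'')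
    by_cases h1 : Q'' = Q'
    · rw [if_pos h1] at this
      have h2 : r = (r - 1) + 1 := by ring
      rw [h2]
      refine le_trans (Q''.1.map_add _ _) (max_le (le_trans this hlt.le) ?_)
      rw [map_one]
    · rw [if_neg h1, sub_zero] at this
      exact le_trans this hlt.le
  obtain ⟨G, hG⟩ := exists_poly_approx h P p m θ hpow hrO
  obtain ⟨e, he⟩ := hQ
  obtain ⟨e', he'⟩ := hQ'
  have hq : p ^ m ≠ 0 := (expChar_pow_pos k p m).ne'
  have hexp : ∀ e : ℕ, 0 < e → exp (-(e : ℤ)) < (1 : ℤᵐ⁰) := by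
    intro e he
    rw [← exp_zero, exp_lt_exp]
    omega
  have hθQ : Q.1 (algebraMap K K' (θ : K)) ≤ 1 :=
    (ow_le_one_iff he _).mpr ((Place.mem_O_iff P).mp θ.2)
  have hθQ' : Q'.1 (algebraMap K K' (θ : K)) ≤ 1 :=
    (ow_le_one_iff he' _).mpr ((Place.mem_O_iff P).mp θ.2)
  -- at `Q`
  have h1 : Q.1 (r ^ (p ^ m) - aeval (algebraMap K K' (θ : K)) G) < 1 :=
    lt_of_le_of_lt (hG Q e he) (hexp e (ow_pos he))
  have h2 : Q.1 (aeval (algebraMap K K' (θ : K)) G - algebraMap k' K' (G.eval c)) < 1 :=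
    lt_of_le_of_lt (val_aeval_sub_le Q (hkQ Q) hθQ G c) hc
  have h3 : Q.1 (r ^ (p ^ m)) < 1 := by
    rw [map_pow]
    exact pow_lt_one' hrQ hq
  have hγ : G.eval c = 0 := by
    apply const_eq_zero_of_val_lt Q (hkQ Q)
    have : algebraMap k' K' (G.eval c) = r ^ (p ^ m) -
        ((r ^ (p ^ m) - aeval (algebraMap K K' (θ : K)) G) +
        (aeval (algebraMap K K' (θ : K)) G - algebraMap k' K' (G.eval c))) := by ring
    rw [this]
    exact lt_of_le_of_lt (Valuation.map_sub _ _ _) (max_lt h3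
      (lt_of_le_of_lt (Q.1.map_add _ _) (max_lt h1 h2)))
  -- at `Q'`
  have h1' : Q'.1 (r ^ (p ^ m) - aeval (algebraMap K K' (θ : K)) G) < 1 :=
    lt_of_le_of_lt (hG Q' e' he') (hexp e' (ow_pos he'))
  have h2' : Q'.1 (aeval (algebraMap K K' (θ : K)) G - algebraMap k' K' (G.eval c)) < 1 :=
    lt_of_le_of_lt (val_aeval_sub_le Q' (hkQ Q') hθQ' G c) hc'
  rw [hγ, map_zero, sub_zero] at h2'
  have h3' : Q'.1 (r ^ (p ^ m)) < 1 := by
    have : r ^ (p ^ m) = (r ^ (p ^ m) - aeval (algebraMap K K' (θ : K)) G) +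
        aeval (algebraMap K K' (θ : K)) G := by ring
    rw [this]
    exact lt_of_le_of_lt (Q'.1.map_add _ _) (max_lt h1' h2')
  have h4' : Q'.1 r < 1 := by
    rw [map_pow] at h3'
    exact (pow_lt_one_iff_of_nonneg zero_le hq).mp h3'
  have h5' : Q'.1 (1 : K') < 1 := by
    have : (1 : K') = r - (r - 1) := by ring
    rw [this]
    exact lt_of_le_of_lt (Valuation.map_sub _ _ _) (max_lt h4' hrQ')
  rw [map_one] at h5'
  exact lt_irrefl _ h5'

/-- the ramification index above a nonsingular place is at most the inseparable degree -/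
theorem ramIdx_le_of_ns (h : Function.Bijective (pm k k' K K')) (P : Place k K)
    (hns : NS k' K' P) (p m : ℕ) [ExpChar k p] (θ : P.O)
    (hpow : ∀ a : IsLocalRing.ResidueField P.O, ∃ g : k[X],
      a ^ (p ^ m) = aeval (IsLocalRing.residue P.O θ) g)
    (μ : k[X]) (hsep : μ.Separable) (hμ : aeval (IsLocalRing.residue P.O θ) μ = 0)
    (hfin : {Q : Place k K' | IsOver Q P}.Finite)
    {Q : Place k K'} {e : ℕ} (he : IsOverWith Q P e) (c : k')
    (hc : Q.1 (algebraMap K K' (θ : K) - algebraMap k' K' c) < 1) : e ≤ p ^ m := by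
  classical
  have hkQ : ∀ (Q : Place k K') (c : k'), Q.1 (algebraMap k' K' c) ≤ 1 := fun Q c =>
    val_le_one_of_isAlgebraic Q ((Algebra.IsAlgebraic.isAlgebraic c).algebraMap)
  obtain ⟨u, hu⟩ := weak_approximation hfin.toFinset (fun _ : Place k K' => (0 : K'))
    (fun Q'' => if Q'' = Q then 1 else 0)
  have huQ : Q.1 u = exp (-(1 : ℤ)) := by
    have := hu Q (hfin.mem_toFinset.mpr ⟨e, he⟩)
    rwa [if_pos rfl, sub_zero] at this
  have huO : u ∈ OPk k' K' P := by
    apply hns
    intro Q'' hQ''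
    have := hu Q'' (hfin.mem_toFinset.mpr hQ'')
    rw [sub_zero] at this
    rw [this, ← exp_zero, exp_le_exp]
    split_ifs <;> norm_num
  obtain ⟨G, hG⟩ := exists_poly_approx h P p m θ hpow huO
  have hq : p ^ m ≠ 0 := (expChar_pow_pos k p m).ne'
  have hepos := ow_pos he
  have hexp : exp (-(e : ℤ)) < (1 : ℤᵐ⁰) := by
    rw [← exp_zero, exp_lt_exp]
    omega
  have hθQ : Q.1 (algebraMap K K' (θ : K)) ≤ 1 :=
    (ow_le_one_iff he _).mpr ((Place.mem_O_iff P).mp θ.2)
  have h1 := hG Q e he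
  have h2 := val_aeval_sub_le Q (hkQ Q) hθQ G c
  have huq : Q.1 (u ^ (p ^ m)) = exp (-((p ^ m : ℕ) : ℤ)) := by
    rw [map_pow, huQ, ← exp_nsmul]
    congr 1
    simp
  have h3 : Q.1 (u ^ (p ^ m)) < 1 := by
    rw [huq, ← exp_zero, exp_lt_exp]
    have : 0 < p ^ m := Nat.pos_of_ne_zero hq
    omega
  have hγ : G.eval c = 0 := by
    apply const_eq_zero_of_val_lt Q (hkQ Q)
    have : algebraMap k' K' (G.eval c) = u ^ (p ^ m) -
        ((u ^ (p ^ m) - aeval (algebraMap K K' (θ : K)) G) +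
        (aeval (algebraMap K K' (θ : K)) G - algebraMap k' K' (G.eval c))) := by ring
    rw [this]
    exact lt_of_le_of_lt (Valuation.map_sub _ _ _) (max_lt h3
      (lt_of_le_of_lt (Q.1.map_add _ _) (max_lt (lt_of_le_of_lt h1 hexp) (lt_of_le_of_lt h2 hc))))
  rw [hγ, map_zero, sub_zero] at h2
  have h4 : Q.1 (aeval (algebraMap K K' (θ : K)) G) ≤ exp (-(e : ℤ)) :=
    le_trans h2 (val_sub_le_of_separable P θ μ hsep hμ he c hc)
  have h5 : Q.1 (u ^ (p ^ m)) ≤ exp (-(e : ℤ)) := by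
    have : u ^ (p ^ m) = (u ^ (p ^ m) - aeval (algebraMap K K' (θ : K)) G) +
        aeval (algebraMap K K' (θ : K)) G := by ring
    rw [this]
    exact le_trans (Q.1.map_add _ _) (max_le h1 h4)
  rw [huq, exp_le_exp] at h5
  omega

end Main

end Groth.Agent.Helper9.Split
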