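import Mathlib
import Groth.Prelude.Def_W4bk4goldsch23Ext
import Groth.Agent.Lib.Helper9.FFExt.Split1
import Groth.Agent.Lib.Helper9.FFExt.Split2

set_option autoImplicit false
set_option linter.unusedSectionVars false
set_option linter.style.haveILetI false

namespace Groth.Agent.Helper9.Split

open FunFld WithZero TensorProduct Polynomial
open Groth.Agent.Lib.Helper4.FF Groth.Agent.Helper9.FFExt Groth.Agent.Helper9.GenusDrop

section Count

variable {k k' K K' : Type*} [Field k] [Field k'] [Field K] [Field K']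
  [Algebra k k'] [FiniteDimensional k k'] [Algebra k K] [Algebra K K'] [Algebra k' K'] [Algebra k K']
  [IsScalarTower k k' K'] [IsScalarTower k K K']

/-- the places above a nonsingular place in a splitting field -/
theorem card_places_split (h : Function.Bijective (pm k k' K K')) (hK : IsFunctionField k K)
    (P : Place k K) (hns : NS k' K' P)
    (hsplit : ∀ Q : Place k K', IsOver Q P → (toK' (k' := k') Q).deg = 1) :
    ∃ S : Finset (Place k K'), (∀ Q, Q ∈ S ↔ IsOver Q P) ∧
      S.card = Field.finSepDegree k (IsLocalRing.ResidueField P.O) ∧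
      ∀ Q ∈ S, IsOverWith Q P (Module.finrank (separableClosure k (IsLocalRing.ResidueField P.O))
        (IsLocalRing.ResidueField P.O)) := by
  classical
  haveI finF : @Module.Finite k (IsLocalRing.ResidueField P.O) _ _ Algebra.toModule :=
    Module.finite_of_finrank_pos (Place.deg_pos hK P)
  obtain ⟨θ', p, m, hp, hm, hsep, hdeg, hpow⟩ := exists_sep_gen k (IsLocalRing.ResidueField P.O)
  obtain ⟨θ, rfl⟩ := IsLocalRing.residue_surjective θ'
  haveI := finite_of_bij h
  obtain ⟨hfin, hsum⟩ := sum_ramIdx_mul_deg_w (K' := K') hK.1 P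
  have hS : ∀ Q, Q ∈ hfin.toFinset ↔ IsOver Q P := fun Q => hfin.mem_toFinset
  refine ⟨hfin.toFinset, hS, ?_⟩
  set μ := minpoly k (IsLocalRing.residue P.O θ) with hμdef
  have hμ : aeval (IsLocalRing.residue P.O θ) μ = 0 := minpoly.aeval _ _
  have hμ0 : μ ≠ 0 := minpoly.ne_zero (Algebra.IsIntegral.isIntegral _)
  -- the constant residues
  have hcex : ∀ Q : Place k K', IsOver Q P →
      ∃ c : k', Q.1 (algebraMap K K' (θ : K) - algebraMap k' K' c) < 1 := by
    intro Q hQ
    obtain ⟨e, he⟩ := hQ
    have hθQ : Q.1 (algebraMap K K' (θ : K)) ≤ 1 :=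
      (ow_le_one_iff he _).mpr ((Place.mem_O_iff P).mp θ.2)
    exact Place.exists_const_sub_lt (toK' (k' := k') Q) (hsplit Q ⟨e, he⟩) hθQ
  let cfun : Place k K' → k' := fun Q => if hQ : IsOver Q P then (hcex Q hQ).choose else 0
  have hcfun : ∀ Q : Place k K', IsOver Q P →
      Q.1 (algebraMap K K' (θ : K) - algebraMap k' K' (cfun Q)) < 1 := by
    intro Q hQ
    simp only [cfun, dif_pos hQ]
    exact (hcex Q hQ).choose_spec
  set μ' := μ.map (algebraMap k k') with hμ'def
  have hμ'0 : μ' ≠ 0 := Polynomial.map_ne_zero hμ0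
  -- number of places
  have hcard : hfin.toFinset.card ≤ Field.finSepDegree k (IsLocalRing.ResidueField P.O) := by
    rw [← hdeg]
    calc hfin.toFinset.card ≤ μ'.roots.toFinset.card := by
          apply Finset.card_le_card_of_injOn cfun
          · intro Q hQ
            have hQ' := (hS Q).mp hQ
            obtain ⟨e, he⟩ := hQ'
            rw [Finset.mem_coe, Multiset.mem_toFinset, mem_roots hμ'0]
            exact eval_eq_zero_of_close P θ μ hμ he _ (hcfun Q ⟨e, he⟩)
          · intro Q hQ Q' hQ' hcc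
            have h1 := (hS Q).mp hQ
            have h2 := (hS Q').mp hQ'
            have h3 := hcfun Q' h2
            rw [← hcc] at h3
            exact eq_of_same_residue h P hns p m θ hpow hfin h1 h2 (cfun Q) (hcfun Q h1) h3
      _ ≤ μ'.roots.card := Multiset.toFinset_card_le _
      _ ≤ μ'.natDegree := card_roots' _
      _ = μ.natDegree := natDegree_map _
  -- ramification indices
  have hram : ∀ Q ∈ hfin.toFinset, ramIdx Q P ≤ p ^ m := by
    intro Q hQ
    have hQ' := (hS Q).mp hQ
    obtain ⟨e, he⟩ := hQ'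
    rw [ramIdx_eq he]
    exact ramIdx_le_of_ns h P hns p m θ hpow μ hsep hμ hfin he _ (hcfun Q ⟨e, he⟩)
  -- the sum formula
  have hsum' := hsum hfin.toFinset hS
  have hdegQ : ∀ Q ∈ hfin.toFinset, Q.deg = Module.finrank k k' := by
    intro Q hQ
    rw [deg_toK' (k' := k') Q, hsplit Q ((hS Q).mp hQ), mul_one]
  rw [Finset.sum_congr rfl fun Q hQ => by rw [hdegQ Q hQ], ← Finset.sum_mul, finrank_of_bij h,
    mul_comm] at hsum'
  have hsum'' : ∑ Q ∈ hfin.toFinset, ramIdx Q P = P.deg :=
    Nat.eq_of_mul_eq_mul_left Module.finrank_pos hsum'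
  have hPdeg : P.deg = Field.finSepDegree k (IsLocalRing.ResidueField P.O) * p ^ m := by
    rw [← hm]
    exact (Field.finSepDegree_mul_finInsepDegree k (IsLocalRing.ResidueField P.O)).symm
  have hq : 0 < p ^ m := expChar_pow_pos k p m
  have hle : ∑ Q ∈ hfin.toFinset, ramIdx Q P ≤ hfin.toFinset.card * p ^ m := by
    rw [← smul_eq_mul, ← Finset.sum_const]
    exact Finset.sum_le_sum hram
  have hcard' : hfin.toFinset.card = Field.finSepDegree k (IsLocalRing.ResidueField P.O) := by
    apply le_antisymm hcard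
    rw [hsum'', hPdeg] at hle
    exact Nat.le_of_mul_le_mul_right hle hq
  refine ⟨hcard', ?_⟩
  have heq : ∀ Q ∈ hfin.toFinset, ramIdx Q P = p ^ m := by
    have h1 : ∑ Q ∈ hfin.toFinset, ramIdx Q P = ∑ Q ∈ hfin.toFinset, p ^ m := by
      rw [Finset.sum_const, smul_eq_mul, hsum'', hPdeg, hcard']
    exact (Finset.sum_eq_sum_iff_of_le hram).mp h1
  intro Q hQ
  obtain ⟨e, he⟩ := (hS Q).mp hQ
  rw [hm, ← heq Q hQ, ramIdx_eq he]
  exact he

end Count

end Groth.Agent.Helper9.Split
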